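import Groth.Agent.L19.OmegaSh.OmAff
import Groth.Agent.L16.CohKernel
import Mathlib.RingTheory.Kaehler.Basic
import Mathlib.RingTheory.Kaehler.TensorProduct
import Mathlib.AlgebraicGeometry.Morphisms.FiniteType

/-! The sheaf of differentials of a morphism locally of finite type is coherent. -/

set_option autoImplicit false
set_option linter.style.haveILetI false
set_option backward.isDefEq.respectTransparency.types false
set_option backward.isDefEq.respectTransparency false

universe u

open CategoryTheory AlgebraicGeometry TopologicalSpace Groth.L19.OmegaSh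
open scoped TensorProduct

noncomputable section

namespace Groth.L15.OmegaCoh

variable {X S : Scheme.{u}} (f : X ⟶ S) [QuasiSeparated f]

theorem isCoh_omega [LocallyOfFiniteType f] : Coh.IsCoh (Omega.sheaf f) := by
  refine Groth.L16.CohKernel.isCoh_of_tilde_charts _ fun x => ?_
  obtain ⟨V, hV, hxV, -⟩ := exists_isAffineOpen_mem_and_subset (x := f x) (U := ⊤) trivial
  obtain ⟨U, hU, hxU, hle⟩ := exists_isAffineOpen_mem_and_subset (x := x) (U := f ⁻¹ᵁ V) hxV
  have e : U ≤ f ⁻¹ᵁ V := fun y hy => hle hy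
  letI : Algebra Γ(S, V) Γ(X, U) := (f.appLE V U e).hom.toAlgebra
  haveI : Algebra.FiniteType Γ(S, V) Γ(X, U) :=
    RingHom.finiteType_algebraMap.mp (f.finiteType_appLE hV hU e)
  obtain ⟨i, -⟩ := exists_chart_affine (isUniversal_dOmega (f := f)) hU hV e
  exact ⟨_, hU.fromSpec, inferInstance, _, by rw [hU.opensRange_fromSpec]; exact hxU,
    inferInstanceAs (Module.Finite Γ(X, U) Ω[Γ(X, U)⁄Γ(S, V)]), ⟨i⟩⟩

/-- Sections of the sheaf of differentials on compatible affines. -/
theorem exists_sections_equiv {U : X.Opens} (hU : IsAffineOpen U) {V : S.Opens} (hV : IsAffineOpen V)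
    (e : U ≤ f ⁻¹ᵁ V) :
    letI : Algebra Γ(S, V) Γ(X, U) := (f.appLE V U e).hom.toAlgebra
    Nonempty (Ω[Γ(X, U)⁄Γ(S, V)] ≃ₗ[Γ(X, U)] Γ(Omega.sheaf f, U)) := by
  haveI := isIso_toSect f ⟨U, hU⟩ ⟨V, hV⟩ e
  exact ⟨(asIso (_root_.OmAff.toSect f V U e)).toLinearEquiv⟩

end Groth.L15.OmegaCoh
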