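import Groth.Agent.L19.LocFreeDescent
import Groth.Agent.L18.LocFreeTilde
import Groth.Agent.L20.ModStalk
import Mathlib.RingTheory.Noetherian.Basic

/-! Flat coherent modules on locally Noetherian schemes are finite locally free. -/

set_option autoImplicit false
set_option linter.style.haveILetI false
set_option backward.isDefEq.respectTransparency.types false
set_option backward.isDefEq.respectTransparency false

universe u

open CategoryTheory AlgebraicGeometry TopologicalSpace Groth.L20.ModStalk
open Groth.L18.Frame (rs rs_rs)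

noncomputable section

namespace Groth.L15.CohFlat

variable {X : Scheme.{u}}

/-- The sections over an affine open as global sections of the chart. -/
theorem exists_sectionsEquiv (M : X.Modules) {W : X.Opens} (hW : IsAffineOpen W) :
    Nonempty ((moduleSpecΓFunctor (R := Γ(X, W))).obj (M.restrict hW.fromSpec) ≃ₗ[Γ(X, W)] Γ(M, W)) := by
  have e2 : hW.fromSpec ''ᵁ ⊤ = W := by
    rw [Scheme.Hom.image_top_eq_opensRange, hW.opensRange_fromSpec]
  let φ : (moduleSpecΓFunctor (R := Γ(X, W))).obj (M.restrict hW.fromSpec) →ₗ[Γ(X, W)] Γ(M, W) :=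
    { toFun := fun s => rs M e2.ge (show Γ(M, hW.fromSpec ''ᵁ ⊤) from s)
      map_add' := fun a b => map_add (M.presheaf.map (homOfLE e2.ge).op).hom a b
      map_smul' := fun r s =>
        finitePresentation_sections_affine.appIso_smul M hW r (show Γ(M, hW.fromSpec ''ᵁ ⊤) from s) }
  refine ⟨LinearEquiv.ofBijective φ ⟨?_, fun t => ⟨(show Γ(M, hW.fromSpec ''ᵁ ⊤) from rs M e2.le t), ?_⟩⟩⟩
  · intro a b hab
    have := congrArg (rs M e2.le) (show rs M e2.ge (show Γ(M, hW.fromSpec ''ᵁ ⊤) from a) =
      rs M e2.ge (show Γ(M, hW.fromSpec ''ᵁ ⊤) from b) from hab)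
    rwa [rs_rs, rs_rs, Groth.L18.Frame.rs_self, Groth.L18.Frame.rs_self] at this
  · show rs M e2.ge (rs M e2.le t) = t
    rw [rs_rs]
    exact Groth.L18.Frame.rs_self M _ _

theorem isFinLocFree_of_isCoh_isFlat [IsLocallyNoetherian X] (M : X.Modules) (hM : Coh.IsCoh M)
    (h : FlatMod.IsFlat M) : FlatMod.IsFinLocFree M := by
  haveI : Coh.IsQCoh M := hM.1
  refine Groth.L19.PullChart.isFinLocFree_of_projective_charts M fun x => ?_
  obtain ⟨_, ⟨W, hW, rfl⟩, hxW, -⟩ :=
    X.isBasis_affineOpens.exists_subset_of_mem_open (Set.mem_univ x) isOpen_univ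
  change X.Opens at W
  replace hW : IsAffineOpen W := hW
  haveI : IsNoetherianRing Γ(X, W) := IsLocallyNoetherian.component_noetherian ⟨W, hW⟩
  obtain ⟨e⟩ := exists_sectionsEquiv M hW
  haveI := finite_sections M hM hW
  haveI := Groth.L18.LFP.flat_sections M h hW
  let N := (moduleSpecΓFunctor (R := Γ(X, W))).obj (M.restrict hW.fromSpec)
  haveI : Module.Finite Γ(X, W) N := Module.Finite.equiv e.symm
  haveI : Module.Flat Γ(X, W) N := Module.Flat.of_linearEquiv e
  haveI : Module.FinitePresentation Γ(X, W) N := Module.finitePresentation_of_finite _ _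
  haveI : Module.Projective Γ(X, W) N := Module.Flat.projective_of_finitePresentation
  haveI : (M.restrict hW.fromSpec).IsQuasicoherent := Scheme.Modules.isQuasicoherent_restrictFunctor _ M
  haveI : IsIso (M.restrict hW.fromSpec).fromTildeΓ :=
    Scheme.Modules.isIso_fromTildeΓ_of_isQuasicoherent _
  exact ⟨_, hW.fromSpec, inferInstance, N, by rw [hW.opensRange_fromSpec]; exact hxW, inferInstance,
    inferInstance, ⟨(asIso (M.restrict hW.fromSpec).fromTildeΓ).symm⟩⟩

theorem ringKrullDim_stalk_le (x : X) : ringKrullDim (X.presheaf.stalk x) ≤ topologicalKrullDim X := by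
  rw [← PrimeSpectrum.topologicalKrullDim_eq_ringKrullDim]
  exact (X.fromSpecStalk x).isEmbedding.isInducing.topologicalKrullDim_le

end Groth.L15.CohFlat
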