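import Groth.Agent.L19.Ass.Basic
import Groth.Prelude.Def_CurvBase

/-! Weakly associated points of quasi-coherent modules on affine opens and under direct images. -/

set_option autoImplicit false
set_option linter.style.haveILetI false
set_option backward.isDefEq.respectTransparency.types false
set_option backward.isDefEq.respectTransparency false

universe u

open CategoryTheory AlgebraicGeometry TopologicalSpace Opposite IsLocalRing

noncomputable section

namespace Groth.L15.WeakAss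

open Groth.L18.Frame (rs)

variable {X Y : Scheme.{u}}

theorem mem_colon {R N : Type*} [CommRing R] [AddCommGroup N] [Module R N] {a : R} {n : N} :
    a ∈ Submodule.colon (⊥ : Submodule R N) {n} ↔ a • n = 0 := by
  rw [Submodule.mem_colon_singleton, Submodule.mem_bot]

theorem ker_toSpanSingleton {R N : Type*} [CommRing R] [AddCommGroup N] [Module R N] (n : N) :
    LinearMap.ker (LinearMap.toSpanSingleton R N n) = Submodule.colon (⊥ : Submodule R N) {n} := by
  ext a
  rw [LinearMap.mem_ker, LinearMap.toSpanSingleton_apply, mem_colon]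

theorem isWeakAssPoint_iff (M : X.Modules) (x : X) :
    Curv2.IsWeakAssPoint M x ↔ ∃ m : M.presheaf.stalk x,
      (Submodule.colon (⊥ : Submodule (X.presheaf.stalk x) (M.presheaf.stalk x)) {m}).radical =
        maximalIdeal (X.presheaf.stalk x) :=
  exists_congr fun m => by rw [ker_toSpanSingleton]

theorem isWeakAssPoint_of_isAssPoint {M : X.Modules} {x : X} (h : Curv2.IsAssPoint M x) :
    Curv2.IsWeakAssPoint M x := by
  obtain ⟨-, m, hm⟩ := h
  exact (isWeakAssPoint_iff M x).2 ⟨m, hm.symm⟩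

variable (M : X.Modules) [Coh.IsQCoh M] {V : X.Opens} (hV : IsAffineOpen V)

theorem germ_ne_zero_of_le {x : X} (hx : x ∈ V) (n : Γ(M, V))
    (h : Submodule.colon (⊥ : Submodule Γ(X, V) Γ(M, V)) {n} ≤ (hV.primeIdealOf ⟨x, hx⟩).asIdeal) :
    M.presheaf.germ V x hx n ≠ 0 := fun h0 => by
  letI := Groth.L20.ModStalk.stalkModule M hx
  have := Groth.L20.ModStalk.isLocalizedModule_germ M hV hx
  obtain ⟨⟨t, ht⟩, htn⟩ := (IsLocalizedModule.eq_zero_iff (hV.primeIdealOf ⟨x, hx⟩).asIdeal.primeCompl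
    (Groth.L20.ModStalk.germₗ M hx)).mp h0
  exact ht (h (mem_colon.2 htn))

theorem isWeakAssPoint_of_minimal {x : X} (hx : x ∈ V) (n : Γ(M, V))
    (h : (hV.primeIdealOf ⟨x, hx⟩).asIdeal ∈
      (Submodule.colon (⊥ : Submodule Γ(X, V) Γ(M, V)) {n}).minimalPrimes) :
    Curv2.IsWeakAssPoint M x := by
  letI := X.presheaf.algebra_section_stalk ⟨x, hx⟩
  haveI := hV.isLocalization_stalk ⟨x, hx⟩
  refine (isWeakAssPoint_iff M x).2 ⟨M.presheaf.germ V x hx n, ?_⟩
  have hK : Submodule.colon (⊥ : Submodule (X.presheaf.stalk x) (M.presheaf.stalk x))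
      {M.presheaf.germ V x hx n} ≠ ⊤ := by
    rw [Ne, Ideal.eq_top_iff_one, mem_colon, one_smul]
    exact germ_ne_zero_of_le M hV hx n h.le
  refine le_antisymm ((maximalIdeal.isMaximal _).isPrime.radical_le_iff.2 (le_maximalIdeal hK)) ?_
  rw [Ideal.radical_eq_sInf]
  refine le_sInf fun Q hQ => ?_
  obtain ⟨hKQ, hQp⟩ := hQ
  haveI := hQp
  let g : Γ(X, V) →+* X.presheaf.stalk x := algebraMap _ _
  have hle : Q.comap g ≤ (hV.primeIdealOf ⟨x, hx⟩).asIdeal := by
    have hmax : (maximalIdeal (X.presheaf.stalk x)).comap g = (hV.primeIdealOf ⟨x, hx⟩).asIdeal :=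
      IsLocalization.AtPrime.under_maximalIdeal (X.presheaf.stalk x) _
    exact (Ideal.comap_mono (le_maximalIdeal hQp.ne_top)).trans_eq hmax
  have hann : Submodule.colon (⊥ : Submodule Γ(X, V) Γ(M, V)) {n} ≤ Q.comap g := fun a ha => by
    refine hKQ (mem_colon.2 ?_)
    show X.presheaf.germ V x hx a • M.presheaf.germ V x hx n = 0
    rw [← Groth.L20.ModStalk.germ_smul, mem_colon.1 ha, map_zero]
  have heq : Q.comap g = (hV.primeIdealOf ⟨x, hx⟩).asIdeal :=
    le_antisymm hle (h.2 ⟨inferInstance, hann⟩ hle)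
  have h1 : Ideal.map g (Q.comap g) = Q :=
    IsLocalization.map_under (hV.primeIdealOf ⟨x, hx⟩).asIdeal.primeCompl _ Q
  rw [heq] at h1
  rw [← h1]
  exact (IsLocalization.AtPrime.map_eq_maximalIdeal _ _).ge

theorem exists_minimal_of_isWeakAssPoint {x : X} (hx : x ∈ V) (h : Curv2.IsWeakAssPoint M x) :
    ∃ n : Γ(M, V), (hV.primeIdealOf ⟨x, hx⟩).asIdeal ∈
      (Submodule.colon (⊥ : Submodule Γ(X, V) Γ(M, V)) {n}).minimalPrimes := by
  obtain ⟨m, hm⟩ := (isWeakAssPoint_iff M x).1 h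
  letI := X.presheaf.algebra_section_stalk ⟨x, hx⟩
  haveI := hV.isLocalization_stalk ⟨x, hx⟩
  letI := Groth.L20.ModStalk.stalkModule M hx
  haveI := Groth.L20.ModStalk.isLocalizedModule_germ M hV hx
  set p := (hV.primeIdealOf ⟨x, hx⟩).asIdeal with hp
  obtain ⟨⟨n, s⟩, hns⟩ := IsLocalizedModule.surj p.primeCompl (Groth.L20.ModStalk.germₗ M hx) m
  let g : Γ(X, V) →+* X.presheaf.stalk x := algebraMap _ _
  have hs : g s • m = M.presheaf.germ V x hx n := hns
  have hu : IsUnit (g s) := IsLocalization.map_units (X.presheaf.stalk x) s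
  have hann : Submodule.colon (⊥ : Submodule Γ(X, V) Γ(M, V)) {n} ≤ p := fun a ha => by
    have h1 : g a ∈ maximalIdeal (X.presheaf.stalk x) := by
      rw [← hm]
      refine Ideal.le_radical (mem_colon.2 ?_)
      refine hu.smul_left_cancel.1 ?_
      rw [smul_zero, smul_comm, hs]
      show X.presheaf.germ V x hx a • M.presheaf.germ V x hx n = 0
      rw [← Groth.L20.ModStalk.germ_smul, mem_colon.1 ha, map_zero]
    exact (IsLocalization.AtPrime.to_map_mem_maximal_iff (X.presheaf.stalk x) p a).1 h1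
  refine ⟨n, ⟨inferInstance, hann⟩, fun q hq hqp => ?_⟩
  haveI := hq.1
  have hd : Disjoint (p.primeCompl : Set Γ(X, V)) q := Set.disjoint_left.2 fun a ha haq => ha (hqp haq)
  have hQ := IsLocalization.isPrime_of_isPrime_disjoint p.primeCompl (X.presheaf.stalk x) q hq.1 hd
  have hQc : (Ideal.map g q).comap g = q :=
    IsLocalization.under_map_of_isPrime_disjoint p.primeCompl (X.presheaf.stalk x) hq.1 hd
  have hle : Submodule.colon (⊥ : Submodule (X.presheaf.stalk x) (M.presheaf.stalk x)) {m} ≤ Ideal.map g q := by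
    intro r hr
    obtain ⟨a, t, rfl⟩ := IsLocalization.exists_mk'_eq p.primeCompl r
    have h0 : M.presheaf.germ V x hx (a • n) = 0 := by
      rw [Groth.L20.ModStalk.germ_smul]
      show g a • M.presheaf.germ V x hx n = 0
      rw [← hs, show g a = IsLocalization.mk' (X.presheaf.stalk x) a t * g (t : Γ(X, V)) from
        (IsLocalization.mk'_spec (X.presheaf.stalk x) a t).symm, smul_smul, mul_assoc, mul_comm, ← smul_smul,
        mem_colon.1 hr, smul_zero]
    obtain ⟨⟨c, hc⟩, hcn⟩ := (IsLocalizedModule.eq_zero_iff p.primeCompl (Groth.L20.ModStalk.germₗ M hx)).1 h0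
    have h2 : c * a ∈ q := hq.2 (mem_colon.2 (by rw [mul_smul]; exact hcn))
    have ha : a ∈ q := (hq.1.mem_or_mem h2).resolve_left fun hcq => hc (hqp hcq)
    rw [IsLocalization.mk'_eq_mul_mk'_one]
    exact Ideal.mul_mem_right _ _ (Ideal.mem_map_of_mem g ha)
  rw [← hQc]
  intro a ha
  refine (hQ.radical_le_iff.2 hle) ?_
  rw [hm]
  exact (IsLocalization.AtPrime.to_map_mem_maximal_iff (X.presheaf.stalk x) p a).2 ha

include hV in
theorem exists_weakAss_germ_ne_zero {s : Γ(M, V)} (hs : s ≠ 0) :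
    ∃ (x : X) (hx : x ∈ V), Curv2.IsWeakAssPoint M x ∧ M.presheaf.germ V x hx s ≠ 0 := by
  have hne : Submodule.colon (⊥ : Submodule Γ(X, V) Γ(M, V)) {s} ≠ ⊤ := by
    rw [Ne, Ideal.eq_top_iff_one, mem_colon, one_smul]
    exact hs
  obtain ⟨q, hq⟩ := Ideal.nonempty_minimalPrimes hne
  let q' : Spec Γ(X, V) := ⟨q, hq.isPrime⟩
  have hpq : (hV.primeIdealOf ⟨hV.fromSpec q', Groth.L19.Ass.fromSpec_mem hV q'⟩).asIdeal = q :=
    congrArg PrimeSpectrum.asIdeal (Groth.L19.Ass.primeIdealOf_fromSpec hV q' _)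
  exact ⟨_, Groth.L19.Ass.fromSpec_mem hV q',
    isWeakAssPoint_of_minimal M hV _ s (by rw [hpq]; exact hq),
    germ_ne_zero_of_le M hV _ s (by rw [hpq]; exact hq.le)⟩

theorem isAssPoint_of_isWeakAssPoint [IsLocallyNoetherian X] {x : X} (h : Curv2.IsWeakAssPoint M x) :
    Curv2.IsAssPoint M x := by
  obtain ⟨_, ⟨W, hW, rfl⟩, hxW, -⟩ :=
    X.isBasis_affineOpens.exists_subset_of_mem_open (Set.mem_univ x) isOpen_univ
  replace hW : IsAffineOpen W := hW
  have : IsNoetherianRing Γ(X, W) := IsLocallyNoetherian.component_noetherian ⟨W, hW⟩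
  obtain ⟨n, hn⟩ := exists_minimal_of_isWeakAssPoint M hW hxW h
  refine (Groth.L19.Ass.mem_iff_of_affine M hW hxW).2 ?_
  refine associatedPrimes.subset_of_injective (f := (Submodule.span Γ(X, W) {n}).subtype)
    Subtype.val_injective (Module.associatedPrimes.minimalPrimes_annihilator_subset_associatedPrimes _ _ ?_)
  convert hn using 1
  congr 1
  ext b
  rw [Module.mem_annihilator, mem_colon]
  constructor
  · intro hb
    exact congrArg Subtype.val (hb ⟨n, Submodule.mem_span_singleton_self n⟩)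
  · rintro hb ⟨m, hm⟩
    obtain ⟨c, rfl⟩ := Submodule.mem_span_singleton.mp hm
    exact Subtype.ext (by show b • c • n = 0; rw [smul_comm, hb, smul_zero])

theorem injective_res (U : X.Opens) (hU : ∀ x, Curv2.IsWeakAssPoint M x → x ∈ U) :
    Function.Injective (M.presheaf.map (homOfLE (le_top : U ≤ ⊤)).op) := by
  refine (injective_iff_map_eq_zero (M.presheaf.map (homOfLE (le_top : U ≤ ⊤)).op).hom).2 fun s hs => ?_
  refine TopCat.Presheaf.section_ext ((Groth.L21.Mod.toAbSh X).obj M) ⊤ _ _ fun x _ => ?_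
  show M.presheaf.germ ⊤ x trivial s = M.presheaf.germ ⊤ x trivial 0
  obtain ⟨_, ⟨W, hW, rfl⟩, hxW, -⟩ :=
    X.isBasis_affineOpens.exists_subset_of_mem_open (Set.mem_univ x) isOpen_univ
  replace hW : IsAffineOpen W := hW
  have h0 : rs M (le_top : W ≤ ⊤) s = 0 := by
    by_contra hne
    obtain ⟨z, hz, hzA, hzs⟩ := exists_weakAss_germ_ne_zero M hW hne
    refine hzs ?_
    rw [Groth.L20.ModStalk.germ_rs, ← Groth.L20.ModStalk.germ_rs M (le_top : U ≤ ⊤) (hU z hzA)]
    exact (congrArg (M.presheaf.germ U z (hU z hzA)) hs).trans (map_zero _)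
  rw [map_zero, ← Groth.L20.ModStalk.germ_rs M (le_top : W ≤ ⊤) hxW s, h0, map_zero]

theorem weakAss_push_subset (f : X ⟶ Y) [QuasiCompact f] [QuasiSeparated f] (s : Y)
    (hs : Curv2.IsWeakAssPoint ((Scheme.Modules.pushforward f).obj M) s) :
    ∃ x : X, f x = s ∧ Curv2.IsWeakAssPoint M x := by
  haveI := Groth.L16.QcqsPush.isQCoh_push f (M := M)
  obtain ⟨_, ⟨U, hU, rfl⟩, hsU, -⟩ :=
    Y.isBasis_affineOpens.exists_subset_of_mem_open (Set.mem_univ s) isOpen_univ
  replace hU : IsAffineOpen U := hU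
  obtain ⟨n, hn⟩ := exists_minimal_of_isWeakAssPoint ((Scheme.Modules.pushforward f).obj M) hU hsU hs
  set p := hU.primeIdealOf ⟨s, hsU⟩ with hp_def
  let s' : Γ(M, f ⁻¹ᵁ U) := n
  obtain ⟨T, hT, hcov⟩ := isCompact_iff_finite_and_eq_biUnion_affineOpens.mp
    (f.isCompact_preimage hU.isCompact)
  have hle : ∀ W ∈ T, (W.1 : X.Opens) ≤ f ⁻¹ᵁ U := fun W hW => by
    exact (le_iSup₂ (f := fun (W : X.affineOpens) (_ : W ∈ T) => (W : X.Opens)) W hW).trans hcov.ge
  let I : T → Ideal Γ(Y, U) := fun W =>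
    (Submodule.colon (⊥ : Submodule Γ(X, W.1.1) Γ(M, W.1.1)) {rs M (hle W.1 W.2) s'}).comap
      (f.appLE U W.1.1 (hle W.1 W.2)).hom
  have hsmul : ∀ (W : T) (a : Γ(Y, U)),
      rs M (hle W.1 W.2) (f.app U a • s') =
        f.appLE U W.1.1 (hle W.1 W.2) a • rs M (hle W.1 W.2) s' := fun W a => by
    rw [Groth.L18.Frame.rs_smul]; rfl
  have hann : ∀ W, Submodule.colon (⊥ : Submodule Γ(Y, U) Γ((Scheme.Modules.pushforward f).obj M, U)) {n} ≤ I W :=
    fun W a ha => by
      refine mem_colon.2 ?_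
      rw [← hsmul, show f.app U a • s' = 0 from mem_colon.1 ha]
      exact map_zero _
  have : Fintype T := hT.fintype
  have hinf : Finset.univ.inf I ≤ p.asIdeal := by
    intro a ha
    rw [Submodule.mem_finsetInf] at ha
    refine hn.le (mem_colon.2 ?_)
    show f.app U a • s' = 0
    refine TopCat.Presheaf.section_ext ((Groth.L21.Mod.toAbSh X).obj M) _ _ _ fun z hz => ?_
    obtain ⟨W, hW'⟩ := Opens.mem_iSup.mp (hcov.le hz)
    obtain ⟨hW, hzW⟩ := Opens.mem_iSup.mp hW'
    show M.presheaf.germ _ z hz (f.app U a • s') = M.presheaf.germ _ z hz 0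
    rw [← Groth.L20.ModStalk.germ_rs M (hle W hW) hzW, hsmul ⟨W, hW⟩,
      mem_colon.1 (ha ⟨W, hW⟩ (Finset.mem_univ _)), map_zero, map_zero]
  obtain ⟨W, -, hW⟩ := (Ideal.IsPrime.inf_le' p.2).mp hinf
  have hpI : p.asIdeal ∈ (I W).minimalPrimes :=
    ⟨⟨p.2, hW⟩, fun q hq hqp => hn.2 ⟨hq.1, (hann W).trans hq.2⟩ hqp⟩
  obtain ⟨q, hq, hqp⟩ := Ideal.exists_minimalPrimes_comap_eq (f.appLE U W.1.1 (hle W.1 W.2)).hom p.asIdeal hpI
  let q' : Spec Γ(X, W.1.1) := ⟨q, hq.isPrime⟩
  refine ⟨W.1.2.fromSpec q', ?_, isWeakAssPoint_of_minimal M W.1.2 (Groth.L19.Ass.fromSpec_mem W.1.2 q')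
    (rs M (hle W.1 W.2) s') ?_⟩
  · have h1 := congr($(hU.SpecMap_appLE_fromSpec f W.1.2 (hle W.1 W.2)) q')
    rw [Scheme.Hom.comp_apply, Scheme.Hom.comp_apply] at h1
    refine h1.symm.trans ?_
    rw [show Spec.map (f.appLE U W.1.1 (hle W.1 W.2)) q' = p from PrimeSpectrum.ext hqp, hp_def,
      hU.fromSpec_primeIdealOf]
  · rw [congrArg PrimeSpectrum.asIdeal (Groth.L19.Ass.primeIdealOf_fromSpec W.1.2 q' _)]
    exact hq

end Groth.L15.WeakAss
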