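import Groth.Prelude.Def_CDiv
import Groth.Agent.L15.CohFlat
import Groth.Agent.L22.Cyc.OrdGen
import Groth.Agent.L22.Cyc.DivSupport
import Groth.Agent.L04.Depth
import Groth.Agent.S8890
import Mathlib.RingTheory.Ideal.Height
import Mathlib.RingTheory.KrullDimension.Basic

/-! Cartier divisors on integral schemes: support, effectiveness, points of depth one. -/

set_option autoImplicit false
set_option linter.style.haveILetI false

universe u

open CategoryTheory AlgebraicGeometry TopologicalSpace IsLocalRing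

noncomputable section

namespace Groth.L15.CDivLib

variable {X : Scheme.{u}} [IsIntegral X]

/-- The map from a local ring to the function field. -/
abbrev am (x : X) : X.presheaf.stalk x →+* X.functionField := algebraMap _ _

theorem am_injective (x : X) : Function.Injective (am x) :=
  IsFractionRing.injective (X.presheaf.stalk x) X.functionField

theorem am_germ {U : X.Opens} {x y : X} (hx : x ∈ U) (hy : y ∈ U) (a : Γ(X, U)) :
    am x (X.presheaf.germ U x hx a) = am y (X.presheaf.germ U y hy a) :=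
  (TopCat.Presheaf.germ_stalkSpecializes_apply _ hx _ a).trans
    (TopCat.Presheaf.germ_stalkSpecializes_apply _ hy _ a).symm

theorem am_specializes {x y : X} (h : y ⤳ x) (a : X.presheaf.stalk x) :
    am y (X.presheaf.stalkSpecializes h a) = am x a :=
  TopCat.Presheaf.stalkSpecializes_comp_apply _ _ _ a

theorem mem_stalkUnits_iff {f : CDiv.KUnits X} {x : X} :
    f ∈ CDiv.stalkUnits X x ↔ ∃ a : X.presheaf.stalk x, IsUnit a ∧ am x a = f :=
  ⟨fun ⟨u, hu⟩ => ⟨u, u.isUnit, congrArg Units.val hu⟩,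
    fun ⟨_, hu, ha⟩ => ⟨hu.unit, Units.ext ha⟩⟩

theorem germOf_eq_iff {f g : CDiv.KUnits X} {x : X} :
    CDiv.germOf X x f = CDiv.germOf X x g ↔
      ∃ a : X.presheaf.stalk x, IsUnit a ∧ (f : X.functionField) * am x a = g := by
  rw [CDiv.germOf, CDiv.germOf, QuotientGroup.eq, mem_stalkUnits_iff]
  refine exists_congr fun a => and_congr_right fun _ => ?_
  rw [Units.val_mul, ← Units.eq_inv_mul_iff_mul_eq]

theorem germOf_eq_one_iff {f : CDiv.KUnits X} {x : X} :
    CDiv.germOf X x f = 1 ↔ ∃ a : X.presheaf.stalk x, IsUnit a ∧ am x a = f :=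
  (QuotientGroup.eq_one_iff f).trans mem_stalkUnits_iff

theorem isEffectiveAt_iff {D : CDiv.Divisor X} {x : X} {f : CDiv.KUnits X}
    (h : D.1 x = CDiv.germOf X x f) :
    CDiv.IsEffectiveAt D x ↔ ∃ a : X.presheaf.stalk x, am x a = f := by
  constructor
  · rintro ⟨a, ha, hD⟩
    obtain ⟨u, hu, hfu⟩ := germOf_eq_iff.1 (hD.symm.trans h)
    exact ⟨a * u, by rw [map_mul]; exact hfu⟩
  · rintro ⟨a, ha⟩
    refine ⟨a, by rw [show algebraMap _ _ a = _ from ha]; exact f.ne_zero, h.trans ?_⟩
    exact congrArg _ (Units.ext ha.symm)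

/-- The locus where a rational function is a unit is open. -/
theorem isOpen_unit (f : CDiv.KUnits X) : IsOpen {x : X | CDiv.germOf X x f = 1} := by
  rw [isOpen_iff_forall_mem_open]
  intro x hx
  obtain ⟨a, hu, ha⟩ := germOf_eq_one_iff.1 hx
  obtain ⟨U, hU, s, rfl⟩ := TopCat.Presheaf.exists_germ_eq (F := X.presheaf) (x := x) a
  refine ⟨X.basicOpen s, fun y hy => germOf_eq_one_iff.2 ?_, (X.basicOpen s).2, (X.mem_basicOpen s x hU).2 hu⟩
  have hyU : y ∈ U := X.basicOpen_le s hy
  exact ⟨_, (X.mem_basicOpen s y hyU).1 hy, (am_germ hyU hU s).trans ha⟩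

theorem isClosed_supp (D : CDiv.Divisor X) : IsClosed (CDiv.supp D) := by
  rw [← isOpen_compl_iff, isOpen_iff_forall_mem_open]
  intro x hx
  obtain ⟨U, f, hxU, hU⟩ := D.2 x
  refine ⟨(U : Set X) ∩ {y | CDiv.germOf X y f = 1}, fun y hy => ?_, U.2.inter (isOpen_unit f), hxU,
    (hU x hxU).symm.trans (Classical.not_not.1 hx)⟩
  exact Classical.not_not.2 ((hU y hy.1).trans hy.2)

theorem supp_ne_genericPoint (D : CDiv.Divisor X) : genericPoint ↥X ∉ CDiv.supp D := by
  obtain ⟨U, f, hxU, hU⟩ := D.2 (genericPoint ↥X)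
  refine Classical.not_not.2 ((hU _ hxU).trans (germOf_eq_one_iff.2 ?_))
  refine ⟨(f : X.functionField), IsUnit.mk0 (G₀ := X.functionField) _ f.ne_zero, ?_⟩
  exact congr($(TopCat.Presheaf.stalkSpecializes_refl X.presheaf (genericPoint ↥X)) (f : X.functionField))

theorem isEffective_of_germOf_eq_one {D : CDiv.Divisor X} {x : X} (h : D.1 x = 1) :
    CDiv.IsEffectiveAt D x :=
  (isEffectiveAt_iff (f := 1) (h.trans (QuotientGroup.mk_one _).symm)).2 ⟨1, map_one _⟩

/-- Points generising `x` other than the generic point are closed if `dim X ≤ 1`. -/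
theorem eq_of_specializes (hdim : topologicalKrullDim ↥X ≤ 1) {x y : X} (h : y ⤳ x)
    (hy : y ≠ genericPoint ↥X) : y = x := by
  haveI : Ring.KrullDimLE 1 (X.presheaf.stalk x) :=
    Ring.krullDimLE_iff.2 (by exact_mod_cast (Groth.L15.CohFlat.ringKrullDim_stalk_le x).trans hdim)
  obtain ⟨p, hp⟩ : ∃ p, X.fromSpecStalk x p = y := Scheme.range_fromSpecStalk.ge h
  rcases eq_or_ne p.asIdeal ⊥ with h0 | h0
  · refine absurd ?_ hy
    have h1 : genericPoint ↥X ⤳ y := (genericPoint_spec ↥X).specializes trivial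
    obtain ⟨q, hq⟩ : ∃ q, X.fromSpecStalk x q = genericPoint ↥X :=
      Scheme.range_fromSpecStalk.ge ((genericPoint_spec ↥X).specializes trivial)
    have h2 : p ⤳ q := (PrimeSpectrum.le_iff_specializes p q).1 (show p.asIdeal ≤ q.asIdeal from h0 ▸ bot_le)
    have h3 := h2.map (X.fromSpecStalk x).continuous
    rw [hp, hq] at h3
    exact (h3.antisymm h1).eq
  · have h2 : p.asIdeal.IsMaximal := Ring.krullDimLE_one_iff_of_noZeroDivisors.1 inferInstance _ h0 p.2
    rw [show p = IsLocalRing.closedPoint _ from PrimeSpectrum.ext (IsLocalRing.eq_maximalIdeal h2),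
      Scheme.fromSpecStalk_closedPoint] at hp
    exact hp.symm

/-- A closed set not containing the generic point is discrete if `dim X ≤ 1`. -/
theorem discreteTopology_of_isClosed [IsLocallyNoetherian X] (hdim : topologicalKrullDim ↥X ≤ 1)
    {Z : Set X} (hZ : IsClosed Z) (hη : genericPoint ↥X ∉ Z) : DiscreteTopology ↥Z := by
  rw [discreteTopology_iff_forall_isOpen]
  have hpt : ∀ z ∈ Z, IsClosed ({z} : Set X) := fun z hz => by
    refine closure_eq_iff_isClosed.1 (Set.Subset.antisymm (fun w hw => ?_) subset_closure)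
    exact (eq_of_specializes hdim (specializes_iff_mem_closure.2 hw) fun h => hη (h ▸ hz)).symm
  intro T
  rw [isOpen_iff_forall_mem_open]
  rintro ⟨z, hz⟩ hzT
  obtain ⟨V, hV, hzV, -⟩ := exists_isAffineOpen_mem_and_subset (x := z) (U := ⊤) trivial
  have hfin : (((V : Set X) ∩ Z) \ {z}).Finite := by
    refine ((Groth.L22.Cyc.finite_maximal hV hZ).subset ?_).diff
    exact fun w hw => ⟨hw.1, hw.2, fun y hy hyw => eq_of_specializes hdim hyw fun h => hη (h ▸ hy)⟩
  have hc : IsClosed (((V : Set X) ∩ Z) \ {z}) := by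
    rw [← Set.biUnion_of_singleton (((V : Set X) ∩ Z) \ {z})]
    exact hfin.isClosed_biUnion fun w hw => hpt w hw.1.2
  refine ⟨Subtype.val ⁻¹' ((V : Set X) \ (((V : Set X) ∩ Z) \ {z})), fun w hw => ?_,
    (V.2.sdiff hc).preimage continuous_subtype_val, hzV, fun h => h.2 rfl⟩
  rw [show w = ⟨z, hz⟩ from Subtype.ext (by_contra fun h => hw.2 ⟨⟨hw.1, w.2⟩, h⟩)]
  exact hzT

/-- Existence of a divisor with given germs at a closed discrete set. -/
theorem existsUnique_of_germs [IsLocallyNoetherian X] (hdim : topologicalKrullDim ↥X ≤ 1) {E : Set X}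
    (hE : IsClosed E) (hEd : DiscreteTopology ↥E) (d : ∀ x : X, CDiv.Germ X x) :
    ∃! D : CDiv.Divisor X, CDiv.supp D ⊆ E ∧ ∀ x ∈ E, D.1 x = d x := by
  classical
  let g : ∀ x : X, CDiv.Germ X x := fun x => if x ∈ E then d x else 1
  have hg : g ∈ CDiv.divisorGroup X := by
    intro x
    by_cases hx : x ∈ E
    · obtain ⟨f, hf⟩ := QuotientGroup.mk_surjective (d x)
      obtain ⟨O, hO, hOx⟩ := (discreteTopology_iff_forall_isOpen.1 hEd) {(⟨x, hx⟩ : E)}
      let B : Set X := CDiv.supp (CDiv.div f) \ {x}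
      have hB : IsClosed B := by
        haveI := discreteTopology_of_isClosed hdim (isClosed_supp (CDiv.div f)) (supp_ne_genericPoint _)
        have h1 : IsClosed (Subtype.val '' (Subtype.val ⁻¹' B : Set (CDiv.supp (CDiv.div f)))) :=
          (isClosed_supp (CDiv.div f)).isClosedEmbedding_subtypeVal.isClosedMap _ (isClosed_discrete _)
        rwa [Subtype.image_preimage_coe, Set.inter_eq_right.2 Set.diff_subset] at h1
      refine ⟨⟨O \ B, hO.sdiff hB⟩, f, ⟨?_, fun h => h.2 rfl⟩, fun y hy => ?_⟩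
      · have h1 : (⟨x, hx⟩ : E) ∈ Subtype.val ⁻¹' O := hOx.ge rfl
        exact h1
      by_cases hyE : y ∈ E
      · have hyx : y = x := congrArg Subtype.val (hOx.le (show (⟨y, hyE⟩ : E) ∈ Subtype.val ⁻¹' O from hy.1))
        subst hyx
        show (if y ∈ E then d y else 1) = _
        rw [if_pos hyE]
        exact hf.symm
      · show (if y ∈ E then d y else 1) = _
        rw [if_neg hyE]
        by_contra hne
        exact hy.2 ⟨fun h => hne h.symm, fun h => hyE (h.symm ▸ hx)⟩
    · refine ⟨⟨Eᶜ, hE.isOpen_compl⟩, 1, hx, fun y hy => ?_⟩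
      show (if y ∈ E then d y else 1) = _
      rw [if_neg hy]
      exact (QuotientGroup.mk_one _).symm
  refine ⟨⟨g, hg⟩, ⟨fun x hx => by_contra fun h => hx (if_neg h), fun x hx => if_pos hx⟩, ?_⟩
  rintro D ⟨hD, hd⟩
  refine Subtype.ext (funext fun x => ?_)
  show D.1 x = if x ∈ E then d x else 1
  by_cases hx : x ∈ E
  · rw [if_pos hx, hd x hx]
  · rw [if_neg hx]
    exact by_contra fun h => hx (hD h)

/-- Depth at least two: a rational function regular at all proper generisations is regular. -/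
theorem mem_range_of_depth_two [IsLocallyNoetherian X] {x : X} (hd : (2 : ℕ∞) ≤ LocCoh.depth (X.presheaf.stalk x) (X.presheaf.stalk x))
    (hx : x ≠ genericPoint ↥X) (k : X.functionField)
    (h : ∀ y : X, y ⤳ x → y ≠ x → ∃ a : X.presheaf.stalk y, am y a = k) :
    ∃ a : X.presheaf.stalk x, am x a = k := by
  let φ : X.presheaf.stalk x →ₗ[X.presheaf.stalk x] X.functionField :=
    Algebra.linearMap (X.presheaf.stalk x) X.functionField
  let J := Submodule.colon (LinearMap.range φ) {k}
  have hrad : maximalIdeal (X.presheaf.stalk x) ≤ J.radical := by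
    rw [Ideal.radical_eq_sInf]
    refine le_sInf fun Q hQ => ?_
    obtain ⟨hJQ, hQp⟩ := hQ
    let q : Spec (X.presheaf.stalk x) := ⟨Q, hQp⟩
    have hsp : X.fromSpecStalk x q ⤳ x := Scheme.range_fromSpecStalk.le ⟨q, rfl⟩
    have hker : RingHom.ker (Cyc.specMap x (X.fromSpecStalk x q) hsp) = Q := by
      have h1 : X.fromSpecStalk x (Spec.map (X.presheaf.stalkSpecializes hsp) (IsLocalRing.closedPoint _)) =
          X.fromSpecStalk x q := by
        rw [← Scheme.Hom.comp_apply, Scheme.SpecMap_stalkSpecializes_fromSpecStalk,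
          Scheme.fromSpecStalk_closedPoint]
      refine Eq.trans ?_ (congrArg PrimeSpectrum.asIdeal ((X.fromSpecStalk x).isEmbedding.injective h1))
      ext c
      exact (IsLocalRing.residue_eq_zero_iff _).trans Iff.rfl
    by_cases hne : X.fromSpecStalk x q = x
    · have h2 : q = IsLocalRing.closedPoint _ := (X.fromSpecStalk x).isEmbedding.injective
        (hne.trans Scheme.fromSpecStalk_closedPoint.symm)
      exact (congrArg PrimeSpectrum.asIdeal h2).ge
    · exfalso
      obtain ⟨a, ha⟩ := h _ hsp hne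
      letI := (X.presheaf.stalkSpecializes hsp).hom.toAlgebra
      haveI : (RingHom.ker (Cyc.specMap x (X.fromSpecStalk x q) hsp)).IsPrime := RingHom.ker_isPrime _
      haveI := Groth.L22.Cyc.isLocalization_stalkSpecializes hsp
      obtain ⟨⟨s, t⟩, hst⟩ := IsLocalization.surj (RingHom.ker (Cyc.specMap x (X.fromSpecStalk x q) hsp)).primeCompl a
      refine t.2 (hker.ge (hJQ (Submodule.mem_colon_singleton.2 ⟨s, ?_⟩)))
      show am x s = am x (t : X.presheaf.stalk x) * k
      rw [← ha, ← am_specializes hsp s, ← am_specializes hsp (t : X.presheaf.stalk x), ← map_mul, mul_comm]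
      exact congrArg (am _) hst.symm
  obtain ⟨n, hn⟩ := Ideal.exists_radical_pow_le_of_fg J (IsNoetherian.noetherian J.radical)
  refine Groth.Agent.S8890.mem_range_of_depth φ (am_injective x) hd ?_ k n
    fun a ha => Submodule.mem_colon_singleton.1 (hn (Ideal.pow_right_mono hrad n ha))
  rintro ⟨hp, m, hm⟩
  refine hx ?_
  have hmax : maximalIdeal (X.presheaf.stalk x) = ⊥ := by
    refine eq_bot_iff.2 fun a ha => ?_
    obtain ⟨j, hj⟩ := hm.le ha
    rw [Groth.L15.WeakAss.mem_colon, Algebra.smul_def] at hj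
    rcases mul_eq_zero.1 hj with h0 | h0
    · exact (pow_eq_zero_iff'.1 ((map_eq_zero_iff _ (am_injective x)).1 h0)).1
    · subst h0
      refine absurd (hm.trans ?_) hp.ne_top
      rw [Ideal.radical_eq_top, Ideal.eq_top_iff_one, Groth.L15.WeakAss.mem_colon, smul_zero]
  obtain ⟨p, hp'⟩ : ∃ p, X.fromSpecStalk x p = genericPoint ↥X :=
    Scheme.range_fromSpecStalk.ge ((genericPoint_spec ↥X).specializes trivial)
  rw [show p = IsLocalRing.closedPoint _ from PrimeSpectrum.ext (le_antisymm
    (IsLocalRing.le_maximalIdeal p.2.ne_top) (hmax.trans_le bot_le)), Scheme.fromSpecStalk_closedPoint] at hp'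
  exact hp'

/-- Depth of a local ring of an integral scheme at a non-generic point is positive. -/
theorem depth_eq_one_of_not_two_le [IsLocallyNoetherian X] {x : X} (hx : x ≠ genericPoint ↥X)
    (h : ¬ (2 : ℕ∞) ≤ LocCoh.depth (X.presheaf.stalk x) (X.presheaf.stalk x)) :
    LocCoh.depth (X.presheaf.stalk x) (X.presheaf.stalk x) = 1 := by
  obtain ⟨a, ha, hreg⟩ | ⟨z, hz, hkill⟩ :=
    Groth.L04.exists_regular_or_killed (maximalIdeal (X.presheaf.stalk x)) (X.presheaf.stalk x)
  · have h1 : (1 : ℕ∞) ≤ LocCoh.depth (X.presheaf.stalk x) (X.presheaf.stalk x) :=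
      Groth.L04.one_le_idealDepth_of_regular ha hreg
    exact le_antisymm (ENat.lt_add_one_iff (by simp) |>.1 (by rw [one_add_one_eq_two]; exact not_le.1 h)) h1
  · refine absurd ?_ hx
    obtain ⟨p, hp⟩ : ∃ p, X.fromSpecStalk x p = genericPoint ↥X :=
      Scheme.range_fromSpecStalk.ge ((genericPoint_spec ↥X).specializes trivial)
    rw [show p = IsLocalRing.closedPoint _ from PrimeSpectrum.ext (le_antisymm
      (IsLocalRing.le_maximalIdeal p.2.ne_top) (fun a ha => by
        have h2 : a * z = 0 := hkill a ha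
        rw [(mul_eq_zero.1 h2).resolve_right hz]
        exact p.asIdeal.zero_mem)), Scheme.fromSpecStalk_closedPoint] at hp
    exact hp

/-- Every point in a set has a generisation in the set minimal for this property. -/
theorem exists_maximal_generisation [IsLocallyNoetherian X] {S : Set X} {x : X} (hx : x ∈ S) :
    ∃ y : X, y ⤳ x ∧ y ∈ S ∧ ∀ z : X, z ∈ S → z ⤳ y → z = y := by
  let T : Set (Spec (X.presheaf.stalk x)) := (X.fromSpecStalk x) ⁻¹' S
  have hne : T.Nonempty := ⟨IsLocalRing.closedPoint _, by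
    show X.fromSpecStalk x _ ∈ S
    rw [Scheme.fromSpecStalk_closedPoint]; exact hx⟩
  obtain ⟨p, hpT, hmin⟩ := (InvImage.wf (fun p : Spec (X.presheaf.stalk x) => p.asIdeal.height)
    (wellFounded_lt (α := ℕ∞))).has_min T hne
  have hpx : X.fromSpecStalk x p ⤳ x := Scheme.range_fromSpecStalk.le ⟨p, rfl⟩
  refine ⟨_, hpx, hpT, fun z hz hzp => ?_⟩
  obtain ⟨q, rfl⟩ : ∃ q, X.fromSpecStalk x q = z := Scheme.range_fromSpecStalk.ge (hzp.trans hpx)
  have hle : q.asIdeal ≤ p.asIdeal := (PrimeSpectrum.le_iff_specializes q p).2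
    ((X.fromSpecStalk x).isEmbedding.isInducing.specializes_iff.1 hzp)
  rcases hle.eq_or_lt with h | h
  · rw [PrimeSpectrum.ext h]
  · haveI := q.2; haveI := p.2
    exact absurd (Ideal.height_strict_mono_of_isPrime h) (hmin q hz)

end Groth.L15.CDivLib
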