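import Groth.Prelude.Def_Pi1
import Groth.Agent.L15.CDivLib
import Groth.Agent.L01.Serre
import Mathlib.AlgebraicGeometry.OrderOfVanishing
import Mathlib.RingTheory.KrullDimension.PID
import Mathlib.RingTheory.Ideal.UFD

/-! Cartier divisors on normal integral schemes: points of depth one and orders of vanishing. -/

set_option autoImplicit false
set_option linter.style.haveILetI false

universe u

open CategoryTheory AlgebraicGeometry TopologicalSpace IsLocalRing

noncomputable section

namespace Groth.L15.CDivLib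

/-- A non-DVR normal Noetherian local domain that is not a field has depth at least two. -/
theorem two_le_depth_of_not_isDVR {A : Type u} [CommRing A] [IsDomain A] [IsNoetherianRing A]
    [IsLocalRing A] [IsIntegrallyClosed A] {b : A} (hb : b ∈ maximalIdeal A) (hb0 : b ≠ 0)
    (h : ¬ IsDiscreteValuationRing A) : 2 ≤ LocCoh.depth A A := by
  rcases Groth.L04.exists_regular_or_killed (maximalIdeal A) (A ⧸ Ideal.span {b}) with
    ⟨y, hy, hreg⟩ | ⟨z, hz, hkill⟩
  · refine Groth.L01.Serre.two_le_depth hb hy (fun c hc => (mul_eq_zero.1 hc).resolve_left hb0)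
      fun c hc => Ideal.Quotient.eq_zero_iff_mem.1 (hreg.right_eq_zero_of_smul ?_)
    rw [Algebra.smul_def, Ideal.Quotient.algebraMap_eq, ← map_mul]
    exact Ideal.Quotient.eq_zero_iff_mem.2 hc
  · obtain ⟨c, rfl⟩ := Ideal.Quotient.mk_surjective z
    refine absurd (Groth.L01.isDVR_of_maximalIdeal_mul_le hb0
      (fun hc => hz (Ideal.Quotient.eq_zero_iff_mem.2 hc)) fun t ht => ?_) h
    have := hkill t ht
    rw [Algebra.smul_def, Ideal.Quotient.algebraMap_eq, ← map_mul] at this
    exact Ideal.Quotient.eq_zero_iff_mem.1 this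

variable {X : Scheme.{u}} [IsIntegral X] [IsLocallyNoetherian X]

/-- On a normal scheme, points of depth one are points of codimension one with DVR stalks. -/
theorem isDVR_and_coheight_of_depth_eq_one (hX : Pi1.IsNormalScheme X) {x : X}
    (hd : LocCoh.depth (X.presheaf.stalk x) (X.presheaf.stalk x) = 1) :
    IsDiscreteValuationRing (X.presheaf.stalk x) ∧ Order.coheight x = 1 := by
  haveI := (hX x).2
  have hdvr : IsDiscreteValuationRing (X.presheaf.stalk x) := by
    by_contra h
    by_cases hb : ∃ b ∈ maximalIdeal (X.presheaf.stalk x), b ≠ 0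
    · obtain ⟨b, hb, hb0⟩ := hb
      have := two_le_depth_of_not_isDVR hb hb0 h
      rw [hd] at this
      exact absurd this (by decide)
    · push Not at hb
      exact one_ne_zero (Groth.L04.hom_zero_of_one_le (z := (1 : X.presheaf.stalk x)) hd.ge
        fun a ha => by rw [hb a ha, zero_smul])
  refine ⟨hdvr, ?_⟩
  have h1 := ringKrullDim_stalk_eq_coheight x
  rw [IsPrincipalIdealRing.ringKrullDim_eq_one _ (IsDiscreteValuationRing.not_isField _)] at h1
  exact_mod_cast h1.symm

theorem ne_genericPoint_of_coheight_eq_one {x : X} (hx : Order.coheight x = 1) :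
    x ≠ genericPoint ↥X := by
  rintro rfl
  have h1 := ringKrullDim_stalk_eq_coheight (genericPoint ↥X)
  rw [hx, show ringKrullDim (X.presheaf.stalk (genericPoint ↥X)) = 0 from
    ringKrullDim_eq_zero_of_field X.functionField] at h1
  exact absurd h1 (by simp)

theorem ord_nonneg {x : X} (a : X.presheaf.stalk x) : 0 ≤ Scheme.ord (am x a) x := by
  by_cases hx : Order.coheight x = 1
  swap
  · simp [hx]
  by_cases ha : a = 0
  · simp [ha]
  haveI : Ring.KrullDimLE 1 (X.presheaf.stalk x) := krullDimLE_of_coheight_le hx.le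
  rw [Scheme.le_ord_iff hx ((map_ne_zero_iff _ (am_injective x)).2 ha)]
  exact (WithZero.coe_one (α := Multiplicative ℤ)).trans_le
    (Ring.ordFrac_ge_one_of_ne_zero (K := X.functionField) ha)

theorem ord_eq_zero_iff_isUnit {x : X} (hx : Order.coheight x = 1) {a : X.presheaf.stalk x} (ha : a ≠ 0) :
    Scheme.ord (am x a) x = 0 ↔ IsUnit a := by
  haveI : Ring.KrullDimLE 1 (X.presheaf.stalk x) := krullDimLE_of_coheight_le hx.le
  rw [Scheme.ord_eq_iff hx ((map_ne_zero_iff _ (am_injective x)).2 ha)]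
  have hnzd := mem_nonZeroDivisors_of_ne_zero ha
  obtain ⟨m, hm⟩ := ENat.ne_top_iff_exists.mp (Ring.ord_ne_top (a := a) hnzd)
  constructor
  · intro h
    have h' : Ring.ordFrac (X.presheaf.stalk x) (am x a) = ((Multiplicative.ofAdd (0 : ℤ) : Multiplicative ℤ) : WithZero (Multiplicative ℤ)) := h
    rw [Ring.ordFrac_eq_ord _ ha, Ring.ordMonoidWithZeroHom_eq_coe _ hnzd hm.symm] at h'
    have h2 : m = 0 := by simpa [← ofAdd_zero] using h'
    rw [h2, Ring.ord] at hm
    have h3 : Subsingleton (X.presheaf.stalk x ⧸ Ideal.span {a}) :=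
      Module.length_eq_zero_iff.1 hm.symm
    rwa [Ideal.Quotient.subsingleton_iff, Ideal.span_singleton_eq_top] at h3
  · intro h
    exact (Ring.ordFrac_of_isUnit (K := X.functionField) h).trans (WithZero.coe_one).symm

/-- At a point with a DVR stalk of codimension one: regular iff the order is nonnegative. -/
theorem exists_am_iff_ord_nonneg {x : X} [IsDiscreteValuationRing (X.presheaf.stalk x)]
    (hx : Order.coheight x = 1) (f : CDiv.KUnits X) :
    (∃ a, am x a = f) ↔ 0 ≤ Scheme.ord (f : X.functionField) x := by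
  refine ⟨fun ⟨a, ha⟩ => ha ▸ ord_nonneg a, fun h => ?_⟩
  rcases ValuationRing.isInteger_or_isInteger (X.presheaf.stalk x) (f : X.functionField) with ⟨a, ha⟩ | ⟨c, hc⟩
  · exact ⟨a, ha⟩
  have hf : am x c * f = 1 := by
    rw [show am x c = (f : X.functionField)⁻¹ from hc]
    exact inv_mul_cancel₀ f.ne_zero
  have hc0 : c ≠ 0 := by
    rintro rfl
    simp at hf
  have h1 := Scheme.ord_mul (X := X) (x := x) ((map_ne_zero_iff _ (am_injective x)).2 hc0) f.ne_zero
  have h2 : Scheme.ord (1 : X.functionField) x = 0 := by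
    rw [← map_one (am x), ord_eq_zero_iff_isUnit hx one_ne_zero]
    exact isUnit_one
  rw [hf, h2] at h1
  have hu := (ord_eq_zero_iff_isUnit hx hc0).1 (le_antisymm (by omega) (ord_nonneg c))
  obtain ⟨v, hv⟩ := hu.exists_left_inv
  exact ⟨v, mul_left_cancel₀ (left_ne_zero_of_mul_eq_one hf)
    (by rw [hf, ← map_mul, mul_comm c, hv, map_one])⟩

theorem germOf_eq_one_iff_ord {x : X} [IsDiscreteValuationRing (X.presheaf.stalk x)]
    (hx : Order.coheight x = 1) (f : CDiv.KUnits X) :
    CDiv.germOf X x f = 1 ↔ Scheme.ord (f : X.functionField) x = 0 := by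
  rw [germOf_eq_one_iff]
  constructor
  · rintro ⟨a, hu, ha⟩
    rw [← ha]
    exact (ord_eq_zero_iff_isUnit hx hu.ne_zero).2 hu
  · intro h
    obtain ⟨a, ha⟩ := (exists_am_iff_ord_nonneg hx f).2 h.ge
    have ha0 : a ≠ 0 := by
      rintro rfl
      exact f.ne_zero (ha.symm.trans (map_zero _))
    exact ⟨a, (ord_eq_zero_iff_isUnit hx ha0).1 (by rw [ha, h]), ha⟩

end Groth.L15.CDivLib

namespace Groth.L15.CDivLib

variable {X : Scheme.{u}} [IsIntegral X] [IsLocallyNoetherian X]

/-- The prime of `O_x` of the image of a point of `Spec O_x`. -/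
theorem ker_specMap_fromSpecStalk {x : X} (q : Spec (X.presheaf.stalk x))
    (hsp : X.fromSpecStalk x q ⤳ x) :
    RingHom.ker (Cyc.specMap x (X.fromSpecStalk x q) hsp) = q.asIdeal := by
  have h1 : X.fromSpecStalk x (Spec.map (X.presheaf.stalkSpecializes hsp) (IsLocalRing.closedPoint _)) =
      X.fromSpecStalk x q := by
    rw [← Scheme.Hom.comp_apply, Scheme.SpecMap_stalkSpecializes_fromSpecStalk,
      Scheme.fromSpecStalk_closedPoint]
  refine Eq.trans ?_ (congrArg PrimeSpectrum.asIdeal ((X.fromSpecStalk x).isEmbedding.injective h1))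
  ext c
  exact (IsLocalRing.residue_eq_zero_iff _).trans Iff.rfl

theorem height_ker_specMap {x z : X} (h : z ⤳ x) :
    ((RingHom.ker (Cyc.specMap x z h)).height : WithBot ℕ∞) = Order.coheight z := by
  letI := (X.presheaf.stalkSpecializes h).hom.toAlgebra
  haveI : (RingHom.ker (Cyc.specMap x z h)).IsPrime := RingHom.ker_isPrime _
  haveI := Groth.L22.Cyc.isLocalization_stalkSpecializes h
  rw [← ringKrullDim_stalk_eq_coheight,
    IsLocalization.AtPrime.ringKrullDim_eq_height (RingHom.ker (Cyc.specMap x z h)) (X.presheaf.stalk z)]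

theorem height_eq_one {x z : X} (h : z ⤳ x) (hz : Order.coheight z = 1) :
    (RingHom.ker (Cyc.specMap x z h)).height = 1 := by
  have h1 := height_ker_specMap h
  rw [hz] at h1
  exact_mod_cast h1

theorem ker_specMap_injective {x z w : X} (hz : z ⤳ x) (hw : w ⤳ x)
    (h : RingHom.ker (Cyc.specMap x z hz) = RingHom.ker (Cyc.specMap x w hw)) : z = w := by
  obtain ⟨p, rfl⟩ : ∃ p, X.fromSpecStalk x p = z := Scheme.range_fromSpecStalk.ge hz
  obtain ⟨q, rfl⟩ : ∃ q, X.fromSpecStalk x q = w := Scheme.range_fromSpecStalk.ge hw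
  rw [ker_specMap_fromSpecStalk, ker_specMap_fromSpecStalk] at h
  rw [PrimeSpectrum.ext h]

theorem isDVR_of_coheight (hX : Pi1.IsNormalScheme X) {z : X} (hz : Order.coheight z = 1) :
    IsDiscreteValuationRing (X.presheaf.stalk z) := by
  haveI := (hX z).2
  have hd : ringKrullDim (X.presheaf.stalk z) = 1 := by
    rw [ringKrullDim_stalk_eq_coheight, hz]
    rfl
  have hnf : ¬ IsField (X.presheaf.stalk z) := fun h => by
    rw [ringKrullDim_eq_zero_of_isField h] at hd
    exact absurd hd (by decide)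
  by_contra h
  obtain ⟨b, hb, hb0⟩ := Submodule.exists_mem_ne_zero_of_ne_bot
    (mt IsLocalRing.isField_iff_maximalIdeal_eq.mpr hnf)
  haveI : Ring.KrullDimLE 1 (X.presheaf.stalk z) := Ring.krullDimLE_iff.2 hd.le
  have e : (IsIntegrallyClosed (X.presheaf.stalk z) ∧ ∃! P : Ideal (X.presheaf.stalk z), P ≠ ⊥ ∧ P.IsPrime) →
      IsDiscreteValuationRing (X.presheaf.stalk z) :=
    ((IsDiscreteValuationRing.TFAE (X.presheaf.stalk z) hnf).out 3 0).mp
  refine h (e
    ⟨inferInstance, existsUnique_of_exists_of_unique ⟨maximalIdeal _, ?_, inferInstance⟩ ?_⟩)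
  · exact mt IsLocalRing.isField_iff_maximalIdeal_eq.mpr hnf
  · rintro p q ⟨hp0, hp⟩ ⟨hq0, hq⟩
    rw [IsLocalRing.eq_maximalIdeal (Ring.krullDimLE_one_iff_of_noZeroDivisors.1 inferInstance p hp0 hp),
      IsLocalRing.eq_maximalIdeal (Ring.krullDimLE_one_iff_of_noZeroDivisors.1 inferInstance q hq0 hq)]

/-- The algebraic Hartogs lemma: a rational function without poles in codimension one is regular. -/
theorem exists_am_of_ord_nonneg (hX : Pi1.IsNormalScheme X) (x : X) (k : CDiv.KUnits X)
    (h : ∀ z : X, z ⤳ x → Order.coheight z = 1 → 0 ≤ Scheme.ord (k : X.functionField) z) :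
    ∃ a, am x a = k := by
  by_contra hx
  obtain ⟨y, hyx, ⟨-, hy⟩, hmax⟩ := exists_maximal_generisation
    (S := {z : X | z ⤳ x ∧ ¬ ∃ a, am z a = (k : X.functionField)}) (x := x) ⟨specializes_rfl, hx⟩
  have hyη : y ≠ genericPoint ↥X := by
    rintro rfl
    exact hy ⟨(k : X.functionField),
      congr($(TopCat.Presheaf.stalkSpecializes_refl X.presheaf (genericPoint ↥X)) (k : X.functionField))⟩
  refine hy ?_
  by_cases hd : (2 : ℕ∞) ≤ LocCoh.depth (X.presheaf.stalk y) (X.presheaf.stalk y)
  · exact mem_range_of_depth_two hd hyη _ fun z hz hne =>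
      by_contra fun he => hne (hmax z ⟨hz.trans hyx, he⟩ hz)
  · obtain ⟨hdvr, hc⟩ := isDVR_and_coheight_of_depth_eq_one hX (depth_eq_one_of_not_two_le hyη hd)
    exact (exists_am_iff_ord_nonneg hc k).2 (h y hyx hc)

theorem ord_units_mul {x : X} (f g : CDiv.KUnits X) :
    Scheme.ord ((f * g : CDiv.KUnits X) : X.functionField) x =
      Scheme.ord (f : X.functionField) x + Scheme.ord (g : X.functionField) x := by
  rw [Units.val_mul, Scheme.ord_mul f.ne_zero g.ne_zero]

theorem ord_units_div {x : X} (f g : CDiv.KUnits X) :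
    Scheme.ord ((f / g : CDiv.KUnits X) : X.functionField) x =
      Scheme.ord (f : X.functionField) x - Scheme.ord (g : X.functionField) x := by
  have h1 := ord_units_mul (x := x) (f / g) g
  rw [div_mul_cancel] at h1
  omega

theorem ord_eq_zero_of_isUnit {x : X} {a : X.presheaf.stalk x} (ha : IsUnit a) :
    Scheme.ord (am x a) x = 0 := by
  by_cases hx : Order.coheight x = 1
  · exact (ord_eq_zero_iff_isUnit hx ha.ne_zero).2 ha
  · simp [hx]

theorem ord_eq_of_germOf_eq {x : X} {f g : CDiv.KUnits X}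
    (h : CDiv.germOf X x f = CDiv.germOf X x g) :
    Scheme.ord (f : X.functionField) x = Scheme.ord (g : X.functionField) x := by
  obtain ⟨a, ha, hfg⟩ := germOf_eq_iff.1 h
  rw [← hfg, Scheme.ord_mul f.ne_zero ((map_ne_zero_iff _ (am_injective x)).2 ha.ne_zero)]
  show _ = _ + _
  rw [ord_eq_zero_of_isUnit ha, add_zero]

/-- The germ is determined by the orders at the generisations of codimension one. -/
theorem germOf_eq_of_ord (hX : Pi1.IsNormalScheme X) (x : X) (f g : CDiv.KUnits X)
    (h : ∀ z : X, z ⤳ x → Order.coheight z = 1 →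
      Scheme.ord (f : X.functionField) z = Scheme.ord (g : X.functionField) z) :
    CDiv.germOf X x f = CDiv.germOf X x g := by
  obtain ⟨a, ha⟩ := exists_am_of_ord_nonneg hX x (g / f) fun z hz hc => by
    rw [ord_units_div, h z hz hc, sub_self]
  obtain ⟨b, hb⟩ := exists_am_of_ord_nonneg hX x (f / g) fun z hz hc => by
    rw [ord_units_div, h z hz hc, sub_self]
  refine germOf_eq_iff.2 ⟨a, IsUnit.of_mul_eq_one b (am_injective x ?_), ?_⟩
  · rw [map_mul, ha, hb, map_one, ← Units.val_mul, div_mul_div_cancel, div_self', Units.val_one]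
  · rw [ha, ← Units.val_mul, mul_div_cancel]

/-- The points of codimension one in a closed proper subset are locally finite. -/
theorem finite_coheight_one {V : X.Opens} (hV : IsAffineOpen V) {Z : Set X} (hZ : IsClosed Z)
    (hη : genericPoint ↥X ∉ Z) : {z : X | z ∈ V ∧ z ∈ Z ∧ Order.coheight z = 1}.Finite := by
  refine (Groth.L22.Cyc.finite_maximal hV hZ).subset fun z hz => ⟨hz.1, hz.2.1, fun y hy hyz => ?_⟩
  obtain ⟨q, rfl⟩ : ∃ q, X.fromSpecStalk z q = y := Scheme.range_fromSpecStalk.ge hyz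
  haveI : Ring.KrullDimLE 1 (X.presheaf.stalk z) := krullDimLE_of_coheight_le hz.2.2.le
  rcases eq_or_ne q.asIdeal ⊥ with h0 | h0
  · exfalso
    obtain ⟨p, hp⟩ : ∃ p, X.fromSpecStalk z p = genericPoint ↥X :=
      Scheme.range_fromSpecStalk.ge ((genericPoint_spec ↥X).specializes trivial)
    have h2 := ((PrimeSpectrum.le_iff_specializes q p).1
      (show q.asIdeal ≤ p.asIdeal from h0 ▸ bot_le)).map (X.fromSpecStalk z).continuous
    rw [hp] at h2
    exact hη ((h2.antisymm ((genericPoint_spec ↥X).specializes trivial)).eq ▸ hy)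
  · rw [show q = IsLocalRing.closedPoint _ from PrimeSpectrum.ext (IsLocalRing.eq_maximalIdeal
      (Ring.krullDimLE_one_iff_of_noZeroDivisors.1 inferInstance _ h0 q.2)),
      Scheme.fromSpecStalk_closedPoint]

open Classical in
/-- Local equations for the prime divisor of `x₀`. -/
def IsEqn (x₀ x : X) (k : CDiv.KUnits X) : Prop :=
  ∀ z : X, z ⤳ x → Order.coheight z = 1 → Scheme.ord (k : X.functionField) z = if z = x₀ then 1 else 0

theorem exists_open_isEqn {x₀ x : X} {k : CDiv.KUnits X} (hk : IsEqn x₀ x k) :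
    ∃ U : X.Opens, x ∈ U ∧ ∀ y ∈ U, IsEqn x₀ y k := by
  classical
  obtain ⟨V, hV, hxV, -⟩ := exists_isAffineOpen_mem_and_subset (x := x) (U := ⊤) trivial
  let S : Set X := {z | z ∈ V ∧ Order.coheight z = 1 ∧
    Scheme.ord (k : X.functionField) z ≠ if z = x₀ then 1 else 0}
  have hS : S.Finite := by
    refine ((finite_coheight_one hV (isClosed_supp (CDiv.div k)) (supp_ne_genericPoint _)).union
      (Set.finite_singleton x₀)).subset fun z hz => ?_
    by_cases h : z = x₀
    · exact Or.inr h
    refine Or.inl ⟨hz.1, fun h1 => hz.2.2 ?_, hz.2.1⟩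
    rw [if_neg h]
    obtain ⟨a, hu, ha⟩ := germOf_eq_one_iff.1 h1
    rw [← ha]
    exact ord_eq_zero_of_isUnit hu
  have hC : IsClosed (⋃ z ∈ S, closure ({z} : Set X)) := hS.isClosed_biUnion fun z _ => isClosed_closure
  refine ⟨⟨(V : Set X) \ ⋃ z ∈ S, closure ({z} : Set X), V.2.sdiff hC⟩, ⟨hxV, ?_⟩, fun y hy z hz hc => ?_⟩
  · intro h
    obtain ⟨z, hz, hzx⟩ := Set.mem_iUnion₂.1 h
    exact hz.2.2 (hk z (specializes_iff_mem_closure.2 hzx) hz.2.1)
  · by_contra h
    exact hy.2 (Set.mem_iUnion₂.2 ⟨z, ⟨hz.mem_open V.2 hy.1, hc, h⟩, hz.mem_closure⟩)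

/-- In a factorial local ring there is an equation of a prime divisor. -/
theorem exists_isEqn (hX : Pi1.IsNormalScheme X) {x₀ : X} (hx₀ : Order.coheight x₀ = 1) (x : X)
    [UniqueFactorizationMonoid (X.presheaf.stalk x)] : ∃ k, IsEqn x₀ x k := by
  classical
  by_cases hsp : x₀ ⤳ x
  swap
  · refine ⟨1, fun z hz _ => ?_⟩
    rw [if_neg (show z ≠ x₀ from fun h => hsp (h ▸ hz)), Units.val_one, ← map_one (am z)]
    exact ord_eq_zero_of_isUnit isUnit_one
  haveI : (RingHom.ker (Cyc.specMap x x₀ hsp)).IsPrime := RingHom.ker_isPrime _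
  obtain ⟨a, ha⟩ := UniqueFactorizationMonoid.isPrincipal_of_height_eq_one (height_eq_one hsp hx₀)
  have ha0 : a ≠ 0 := by
    rintro rfl
    have h1 := height_eq_one hsp hx₀
    rw [ha, Submodule.span_zero_singleton, Ideal.height_bot] at h1
    exact zero_ne_one h1
  refine ⟨Units.mk0 (G₀ := X.functionField) (am x a) ((map_ne_zero_iff _ (am_injective x)).2 ha0), fun z hz hc => ?_⟩
  show Scheme.ord (am x a) z = _
  rw [← am_specializes hz a]
  split_ifs with hzx
  · subst hzx
    haveI := isDVR_of_coheight hX hc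
    haveI : Ring.KrullDimLE 1 (X.presheaf.stalk z) := krullDimLE_of_coheight_le hc.le
    have hm : IsLocalRing.maximalIdeal (X.presheaf.stalk z) =
        Ideal.span {X.presheaf.stalkSpecializes hz a} := by
      rw [← Groth.L22.Cyc.map_ker_specMap hsp, ha, ← Ideal.submodule_span_eq, Ideal.map_span,
        Set.image_singleton]
    have hirr : Irreducible (X.presheaf.stalkSpecializes hz a) :=
      (IsDiscreteValuationRing.irreducible_iff_uniformizer _).2 hm
    rw [Scheme.ord_eq_iff hc ((map_ne_zero_iff _ (am_injective z)).2 hirr.ne_zero)]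
    show Ring.ordFrac (X.presheaf.stalk z) (am z _) = _
    rw [Ring.ordFrac_eq_ord _ hirr.ne_zero, Ring.ordMonoidWithZeroHom_eq_coe _
      (mem_nonZeroDivisors_of_ne_zero hirr.ne_zero) (n := 1) (by rw [Ring.ord_of_irreducible hirr]; rfl)]
    rfl
  · refine ord_eq_zero_of_isUnit (by_contra fun hu => hzx (ker_specMap_injective hz hsp ?_))
    haveI : (RingHom.ker (Cyc.specMap x z hz)).IsPrime := RingHom.ker_isPrime _
    have hle : RingHom.ker (Cyc.specMap x x₀ hsp) ≤ RingHom.ker (Cyc.specMap x z hz) := by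
      rw [ha, Submodule.span_singleton_le_iff_mem]
      exact (IsLocalRing.residue_eq_zero_iff _).2 hu
    rcases hle.eq_or_lt with heq | hlt
    · exact heq.symm
    · have h1 := Ideal.height_strict_mono_of_isPrime hlt
      rw [height_eq_one hsp hx₀, height_eq_one hz hc] at h1
      exact absurd h1 (lt_irrefl _)

end Groth.L15.CDivLib
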