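import Groth.Prelude.Def_C1
import Groth.Agent.L15.CDivNormal
import Groth.Agent.L22.Cyc.Ord
import Groth.Agent.L03.Euler.Twist
import Groth.Agent.L20.ModStalk

/-! Orders of rational sections of invertible modules on integral schemes. -/

set_option autoImplicit false
set_option linter.style.haveILetI false

universe u

open CategoryTheory AlgebraicGeometry TopologicalSpace

noncomputable section

namespace Groth.L15.SecOrd

open Groth.L18.Frame (rs ro IsFrame)
open Groth.L15.CDivLib (am)

variable {X : Scheme.{u}} {L : X.Modules}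

theorem stalkSpecializes_smul (M : X.Modules) {x y : X} (h : y ⤳ x) (r : X.presheaf.stalk x)
    (m : M.presheaf.stalk x) :
    M.presheaf.stalkSpecializes h (r • m) =
      X.presheaf.stalkSpecializes h r • M.presheaf.stalkSpecializes h m := by
  obtain ⟨U, hU, a, rfl⟩ := TopCat.Presheaf.exists_germ_eq (F := X.presheaf) (x := x) r
  obtain ⟨V, hV, n, rfl⟩ := TopCat.Presheaf.exists_germ_eq (F := M.presheaf) (x := x) m
  have hx : x ∈ U ⊓ V := ⟨hU, hV⟩
  rw [← Groth.L20.ModStalk.germ_rs M (inf_le_right : U ⊓ V ≤ V) hx n,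
    ← TopCat.Presheaf.germ_res_apply X.presheaf (homOfLE (inf_le_left : U ⊓ V ≤ U)) x hx a,
    ← Groth.L20.ModStalk.germ_smul, TopCat.Presheaf.germ_stalkSpecializes_apply,
    TopCat.Presheaf.germ_stalkSpecializes_apply, TopCat.Presheaf.germ_stalkSpecializes_apply,
    Groth.L20.ModStalk.germ_smul]

/-- The germ of a frame spans the stalk. -/
theorem exists_smul_germ {U : X.Opens} {e : Γ(L, U)} (he : IsFrame L U e) {y : X} (hy : y ∈ U)
    (v : L.presheaf.stalk y) : ∃ r : X.presheaf.stalk y, r • L.presheaf.germ U y hy e = v := by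
  obtain ⟨V, hV, m, rfl⟩ := TopCat.Presheaf.exists_germ_eq (F := L.presheaf) (x := y) v
  have hVU : y ∈ V ⊓ U := ⟨hV, hy⟩
  obtain ⟨d, hd⟩ := he.exists_coeff (inf_le_right : V ⊓ U ≤ U) (rs L inf_le_left m)
  refine ⟨X.presheaf.germ _ y hVU d, ?_⟩
  rw [← Groth.L20.ModStalk.germ_rs L (inf_le_left : V ⊓ U ≤ V) hVU m, ← hd,
    Groth.L20.ModStalk.germ_smul, Groth.L20.ModStalk.germ_rs]

/-- The germ of a frame is a basis of the stalk. -/
theorem smul_germ_injective {U : X.Opens} {e : Γ(L, U)} (he : IsFrame L U e) {y : X} (hy : y ∈ U) :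
    Function.Injective fun r : X.presheaf.stalk y => r • L.presheaf.germ U y hy e := by
  intro r r' h
  obtain ⟨V, hV, a, rfl⟩ := TopCat.Presheaf.exists_germ_eq (F := X.presheaf) (x := y) r
  obtain ⟨V', hV', a', rfl⟩ := TopCat.Presheaf.exists_germ_eq (F := X.presheaf) (x := y) r'
  let W : X.Opens := V ⊓ V' ⊓ U
  have hW : y ∈ W := ⟨⟨hV, hV'⟩, hy⟩
  have h1 : ∀ {V₀ : X.Opens} (hle : W ≤ V₀) (c : Γ(X, V₀)),
      L.presheaf.germ W y hW (ro hle c • rs L inf_le_right e) =
        X.presheaf.germ V₀ y (hle hW) c • L.presheaf.germ U y hy e := fun hle c => by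
    rw [Groth.L20.ModStalk.germ_smul, Groth.L20.ModStalk.germ_rs, TopCat.Presheaf.germ_res_apply]
  obtain ⟨W', hyW', i₁, i₂, hW'⟩ := TopCat.Presheaf.germ_eq L.presheaf y hW hW
    (ro (inf_le_left.trans inf_le_left) a • rs L inf_le_right e)
    (ro (inf_le_left.trans inf_le_right) a' • rs L inf_le_right e)
    ((h1 (inf_le_left.trans inf_le_left) a).trans (h.trans (h1 (inf_le_left.trans inf_le_right) a').symm))
  have h2 : ro i₁.le (ro (inf_le_left.trans inf_le_left) a) = ro i₁.le (ro (inf_le_left.trans inf_le_right) a') := by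
    refine he.inj (i₁.le.trans inf_le_right) ?_
    rw [← Groth.L18.Frame.rs_rs L (inf_le_right : W ≤ U) i₁.le, ← Groth.L18.Frame.rs_smul,
      ← Groth.L18.Frame.rs_smul]
    exact hW'
  have h3 := congrArg (X.presheaf.germ W' y hyW') h2
  simp only [TopCat.Presheaf.germ_res_apply] at h3
  exact h3

variable [IsIntegral X]

theorem maximalIdeal_generic : IsLocalRing.maximalIdeal (X.presheaf.stalk (genericPoint ↥X)) = ⊥ :=
  IsLocalRing.isField_iff_maximalIdeal_eq.1 (Field.toIsField X.functionField)

theorem mk_bijective (L : X.Modules) :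
    Function.Bijective (Submodule.Quotient.mk : L.presheaf.stalk (genericPoint ↥X) → Cyc.secFibre L (genericPoint ↥X)) := by
  refine ⟨fun a b hab => ?_, Submodule.mkQ_surjective _⟩
  rw [Submodule.Quotient.eq, maximalIdeal_generic, Submodule.bot_smul, Submodule.mem_bot] at hab
  exact sub_eq_zero.1 hab

theorem ord_am [IsLocallyNoetherian X] {x : X} (hx : Order.coheight x = 1) {a : X.presheaf.stalk x} (ha : a ≠ 0) :
    Scheme.ord (am x a) x = ((Ring.ord (X.presheaf.stalk x) a).toNat : ℤ) := by
  haveI : Ring.KrullDimLE 1 (X.presheaf.stalk x) := krullDimLE_of_coheight_le hx.le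
  rw [Scheme.ord_eq_iff hx ((map_ne_zero_iff _ (Groth.L15.CDivLib.am_injective x)).2 ha)]
  refine (Ring.ordFrac_eq_ord (K := X.functionField) _ ha).trans ?_
  refine Ring.ordMonoidWithZeroHom_eq_coe _ (mem_nonZeroDivisors_of_ne_zero ha) ?_
  rw [ENat.natCast_toNat]
  exact Ring.ord_ne_top (mem_nonZeroDivisors_of_ne_zero ha)

/-- The order of a section along a point of codimension one is the order of its coefficient on a frame. -/
theorem secOrdAt_eq [IsLocallyNoetherian X] {x : X} (hx : Order.coheight x = 1) (h : genericPoint ↥X ⤳ x)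
    {U : X.Opens} {e : Γ(L, U)} (he : IsFrame L U e) (hxU : x ∈ U) (hηU : genericPoint ↥X ∈ U)
    (φ : X.functionField) (hφ : φ ≠ 0) :
    Cyc.secOrdAt L (genericPoint ↥X) x h
      (Submodule.Quotient.mk ((φ : X.presheaf.stalk (genericPoint ↥X)) • L.presheaf.germ U _ hηU e)) =
      Scheme.ord φ x := by
  classical
  haveI : Ring.KrullDimLE 1 (X.presheaf.stalk x) := krullDimLE_of_coheight_le hx.le
  have ht : ∃ t : L.presheaf.stalk x, Submodule.span (X.presheaf.stalk x) {t} = ⊤ :=
    ⟨L.presheaf.germ U x hxU e, Submodule.eq_top_iff'.2 fun v =>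
      Submodule.mem_span_singleton.2 (exists_smul_germ he hxU v)⟩
  obtain ⟨d, hd⟩ := exists_smul_germ he hxU (Classical.choose ht)
  obtain ⟨c, hc⟩ := Submodule.mem_span_singleton.1
    ((Classical.choose_spec ht).ge (Submodule.mem_top (x := L.presheaf.germ U x hxU e)))
  have hdu : IsUnit d := IsUnit.of_mul_eq_one c (smul_germ_injective he hxU
    (show (d * c) • L.presheaf.germ U x hxU e = (1 : X.presheaf.stalk x) • L.presheaf.germ U x hxU e by
      rw [mul_comm, mul_smul, hd, hc, one_smul]))
  have hd0 : am x d ≠ 0 := (map_ne_zero_iff _ (Groth.L15.CDivLib.am_injective x)).2 hdu.ne_zero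
  have hspec : L.presheaf.stalkSpecializes h (Classical.choose ht) =
      (am x d : X.presheaf.stalk (genericPoint ↥X)) • L.presheaf.germ U _ hηU e := by
    rw [← hd, stalkSpecializes_smul, TopCat.Presheaf.germ_stalkSpecializes_apply]
    rfl
  let ψ : X.functionField := φ * (am x d)⁻¹
  have hψ : ψ * am x d = φ := inv_mul_cancel_right₀ hd0 φ
  have hex : ∃ φ' : X.presheaf.stalk (genericPoint ↥X),
      (Submodule.Quotient.mk ((φ : X.presheaf.stalk (genericPoint ↥X)) • L.presheaf.germ U _ hηU e) :
        Cyc.secFibre L (genericPoint ↥X)) =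
      φ' • (Submodule.Quotient.mk ((L.presheaf.stalkSpecializes h) (Classical.choose ht)) :
          Cyc.secFibre L (genericPoint ↥X)) := by
    refine ⟨ψ, ?_⟩
    rw [← Submodule.Quotient.mk_smul, hspec, smul_smul]
    exact congrArg (fun c : X.presheaf.stalk (genericPoint ↥X) =>
      (Submodule.Quotient.mk (c • L.presheaf.germ U _ hηU e) : Cyc.secFibre L _)) hψ.symm
  rw [Cyc.secOrdAt, dif_pos ht, dif_pos hex]
  have h1 := (mk_bijective L).1 ((Classical.choose_spec hex).trans (Submodule.Quotient.mk_smul _ _ _).symm)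
  have h1' := h1.trans ((congrArg (fun v => Classical.choose hex • v) hspec).trans (smul_smul _ _ _))
  have h2 : (Classical.choose hex : X.functionField) = ψ := by
    have h3 : φ = (Classical.choose hex : X.functionField) * am x d :=
      smul_germ_injective he hηU h1'
    exact (mul_inv_cancel_right₀ hd0 (Classical.choose hex : X.functionField)).symm.trans
      (congrArg (fun c => c * (am x d)⁻¹) h3.symm)
  obtain ⟨a, b, hb, hab⟩ := IsFractionRing.div_surjective (A := X.presheaf.stalk x) (K := X.functionField) φ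
  have hb0 : b ≠ 0 := nonZeroDivisors.ne_zero hb
  have hbK : am x b ≠ 0 := (map_ne_zero_iff _ (Groth.L15.CDivLib.am_injective x)).2 hb0
  have ha : a ≠ 0 := by
    rintro rfl
    rw [map_zero, zero_div] at hab
    exact hφ hab.symm
  have h5 : X.residue (genericPoint ↥X) (Classical.choose hex) =
      Cyc.specMap x (genericPoint ↥X) h a / Cyc.specMap x (genericPoint ↥X) h (b * d) := by
    rw [show Classical.choose hex = _ from h2]
    show (X.residue _).hom (φ * (am x d)⁻¹ : X.functionField) = (X.residue _).hom (am x a) / (X.residue _).hom (am x (b * d))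
    rw [map_mul (am x), ← hab, ← map_div₀ (show X.functionField →+* X.residueField _ from (X.residue _).hom)]
    congr 1
    show am x a / am x b * (am x d)⁻¹ = _
    rw [← div_eq_mul_inv, div_div]
  rw [h5, Groth.L22.Cyc.ordAt_div x h ha (mul_ne_zero hb0 hdu.ne_zero),
    Ring.ord_mul_of_isUnit_right hdu, ← ord_am hx ha, ← ord_am hx hb0]
  have h6 := Scheme.ord_mul (X := X) (x := x) hφ hbK
  rw [show φ * am x b = am x a by rw [← hab]; exact div_mul_cancel₀ _ hbK] at h6
  change Scheme.ord (am x a) x = Scheme.ord φ x + Scheme.ord (am x b) x at h6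
  omega

/-- Every point has a frame of an invertible module, with the section expressed on it. -/
theorem exists_frame_coeff (hL : PicF.IsInvertible L) (x : X) (s : Cyc.secFibre L (genericPoint ↥X)) (hs : s ≠ 0) :
    ∃ (U : X.Opens) (e : Γ(L, U)) (φ : X.functionField) (hη : genericPoint ↥X ∈ U), IsFrame L U e ∧ x ∈ U ∧
      φ ≠ 0 ∧ s = Submodule.Quotient.mk ((φ : X.presheaf.stalk (genericPoint ↥X)) • L.presheaf.germ U _ hη e) := by
  obtain ⟨U, e, hxU, he⟩ := Groth.L18.Frame.exists_frame hL x
  have hη : genericPoint ↥X ∈ U := ((genericPoint_spec ↥X).specializes trivial).mem_open U.2 hxU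
  obtain ⟨v, rfl⟩ := Submodule.mkQ_surjective _ s
  obtain ⟨r, rfl⟩ := exists_smul_germ he hη v
  refine ⟨U, e, r, hη, he, hxU, fun h0 => hs ?_, rfl⟩
  rw [show r = 0 from h0, zero_smul, map_zero]

end Groth.L15.SecOrd
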