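import Groth.Agent.L07.FibrePd
import Groth.Agent.L20.FibreDescent
import Groth.Agent.L20.FibreFT
import Mathlib.RingTheory.Spectrum.Prime.FreeLocus
import Mathlib.RingTheory.Spectrum.Prime.Module
import Mathlib.RingTheory.LocalRing.Module
import Mathlib.Topology.Semicontinuity.Basic

/-! The projective dimension of the local fibres of a flat module is upper semicontinuous. -/

set_option autoImplicit false
set_option linter.style.haveILetI false
set_option maxSynthPendingDepth 3

universe u

open CategoryTheory CategoryTheory.Limits TensorProduct IsLocalRing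
open Groth.L07.SyzygyRes

namespace Groth.L15.FibrePdSemi

variable {A B : Type u} [CommRing A] [CommRing B] [Algebra A B] (q : Ideal B) [q.IsPrime]

/-- The local ring of the fibre. -/
abbrev D : Type u := Localization.AtPrime q ⧸ (q.under A).map (algebraMap A (Localization.AtPrime q))

theorem map_le : (q.under A).map (algebraMap A (Localization.AtPrime q)) ≤
    maximalIdeal (Localization.AtPrime q) :=
  Ideal.map_le_iff_le_comap.2 fun a ha => by
    rw [Ideal.mem_comap, IsScalarTower.algebraMap_apply A B (Localization.AtPrime q),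
      IsLocalization.AtPrime.to_map_mem_maximal_iff _ q]
    exact ha

instance nontrivial_D : Nontrivial (D (A := A) q) :=
  Ideal.Quotient.nontrivial_iff.2 fun h => (maximalIdeal.isMaximal _).ne_top (top_le_iff.1 (h ▸ map_le q))

instance isLocalRing_D : IsLocalRing (D (A := A) q) :=
  IsLocalRing.of_surjective' (Ideal.Quotient.mk _) Ideal.Quotient.mk_surjective

theorem isUnit_iff (b : B) : IsUnit (algebraMap B (D (A := A) q) b) ↔ b ∉ q := by
  rw [IsScalarTower.algebraMap_apply B (Localization.AtPrime q) (D (A := A) q), Ideal.Quotient.algebraMap_eq]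
  constructor
  · intro h hb
    obtain ⟨y, hy⟩ := h.exists_right_inv
    obtain ⟨y, rfl⟩ := Ideal.Quotient.mk_surjective y
    rw [← map_mul, ← map_one (Ideal.Quotient.mk ((q.under A).map (algebraMap A (Localization.AtPrime q)))),
      Ideal.Quotient.eq] at hy
    have h1 : (1 : Localization.AtPrime q) ∈ maximalIdeal _ := by
      have h2 := Ideal.sub_mem _ ((maximalIdeal _).mul_mem_right y
        ((IsLocalization.AtPrime.to_map_mem_maximal_iff _ q b).2 hb)) (map_le (A := A) q hy)
      simpa using h2
    exact (maximalIdeal.isMaximal _).ne_top ((Ideal.eq_top_iff_one _).2 h1)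
  · intro hb
    exact (IsLocalization.map_units (Localization.AtPrime q) (⟨b, hb⟩ : q.primeCompl)).map _

/-- The residue field of the base maps to the local ring of the fibre. -/
noncomputable def σ : (q.under A).ResidueField →ₐ[A] D (A := A) q :=
  let p := q.under A
  let g : A ⧸ p →+* D (A := A) q := Ideal.Quotient.lift p (algebraMap A _) fun a ha =>
    Ideal.Quotient.eq_zero_iff_mem.2 (Ideal.mem_map_of_mem _ ha)
  have hg : ∀ y : nonZeroDivisors (A ⧸ p), IsUnit (g y) := by
    rintro ⟨y, hy⟩
    obtain ⟨a, rfl⟩ := Ideal.Quotient.mk_surjective y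
    show IsUnit (g (Ideal.Quotient.mk p a))
    rw [Ideal.Quotient.lift_mk, IsScalarTower.algebraMap_apply A B (D (A := A) q), isUnit_iff]
    intro ha
    exact nonZeroDivisors.ne_zero hy (Ideal.Quotient.eq_zero_iff_mem.2 ha)
  { IsLocalization.lift (M := nonZeroDivisors (A ⧸ p)) (S := p.ResidueField) hg with
    commutes' := fun a => by
      show IsLocalization.lift hg (algebraMap A p.ResidueField a) = _
      rw [← Ideal.algebraMap_quotient_residueField_mk, IsLocalization.lift_eq, Ideal.Quotient.lift_mk] }

/-- The fibre ring maps to its local ring. -/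
noncomputable def θ : B ⊗[A] (q.under A).ResidueField →ₐ[B] D (A := A) q :=
  Algebra.TensorProduct.lift (Algebra.ofId B _) (σ q) fun _ _ => Commute.all _ _

noncomputable instance algC : Algebra (B ⊗[A] (q.under A).ResidueField) (D (A := A) q) := (θ q).toRingHom.toAlgebra

instance towerC : IsScalarTower B (B ⊗[A] (q.under A).ResidueField) (D (A := A) q) :=
  IsScalarTower.of_algebraMap_eq fun b => ((θ q).commutes b).symm

/-- The prime of the fibre ring. -/
noncomputable abbrev q' : Ideal (B ⊗[A] (q.under A).ResidueField) :=
  (maximalIdeal (D (A := A) q)).comap (algebraMap _ _)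

theorem comap_q' : (q' (A := A) q).comap (algebraMap B (B ⊗[A] (q.under A).ResidueField)) = q := by
  ext b
  rw [Ideal.mem_comap, Ideal.mem_comap, ← IsScalarTower.algebraMap_apply, IsLocalRing.mem_maximalIdeal,
    mem_nonunits_iff, isUnit_iff, not_not]

theorem exists_mul (c : B ⊗[A] (q.under A).ResidueField) : ∃ r : A, r ∉ q.under A ∧ ∃ b : B,
    algebraMap A _ r * c = b ⊗ₜ[A] (1 : (q.under A).ResidueField) := by
  induction c using TensorProduct.induction_on with
  | zero => exact ⟨1, fun h => (inferInstance : (q.under A).IsPrime).ne_top ((Ideal.eq_top_iff_one _).2 h), 0,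
      by rw [mul_zero, TensorProduct.zero_tmul]⟩
  | tmul b k =>
    obtain ⟨x, s, hx⟩ := IsLocalization.exists_mk'_eq (nonZeroDivisors (A ⧸ q.under A)) k
    obtain ⟨s', hs'⟩ := Ideal.Quotient.mk_surjective (s : A ⧸ q.under A)
    obtain ⟨x', hx'⟩ := Ideal.Quotient.mk_surjective x
    refine ⟨s', fun h => nonZeroDivisors.ne_zero s.2 (by rw [← hs']; exact Ideal.Quotient.eq_zero_iff_mem.2 h),
      x' • b, ?_⟩
    have hk : s' • k = algebraMap A _ x' := by
      rw [Algebra.smul_def, ← Ideal.algebraMap_quotient_residueField_mk, hs', ← hx,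
        IsLocalization.mk'_spec', ← hx', Ideal.algebraMap_quotient_residueField_mk]
    rw [← Algebra.smul_def, ← TensorProduct.tmul_smul, hk, Algebra.algebraMap_eq_smul_one, TensorProduct.smul_tmul]
  | add c d hc hd =>
    obtain ⟨r, hr, b, hb⟩ := hc
    obtain ⟨r', hr', b', hb'⟩ := hd
    refine ⟨r * r', fun h => ((inferInstance : (q.under A).IsPrime).mem_or_mem h).elim hr hr',
      r' • b + r • b', ?_⟩
    rw [TensorProduct.add_tmul, ← TensorProduct.smul_tmul', ← TensorProduct.smul_tmul', ← hb, ← hb',
      Algebra.smul_def, Algebra.smul_def, map_mul]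
    ring

instance isLocalization_D : IsLocalization.AtPrime (D (A := A) q) (q' (A := A) q) := by
  refine (isLocalization_iff _ _).2 ⟨?_, ?_, @fun x y hxy => ?_⟩
  · rintro ⟨c, hc⟩
    by_contra hn
    exact hc ((IsLocalRing.mem_maximalIdeal _).2 hn)
  · intro d
    obtain ⟨d, rfl⟩ := Ideal.Quotient.mk_surjective d
    obtain ⟨b, s, rfl⟩ := IsLocalization.exists_mk'_eq q.primeCompl d
    refine ⟨⟨algebraMap B _ b, ⟨algebraMap B _ (s : B), fun h => s.2 (by
      have := (SetLike.ext_iff.1 (comap_q' (A := A) q) (s : B)).1 h
      exact this)⟩⟩, ?_⟩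
    rw [← IsScalarTower.algebraMap_apply, ← IsScalarTower.algebraMap_apply,
      IsScalarTower.algebraMap_apply B (Localization.AtPrime q) (D (A := A) q),
      IsScalarTower.algebraMap_apply B (Localization.AtPrime q) (D (A := A) q), Ideal.Quotient.algebraMap_eq,
      ← map_mul, IsLocalization.mk'_spec]
  · obtain ⟨r, hr, b, hb⟩ := exists_mul q (x - y)
    have hb0 : algebraMap B (D (A := A) q) b = 0 := by
      have h1 := congrArg (algebraMap _ (D (A := A) q)) hb
      rw [map_mul, map_sub, hxy, sub_self, mul_zero] at h1
      rw [IsScalarTower.algebraMap_apply B (B ⊗[A] (q.under A).ResidueField) (D (A := A) q)]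
      exact h1.symm
    rw [IsScalarTower.algebraMap_apply B (Localization.AtPrime q) (D (A := A) q), Ideal.Quotient.algebraMap_eq,
      Ideal.Quotient.eq_zero_iff_mem, IsScalarTower.algebraMap_eq A B (Localization.AtPrime q), ← Ideal.map_map,
      IsLocalization.algebraMap_mem_map_algebraMap_iff q.primeCompl] at hb0
    obtain ⟨s, hs, hsb⟩ := hb0
    have hsb' : (s * b) ⊗ₜ[A] (1 : (q.under A).ResidueField) = 0 := by
      refine Submodule.span_induction (p := fun z _ => z ⊗ₜ[A] (1 : (q.under A).ResidueField) = (0 : B ⊗[A] _))
        ?_ ?_ ?_ ?_ hsb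
      · rintro z ⟨a, ha, rfl⟩
        rw [Algebra.algebraMap_eq_smul_one, TensorProduct.smul_tmul, ← Algebra.algebraMap_eq_smul_one,
          Ideal.algebraMap_residueField_eq_zero.2 ha, TensorProduct.tmul_zero]
      · exact TensorProduct.zero_tmul _ _
      · intro z w _ _ hz hw
        rw [TensorProduct.add_tmul, hz, hw, add_zero]
      · intro c z _ hz
        rw [← TensorProduct.smul_tmul', hz, smul_zero]
    refine ⟨⟨algebraMap B _ s * algebraMap A _ r, fun h => ?_⟩, ?_⟩
    · rcases (inferInstance : (q' (A := A) q).IsPrime).mem_or_mem h with h' | h'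
      · exact hs ((SetLike.ext_iff.1 (comap_q' (A := A) q) s).1 h')
      · rw [IsScalarTower.algebraMap_apply A B (B ⊗[A] (q.under A).ResidueField)] at h'
        exact hr ((SetLike.ext_iff.1 (comap_q' (A := A) q) _).1 h')
    · show algebraMap B _ s * algebraMap A _ r * x = algebraMap B _ s * algebraMap A _ r * y
      rw [← sub_eq_zero, ← mul_sub, mul_assoc, hb, ← hsb']
      show (s ⊗ₜ[A] (1 : (q.under A).ResidueField)) * _ = _
      rw [Algebra.TensorProduct.tmul_mul_tmul, one_mul]

variable [Algebra.FinitePresentation A B] [Module.Flat A B]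
  (M : Type u) [AddCommGroup M] [Module B M] [Module A M] [IsScalarTower A B M]
  [Module.FinitePresentation B M] [Module.Flat A M]

set_option maxHeartbeats 1000000 in
set_option synthInstance.maxHeartbeats 200000 in
theorem pdLT_iff_free (j : ℕ) :
    HasProjectiveDimensionLT (ModuleCat.of (D (A := A) q) (D (A := A) q ⊗[B] M)) (j + 1) ↔
      (⟨q, inferInstance⟩ : PrimeSpectrum B) ∈ Module.freeLocus B (syz A B M j).K := by
  let D₀ := D (A := A) q
  let C := B ⊗[A] (q.under A).ResidueField
  haveI : Module.Flat C D₀ := IsLocalization.flat D₀ (q' (A := A) q).primeCompl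
  have key : ∀ j t : ℕ, HasProjectiveDimensionLT (ModuleCat.of D₀ (D₀ ⊗[B] M)) (j + t + 1) ↔
      HasProjectiveDimensionLT (ModuleCat.of D₀ (D₀ ⊗[B] (syz A B M j).K)) (t + 1) := by
    intro j
    induction j with
    | zero => intro t; rw [Nat.zero_add]; rfl
    | succ j ih =>
      intro t
      rw [show j + 1 + t + 1 = j + (t + 1) + 1 by omega, ih (t + 1)]
      let f₀ := incl A (B := B) M j
      let f := f₀.baseChange D₀
      let g := (gen (syz A B M j)).baseChange D₀
      have hex : Function.Exact f g := by
        simp only [f, f₀, g, LinearMap.baseChange_eq_ltensor]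
        exact lTensor_exact D₀ (exact_incl j) (gen_surjective _)
      have hinj : Function.Injective f := by
        have h1 := baseChange_injective (A := A) (B := B) (κ := (q.under A).ResidueField) f₀ (gen (syz A B M j))
          (incl_injective j) (exact_incl j) (gen_surjective _)
        have h2 := Module.Flat.lTensor_preserves_injective_linearMap (M := D₀) (f₀.baseChange C) h1
        let e₁ := AlgebraTensorModule.cancelBaseChange B C D₀ D₀ (syz A B M (j + 1)).K
        let e₂ := AlgebraTensorModule.cancelBaseChange B C D₀ D₀ (X A (B := B) M j)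
        have hnat : ∀ z, e₂ ((f₀.baseChange C).lTensor D₀ z) = f (e₁ z) := by
          intro z
          induction z using TensorProduct.induction_on with
          | zero => simp
          | tmul d w =>
            induction w using TensorProduct.induction_on with
            | zero => simp
            | tmul c x => simp [e₁, e₂, f]
            | add a b ha hb => simp only [TensorProduct.tmul_add, map_add, ha, hb]
          | add a b ha hb => simp only [map_add, ha, hb]
        intro a b hab
        obtain ⟨a, rfl⟩ := e₁.surjective a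
        obtain ⟨b, rfl⟩ := e₁.surjective b
        rw [← hnat, ← hnat] at hab
        exact congrArg e₁ (h2 (e₂.injective hab))
      have hS : (ShortComplex.mk (ModuleCat.ofHom f) (ModuleCat.ofHom g)
          (ModuleCat.hom_ext (LinearMap.ext fun x => (hex _).mpr ⟨x, rfl⟩))).ShortExact :=
        { exact := (ShortComplex.moduleCat_exact_iff _).mpr fun x hx => (hex x).mp hx
          mono_f := (ModuleCat.mono_iff_injective _).mpr hinj
          epi_g := (ModuleCat.epi_iff_surjective _).mpr (by
            show Function.Surjective g
            simp only [g, LinearMap.baseChange_eq_ltensor]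
            exact LinearMap.lTensor_surjective D₀ (gen_surjective _)) }
      exact hS.hasProjectiveDimensionLT_X₃_iff t ((IsProjective.iff_projective _).mp
        (inferInstanceAs (Module.Projective D₀ (D₀ ⊗[B] (Fin (num (syz A B M j)) → B)))))
  rw [show j + 1 = j + 0 + 1 from rfl, key j 0, ← projective_iff_hasProjectiveDimensionLT_one,
    ← IsProjective.iff_projective]
  let N := (syz A B M j).K
  let Bq := Localization.AtPrime q
  constructor
  · intro hproj
    haveI : Module.Flat C (D₀ ⊗[B] N) := Module.Flat.trans C D₀ _
    haveI hflatC : Module.Flat C (Localization.AtPrime (q' (A := A) q) ⊗[B] N) :=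
      Module.Flat.of_linearEquiv (AlgebraTensorModule.congr
        (IsLocalization.algEquiv (q' (A := A) q).primeCompl (Localization.AtPrime (q' (A := A) q)) D₀).toLinearEquiv
        (LinearEquiv.refl B N))
    haveI : Module.Flat A (LocalizedModule q.primeCompl N) :=
      Groth.L20.FibreCrit.flat_localizedModule_of_flat (R := A) (S := B) (M := N) q.primeCompl
    letI : Algebra (q.under A).ResidueField C := Algebra.TensorProduct.rightAlgebra
    haveI : IsScalarTower A (q.under A).ResidueField C := Algebra.TensorProduct.right_isScalarTower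
    haveI : Algebra.IsPushout A (q.under A).ResidueField B C := TensorProduct.isPushout'
    haveI : Module.Flat B (LocalizedModule q.primeCompl N) :=
      Groth.L20.FibreCrit.flat_of_fibre (R := A) (S := B) (U := B) (M := N) (K := (q.under A).ResidueField)
        (B := C) (C := C) q (Ideal.ker_algebraMap_residueField _) (q' (A := A) q) (comap_q' q) hflatC
    haveI : Module.Flat Bq (LocalizedModule q.primeCompl N) :=
      (Module.flat_iff_of_isLocalization Bq q.primeCompl (LocalizedModule q.primeCompl N)).2 inferInstance
    rw [Module.mem_freeLocus]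
    exact Module.free_of_flat_of_isLocalRing
  · intro hfree
    rw [Module.mem_freeLocus_iff_tensor _ Bq] at hfree
    haveI : Module.Free Bq (Bq ⊗[B] N) := hfree
    exact Module.Projective.of_equiv (AlgebraTensorModule.cancelBaseChange B Bq D₀ D₀ N)

theorem subsingleton_iff :
    Subsingleton (D (A := A) q ⊗[B] M) ↔ (⟨q, inferInstance⟩ : PrimeSpectrum B) ∉ Module.support B M := by
  let Bq := Localization.AtPrime q
  let e := AlgebraTensorModule.cancelBaseChange B Bq (D (A := A) q) (D (A := A) q) M
  constructor
  · intro h
    rw [Module.mem_support_iff_nontrivial_residueField_tensorProduct, not_nontrivial_iff_subsingleton]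
    let φ : D (A := A) q →+* q.ResidueField := Ideal.Quotient.lift _ (residue Bq) fun x hx =>
      (residue_eq_zero_iff x).2 (map_le q hx)
    letI := φ.toAlgebra
    haveI : IsScalarTower B (D (A := A) q) q.ResidueField := IsScalarTower.of_algebraMap_eq fun b => rfl
    exact (AlgebraTensorModule.cancelBaseChange B (D (A := A) q) q.ResidueField q.ResidueField M).symm.toEquiv.subsingleton
  · intro h
    rw [Module.mem_support_iff, not_nontrivial_iff_subsingleton] at h
    haveI : Subsingleton (Bq ⊗[B] M) :=
      (IsLocalizedModule.isBaseChange q.primeCompl Bq (LocalizedModule.mkLinearMap q.primeCompl M)).equiv.toEquiv.subsingleton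
    exact e.symm.toEquiv.subsingleton

theorem main : UpperSemicontinuous fun P : PrimeSpectrum B =>
    projectiveDimension (ModuleCat.of (D (A := A) P.asIdeal) (D (A := A) P.asIdeal ⊗[B] M)) := by
  have hopen : ∀ n : ℕ, IsOpen {P : PrimeSpectrum B |
      HasProjectiveDimensionLT (ModuleCat.of (D (A := A) P.asIdeal) (D (A := A) P.asIdeal ⊗[B] M)) n} := by
    intro n
    cases n with
    | zero =>
      convert (Module.isClosed_support (R := B) (M := M)).isOpen_compl using 1
      ext P
      rw [Set.mem_setOf_eq, hasProjectiveDimensionLT_zero_iff_isZero, ModuleCat.isZero_iff_subsingleton]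
      exact subsingleton_iff P.asIdeal M
    | succ j =>
      convert Module.isOpen_freeLocus (R := B) (M := (syz A B M j).K) using 1
      ext P
      exact pdLT_iff_free P.asIdeal M j
  intro P y hy
  obtain ⟨n, hn, hny⟩ : ∃ n : ℕ, HasProjectiveDimensionLT
      (ModuleCat.of (D (A := A) P.asIdeal) (D (A := A) P.asIdeal ⊗[B] M)) n ∧
      ∀ Q : PrimeSpectrum B, HasProjectiveDimensionLT
        (ModuleCat.of (D (A := A) Q.asIdeal) (D (A := A) Q.asIdeal ⊗[B] M)) n →
        projectiveDimension (ModuleCat.of (D (A := A) Q.asIdeal) (D (A := A) Q.asIdeal ⊗[B] M)) < y := by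
    dsimp only at hy
    induction y with
    | bot => exact absurd hy not_lt_bot
    | coe z =>
      induction z using ENat.recTopCoe with
      | top =>
        obtain ⟨n, hn⟩ := (projectiveDimension_ne_top_iff _).1 hy.ne
        exact ⟨n + 1, hn, fun Q hQ => lt_of_lt_of_le (projectiveDimension_lt_iff.2 hQ) le_top⟩
      | coe m => exact ⟨m, projectiveDimension_lt_iff.1 hy, fun Q hQ => projectiveDimension_lt_iff.2 hQ⟩
  exact Filter.mem_of_superset ((hopen n).mem_nhds hn) hny

end Groth.L15.FibrePdSemi
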