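import Mathlib.RingTheory.Flat.Equalizer
import Mathlib.RingTheory.Flat.Basic
import Mathlib.RingTheory.Localization.BaseChange
import Mathlib.RingTheory.Nakayama
import Mathlib.RingTheory.Flat.Tensor
import Mathlib.RingTheory.LocalRing.MaximalIdeal.Basic
import Mathlib.RingTheory.Noetherian.Basic
import Mathlib.LinearAlgebra.TensorProduct.Tower
import Mathlib.Tactic.LinearCombination

/-! Flatness and quotients by nonzerodivisors. -/

set_option autoImplicit false

universe u

open scoped TensorProduct
open TensorProduct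

namespace Groth.L15.CartierFlat

variable {A C : Type u} [CommRing A] [CommRing C] [Algebra A C] {h : C}

/-- Multiplication by `h` is injective on `C ⊗ P` when `h` is a nonzerodivisor with flat quotient. -/
theorem injective_smul_tensor (hh : h ∈ nonZeroDivisors C) [Module.Flat A (C ⧸ Ideal.span {h})]
    (P : Type u) [AddCommGroup P] [Module A P] :
    Function.Injective fun z : C ⊗[A] P => h • z := by
  let g : C →ₗ[A] C := LinearMap.mulLeft A h
  let f : C →ₗ[A] C ⧸ Ideal.span {h} := (Submodule.mkQ (Ideal.span {h})).restrictScalars A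
  have hg : Function.Injective g := fun a b hab => (mul_cancel_left_mem_nonZeroDivisors hh).1 hab
  have hex : Function.Exact g f := by
    intro c
    show Submodule.Quotient.mk c = 0 ↔ _
    rw [Submodule.Quotient.mk_eq_zero, Ideal.mem_span_singleton']
    exact ⟨fun ⟨a, ha⟩ => ⟨a, by show h * a = c; rw [mul_comm, ha]⟩,
      fun ⟨a, ha⟩ => ⟨a, by rw [mul_comm]; exact ha⟩⟩
  have h1 := LinearMap.lTensor_injective_of_exact_of_flat f (Submodule.mkQ_surjective _) g hg hex P
  have h2 : ∀ z : C ⊗[A] P, g.rTensor P z = h • z := by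
    intro z
    induction z using TensorProduct.induction_on with
    | zero => simp
    | tmul c p => rfl
    | add a b ha hb => rw [map_add, ha, hb, smul_add]
  exact (funext h2 : (g.rTensor P : C ⊗[A] P → C ⊗[A] P) = _) ▸
    (LinearMap.lTensor_inj_iff_rTensor_inj P g).1 h1

/-- Elements of the kernel of `C ⊗ J → C` are killed by something outside a prime with flat local ring. -/
theorem exists_smul_eq_zero (J : Ideal A) (q : Ideal C) [q.IsPrime]
    [Module.Flat A (LocalizedModule q.primeCompl C)] (z : C ⊗[A] J) (hz : J.subtype.lTensor C z = 0) :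
    ∃ t, t ∉ q ∧ t • z = 0 := by
  let Cq := LocalizedModule q.primeCompl C
  let ι : C →ₗ[A] Cq := (LocalizedModule.mkLinearMap q.primeCompl C).restrictScalars A
  have h1 : ι.rTensor J z = 0 := by
    refine Module.Flat.lTensor_preserves_injective_linearMap (M := Cq) J.subtype Subtype.val_injective ?_
    rw [map_zero, ← LinearMap.comp_apply, LinearMap.lTensor_comp_rTensor, ← LinearMap.rTensor_comp_lTensor,
      LinearMap.comp_apply, hz, map_zero]
  have h2 : ∀ w : C ⊗[A] J,
      TensorProduct.AlgebraTensorModule.rTensor A J (LocalizedModule.mkLinearMap q.primeCompl C) w =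
        ι.rTensor J w := fun w => by
    induction w using TensorProduct.induction_on with
    | zero => simp
    | tmul c p => rfl
    | add a b ha hb => rw [map_add, map_add, ha, hb]
  haveI : IsLocalizedModule q.primeCompl
      (TensorProduct.AlgebraTensorModule.rTensor A J (LocalizedModule.mkLinearMap q.primeCompl C)) :=
    inferInstance
  obtain ⟨t, ht⟩ := (IsLocalizedModule.eq_zero_iff q.primeCompl
    (TensorProduct.AlgebraTensorModule.rTensor A J (LocalizedModule.mkLinearMap q.primeCompl C))).1
    ((h2 z).trans h1)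
  exact ⟨t, t.2, ht⟩

/-- Flatness from flatness off `V(h)` and flatness of the quotient. -/
theorem flat_of_flat_off (hh : h ∈ nonZeroDivisors C) [Module.Flat A (C ⧸ Ideal.span {h})]
    (hoff : ∀ (q : Ideal C) [q.IsPrime], h ∉ q → Module.Flat A (LocalizedModule q.primeCompl C)) :
    Module.Flat A C := by
  rw [Module.Flat.iff_lTensor_injective']
  intro J
  rw [injective_iff_map_eq_zero]
  intro z hz
  let K : Ideal C := LinearMap.ker (LinearMap.toSpanSingleton C (C ⊗[A] J) z)
  have hrad : h ∈ K.radical := by
    rw [Ideal.radical_eq_sInf, Submodule.mem_sInf]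
    intro q ⟨hKq, hq⟩
    haveI : Ideal.IsPrime q := hq
    by_contra hhq
    haveI := hoff q hhq
    obtain ⟨t, ht, htz⟩ := exists_smul_eq_zero J q z hz
    exact ht (hKq (LinearMap.mem_ker.2 htz))
  obtain ⟨n, hn⟩ := hrad
  have hn' : h ^ n • z = 0 := LinearMap.mem_ker.1 hn
  clear hn
  induction n with
  | zero => simpa using hn'
  | succ n ih =>
    refine ih (injective_smul_tensor hh J ?_)
    show h • h ^ n • z = h • (0 : C ⊗[A] J)
    rw [smul_smul, ← pow_succ', hn', smul_zero]

/-- Flatness of a Noetherian local ring with flat quotient by a regular element. -/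
theorem flat_of_flat_quotient [IsLocalRing C] [IsNoetherianRing C] (hh : h ∈ nonZeroDivisors C)
    (hmem : h ∈ IsLocalRing.maximalIdeal C) [Module.Flat A (C ⧸ Ideal.span {h})] :
    Module.Flat A C := by
  rw [Module.Flat.iff_lTensor_injective]
  intro J hJ
  haveI : Module.Finite A J := Module.Finite.iff_fg.mpr hJ
  let φ : C ⊗[A] J →ₗ[C] C ⊗[A] A := TensorProduct.AlgebraTensorModule.lTensor C C J.subtype
  suffices hK : LinearMap.ker φ = ⊥ by
    intro x y hxy
    exact (LinearMap.ker_eq_bot.1 hK) hxy
  refine Submodule.eq_bot_of_le_smul_of_le_jacobson_bot (Ideal.span {h}) _ (IsNoetherian.noetherian _)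
    (fun z hz => ?_) ?_
  · rw [LinearMap.mem_ker] at hz
    let f : C →ₗ[A] C ⧸ Ideal.span {h} := (Submodule.mkQ (Ideal.span {h})).restrictScalars A
    have h0 : f.rTensor J z = 0 := by
      refine Module.Flat.lTensor_preserves_injective_linearMap (M := C ⧸ Ideal.span {h}) J.subtype
        Subtype.val_injective ?_
      rw [map_zero, ← LinearMap.comp_apply, LinearMap.lTensor_comp_rTensor, ← LinearMap.rTensor_comp_lTensor,
        LinearMap.comp_apply, show J.subtype.lTensor C z = 0 from hz, map_zero]
    have hex : Function.Exact (LinearMap.mulLeft A h) f := by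
      intro c
      show Submodule.Quotient.mk c = 0 ↔ _
      rw [Submodule.Quotient.mk_eq_zero, Ideal.mem_span_singleton']
      exact ⟨fun ⟨a, ha⟩ => ⟨a, by show h * a = c; rw [mul_comm, ha]⟩,
        fun ⟨a, ha⟩ => ⟨a, by rw [mul_comm]; exact ha⟩⟩
    obtain ⟨w, hw⟩ := (rTensor_exact J hex (Submodule.mkQ_surjective _) z).1 h0
    have hw' : z = h • w := by
      rw [← hw]
      clear hw
      induction w using TensorProduct.induction_on with
      | zero => simp
      | tmul c p => rfl
      | add a b ha hb => rw [map_add, ha, hb, smul_add]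
    have hwK : w ∈ LinearMap.ker φ := by
      rw [LinearMap.mem_ker]
      refine injective_smul_tensor hh A ?_
      show h • φ w = h • (0 : C ⊗[A] A)
      rw [← map_smul, ← hw', hz, smul_zero]
    exact hw' ▸ Submodule.smul_mem_smul (Ideal.mem_span_singleton_self h) hwK
  · rw [IsLocalRing.jacobson_eq_maximalIdeal ⊥ bot_ne_top, Ideal.span_singleton_le_iff_mem]
    exact hmem

/-- The kernel of a surjection of flat quotients is flat. -/
theorem flat_quot_of_mul {a b : C} (ha : a ∈ nonZeroDivisors C)
    [Module.Flat A (C ⧸ Ideal.span {a})] [Module.Flat A (C ⧸ Ideal.span {a * b})] :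
    Module.Flat A (C ⧸ Ideal.span {b}) := by
  have hle : Ideal.span {a * b} ≤ Ideal.span {a} :=
    Ideal.span_singleton_le_span_singleton.2 (dvd_mul_right a b)
  let φ : (C ⧸ Ideal.span {b}) →ₗ[C] C ⧸ Ideal.span {a * b} :=
    Submodule.mapQ _ _ (LinearMap.mulLeft C a) (fun x hx => by
      obtain ⟨c, rfl⟩ := Ideal.mem_span_singleton'.1 hx
      exact Ideal.mem_span_singleton'.2 ⟨c, by simp; ring⟩)
  let ψ : (C ⧸ Ideal.span {a * b}) →ₗ[C] C ⧸ Ideal.span {a} := Submodule.factor hle
  have hφ : Function.Injective φ := by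
    rw [injective_iff_map_eq_zero]
    intro z hz
    obtain ⟨z, rfl⟩ := Submodule.Quotient.mk_surjective _ z
    rw [Submodule.mapQ_apply, Submodule.Quotient.mk_eq_zero, LinearMap.mulLeft_apply,
      Ideal.mem_span_singleton'] at hz
    obtain ⟨c, hc⟩ := hz
    rw [Submodule.Quotient.mk_eq_zero, Ideal.mem_span_singleton']
    exact ⟨c, (mul_cancel_left_mem_nonZeroDivisors ha).1 (by rw [← hc]; ring)⟩
  have hex : Function.Exact φ ψ := by
    intro z
    obtain ⟨z, rfl⟩ := Submodule.Quotient.mk_surjective _ z
    have hψ : ψ (Submodule.Quotient.mk z) = Submodule.Quotient.mk z := rfl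
    rw [hψ, Submodule.Quotient.mk_eq_zero, Ideal.mem_span_singleton']
    constructor
    · rintro ⟨c, rfl⟩
      refine ⟨Submodule.Quotient.mk c, ?_⟩
      change Submodule.Quotient.mk (a * c) = Submodule.Quotient.mk (c * a)
      rw [mul_comm a c]
    · rintro ⟨y, hy⟩
      obtain ⟨y, rfl⟩ := Submodule.Quotient.mk_surjective _ y
      rw [Submodule.mapQ_apply, Submodule.Quotient.eq, LinearMap.mulLeft_apply,
        Ideal.mem_span_singleton'] at hy
      obtain ⟨c, hc⟩ := hy
      exact ⟨y - c * b, by linear_combination -hc⟩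
  rw [Module.Flat.iff_lTensor_injective']
  intro J
  have h1 := LinearMap.lTensor_injective_of_exact_of_flat (ψ.restrictScalars A)
    (Submodule.factor_surjective hle) (φ.restrictScalars A) hφ hex J
  rw [LinearMap.lTensor_inj_iff_rTensor_inj] at h1
  have h2 := Module.Flat.lTensor_preserves_injective_linearMap (M := C ⧸ Ideal.span {a * b})
    J.subtype Subtype.val_injective
  refine Function.Injective.of_comp (f := (φ.restrictScalars A).rTensor A) ?_
  rw [← LinearMap.coe_comp, LinearMap.rTensor_comp_lTensor, ← LinearMap.lTensor_comp_rTensor,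
    LinearMap.coe_comp]
  exact h2.comp h1

end Groth.L15.CartierFlat
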