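import Groth.Agent.L15.FittSheaf

/-! Free presentations near a point and Fitting ideals. -/

set_option autoImplicit false
set_option linter.style.haveILetI false
set_option backward.isDefEq.respectTransparency.types false
set_option backward.isDefEq.respectTransparency false

universe u

open CategoryTheory CategoryTheory.Limits AlgebraicGeometry TopologicalSpace Groth.L19.PullChart
open scoped TensorProduct

noncomputable section

namespace Groth.L15.FittSheaf

variable {X : Scheme.{u}} (F : X.Modules) [Coh.IsQCoh F]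

/-- A surjection `Γ(X, W)^r → Γ(F, W)` gives an epimorphism from the free module near every point of `W`;
a bijection gives an isomorphism. -/
theorem exists_free_hom_of_sections {W : X.Opens} (hW : IsAffineOpen W) {r : ℕ}
    (φ : (ULift.{u} (Fin r) →₀ Γ(X, W)) →ₗ[Γ(X, W)] Γ(F, W)) (hφ : Function.Surjective φ) :
    ∃ π : FlatMod.freeMod (hW.fromSpec.opensRange : Scheme.{u}) r ⟶ F.restrict hW.fromSpec.opensRange.ι,
      Epi π ∧ (Function.Injective φ → IsIso π) := by
  haveI : (F.restrict hW.fromSpec).IsQuasicoherent := Scheme.Modules.isQuasicoherent_restrictFunctor _ F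
  haveI : IsIso (F.restrict hW.fromSpec).fromTildeΓ :=
    Scheme.Modules.isIso_fromTildeΓ_of_isQuasicoherent _
  obtain ⟨a⟩ := Groth.L15.CohFlat.exists_sectionsEquiv F hW
  let k := hW.fromSpec
  let α : ModuleCat.of Γ(X, W) (ULift.{u} (Fin r) →₀ Γ(X, W)) ⟶
      (moduleSpecΓFunctor (R := Γ(X, W))).obj (F.restrict hW.fromSpec) :=
    ModuleCat.ofHom (Y := Γ(F, W)) φ ≫ a.toModuleIso.inv
  haveI : Epi (ModuleCat.ofHom (Y := Γ(F, W)) φ) := (ModuleCat.epi_iff_surjective _).2 hφ
  haveI : Epi α := inferInstance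
  haveI : (tilde.functor Γ(X, W)).PreservesEpimorphisms := inferInstance
  let π₀ : FlatMod.freeMod (Spec Γ(X, W)) r ⟶ F.restrict k :=
    (freeTildeIso Γ(X, W) r).inv ≫ (tilde.functor Γ(X, W)).map α ≫ (F.restrict k).fromTildeΓ
  haveI : Epi π₀ := inferInstance
  let c : F.restrict k.opensRange.ι ≅ (Scheme.Modules.pullback k.isoOpensRange.inv).obj (F.restrict k) :=
    (Scheme.Modules.restrictFunctorIsoPullback _).app _ ≪≫
    (Scheme.Modules.pullbackCongr k.isoOpensRange_inv_comp.symm).app F ≪≫
    ((Scheme.Modules.pullbackComp k.isoOpensRange.inv k).app F).symm ≪≫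
    (Scheme.Modules.pullback k.isoOpensRange.inv).mapIso
      ((Scheme.Modules.restrictFunctorIsoPullback k).app F).symm
  let π : FlatMod.freeMod (k.opensRange : Scheme.{u}) r ⟶ F.restrict k.opensRange.ι :=
    (Groth.L29.LocFree.pullbackFreeIso k.isoOpensRange.inv r).inv ≫
      (Scheme.Modules.pullback k.isoOpensRange.inv).map π₀ ≫ c.inv
  haveI : (Scheme.Modules.pullback k.isoOpensRange.inv).PreservesEpimorphisms :=
    Functor.preservesEpimorphisms_of_adjunction (Scheme.Modules.pullbackPushforwardAdjunction _)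
  refine ⟨π, inferInstance, fun hinj => ?_⟩
  haveI : IsIso (ModuleCat.ofHom (Y := Γ(F, W)) φ) := (ConcreteCategory.isIso_iff_bijective _).2 ⟨hinj, hφ⟩
  haveI : IsIso α := inferInstance
  infer_instance

/-- An epimorphism from a free module gives generators of the sections on smaller affines;
an isomorphism gives a bijection. -/
theorem exists_sections_of_free_hom {U : X.Opens} {r : ℕ}
    (π : FlatMod.freeMod (U : Scheme.{u}) r ⟶ F.restrict U.ι) [Epi π] {W : X.Opens} (hW : IsAffineOpen W)
    (hWU : W ≤ U) :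
    ∃ φ : (ULift.{u} (Fin r) →₀ Γ(X, W)) →ₗ[Γ(X, W)] Γ(F, W), Function.Surjective φ ∧
      (IsIso π → Function.Injective φ) := by
  haveI : (F.restrict hW.fromSpec).IsQuasicoherent := Scheme.Modules.isQuasicoherent_restrictFunctor _ F
  haveI : IsIso (F.restrict hW.fromSpec).fromTildeΓ :=
    Scheme.Modules.isIso_fromTildeΓ_of_isQuasicoherent _
  obtain ⟨a⟩ := Groth.L15.CohFlat.exists_sectionsEquiv F hW
  let k := hW.fromSpec
  let l : Spec Γ(X, W) ⟶ (U : Scheme.{u}) :=
    IsOpenImmersion.lift U.ι k (by rw [Scheme.Opens.range_ι, hW.range_fromSpec]; exact hWU)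
  have hl : l ≫ U.ι = k := IsOpenImmersion.lift_fac _ _ _
  let c : (Scheme.Modules.pullback l).obj (F.restrict U.ι) ≅ F.restrict k :=
    (Scheme.Modules.pullback l).mapIso ((Scheme.Modules.restrictFunctorIsoPullback U.ι).app F) ≪≫
      (Scheme.Modules.pullbackComp l U.ι).app F ≪≫ (Scheme.Modules.pullbackCongr hl).app F ≪≫
      ((Scheme.Modules.restrictFunctorIsoPullback k).app F).symm
  haveI : (Scheme.Modules.pullback l).PreservesEpimorphisms :=
    Functor.preservesEpimorphisms_of_adjunction (Scheme.Modules.pullbackPushforwardAdjunction _)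
  let β : tilde (ModuleCat.of Γ(X, W) (ULift.{u} (Fin r) →₀ Γ(X, W))) ⟶
      tilde ((moduleSpecΓFunctor (R := Γ(X, W))).obj (F.restrict k)) :=
    (freeTildeIso Γ(X, W) r).hom ≫ (Groth.L29.LocFree.pullbackFreeIso l r).inv ≫
      (Scheme.Modules.pullback l).map π ≫ c.hom ≫ inv (F.restrict k).fromTildeΓ
  haveI : Epi β := inferInstance
  let α := (tilde.functor Γ(X, W)).preimage β
  have hα : (tilde.functor Γ(X, W)).map α = β := (tilde.functor Γ(X, W)).map_preimage β
  haveI : Epi α := (tilde.functor Γ(X, W)).epi_of_epi_map (by rw [hα]; infer_instance)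
  refine ⟨a.toLinearMap ∘ₗ α.hom, a.surjective.comp ((ModuleCat.epi_iff_surjective _).1 inferInstance),
    fun hπ => ?_⟩
  haveI : IsIso β := inferInstance
  haveI : IsIso ((tilde.functor Γ(X, W)).map α) := by rw [hα]; infer_instance
  haveI : IsIso α := isIso_of_fully_faithful (tilde.functor Γ(X, W)) α
  exact a.injective.comp ((ConcreteCategory.isIso_iff_bijective α).1 inferInstance).1

/-- Generators near a point outside the Fitting support. -/
theorem exists_gens_of_notMem_support (hft : CohB1.IsFT F) {r : ℕ} {x : X}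
    (h : x ∉ (Fitt.sheafIdeal F r).support) :
    ∃ (W : X.Opens) (_ : IsAffineOpen W) (_ : x ∈ W)
      (φ : (ULift.{u} (Fin r) →₀ Γ(X, W)) →ₗ[Γ(X, W)] Γ(F, W)), Function.Surjective φ := by
  classical
  obtain ⟨_, ⟨V, hV, rfl⟩, hxV, -⟩ :=
    X.isBasis_affineOpens.exists_subset_of_mem_open (Set.mem_univ x) isOpen_univ
  replace hV : IsAffineOpen V := hV
  haveI := Groth.L20.ModStalk.finite_sections F ⟨inferInstance, hft⟩ hV
  obtain ⟨n, y, z, e, hy, hz, hp⟩ := Groth.L13.Fitting.exists_minor_notMem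
    ((notMem_support_iff F hft r (U := ⟨V, hV⟩) hxV).1 h)
  set d := Groth.L13.Fitting.minor z e
  have hxW : x ∈ X.basicOpen d := by
    show (⟨x, hxV⟩ : V).1 ∈ X.basicOpen d
    rw [← hV.fromSpec_primeIdealOf ⟨x, hxV⟩]
    show hV.primeIdealOf ⟨x, hxV⟩ ∈ hV.fromSpec ⁻¹ᵁ X.basicOpen d
    rw [hV.fromSpec_preimage_basicOpen]
    exact hp
  letI : Algebra Γ(X, V) Γ(X, X.basicOpen d) := (X.presheaf.map (homOfLE (X.basicOpen_le d)).op).hom.toAlgebra
  haveI : IsLocalization.Away d Γ(X, X.basicOpen d) := hV.isLocalization_basicOpen d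
  letI := Module.compHom Γ(F, X.basicOpen d) (X.presheaf.map (homOfLE (X.basicOpen_le d)).op).hom
  haveI : IsScalarTower Γ(X, V) Γ(X, X.basicOpen d) Γ(F, X.basicOpen d) :=
    IsScalarTower.of_algebraMap_smul fun _ _ => rfl
  haveI := Groth.L20.ModStalk.isLocalizedModule_res F hV d
  let e' := (IsLocalizedModule.isBaseChange (Submonoid.powers d) Γ(X, X.basicOpen d)
    ({ toFun := fun s => Groth.L18.Frame.rs F (X.basicOpen_le d) s
       map_add' := fun a b => map_add _ a b
       map_smul' := fun a s => Groth.L18.Frame.rs_smul F (X.basicOpen_le d) a s } :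
      Γ(F, V) →ₗ[Γ(X, V)] Γ(F, X.basicOpen d))).equiv
  obtain ⟨g, hg⟩ := Groth.L13.Fitting.gens_equiv e'
    (Groth.L13.Fitting.gens_baseChange_of_isUnit hy hz Γ(X, X.basicOpen d)
      (IsLocalization.Away.algebraMap_isUnit d))
  refine ⟨X.basicOpen d, hV.basicOpen d, hxW, Finsupp.linearCombination _ fun i => g i.down, ?_⟩
  rw [← LinearMap.range_eq_top, Finsupp.range_linearCombination]
  refine Eq.trans (congrArg (Submodule.span _) ?_) hg
  exact Equiv.ulift.surjective.range_comp g

end Groth.L15.FittSheaf
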