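import Groth.Agent.L15.CohFlat
import Groth.Agent.L13.Fitting.LocFree
import Groth.Agent.L19.PullChart
import Groth.Prelude.Def_Fitting
import Mathlib.RingTheory.Localization.BaseChange

/-! Affine values of Fitting ideal sheaves; sections of pullbacks on affine opens. -/

set_option autoImplicit false
set_option linter.style.haveILetI false
set_option backward.isDefEq.respectTransparency.types false
set_option backward.isDefEq.respectTransparency false

universe u

open CategoryTheory AlgebraicGeometry TopologicalSpace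
open scoped TensorProduct

noncomputable section

namespace Groth.L15.FittSheaf

variable {X : Scheme.{u}} (F : X.Modules) [Coh.IsQCoh F]

theorem ideal_basicOpen (hft : CohB1.IsFT F) (V : X.affineOpens) (g : Γ(X, V.1)) (r : ℕ) :
    Fitt.ideal Γ(X, X.basicOpen g) Γ(F, X.basicOpen g) r =
      (Fitt.ideal Γ(X, V.1) Γ(F, V.1) r).map (X.presheaf.map (homOfLE (X.basicOpen_le g)).op).hom := by
  haveI := Groth.L20.ModStalk.finite_sections F ⟨inferInstance, hft⟩ V.2
  letI : Algebra Γ(X, V.1) Γ(X, X.basicOpen g) := (X.presheaf.map (homOfLE (X.basicOpen_le g)).op).hom.toAlgebra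
  haveI : IsLocalization.Away g Γ(X, X.basicOpen g) := V.2.isLocalization_basicOpen g
  letI := Module.compHom Γ(F, X.basicOpen g) (X.presheaf.map (homOfLE (X.basicOpen_le g)).op).hom
  haveI : IsScalarTower Γ(X, V.1) Γ(X, X.basicOpen g) Γ(F, X.basicOpen g) :=
    IsScalarTower.of_algebraMap_smul fun _ _ => rfl
  haveI := Groth.L20.ModStalk.isLocalizedModule_res F V.2 g
  let e := (IsLocalizedModule.isBaseChange (Submonoid.powers g) Γ(X, X.basicOpen g)
    ({ toFun := fun s => Groth.L18.Frame.rs F (X.basicOpen_le g) s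
       map_add' := fun a b => map_add _ a b
       map_smul' := fun a s => Groth.L18.Frame.rs_smul F (X.basicOpen_le g) a s } :
      Γ(F, V.1) →ₗ[Γ(X, V.1)] Γ(F, X.basicOpen g))).equiv
  rw [← Groth.L13.Fitting.ideal_congr e r, Groth.L13.Fitting.ideal_baseChange]
  rfl

theorem sheafIdeal_ideal (hft : CohB1.IsFT F) (r : ℕ) (U : X.affineOpens) :
    (Fitt.sheafIdeal F r).ideal U = Fitt.ideal Γ(X, U.1) Γ(F, U.1) r := by
  let J : X.IdealSheafData :=
    { ideal := fun U => Fitt.ideal Γ(X, U.1) Γ(F, U.1) r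
      map_ideal_basicOpen := fun V g => (ideal_basicOpen F hft V g r).symm }
  exact congrArg (fun K : X.IdealSheafData => K.ideal U) (Scheme.IdealSheafData.ofIdeals_ideal J)

theorem notMem_support_iff (hft : CohB1.IsFT F) (r : ℕ) {U : X.affineOpens} {x : X} (hx : x ∈ U.1) :
    x ∉ (Fitt.sheafIdeal F r).support ↔
      ¬ Fitt.ideal Γ(X, U.1) Γ(F, U.1) r ≤ (U.2.primeIdealOf ⟨x, hx⟩).asIdeal := by
  rw [Scheme.IdealSheafData.mem_support_iff_of_mem hx, sheafIdeal_ideal F hft, not_iff_not]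
  constructor
  · intro h
    have h1 : U.2.fromSpec (U.2.primeIdealOf ⟨x, hx⟩) ∈
        U.2.fromSpec '' PrimeSpectrum.zeroLocus (Fitt.ideal Γ(X, U.1) Γ(F, U.1) r : Set Γ(X, U.1)) := by
      rw [U.2.fromSpec_image_zeroLocus, U.2.fromSpec_primeIdealOf]
      exact ⟨h, hx⟩
    obtain ⟨q, hq, hqx⟩ := h1
    rw [← U.2.fromSpec.isOpenEmbedding.injective hqx]
    exact hq
  · intro h
    have h1 : x ∈ U.2.fromSpec '' PrimeSpectrum.zeroLocus (Fitt.ideal Γ(X, U.1) Γ(F, U.1) r : Set Γ(X, U.1)) :=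
      ⟨_, h, U.2.fromSpec_primeIdealOf ⟨x, hx⟩⟩
    rw [U.2.fromSpec_image_zeroLocus] at h1
    exact h1.1

theorem exists_pullback_sections {T : Scheme.{u}} (f : T ⟶ X) {U : X.Opens} (hU : IsAffineOpen U)
    {V : T.Opens} (hV : IsAffineOpen V) (e : V ≤ f ⁻¹ᵁ U) :
    letI : Algebra Γ(X, U) Γ(T, V) := (f.appLE U V e).hom.toAlgebra
    Nonempty (Γ(((Scheme.Modules.pullback f).obj F), V) ≃ₗ[Γ(T, V)] Γ(T, V) ⊗[Γ(X, U)] Γ(F, U)) := by
  letI : Algebra Γ(X, U) Γ(T, V) := (f.appLE U V e).hom.toAlgebra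
  haveI : (F.restrict hU.fromSpec).IsQuasicoherent := Scheme.Modules.isQuasicoherent_restrictFunctor _ F
  haveI : IsIso (F.restrict hU.fromSpec).fromTildeΓ :=
    Scheme.Modules.isIso_fromTildeΓ_of_isQuasicoherent _
  obtain ⟨a⟩ := Groth.L15.CohFlat.exists_sectionsEquiv F hU
  let N : ModuleCat.{u} Γ(X, U) := ModuleCat.of Γ(X, U) Γ(F, U)
  let e₀ : F.restrict hU.fromSpec ≅ tilde N :=
    (asIso (F.restrict hU.fromSpec).fromTildeΓ).symm ≪≫ (tilde.functor Γ(X, U)).mapIso a.toModuleIso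
  obtain ⟨e₁⟩ := Groth.L19.PullChart.nonempty_chart_pullback f F (f.appLE U V e) hU.fromSpec
    hV.fromSpec (hU.SpecMap_appLE_fromSpec f hV e).symm N e₀
  obtain ⟨b⟩ := Groth.L15.CohFlat.exists_sectionsEquiv ((Scheme.Modules.pullback f).obj F) hV
  obtain ⟨c⟩ := Groth.L18.TildeF.extendScalars_equiv (S := Γ(T, V)) N
  exact ⟨b.symm.trans (((moduleSpecΓFunctor (R := Γ(T, V))).mapIso e₁ ≪≫
    (tilde.toTildeΓNatIso.app _).symm).toLinearEquiv.trans c)⟩

end Groth.L15.FittSheaf
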