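import Mathlib.CategoryTheory.Abelian.Injective.Ext
import Mathlib.CategoryTheory.Abelian.RightDerived
import Mathlib.CategoryTheory.Preadditive.Yoneda.Limits
import Mathlib.Algebra.Category.Grp.Abelian
import Mathlib.Algebra.Homology.ShortComplex.Ab

/-!
The right derived functors of `Hom(M, -)` are the functors `Ext^n(M, -)`.
-/

set_option autoImplicit false

universe v u

open CategoryTheory CategoryTheory.Limits Opposite

namespace Groth.L15.RightDerivedExt

variable {C : Type u} [Category.{v} C] [Abelian C] [HasExt.{v} C] (M : C)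

/-- The `Hom` complex of an injective resolution. -/
noncomputable abbrev K {Y : C} (R : InjectiveResolution Y) : CochainComplex AddCommGrpCat.{v} ℕ :=
  ((preadditiveCoyoneda.obj (op M)).mapHomologicalComplex _).obj R.cocomplex

theorem cycle_comp_d {Y : C} (R : InjectiveResolution Y) (n : ℕ) (z : (K M R).cycles n) :
    ((K M R).iCycles n z : M ⟶ R.cocomplex.X n) ≫ R.cocomplex.d n (n + 1) = 0 :=
  congr($((K M R).iCycles_d n (n + 1)) z)

theorem extMk_congr {Y : C} (R : InjectiveResolution Y) {n : ℕ} {a b : M ⟶ R.cocomplex.X n}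
    {ha : a ≫ R.cocomplex.d n (n + 1) = 0} (h : a = b) :
    R.extMk a (n + 1) rfl ha = R.extMk b (n + 1) rfl (h ▸ ha) := by
  subst h; rfl

/-- Cocycles to `Ext`. -/
noncomputable def θ {Y : C} (R : InjectiveResolution Y) (n : ℕ) :
    (K M R).cycles n ⟶ AddCommGrpCat.of (Abelian.Ext.{v} M Y n) :=
  AddCommGrpCat.ofHom
    { toFun := fun z => R.extMk ((K M R).iCycles n z) (n + 1) rfl (cycle_comp_d M R n z)
      map_zero' := (extMk_congr M R (map_zero _)).trans (R.extMk_zero (n + 1) rfl)
      map_add' := fun x y => (extMk_congr M R (map_add _ x y)).trans (R.add_extMk _ _ _ _ _ _).symm }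

theorem θ_apply {Y : C} (R : InjectiveResolution Y) (n : ℕ) (z : (K M R).cycles n) :
    θ M R n z = R.extMk ((K M R).iCycles n z) (n + 1) rfl (cycle_comp_d M R n z) := rfl

theorem extMk_zero_iff {Y : C} (R : InjectiveResolution Y) (f : M ⟶ R.cocomplex.X 0)
    (hf : f ≫ R.cocomplex.d 0 1 = 0) (h : R.extMk f 1 rfl hf = 0) : f = 0 := by
  rw [← R.extEquivCohomologyClass.apply_eq_iff_eq, R.extEquivCohomologyClass_extMk,
    R.extEquivCohomologyClass_zero, CochainComplex.HomComplex.CohomologyClass.mk_eq_zero_iff,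
    CochainComplex.HomComplex.Cocycle.fromSingleMk_mem_coboundaries_iff _ _ _ _ _ (-1) (by omega)] at h
  obtain ⟨g, hg⟩ := h
  rw [(CochainComplex.isZero_of_isStrictlyGE R.cochainComplex 0 (-1)).eq_of_tgt g 0, zero_comp] at hg
  exact (cancel_mono (R.cochainComplexXIso 0 0 rfl).inv).1 (hg.symm.trans zero_comp.symm)

theorem θ_comp {Y : C} (R : InjectiveResolution Y) (n i : ℕ) (hi : (ComplexShape.up ℕ).prev n = i) :
    (K M R).toCycles i n ≫ θ M R n = 0 := by
  ext x
  have e : ((K M R).iCycles n ((K M R).toCycles i n x) : M ⟶ R.cocomplex.X n) =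
      (show M ⟶ R.cocomplex.X i from x) ≫ R.cocomplex.d i n := congr($((K M R).toCycles_i i n) x)
  show θ M R n ((K M R).toCycles i n x) = 0
  rw [θ_apply]
  cases n with
  | zero =>
    refine (extMk_congr M R (e.trans ?_)).trans (R.extMk_zero 1 rfl)
    rw [R.cocomplex.shape i 0 (by simp), comp_zero]
  | succ m =>
    have : i = m := by rw [← hi]; simp
    subst this
    exact (R.extMk_eq_zero_iff _ _ rfl _ i rfl).2 ⟨_, e.symm⟩

/-- Homology of the `Hom` complex to `Ext`. -/
noncomputable def ψ {Y : C} (R : InjectiveResolution Y) (n : ℕ) :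
    (K M R).homology n ⟶ AddCommGrpCat.of (Abelian.Ext.{v} M Y n) :=
  ((K M R).homologyIsCokernel _ n rfl).desc (CokernelCofork.ofπ (θ M R n) (θ_comp M R n _ rfl))

@[reassoc]
theorem π_ψ {Y : C} (R : InjectiveResolution Y) (n : ℕ) :
    (K M R).homologyπ n ≫ ψ M R n = θ M R n :=
  ((K M R).homologyIsCokernel _ n rfl).fac (CokernelCofork.ofπ (θ M R n) (θ_comp M R n _ rfl)) WalkingParallelPair.one

theorem isIso_ψ {Y : C} (R : InjectiveResolution Y) (n : ℕ) : IsIso (ψ M R n) := by
  rw [ConcreteCategory.isIso_iff_bijective]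
  have hker : (ShortComplex.mk _ _ ((K M R).iCycles_d n (n + 1))).Exact :=
    ShortComplex.exact_of_f_is_kernel _ ((K M R).cyclesIsKernel n (n + 1) (by simp))
  rw [ShortComplex.ab_exact_iff] at hker
  have hi : Function.Injective ((K M R).iCycles n) := (AddCommGrpCat.mono_iff_injective _).1 inferInstance
  have hπ : Function.Surjective ((K M R).homologyπ n) := (AddCommGrpCat.epi_iff_surjective _).1 inferInstance
  refine ⟨?_, ?_⟩
  · refine (injective_iff_map_eq_zero (ψ M R n).hom).2 fun x hx => ?_
    obtain ⟨z, rfl⟩ := hπ x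
    have hz : R.extMk ((K M R).iCycles n z) (n + 1) rfl (cycle_comp_d M R n z) = 0 :=
      (congr($(π_ψ M R n) z)).symm.trans hx
    cases n with
    | zero =>
      rw [show z = 0 from hi ((extMk_zero_iff M R _ _ hz).trans (map_zero _).symm), map_zero]
    | succ m =>
      obtain ⟨g, hg⟩ := (R.extMk_eq_zero_iff _ _ rfl _ m rfl).1 hz
      have : (K M R).toCycles m (m + 1) g = z := hi (congr($((K M R).toCycles_i m (m + 1)) g).trans hg)
      rw [← this]
      exact congr($((K M R).toCycles_comp_homologyπ m (m + 1)) g)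
  · intro α
    obtain ⟨f, hf, rfl⟩ := R.extMk_surjective α (n + 1) rfl
    obtain ⟨z, hz⟩ := hker f hf
    exact ⟨(K M R).homologyπ n z, (congr($(π_ψ M R n) z)).trans (extMk_congr M R (ha := cycle_comp_d M R n z) hz)⟩

theorem ψ_natural {Y Y' : C} (R : InjectiveResolution Y) (R' : InjectiveResolution Y') {g : Y ⟶ Y'}
    (φ : InjectiveResolution.Hom R R' g) (n : ℕ) :
    HomologicalComplex.homologyMap (((preadditiveCoyoneda.obj (op M)).mapHomologicalComplex _).map φ.hom) n ≫
        ψ M R' n =
      ψ M R n ≫ AddCommGrpCat.ofHom ((Abelian.Ext.mk₀ g).postcomp M (add_zero n)) := by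
  rw [← cancel_epi ((K M R).homologyπ n), π_ψ_assoc]
  rw [HomologicalComplex.homologyπ_naturality_assoc, π_ψ]
  ext z
  have e : ((K M R').iCycles n (HomologicalComplex.cyclesMap
      (((preadditiveCoyoneda.obj (op M)).mapHomologicalComplex _).map φ.hom) n z) : M ⟶ R'.cocomplex.X n) =
      (show M ⟶ R.cocomplex.X n from (K M R).iCycles n z) ≫ φ.hom.f n :=
    congr($(HomologicalComplex.cyclesMap_i (((preadditiveCoyoneda.obj (op M)).mapHomologicalComplex _).map φ.hom) n) z)
  show θ M R' n _ = _
  rw [θ_apply]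
  refine (extMk_congr M R' e).trans ?_
  exact (InjectiveResolution.extMk_comp_mk₀ _ _ rfl (cycle_comp_d M R n z) φ).symm

variable [HasInjectiveResolutions C]

/-- `R^n Hom(M, -) ≅ Ext^n(M, -)`. -/
noncomputable def iso (n : ℕ) :
    (preadditiveCoyoneda.obj (op M)).rightDerived n ≅ Abelian.extFunctorObj M n :=
  NatIso.ofComponents
    (fun Y =>
      (injectiveResolution Y).isoRightDerivedObj _ n ≪≫
        @asIso _ _ _ _ (ψ M (injectiveResolution Y) n) (isIso_ψ M (injectiveResolution Y) n))
    fun {Y Y'} g => by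
      let φ : InjectiveResolution.Hom (injectiveResolution Y) (injectiveResolution Y') g :=
        { hom := InjectiveResolution.desc g (injectiveResolution Y') (injectiveResolution Y)
          ι_f_zero_comp_hom_f_zero := congr_arg (fun a => a.f 0)
            (InjectiveResolution.desc_commutes g (injectiveResolution Y') (injectiveResolution Y)) }
      simp only [Iso.trans_hom, asIso_hom, Category.assoc]
      rw [InjectiveResolution.isoRightDerivedObj_hom_naturality_assoc g _ _ φ.hom
        (by simpa using φ.ι_f_zero_comp_hom_f_zero) _ n]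
      exact congrArg _ (ψ_natural M _ _ φ n)

end Groth.L15.RightDerivedExt
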