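import Mathlib.RingTheory.PicardGroup
import Mathlib.RingTheory.Artinian.Module
import Mathlib.RingTheory.Ideal.MinimalPrime.Basic
import Mathlib.RingTheory.Ideal.MinimalPrime.Noetherian
import Mathlib.RingTheory.Noetherian.Orzech
import Mathlib.RingTheory.HopkinsLevitzki

/-!
Surjectivity of `Pic R → Pic S` along a surjection `R → S` with kernel `J`, when `R ⧸ (J + Ann J)` is
semilocal (gluing an invertible `S`-module with the trivial module).
-/

set_option autoImplicit false
set_option linter.style.haveILetI false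
universe u

noncomputable section

open TensorProduct Module

namespace Groth.L15.PicSurj

section Criterion

variable {R B : Type*} [CommRing R] [AddCommGroup B] [Module R B]

/-- Linear forms which are symmetric and generate the unit ideal make a module invertible. -/
theorem invertible_of_forms {ι : Type*} [Fintype ι] (φ : ι → B →ₗ[R] R) (b : ι → B)
    (hs : ∀ i x y, φ i x • y = φ i y • x) (h1 : ∑ i, φ i (b i) = 1) : Module.Invertible R B := by
  have hx : ∀ x : B, ∑ i, φ i x • b i = x := fun x => by
    simp_rw [hs _ x]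
    rw [← Finset.sum_smul, h1, one_smul]
  refine ⟨⟨?_, fun c => ⟨c • ∑ i, (φ i) ⊗ₜ[R] (b i), ?_⟩⟩⟩
  · refine (injective_iff_map_eq_zero _).2 fun z hz => ?_
    have key : ∀ w : Module.Dual R B ⊗[R] B, w = contractLeft R B w • ∑ i, (φ i) ⊗ₜ[R] (b i) := fun w => by
      induction w using TensorProduct.induction_on with
      | zero => simp
      | add x y hx hy => rw [map_add, add_smul, ← hx, ← hy]
      | tmul ψ x =>
        conv_lhs => rw [← hx x, tmul_sum]
        rw [contractLeft_apply, Finset.smul_sum]
        refine Finset.sum_congr rfl fun i _ => ?_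
        rw [← smul_tmul, smul_tmul']
        congr 1
        refine LinearMap.ext fun y => ?_
        have := congrArg ψ (hs i x y)
        simp only [map_smul, smul_eq_mul] at this
        simp only [LinearMap.smul_apply, smul_eq_mul]
        rw [this, mul_comm]
    rw [key z, hz, zero_smul]
  · rw [map_smul, map_sum]
    simp [h1]

end Criterion

section Glue

variable {R S : Type u} [CommRing R] [CommRing S] [Algebra R S]
variable (M : Type u) [AddCommGroup M] [Module R M] [Module S M] [IsScalarTower R S M] [Module.Invertible S M]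

/-- An invertible `S`-module with a form which is a generator modulo `Ann (ker)` comes from an invertible
`R`-module. -/
theorem exists_lift_of_form (hf : Function.Surjective (algebraMap R S)) (ψ : M →ₗ[S] S) (m₀ : M) (e : R)
    (he : ∀ j ∈ RingHom.ker (algebraMap R S), e * j = 0) (h1 : ψ m₀ + algebraMap R S e = 1) :
    ∃ (B : Type u) (_ : AddCommGroup B) (_ : Module R B) (_ : Module.Invertible R B),
      Nonempty (S ⊗[R] B ≃ₗ[S] M) := by
  classical
  let B : Submodule R (M × R) :=
    LinearMap.ker ((ψ.restrictScalars R).comp (LinearMap.fst R M R) - (Algebra.linearMap R S).comp (LinearMap.snd R M R))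
  have hB : ∀ x : B, ψ x.1.1 = algebraMap R S x.1.2 := fun x => sub_eq_zero.1 (LinearMap.mem_ker.1 x.2)
  let sec : S → R := Function.surjInv hf
  have hsec : ∀ s, algebraMap R S (sec s) = s := Function.surjInv_eq hf
  have hwd : ∀ a b, algebraMap R S a = algebraMap R S b → e * a = e * b := fun a b h =>
    sub_eq_zero.1 (by rw [← mul_sub]; exact he _ (by rw [RingHom.mem_ker, map_sub, h, sub_self]))
  let μ : S →ₗ[R] R :=
    { toFun := fun s => e * sec s
      map_add' := fun a b => by rw [← mul_add]; exact hwd _ _ (by simp [hsec])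
      map_smul' := fun r a => by
        rw [RingHom.id_apply, smul_eq_mul, mul_left_comm]; exact hwd _ _ (by simp [hsec, Algebra.smul_def]) }
  have hμ : ∀ r, μ (algebraMap R S r) = e * r := fun r => hwd _ _ (hsec _)
  obtain ⟨T, hT⟩ := ((Invertible.linearEquiv S M).symm 1).exists_finset
  replace hT : 1 = ∑ i ∈ T, i.1 i.2 := by
    simpa [LinearEquiv.symm_apply_eq, Invertible.linearEquiv] using hT
  obtain ⟨r₀, hr₀⟩ := hf (ψ m₀)
  have hmem : ∀ m : M, (m, sec (ψ m)) ∈ B := fun m => LinearMap.mem_ker.2 (sub_eq_zero.2 (hsec _).symm)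
  let u : R := 1 - e
  have hu : (m₀, u) ∈ B := LinearMap.mem_ker.2 (sub_eq_zero.2 (by
    show ψ m₀ = algebraMap R S (1 - e)
    rw [map_sub, map_one]; exact eq_sub_of_add_eq h1))
  let φ : Option T → (B →ₗ[R] R)
    | none => (LinearMap.snd R M R).comp B.subtype
    | some i => μ.comp ((i.1.1.restrictScalars R).comp ((LinearMap.fst R M R).comp B.subtype))
  let b : Option T → B
    | none => ⟨_, hu⟩
    | some i => ⟨_, hmem i.1.2⟩
  have hinv : Module.Invertible R B := by
    refine invertible_of_forms φ b (fun i x y => ?_) ?_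
    · have hsym : ∀ (θ : M →ₗ[S] S) (m m' : M), θ m • m' = θ m' • m := fun θ m m' => by
        have := congrArg (TensorProduct.lift ((LinearMap.lsmul S M).comp θ))
          (Module.Invertible.tmul_comm (R := S) (m₁ := m) (m₂ := m'))
        simpa using this
      cases i with
      | none =>
        refine Subtype.ext (Prod.ext ?_ (mul_comm _ _))
        show x.1.2 • y.1.1 = y.1.2 • x.1.1
        rw [← algebraMap_smul S x.1.2, ← algebraMap_smul S y.1.2, ← hB, ← hB]
        exact hsym ψ _ _
      | some i =>
        refine Subtype.ext (Prod.ext ?_ ?_)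
        · show μ (i.1.1 x.1.1) • y.1.1 = μ (i.1.1 y.1.1) • x.1.1
          rw [← algebraMap_smul S (μ _), ← algebraMap_smul S (μ (i.1.1 y.1.1))]
          show algebraMap R S (e * sec _) • _ = algebraMap R S (e * sec _) • _
          rw [map_mul, map_mul, hsec, hsec, mul_smul, mul_smul, hsym]
        · show μ (i.1.1 x.1.1) * y.1.2 = μ (i.1.1 y.1.1) * x.1.2
          show e * sec _ * y.1.2 = e * sec _ * x.1.2
          rw [mul_assoc, mul_assoc]
          refine hwd _ _ ?_
          rw [map_mul, map_mul, hsec, hsec, ← hB, ← hB]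
          have := congrArg ψ (hsym i.1.1 x.1.1 y.1.1)
          simpa using this
    · rw [Fintype.sum_option]
      show u + ∑ i : T, μ (i.1.1 i.1.2) = 1
      rw [← map_sum, Finset.sum_coe_sort T (fun i => i.1 i.2), ← hT, ← map_one (algebraMap R S), hμ, mul_one,
        sub_add_cancel]
  refine ⟨B, inferInstance, inferInstance, hinv, ⟨?_⟩⟩
  let g : S ⊗[R] B →ₗ[S] M := LinearMap.liftBaseChange S ((LinearMap.fst R M R).comp B.subtype)
  haveI := hinv
  exact LinearEquiv.ofBijective g (Module.Invertible.bijective_of_surjective fun m =>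
    ⟨(1 : S) ⊗ₜ[R] ⟨_, hmem m⟩, by simp [g]⟩)

end Glue

/-- `Pic R → Pic S` is surjective if `R → S` is surjective with kernel `J` and `S ⧸ (Ann J) S` is semilocal. -/
theorem mapRingHom_surjective {R S : Type u} [CommRing R] [CommRing S] (f : R →+* S) (hf : Function.Surjective f)
    (hfin : Finite (MaximalSpectrum (S ⧸ ((RingHom.ker f).annihilator.map f)))) :
    Function.Surjective (CommRing.Pic.mapRingHom f) := by
  intro M
  letI := f.toAlgebra
  letI : Module R M.AsModule := Module.compHom M.AsModule f
  haveI : IsScalarTower R S M.AsModule := IsScalarTower.of_algebraMap_smul fun r x => rfl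
  let c' := (RingHom.ker f).annihilator.map f
  have hff : Free (S ⧸ c') ((S ⧸ c') ⊗[S] M.AsModule) := inferInstance
  obtain ⟨e₀⟩ := Module.Invertible.free_iff_linearEquiv.1 hff
  let χ : M.AsModule →ₗ[S] S ⧸ c' := (e₀.toLinearMap.restrictScalars S).comp (TensorProduct.mk S (S ⧸ c') M.AsModule 1)
  obtain ⟨ψ, hψ⟩ := Module.projective_lifting_property (Submodule.mkQ c') χ (Submodule.mkQ_surjective _)
  have hχ : Function.Surjective χ := fun y => by
    obtain ⟨m, hm⟩ := TensorProduct.mk_surjective S M.AsModule (S ⧸ c') Ideal.Quotient.mk_surjective (e₀.symm y)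
    exact ⟨m, by show e₀ (_ ⊗ₜ m) = y; exact (congrArg e₀ hm).trans (e₀.apply_symm_apply y)⟩
  obtain ⟨m₀, hm₀⟩ := hχ (Ideal.Quotient.mk c' 1)
  rw [← hψ] at hm₀
  obtain ⟨e, he, hee⟩ := (Ideal.mem_map_iff_of_surjective f hf).1 (Ideal.Quotient.eq.1 hm₀.symm)
  obtain ⟨B, _, _, _, ⟨eB⟩⟩ := exists_lift_of_form M.AsModule hf ψ m₀ e
    (fun j hj => Submodule.mem_annihilator.1 he j hj) (by
      show ψ m₀ + f e = 1
      rw [hee]; abel)
  refine ⟨CommRing.Pic.mk R B, ?_⟩
  show CommRing.Pic.mk S _ = M
  rw [CommRing.Pic.mk_eq_iff]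
  exact ⟨(LinearEquiv.baseChange R S _ _ (CommRing.Pic.mk.linearEquiv R B)).trans eB⟩

/-- The hypothesis of `mapRingHom_surjective` for a reduced ring in which every prime is minimal or maximal. -/
theorem finite_maximalSpectrum_of_reduced {R S : Type u} [CommRing R] [IsNoetherianRing R] [IsReduced R] [CommRing S]
    (f : R →+* S) (hf : Function.Surjective f) (hdim : ∀ P : Ideal R, P.IsPrime → P ∈ minimalPrimes R ∨ P.IsMaximal) :
    Finite (MaximalSpectrum (S ⧸ ((RingHom.ker f).annihilator.map f))) := by
  set c := (RingHom.ker f).annihilator with hc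
  set π := (Ideal.Quotient.mk (c.map f)).comp f with hπ
  have hπs : Function.Surjective π := Ideal.Quotient.mk_surjective.comp hf
  haveI : IsNoetherianRing (S ⧸ c.map f) := isNoetherianRing_of_surjective R _ π hπs
  haveI : Ring.KrullDimLE 0 (S ⧸ c.map f) := Ring.KrullDimLE.mk₀ fun q hq => by
    have hP : (q.comap π).IsPrime := Ideal.IsPrime.comap π
    rcases hdim _ hP with hmin | hmax
    · exfalso
      have hfin := minimalPrimes.finite_of_isNoetherianRing R
      obtain ⟨s, hs, hsP⟩ : ∃ s : R, (∀ Q ∈ minimalPrimes R, Q ≠ q.comap π → s ∈ Q) ∧ s ∉ q.comap π := by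
        by_contra! hcon
        have hle : (hfin.toFinset.erase (q.comap π)).inf id ≤ q.comap π := fun s hs =>
          hcon s fun Q hQ hne => (Submodule.mem_finsetInf.1 hs) Q (Finset.mem_erase.2 ⟨hne, hfin.mem_toFinset.2 hQ⟩)
        obtain ⟨Q, hQ, hQle⟩ := (Ideal.IsPrime.inf_le' hP).1 hle
        obtain ⟨hne, hQ⟩ := Finset.mem_erase.1 hQ
        exact hne (le_antisymm hQle (hmin.2 ⟨(hfin.mem_toFinset.1 hQ).1.1, bot_le⟩ hQle))
      refine hsP ?_
      have hsc : s ∈ c := by
        refine Submodule.mem_annihilator.2 fun j hj => ?_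
        have : s * j ∈ sInf (minimalPrimes R) := Submodule.mem_sInf.2 fun Q hQ => by
          by_cases hQe : Q = q.comap π
          · refine Ideal.mul_mem_left _ _ ?_
            rw [hQe, Ideal.mem_comap, hπ, RingHom.comp_apply, RingHom.mem_ker.1 hj, map_zero]
            exact zero_mem _
          · exact Ideal.mul_mem_right _ _ (hs Q hQ hQe)
        rwa [minimalPrimes, Ideal.sInf_minimalPrimes, ← Ideal.zero_eq_bot, ← nilradical, nilradical_eq_zero,
          Ideal.zero_eq_bot, Ideal.mem_bot] at this
      rw [Ideal.mem_comap, hπ, RingHom.comp_apply, Ideal.Quotient.eq_zero_iff_mem.2 (Ideal.mem_map_of_mem f hsc)]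
      exact zero_mem _
    · exact (Ideal.map_comap_of_surjective π hπs q) ▸ (Ideal.map_eq_top_or_isMaximal_of_surjective π hπs hmax).resolve_left
        (by rw [Ideal.map_comap_of_surjective π hπs q]; exact hq.ne_top)
  haveI : IsArtinianRing (S ⧸ c.map f) := isArtinianRing_iff_isNoetherianRing_krullDimLE_zero.2 ⟨inferInstance, inferInstance⟩
  infer_instance

end Groth.L15.PicSurj
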