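import Groth.Agent.L12.RegLift2
import Groth.Agent.L07.Syzygy
import Groth.Agent.L03.GeomRegular
import Groth.Agent.L04.RegularPd
import Groth.Agent.L04.CMBasic
import Groth.Agent.L04.Depth
import Mathlib.RingTheory.Flat.EquationalCriterion
import Mathlib.LinearAlgebra.Matrix.Determinant.Basic
import Mathlib.RingTheory.Ideal.Height

/-!
Hilbert-Burch complexes over Artinian local rings: exactness and flatness lift from a quotient, and
flat deformations of codimension two determinantal ideals are determinantal.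
-/

set_option autoImplicit false

universe u

open IsLocalRing

namespace Groth.L15.HB

section Abstract

variable {R : Type u} [CommRing R]

/-- A vector is in `I • ⊤` iff all its coordinates are in `I.map`. -/
theorem mem_smul_top_pi_iff {A : Type u} [CommRing A] [Algebra R A] {ι : Type} [Fintype ι]
    (I : Ideal R) (z : ι → A) :
    z ∈ I • (⊤ : Submodule R (ι → A)) ↔ ∀ i, z i ∈ I.map (algebraMap R A) := by
  classical
  constructor
  · intro h i
    refine Submodule.smul_induction_on h (fun r hr x _ => ?_) (fun x y hx hy => ?_)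
    · rw [Pi.smul_apply, Algebra.smul_def]
      exact Ideal.mul_mem_right _ _ (Ideal.mem_map_of_mem _ hr)
    · exact add_mem hx hy
  · intro h
    rw [← Finset.univ_sum_single z]
    refine Submodule.sum_mem _ fun i _ => ?_
    have h1 : z i ∈ I • (⊤ : Submodule R A) := by rw [Ideal.smul_top_eq_map]; exact h i
    have h2 := Submodule.mem_map_of_mem (f := LinearMap.single R (fun _ : ι => A) i) h1
    rw [Submodule.map_smul''] at h2
    exact Submodule.smul_mono le_rfl le_top h2

theorem exists_sum_of_mem_smul_top {M : Type u} [AddCommGroup M] [Module R M] {I : Ideal R} {x : M}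
    (hx : x ∈ I • (⊤ : Submodule R M)) :
    ∃ (k : ℕ) (c : Fin k → R) (v : Fin k → M), (∀ l, c l ∈ I) ∧ ∑ l, c l • v l = x := by
  refine Submodule.smul_induction_on hx (fun r hr n _ => ?_) (fun x y hx hy => ?_)
  · exact ⟨1, fun _ => r, fun _ => n, fun _ => hr, by simp⟩
  · obtain ⟨k, c, v, hc, rfl⟩ := hx
    obtain ⟨k', c', v', hc', rfl⟩ := hy
    refine ⟨k + k', Fin.append c c', Fin.append v v', fun l => ?_, by simp [Fin.sum_univ_add]⟩
    refine Fin.addCases (fun l => ?_) (fun l => ?_) l
    · rw [Fin.append_left]; exact hc l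
    · rw [Fin.append_right]; exact hc' l

/-- In a flat module over a local ring, `c • x ∈ I • N` with `c ∉ I` forces `x ∈ m • N`. -/
theorem mem_maximalIdeal_smul [IsLocalRing R] {N : Type u} [AddCommGroup N] [Module R N] [Module.Flat R N]
    {I : Ideal R} {c : R} (hc : c ∉ I) {x : N} (h : c • x ∈ I • (⊤ : Submodule R N)) :
    x ∈ maximalIdeal R • (⊤ : Submodule R N) := by
  obtain ⟨k, d, v, hd, hsum⟩ := exists_sum_of_mem_smul_top h
  obtain ⟨m, a, y, hy, ha⟩ := Module.Flat.isTrivialRelation_of_sum_smul_eq_zero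
    (f := (Fin.cons c (fun l => - d l) : Fin (k + 1) → R)) (x := (Fin.cons x v : Fin (k + 1) → N))
    (by rw [Fin.sum_univ_succ]; simp [hsum])
  have hx : x = ∑ j, a 0 j • y j := by simpa using hy 0
  rw [hx]
  refine Submodule.sum_mem _ fun j _ => Submodule.smul_mem_smul ?_ Submodule.mem_top
  rw [mem_maximalIdeal, mem_nonunits_iff]
  intro hu
  refine hc ((Ideal.mul_unit_mem_iff_mem I hu).mp ?_)
  have h2 := ha j
  rw [Fin.sum_univ_succ] at h2
  simp only [Fin.cons_zero, Fin.cons_succ, neg_mul, Finset.sum_neg_distrib] at h2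
  rw [add_neg_eq_zero.mp h2]
  exact Ideal.sum_mem _ fun l _ => Ideal.mul_mem_right _ _ (hd l)

/-- If `ker (f mod m) = P mod m`, then `ker (f mod I) = P mod I` for every ideal `I`, the target being flat
over an Artinian local ring. -/
theorem lift_exact [IsLocalRing R] [IsArtinianRing R] {M N : Type u} [AddCommGroup M] [Module R M]
    [AddCommGroup N] [Module R N] [Module.Flat R N] (f : M →ₗ[R] N) (P : Submodule R M)
    (hP : P ≤ LinearMap.ker f)
    (h : ∀ y, f y ∈ maximalIdeal R • (⊤ : Submodule R N) → y ∈ P ⊔ maximalIdeal R • (⊤ : Submodule R M))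
    (I : Ideal R) : ∀ y, f y ∈ I • (⊤ : Submodule R N) → y ∈ P ⊔ I • (⊤ : Submodule R M) := by
  induction I using IsNoetherian.induction with
  | hgt I ih => ?_
  intro y hy
  by_cases hI : I = ⊤
  · subst hI
    exact Submodule.mem_sup_right (by rw [Submodule.top_smul]; trivial)
  obtain ⟨c, hc, hmc⟩ : ∃ c, c ∉ I ∧ ∀ a ∈ maximalIdeal R, a * c ∈ I := by
    obtain ⟨n, hn⟩ := (isArtinianRing_iff_isNilpotent_maximalIdeal R).mp ‹_›
    have hex : ∀ j, maximalIdeal R ^ j ≤ I → ∃ c, c ∉ I ∧ ∀ a ∈ maximalIdeal R, a * c ∈ I := by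
      intro j
      induction j with
      | zero => intro h; exact absurd (top_le_iff.mp (by simpa using h)) hI
      | succ j ihj =>
        intro h
        by_cases h' : maximalIdeal R ^ j ≤ I
        · exact ihj h'
        · obtain ⟨c, hc, hcI⟩ := SetLike.not_le_iff_exists.mp h'
          exact ⟨c, hcI, fun a ha => h (by rw [pow_succ']; exact Ideal.mul_mem_mul ha hc)⟩
    exact hex n (by rw [hn]; exact bot_le)
  have hlt : I < I ⊔ Ideal.span {c} :=
    lt_of_le_of_ne le_sup_left fun e => hc (e ▸ Submodule.mem_sup_right (Ideal.mem_span_singleton_self c))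
  have h1 := ih _ hlt y (Submodule.smul_mono le_sup_left le_rfl hy)
  rw [Submodule.sup_smul, Submodule.mem_sup] at h1
  obtain ⟨p, hp, q, hq, rfl⟩ := h1
  obtain ⟨a, ha, b, hb, rfl⟩ := Submodule.mem_sup.mp hq
  rw [Submodule.ideal_span_singleton_smul, Submodule.mem_smul_pointwise_iff_exists] at hb
  obtain ⟨x, -, rfl⟩ := hb
  have hfa : f a ∈ I • (⊤ : Submodule R N) := by
    have := Submodule.mem_map_of_mem (f := f) ha
    rw [Submodule.map_smul''] at this
    exact Submodule.smul_mono le_rfl le_top this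
  have hfx : c • f x ∈ I • (⊤ : Submodule R N) := by
    rw [map_add, map_add, show f p = 0 from hP hp, zero_add, map_smul] at hy
    simpa using Submodule.sub_mem _ hy hfa
  obtain ⟨p', hp', x', hx', rfl⟩ := Submodule.mem_sup.mp (h x (mem_maximalIdeal_smul hc hfx))
  rw [smul_add]
  refine add_mem (Submodule.mem_sup_left hp) (add_mem (Submodule.mem_sup_right ha)
    (add_mem (Submodule.mem_sup_left (P.smul_mem c hp')) (Submodule.mem_sup_right ?_)))
  refine Submodule.smul_induction_on hx' (fun r hr n _ => ?_) (fun x y hx hy => ?_)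
  · rw [← mul_smul, mul_comm]
    exact Submodule.smul_mem_smul (hmc r hr) Submodule.mem_top
  · rw [smul_add]; exact add_mem hx hy

variable {M₂ M₁ M₀ Q : Type u} [AddCommGroup M₂] [Module R M₂] [AddCommGroup M₁] [Module R M₁]
  [AddCommGroup M₀] [Module R M₀] [AddCommGroup Q] [Module R Q]
  (φ : M₂ →ₗ[R] M₁) (D : M₁ →ₗ[R] M₀) (q : M₀ →ₗ[R] Q)

/-- Exactness at `M₁` modulo any ideal, when the cokernel is flat. -/
theorem exact_mod [Module.Flat R Q] (hker : ∀ y, D y = 0 → y ∈ LinearMap.range φ) (hq : Function.Surjective q)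
    (hqD : LinearMap.range D = LinearMap.ker q) (I : Ideal R) (y : M₁)
    (hy : D y ∈ I • (⊤ : Submodule R M₀)) : y ∈ LinearMap.range φ ⊔ I • (⊤ : Submodule R M₁) := by
  obtain ⟨k, c, v, hc, hsum⟩ := exists_sum_of_mem_smul_top hy
  have h0 : q (D y) = 0 := by
    rw [← LinearMap.mem_ker, ← hqD]; exact LinearMap.mem_range_self _ _
  obtain ⟨m, a, w, hw, ha⟩ := Module.Flat.isTrivialRelation_of_sum_smul_eq_zero (f := c) (x := q ∘ v)
    (by simp only [Function.comp_apply, ← map_smul, ← map_sum, hsum, h0])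
  choose w' hw' using fun j => hq (w j)
  have hz : ∀ l, ∃ z, D z = v l - ∑ j, a l j • w' j := fun l => by
    rw [← LinearMap.mem_range, hqD, LinearMap.mem_ker, map_sub, map_sum]
    simp only [map_smul, hw', sub_eq_zero]
    exact hw l
  choose z hz using hz
  have hy' : D (∑ l, c l • z l) = D y := by
    simp only [map_sum, map_smul, hz, smul_sub, Finset.smul_sum, smul_smul, Finset.sum_sub_distrib, hsum]
    rw [Finset.sum_comm]
    simp [← Finset.sum_smul, ha]
  refine Submodule.mem_sup.mpr ⟨y - ∑ l, c l • z l, hker _ (by rw [map_sub, hy', sub_self]),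
    ∑ l, c l • z l, Submodule.sum_mem _ fun l _ => Submodule.smul_mem_smul (hc l) Submodule.mem_top,
    sub_add_cancel _ _⟩

/-- Injectivity modulo any ideal, when the cokernel is flat. -/
theorem injective_mod [Module.Flat R M₀] [Module.Flat R Q] (hinj : Function.Injective φ)
    (hcomp : ∀ z, D (φ z) = 0) (hker : ∀ y, D y = 0 → y ∈ LinearMap.range φ)
    (hq : Function.Surjective q) (hqD : LinearMap.range D = LinearMap.ker q) (I : Ideal R) (z : M₂)
    (hz : φ z ∈ I • (⊤ : Submodule R M₁)) : z ∈ I • (⊤ : Submodule R M₂) := by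
  haveI : Module.Flat R (LinearMap.range D) :=
    haveI := Groth.L07.FlatDescent.flat_ker q hq
    Module.Flat.of_linearEquiv (LinearEquiv.ofEq _ _ hqD)
  obtain ⟨k, c, v, hc, hsum⟩ := exists_sum_of_mem_smul_top hz
  obtain ⟨m, a, w, hw, ha⟩ := Module.Flat.isTrivialRelation_of_sum_smul_eq_zero (f := c)
    (x := fun l => D.rangeRestrict (v l))
    (by simp only [← map_smul, ← map_sum, hsum]; exact Subtype.ext (hcomp z))
  choose w' hw' using fun j => D.surjective_rangeRestrict (w j)
  have hzl : ∀ l, ∃ u, φ u = v l - ∑ j, a l j • w' j := fun l => by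
    refine LinearMap.mem_range.mp (hker _ ?_)
    have := congrArg Subtype.val (hw l)
    simp only [LinearMap.codRestrict_apply, ← hw', AddSubmonoidClass.coe_finsetSum, Submodule.coe_smul] at this
    simp only [map_sub, map_sum, map_smul, sub_eq_zero]
    exact this
  choose u hu using hzl
  have : z = ∑ l, c l • u l := hinj (by
    simp only [map_sum, map_smul, hu, smul_sub, Finset.smul_sum, smul_smul, Finset.sum_sub_distrib, hsum]
    rw [Finset.sum_comm (γ := Fin k)]
    simp [← Finset.sum_smul, ha])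
  rw [this]
  exact Submodule.sum_mem _ fun l _ => Submodule.smul_mem_smul (hc l) Submodule.mem_top

/-- Flatness of the cokernel from exactness modulo every ideal. -/
theorem flat_coker [Module.Flat R M₀] (hq : Function.Surjective q)
    (hqD : LinearMap.range D = LinearMap.ker q) (hcomp : ∀ z, D (φ z) = 0)
    (h : ∀ (I : Ideal R) (y : M₁), D y ∈ I • (⊤ : Submodule R M₀) →
      y ∈ LinearMap.range φ ⊔ I • (⊤ : Submodule R M₁)) :
    Module.Flat R Q := by
  rw [Module.Flat.iff_forall_isTrivialRelation]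
  intro l f x hx
  choose w hw using fun i => hq (x i)
  obtain ⟨y, hy⟩ : ∑ i, f i • w i ∈ LinearMap.range D := by
    rw [hqD, LinearMap.mem_ker, map_sum]; simpa [hw] using hx
  have hyI : D y ∈ Ideal.span (Set.range f) • (⊤ : Submodule R M₀) := by
    rw [hy]
    exact Submodule.sum_mem _ fun i _ =>
      Submodule.smul_mem_smul (Ideal.subset_span (Set.mem_range_self i)) Submodule.mem_top
  obtain ⟨_, ⟨z, rfl⟩, y', hy', rfl⟩ := Submodule.mem_sup.mp (h _ y hyI)
  rw [map_add, hcomp, zero_add] at hy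
  obtain ⟨b, hb⟩ : ∃ b : Fin l → M₁, y' = ∑ i, f i • b i := by
    refine Submodule.smul_induction_on hy' (fun r hr n _ => ?_) (fun x y hx hy => ?_)
    · obtain ⟨e, rfl⟩ := (Submodule.mem_span_range_iff_exists_fun R).mp hr
      exact ⟨fun i => e i • n, by rw [Finset.sum_smul]; simp [smul_smul, mul_comm]⟩
    · obtain ⟨b, rfl⟩ := hx
      obtain ⟨b', rfl⟩ := hy
      exact ⟨b + b', by simp [Finset.sum_add_distrib]⟩
  have h0 : ∑ i, f i • (w i - D (b i)) = 0 := by
    simp only [smul_sub, Finset.sum_sub_distrib, ← hy, hb, map_sum, map_smul, sub_self]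
  obtain ⟨k, a, v, hv, ha⟩ := Module.Flat.isTrivialRelation_of_sum_smul_eq_zero h0
  refine ⟨k, a, q ∘ v, fun i => ?_, ha⟩
  have hD : q (D (b i)) = 0 := by rw [← LinearMap.mem_ker, ← hqD]; exact LinearMap.mem_range_self _ _
  calc x i = q (w i - D (b i)) := by rw [map_sub, hw, hD, sub_zero]
    _ = q (∑ j, a i j • v j) := congrArg q (hv i)
    _ = _ := by simp

end Abstract

section Minors

variable {A : Type u} [CommRing A] {r : ℕ}

/-- The signed maximal minors kill the columns. -/
theorem sum_minor_mul (φ : Matrix (Fin (r + 1)) (Fin r) A) (j : Fin r) :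
    ∑ i : Fin (r + 1), ((-1 : A) ^ (i : ℕ) * (φ.submatrix i.succAbove id).det) * φ i j = 0 := by
  let M : Matrix (Fin (r + 1)) (Fin (r + 1)) A := Matrix.of fun i => Fin.cons (φ i j) (φ i)
  have h0 : M.det = 0 := Matrix.det_zero_of_column_eq (Fin.succ_ne_zero j).symm fun i => by simp [M]
  rw [Matrix.det_succ_column_zero] at h0
  refine Eq.trans (Finset.sum_congr rfl fun i _ => ?_) h0
  have h1 : M.submatrix i.succAbove Fin.succ = φ.submatrix i.succAbove id := by
    ext a b; simp [M]
  simp only [h1, M, Matrix.of_apply, Fin.cons_zero]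
  ring

theorem linearCombination_mulVec {n m : ℕ} (ψ : Matrix (Fin n) (Fin m) A) (g : Fin n → A)
    (h : ∀ j, ∑ i, g i * ψ i j = 0) (z : Fin m → A) :
    Fintype.linearCombination A g (ψ.mulVecLin z) = 0 := by
  simp only [Fintype.linearCombination_apply, Matrix.mulVecLin_apply, Matrix.mulVec, dotProduct,
    smul_eq_mul, Finset.sum_mul]
  rw [Finset.sum_comm]
  refine Finset.sum_eq_zero fun j _ => ?_
  rw [show ∑ i, ψ i j * z j * g i = (∑ i, g i * ψ i j) * z j by
    rw [Finset.sum_mul]; exact Finset.sum_congr rfl fun i _ => by ring, h j, zero_mul]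

theorem map_minor {B : Type u} [CommRing B] (g : A →+* B) (φ : Matrix (Fin (r + 1)) (Fin r) A) (i : Fin (r + 1)) :
    g ((-1 : A) ^ (i : ℕ) * (φ.submatrix i.succAbove id).det) =
      (-1 : B) ^ (i : ℕ) * ((φ.map g).submatrix i.succAbove id).det := by
  rw [map_mul, map_pow, map_neg, map_one, RingHom.map_det]
  rfl

theorem map_linearCombination {B : Type u} [CommRing B] (g : A →+* B) {n : ℕ} (v y : Fin n → A) :
    g (Fintype.linearCombination A v y) = Fintype.linearCombination B (g ∘ v) (g ∘ y) := by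
  simp [Fintype.linearCombination_apply]

theorem map_mulVecLin {B : Type u} [CommRing B] (g : A →+* B) {n m : ℕ} (ψ : Matrix (Fin n) (Fin m) A)
    (z : Fin m → A) : g ∘ (ψ.mulVecLin z) = (ψ.map g).mulVecLin (g ∘ z) := by
  funext i
  simp only [Matrix.mulVecLin_apply, Function.comp_apply, Matrix.mulVec, dotProduct, map_sum, map_mul,
    Matrix.map_apply]

end Minors

section Quot

variable {C : Type u} [CommRing C] {A : Type u} [CommRing A] [Algebra C A]

theorem flat_quot (J : Ideal C) [Module.Flat C A] : Module.Flat (C ⧸ J) (A ⧸ J.map (algebraMap C A)) :=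
  Module.Flat.of_linearEquiv (M := TensorProduct C (C ⧸ J) A)
    ((((Algebra.TensorProduct.comm C (C ⧸ J) A).trans
      ((Algebra.TensorProduct.quotIdealMapEquivTensorQuot A J).symm.restrictScalars C)).extendScalarsOfSurjective
        (S := C ⧸ J) Ideal.Quotient.mk_surjective).toLinearEquiv).symm

theorem mk_mem_map_iff {J : Ideal C} {I : Ideal C} (hJI : J ≤ I) (a : A) :
    Ideal.Quotient.mk (J.map (algebraMap C A)) a ∈
        (I.map (Ideal.Quotient.mk J)).map (algebraMap (C ⧸ J) (A ⧸ J.map (algebraMap C A))) ↔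
      a ∈ I.map (algebraMap C A) := by
  have e : (I.map (Ideal.Quotient.mk J)).map (algebraMap (C ⧸ J) (A ⧸ J.map (algebraMap C A))) =
      (I.map (algebraMap C A)).map (Ideal.Quotient.mk (J.map (algebraMap C A))) := by
    rw [Ideal.map_map, Ideal.map_map]
    rfl
  rw [e, ← Ideal.mem_comap, Ideal.comap_map_of_surjective _ Ideal.Quotient.mk_surjective,
    ← RingHom.ker_eq_comap_bot, Ideal.mk_ker, sup_eq_left.2 (Ideal.map_mono hJI)]

variable [IsLocalRing C] [IsArtinianRing C] [Module.Flat C A]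

/-- Exactness and flat cokernel lift from `A/JA` to `A`. -/
theorem exact_of_mod {J : Ideal C} (hJne : J ≠ ⊤) {n m : ℕ} (φ : Matrix (Fin n) (Fin m) A) (g : Fin n → A)
    (hgφ : ∀ j, ∑ i, g i * φ i j = 0) (f : Fin n → A ⧸ J.map (algebraMap C A))
    (hf : ∀ i, Ideal.Quotient.mk _ (g i) = f i)
    (hinj : Function.Injective (φ.map (Ideal.Quotient.mk (J.map (algebraMap C A)))).mulVecLin)
    (hrange : LinearMap.range (φ.map (Ideal.Quotient.mk (J.map (algebraMap C A)))).mulVecLin =
      LinearMap.ker (Fintype.linearCombination (A ⧸ J.map (algebraMap C A)) f))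
    [Module.Flat (C ⧸ J) ((A ⧸ J.map (algebraMap C A)) ⧸ Ideal.span (Set.range f))] :
    Function.Injective φ.mulVecLin ∧
      LinearMap.range φ.mulVecLin = LinearMap.ker (Fintype.linearCombination A g) ∧
      Module.Flat C (A ⧸ Ideal.span (Set.range g)) := by
  haveI := flat_quot (A := A) J
  set K := maximalIdeal C
  have hJK : J ≤ K := le_maximalIdeal hJne
  set mkT := Ideal.Quotient.mk (J.map (algebraMap C A))
  set ψ := φ.map mkT
  have hmem : ∀ {k : ℕ} (v : Fin k → A), v ∈ K • (⊤ : Submodule C (Fin k → A)) ↔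
      mkT ∘ v ∈ K.map (Ideal.Quotient.mk J) •
        (⊤ : Submodule (C ⧸ J) (Fin k → A ⧸ J.map (algebraMap C A))) := fun v => by
    rw [mem_smul_top_pi_iff, mem_smul_top_pi_iff]
    exact forall_congr' fun i => (mk_mem_map_iff hJK (v i)).symm
  let φ' : (Fin m → A ⧸ J.map (algebraMap C A)) →ₗ[C ⧸ J] (Fin n → A ⧸ J.map (algebraMap C A)) :=
    ψ.mulVecLin.restrictScalars (C ⧸ J)
  let D' : (Fin n → A ⧸ J.map (algebraMap C A)) →ₗ[C ⧸ J] (A ⧸ J.map (algebraMap C A)) :=
    (Fintype.linearCombination (A ⧸ J.map (algebraMap C A)) f).restrictScalars (C ⧸ J)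
  let q' : (A ⧸ J.map (algebraMap C A)) →ₗ[C ⧸ J] (A ⧸ J.map (algebraMap C A)) ⧸ Ideal.span (Set.range f) :=
    (Ideal.Quotient.mkₐ (C ⧸ J) (Ideal.span (Set.range f))).toLinearMap
  have hq' : Function.Surjective q' := Ideal.Quotient.mk_surjective
  have hqD : LinearMap.range D' = LinearMap.ker q' := by
    ext x
    rw [LinearMap.mem_ker, AlgHom.toLinearMap_apply, Ideal.Quotient.mkₐ_eq_mk, Ideal.Quotient.eq_zero_iff_mem]
    show x ∈ LinearMap.range (Fintype.linearCombination (A ⧸ J.map (algebraMap C A)) f) ↔ _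
    rw [Fintype.range_linearCombination]
  have hcomp' : ∀ z, D' (φ' z) = 0 := fun z => by
    have : ψ.mulVecLin z ∈ LinearMap.range ψ.mulVecLin := LinearMap.mem_range_self _ _
    rw [hrange] at this
    exact this
  have hker' : ∀ y, D' y = 0 → y ∈ LinearMap.range φ' := fun y hy => by
    have : y ∈ LinearMap.range ψ.mulVecLin := by rw [hrange]; exact hy
    exact this
  let φC : (Fin m → A) →ₗ[C] (Fin n → A) := φ.mulVecLin.restrictScalars C
  let DC : (Fin n → A) →ₗ[C] A := (Fintype.linearCombination A g).restrictScalars C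
  have hgψ : (mkT ∘ g) = f := funext hf
  have hcomp : ∀ z, DC (φC z) = 0 := linearCombination_mulVec φ g hgφ
  haveI : Module.Flat C (Fin n → A) :=
    Module.Flat.of_linearEquiv (DFinsupp.linearEquivFunOnFintype (R := C) (M := fun _ : Fin n => A)).symm
  have h1 : ∀ I : Ideal C, ∀ z, φC z ∈ I • (⊤ : Submodule C (Fin n → A)) →
      z ∈ (⊥ : Submodule C (Fin m → A)) ⊔ I • (⊤ : Submodule C (Fin m → A)) := by
    refine lift_exact φC ⊥ bot_le fun z hz => Submodule.mem_sup_right ?_
    rw [hmem]
    refine injective_mod φ' D' q' hinj hcomp' hker' hq' hqD _ _ ?_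
    have := (hmem _).mp hz
    rwa [show mkT ∘ φC z = φ' (mkT ∘ z) from map_mulVecLin mkT φ z] at this
  have h2 : ∀ I : Ideal C, ∀ y, DC y ∈ I • (⊤ : Submodule C A) →
      y ∈ LinearMap.range φC ⊔ I • (⊤ : Submodule C (Fin n → A)) := by
    refine lift_exact DC (LinearMap.range φC) ?_ fun y hy => ?_
    · rintro _ ⟨z, rfl⟩; exact hcomp z
    have h3 : D' (mkT ∘ y) ∈ K.map (Ideal.Quotient.mk J) • (⊤ : Submodule (C ⧸ J) (A ⧸ J.map (algebraMap C A))) := by
      rw [Ideal.smul_top_eq_map] at hy ⊢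
      have := (mk_mem_map_iff hJK (DC y)).mpr hy
      rwa [show D' (mkT ∘ y) = mkT (DC y) from
        show Fintype.linearCombination _ f (mkT ∘ y) = _ by rw [← hgψ]; exact (map_linearCombination mkT g y).symm]
    obtain ⟨_, ⟨z', rfl⟩, w, hw, hzw⟩ := Submodule.mem_sup.mp (exact_mod φ' D' q' hker' hq' hqD _ _ h3)
    choose z hz using fun j => Ideal.Quotient.mk_surjective (z' j)
    refine Submodule.mem_sup.mpr ⟨φC z, LinearMap.mem_range_self _ _, y - φC z, ?_, add_sub_cancel _ _⟩
    rw [hmem]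
    have : mkT ∘ (y - φC z) = w := by
      have hzz : mkT ∘ z = z' := funext hz
      have : mkT ∘ φC z = φ' z' := by rw [← hzz]; exact map_mulVecLin mkT φ z
      funext i
      have e1 := congrFun hzw i
      have e2 := congrFun this i
      simp only [Function.comp_apply, Pi.sub_apply, map_sub, Pi.add_apply] at e1 e2 ⊢
      rw [e2, ← e1, add_sub_cancel_left]
    rw [this]; exact hw
  refine ⟨fun a b hab => ?_, ?_, ?_⟩
  · have := h1 ⊥ (a - b) (by rw [map_sub, show φC a = φC b from hab, sub_self]; exact zero_mem _)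
    rw [Submodule.bot_smul, bot_sup_eq, Submodule.mem_bot, sub_eq_zero] at this
    exact this
  · refine le_antisymm ?_ fun y hy => ?_
    · rintro _ ⟨z, rfl⟩; exact hcomp z
    · have := h2 ⊥ y (by rw [show DC y = 0 from hy]; exact zero_mem _)
      rw [Submodule.bot_smul, sup_bot_eq] at this
      exact this
  · refine flat_coker φC DC (Ideal.Quotient.mkₐ C (Ideal.span (Set.range g))).toLinearMap
      Ideal.Quotient.mk_surjective ?_ hcomp h2
    ext x
    rw [LinearMap.mem_ker, AlgHom.toLinearMap_apply, Ideal.Quotient.mkₐ_eq_mk, Ideal.Quotient.eq_zero_iff_mem]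
    show x ∈ LinearMap.range (Fintype.linearCombination A g) ↔ _
    rw [Fintype.range_linearCombination]

/-- A flat deformation of an ideal of depth two with a Hilbert-Burch resolution is determinantal. -/
theorem exists_lift {J : Ideal C} (hJne : J ≠ ⊤) {r : ℕ}
    (ψ : Matrix (Fin (r + 1)) (Fin r) (A ⧸ J.map (algebraMap C A)))
    (f : Fin (r + 1) → A ⧸ J.map (algebraMap C A))
    (hf : ∀ i : Fin (r + 1), (-1 : A ⧸ J.map (algebraMap C A)) ^ (i : ℕ) * (ψ.submatrix i.succAbove id).det = f i)
    (hinj : Function.Injective ψ.mulVecLin)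
    (hrange : LinearMap.range ψ.mulVecLin =
      LinearMap.ker (Fintype.linearCombination (A ⧸ J.map (algebraMap C A)) f))
    [Module.Flat (C ⧸ J) ((A ⧸ J.map (algebraMap C A)) ⧸ Ideal.span (Set.range f))]
    (I : Ideal A) [Module.Flat C (A ⧸ I)]
    (hI : I.map (Ideal.Quotient.mk (J.map (algebraMap C A))) = Ideal.span (Set.range f))
    (x y : A) (hxI : x ∈ I) (hyI : y ∈ I)
    (hx : ∀ a, x * a ∈ (maximalIdeal C).map (algebraMap C A) → a ∈ (maximalIdeal C).map (algebraMap C A))
    (hy : ∀ a, y * a ∈ Ideal.span {x} ⊔ (maximalIdeal C).map (algebraMap C A) →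
      a ∈ Ideal.span {x} ⊔ (maximalIdeal C).map (algebraMap C A)) :
    ∃ φ : Matrix (Fin (r + 1)) (Fin r) A, φ.map (Ideal.Quotient.mk (J.map (algebraMap C A))) = ψ ∧
      Ideal.span (Set.range fun i : Fin (r + 1) => (-1 : A) ^ (i : ℕ) * (φ.submatrix i.succAbove id).det) = I ∧
      Function.Injective φ.mulVecLin ∧
      LinearMap.range φ.mulVecLin = LinearMap.ker (Fintype.linearCombination A
        fun i : Fin (r + 1) => (-1 : A) ^ (i : ℕ) * (φ.submatrix i.succAbove id).det) := by
  set K := (maximalIdeal C).map (algebraMap C A)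
  have hTK : (J.map (algebraMap C A)) ≤ K := Ideal.map_mono (le_maximalIdeal hJne)
  have hKn : IsNilpotent K := Groth.L12.RegLift.isNilpotent_map
  have hTn : IsNilpotent (J.map (algebraMap C A)) := by
    obtain ⟨n, hn⟩ := hKn
    exact ⟨n, le_bot_iff.mp ((Ideal.pow_right_mono hTK n).trans hn.le)⟩
  -- lift the generators
  have hlift : ∀ i, ∃ a ∈ I, Ideal.Quotient.mk (J.map (algebraMap C A)) a = f i := fun i =>
    (Ideal.mem_map_iff_of_surjective _ Ideal.Quotient.mk_surjective).mp
      (hI ▸ Ideal.subset_span (Set.mem_range_self i))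
  choose f' hf'I hf' using hlift
  have hspan : Ideal.span (Set.range f') = I := by
    refine le_antisymm (Ideal.span_le.2 (Set.range_subset_iff.2 hf'I)) ?_
    refine Groth.L12.RegLift.le_of_le_sup_mul _ _ _ hTn fun a ha => ?_
    have h1 : Ideal.Quotient.mk (J.map (algebraMap C A)) a ∈ (Ideal.span (Set.range f')).map (Ideal.Quotient.mk (J.map (algebraMap C A))) := by
      rw [Ideal.map_span, ← Set.range_comp, show (Ideal.Quotient.mk (J.map (algebraMap C A))) ∘ f' = f from funext hf', ← hI]
      exact Ideal.mem_map_of_mem _ ha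
    obtain ⟨b, hb, hba⟩ := (Ideal.mem_map_iff_of_surjective _ Ideal.Quotient.mk_surjective).mp h1
    have hbI : b ∈ I := Ideal.span_le.2 (Set.range_subset_iff.2 hf'I) hb
    have := Groth.L12.RegLift.inf_le_mul J I ⟨Ideal.Quotient.eq.mp hba.symm, sub_mem ha hbI⟩
    exact Submodule.mem_sup.mpr ⟨b, hb, _, this, add_sub_cancel b a⟩
  -- lift the relations
  have hrel : ∀ j, ∃ c : Fin (r + 1) → A, (∀ i, Ideal.Quotient.mk (J.map (algebraMap C A)) (c i) = ψ i j) ∧ ∑ i, f' i * c i = 0 := by
    intro j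
    choose c hc using fun i => Ideal.Quotient.mk_surjective (I := (J.map (algebraMap C A))) (ψ i j)
    have hmem : ∑ i, f' i * c i ∈ (J.map (algebraMap C A)) ⊓ I := by
      refine ⟨?_, Ideal.sum_mem _ fun i _ => Ideal.mul_mem_right _ _ (hf'I i)⟩
      rw [SetLike.mem_coe, ← Ideal.Quotient.eq_zero_iff_mem, map_sum]
      simp only [map_mul, hf', hc, ← hf]
      exact sum_minor_mul ψ j
    have h2 := Groth.L12.RegLift.inf_le_mul J I hmem
    rw [← hspan] at h2
    obtain ⟨e, he, hesum⟩ : ∃ e : Fin (r + 1) → A, (∀ i, e i ∈ (J.map (algebraMap C A))) ∧ ∑ i, f' i * c i = ∑ i, f' i * e i := by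
      rw [← smul_eq_mul, Ideal.span, Submodule.mem_ideal_smul_span_iff_exists_sum] at h2
      obtain ⟨e, he, hesum⟩ := h2
      refine ⟨e, he, ?_⟩
      rw [← hesum, Finsupp.sum_fintype _ _ (fun i => by simp)]
      simp [mul_comm]
    refine ⟨fun i => c i - e i, fun i => ?_, ?_⟩
    · rw [map_sub, hc, Ideal.Quotient.eq_zero_iff_mem.mpr (he i), sub_zero]
    · simp [mul_sub, hesum]
  choose c hc hc0 using hrel
  let φ : Matrix (Fin (r + 1)) (Fin r) A := Matrix.of fun i j => c j i
  set g : Fin (r + 1) → A := fun i => (-1 : A) ^ (i : ℕ) * (φ.submatrix i.succAbove id).det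
  have hφψ : φ.map (Ideal.Quotient.mk (J.map (algebraMap C A))) = ψ := by ext i j; exact hc j i
  have hgf : ∀ i, Ideal.Quotient.mk (J.map (algebraMap C A)) (g i) = f i := fun i => by
    rw [← hf, ← hφψ]; exact map_minor (Ideal.Quotient.mk (J.map (algebraMap C A))) φ i
  obtain ⟨hinj', hrange', hflat⟩ := exact_of_mod hJne φ g (fun j => sum_minor_mul φ j) f hgf
    (by rw [hφψ]; exact hinj) (by rw [hφψ]; exact hrange)
  refine ⟨φ, hφψ, ?_, hinj', hrange'⟩
  -- the kernel of the minors kills `f'`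
  set D := Fintype.linearCombination A g
  set F := Fintype.linearCombination A f'
  have hkill : ∀ p q : Fin (r + 1) → A, D p * F q = D q * F p := by
    intro p q
    have h1 : D p • q - D q • p ∈ LinearMap.range φ.mulVecLin := by
      rw [hrange', LinearMap.mem_ker, map_sub, map_smul, map_smul, smul_eq_mul, smul_eq_mul, mul_comm, sub_self]
    obtain ⟨z, hz⟩ := h1
    have h2 : F (φ.mulVecLin z) = 0 := linearCombination_mulVec φ f' (fun j => hc0 j) z
    rw [hz, map_sub, map_smul, map_smul, sub_eq_zero] at h2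
    exact h2
  have hsup : ∀ a ∈ I, ∃ b ∈ Ideal.span (Set.range g), a - b ∈ K := by
    intro a ha
    have h1 : Ideal.Quotient.mk (J.map (algebraMap C A)) a ∈ (Ideal.span (Set.range g)).map (Ideal.Quotient.mk (J.map (algebraMap C A))) := by
      rw [Ideal.map_span, ← Set.range_comp, show (Ideal.Quotient.mk (J.map (algebraMap C A))) ∘ g = f from funext hgf, ← hI]
      exact Ideal.mem_map_of_mem _ ha
    obtain ⟨b, hb, hba⟩ := (Ideal.mem_map_iff_of_surjective _ Ideal.Quotient.mk_surjective).mp h1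
    exact ⟨b, hb, hTK (Ideal.Quotient.eq.mp hba.symm)⟩
  obtain ⟨x', hx'D, hx'⟩ := hsup x hxI
  obtain ⟨y', hy'D, hy'⟩ := hsup y hyI
  have hxK : ∀ a, x' * a ∈ K → a ∈ K := fun a ha => hx a (by
    rw [show x * a = x' * a + (x - x') * a by ring]
    exact add_mem ha (K.mul_mem_right _ hx'))
  have hsK : Ideal.span {x} ⊔ K = Ideal.span {x'} ⊔ K := by
    refine le_antisymm (sup_le (Ideal.span_le.2 (Set.singleton_subset_iff.2 ?_)) le_sup_right)
      (sup_le (Ideal.span_le.2 (Set.singleton_subset_iff.2 ?_)) le_sup_right)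
    · rw [show x = x' + (x - x') by ring]
      exact add_mem (Submodule.mem_sup_left (Ideal.mem_span_singleton_self _)) (Submodule.mem_sup_right hx')
    · rw [show x' = x - (x - x') by ring]
      exact sub_mem (Submodule.mem_sup_left (Ideal.mem_span_singleton_self _)) (Submodule.mem_sup_right hx')
  have hyK : ∀ a, y' * a ∈ Ideal.span {x'} ⊔ K → a ∈ Ideal.span {x'} ⊔ K := fun a ha => by
    rw [← hsK] at ha ⊢
    refine hy a ?_
    rw [show y * a = y' * a + (y - y') * a by ring]
    exact add_mem ha (Submodule.mem_sup_right (K.mul_mem_right _ hy'))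
  have hsm : ∀ {a : A}, a ∈ maximalIdeal C • (⊤ : Submodule C A) ↔ a ∈ K := fun {a} => by
    rw [Ideal.smul_top_eq_map]; exact Iff.rfl
  have hxreg : ∀ a, x' * a = 0 → a = 0 := fun a ha => by
    have := lift_exact (LinearMap.mulLeft C x') ⊥ bot_le
      (fun b hb => Submodule.mem_sup_right (hsm.2 (hxK b (hsm.1 hb)))) ⊥ a
      (by simp [ha])
    rw [Submodule.bot_smul, bot_sup_eq, Submodule.mem_bot] at this
    exact this
  have hyreg : ∀ a, y' * a ∈ Ideal.span {x'} → a ∈ Ideal.span {x'} := by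
    haveI : Module.Flat C (A ⧸ Ideal.span {x'}) := by
      refine flat_coker (M₂ := A) (0 : A →ₗ[C] A) (LinearMap.mulLeft C x')
        (Ideal.Quotient.mkₐ C (Ideal.span {x'})).toLinearMap Ideal.Quotient.mk_surjective ?_
        (fun z => by simp) fun I' => ?_
      · ext a
        simp [Ideal.Quotient.eq_zero_iff_mem, Ideal.mem_span_singleton', mul_comm]
      · rw [LinearMap.range_zero]
        exact lift_exact (LinearMap.mulLeft C x') ⊥ bot_le
          (fun b hb => Submodule.mem_sup_right (hsm.2 (hxK b (hsm.1 hb)))) I'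
    intro a ha
    let π := (Ideal.Quotient.mkₐ C (Ideal.span {x'})).toLinearMap
    have := lift_exact (π ∘ₗ LinearMap.mulLeft C y') ((Ideal.span {x'}).restrictScalars C) ?_ ?_ ⊥ a ?_
    · rw [Submodule.bot_smul, sup_bot_eq] at this
      exact this
    · intro b hb
      simp only [LinearMap.mem_ker, LinearMap.comp_apply, LinearMap.mulLeft_apply, π, AlgHom.toLinearMap_apply,
        Ideal.Quotient.mkₐ_eq_mk, Ideal.Quotient.eq_zero_iff_mem]
      exact Ideal.mul_mem_left _ _ hb
    · intro b hb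
      rw [Ideal.smul_top_eq_map] at hb
      have h1 : y' * b ∈ Ideal.span {x'} ⊔ K := by
        have h2 : Ideal.Quotient.mk (Ideal.span {x'}) (y' * b) ∈ K.map (Ideal.Quotient.mk (Ideal.span {x'})) := by
          rw [Ideal.map_map]; exact hb
        rw [← Ideal.mem_comap, Ideal.comap_map_of_surjective _ Ideal.Quotient.mk_surjective,
          ← RingHom.ker_eq_comap_bot, Ideal.mk_ker, sup_comm] at h2
        exact h2
      obtain ⟨s, hs, t, ht, hst⟩ := Submodule.mem_sup.mp (hyK b h1)
      exact Submodule.mem_sup.mpr ⟨s, hs, t, hsm.2 ht, hst⟩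
    · have h0 : (π ∘ₗ LinearMap.mulLeft C y') a = 0 := Ideal.Quotient.eq_zero_iff_mem.mpr ha
      rw [h0]; exact zero_mem _
  obtain ⟨v, hv⟩ : x' ∈ LinearMap.range D := by rw [Fintype.range_linearCombination]; exact hx'D
  obtain ⟨w, hw⟩ : y' ∈ LinearMap.range D := by rw [Fintype.range_linearCombination]; exact hy'D
  obtain ⟨u, hu⟩ : ∃ u, u * x' = F v := by
    rw [← Ideal.mem_span_singleton']
    refine hyreg _ (Ideal.mem_span_singleton'.mpr ⟨F w, ?_⟩)
    rw [← hv, ← hw, mul_comm (F w)]
    exact hkill v w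
  have hfu : ∀ i, f' i = u * g i := by
    intro i
    have hDe : D (Pi.single i 1) = g i := by simp [D, Fintype.linearCombination_apply_single]
    have hFe : F (Pi.single i 1) = f' i := by simp [F, Fintype.linearCombination_apply_single]
    have := hkill v (Pi.single i 1)
    rw [hv, hDe, hFe, ← hu] at this
    exact sub_eq_zero.mp (hxreg _ (by rw [mul_sub, this]; ring))
  have huK : u - 1 ∈ K := by
    refine hxK _ (hTK ?_)
    rw [← hv, Fintype.linearCombination_apply, Finset.sum_mul, ← Ideal.Quotient.eq_zero_iff_mem, map_sum]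
    refine Finset.sum_eq_zero fun i _ => ?_
    rw [smul_eq_mul, show v i * g i * (u - 1) = v i * (f' i - g i) by rw [hfu i]; ring, map_mul, map_sub, hf', hgf,
      sub_self, mul_zero]
  have huu : IsUnit u := by
    obtain ⟨n, hn⟩ := hKn
    have : IsNilpotent (u - 1) := ⟨n, by simpa [hn] using Ideal.pow_mem_pow huK n⟩
    simpa using this.isUnit_one_add
  rw [← hspan]
  refine le_antisymm (Ideal.span_le.2 ?_) (Ideal.span_le.2 ?_)
  · rintro _ ⟨i, rfl⟩
    have : u * g i ∈ Ideal.span (Set.range f') := hfu i ▸ Ideal.subset_span (Set.mem_range_self i)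
    exact (Ideal.unit_mul_mem_iff_mem _ huu).mp this
  · rintro _ ⟨i, rfl⟩
    rw [hfu i]
    exact Ideal.mul_mem_left _ _ (Ideal.subset_span (Set.mem_range_self i))

end Quot

section Depth

/-- An ideal of height at least two in a smooth algebra over a field contains a regular pair. -/
theorem exists_pair {k B : Type u} [Field k] [CommRing B] [Algebra k B] [Algebra.Smooth k B] (I : Ideal B)
    (h : ∀ p : Ideal B, p.IsPrime → I ≤ p → (2 : ℕ∞) ≤ p.height) :
    ∃ x ∈ I, ∃ y ∈ I, (∀ a, x * a = 0 → a = 0) ∧ ∀ a, y * a ∈ Ideal.span {x} → a ∈ Ideal.span {x} := by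
  by_cases hI : I = ⊤
  · subst hI
    exact ⟨1, trivial, 1, trivial, fun a ha => by simpa using ha, fun a ha => by simpa using ha⟩
  haveI : IsRegularRing B := Groth.L03.GeomRegular.isRegularRing_of_smooth k B
  haveI : IsNoetherianRing B := Algebra.FiniteType.isNoetherianRing k B
  have h2 : (2 : ℕ∞) ≤ LocCoh.idealDepth I B := by
    rw [Groth.L04.isCohenMacaulayRing_iff_height.1 Groth.L04.isCohenMacaulayRing_of_regularRing I hI,
      Ideal.height_eq_inf_minimalPrimes]
    exact le_iInf₂ fun p hp => h p hp.1.1 hp.1.2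
  have hne : I • (⊤ : Submodule B B) ≠ ⊤ := by rwa [smul_eq_mul, Ideal.mul_top]
  obtain ⟨rs, hlen, hreg, hmem⟩ := Groth.L04.exists_of_le_idealDepth hne (n := 2) (by exact_mod_cast h2)
  match rs, hlen with
  | [x, y], _ =>
    rw [RingTheory.Sequence.isWeaklyRegular_cons_iff, RingTheory.Sequence.isWeaklyRegular_singleton_iff] at hreg
    refine ⟨x, hmem x (by simp), y, hmem y (by simp), fun a ha => hreg.1.right_eq_zero_of_smul ha, fun a ha => ?_⟩
    have h1 : y • (Submodule.Quotient.mk a : QuotSMulTop x B) = 0 := by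
      rw [← Submodule.Quotient.mk_smul, Submodule.Quotient.mk_eq_zero, ← Submodule.ideal_span_singleton_smul,
        smul_eq_mul, smul_eq_mul, Ideal.mul_top]
      exact ha
    have h2 := hreg.2.right_eq_zero_of_smul h1
    rw [Submodule.Quotient.mk_eq_zero, ← Submodule.ideal_span_singleton_smul, smul_eq_mul, Ideal.mul_top] at h2
    exact h2

theorem two_le_height_of_surjective {B B' : Type u} [CommRing B] [CommRing B'] (g : B →+* B')
    (hg : Function.Surjective g) (hker : IsNilpotent (RingHom.ker g)) (p : Ideal B') [p.IsPrime]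
    (h : (2 : ℕ∞) ≤ (p.comap g).height) : (2 : ℕ∞) ≤ p.height := by
  have hle : ∀ q : PrimeSpectrum B, RingHom.ker g ≤ q.asIdeal := fun q => by
    obtain ⟨n, hn⟩ := hker
    intro a ha
    refine q.2.mem_of_pow_mem n ?_
    have h0 : a ^ n ∈ RingHom.ker g ^ n := Ideal.pow_mem_pow ha n
    rw [hn] at h0
    rw [show a ^ n = 0 from h0]
    exact q.asIdeal.zero_mem
  let F : PrimeSpectrum B → PrimeSpectrum B' := fun q =>
    ⟨q.asIdeal.map g, Ideal.map_isPrime_of_surjective hg (hle q)⟩
  have hF : ∀ q, (F q).asIdeal.comap g = q.asIdeal := fun q => by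
    rw [Ideal.comap_map_of_surjective _ hg, sup_eq_left]
    exact hle q
  have hmono : StrictMono F := by
    intro q q' hlt
    refine lt_of_le_of_ne (Ideal.map_mono hlt.le) fun e => hlt.ne (PrimeSpectrum.ext ?_)
    rw [← hF q, ← hF q', e]
  have hFp : F ⟨p.comap g, inferInstance⟩ = ⟨p, inferInstance⟩ :=
    PrimeSpectrum.ext (Ideal.map_comap_of_surjective _ hg p)
  have h1 := Order.height_le_height_apply_of_strictMono F hmono ⟨p.comap g, inferInstance⟩
  rw [hFp, ← PrimeSpectrum.height_eq_orderHeight, ← PrimeSpectrum.height_eq_orderHeight] at h1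
  exact h.trans h1

/-- Lifts of a regular pair of the special fibre inside an ideal of codimension two. -/
theorem exists_pair_lift {C A : Type u} [CommRing C] [IsLocalRing C] [CommRing A] [Algebra C A]
    [Algebra.Smooth (C ⧸ maximalIdeal C) (A ⧸ (maximalIdeal C).map (algebraMap C A))] (I : Ideal A)
    (h : ∀ p : Ideal (A ⧸ (maximalIdeal C).map (algebraMap C A)), p.IsPrime →
      I.map (Ideal.Quotient.mk ((maximalIdeal C).map (algebraMap C A))) ≤ p → (2 : ℕ∞) ≤ p.height) :
    ∃ x ∈ I, ∃ y ∈ I,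
      (∀ a, x * a ∈ (maximalIdeal C).map (algebraMap C A) → a ∈ (maximalIdeal C).map (algebraMap C A)) ∧
      ∀ a, y * a ∈ Ideal.span {x} ⊔ (maximalIdeal C).map (algebraMap C A) →
        a ∈ Ideal.span {x} ⊔ (maximalIdeal C).map (algebraMap C A) := by
  letI := Ideal.Quotient.field (maximalIdeal C)
  obtain ⟨x₀, hx₀, y₀, hy₀, hx, hy⟩ := exists_pair (k := C ⧸ maximalIdeal C)
    (I.map (Ideal.Quotient.mk ((maximalIdeal C).map (algebraMap C A)))) h
  obtain ⟨x, hxI, rfl⟩ := (Ideal.mem_map_iff_of_surjective _ Ideal.Quotient.mk_surjective).mp hx₀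
  obtain ⟨y, hyI, rfl⟩ := (Ideal.mem_map_iff_of_surjective _ Ideal.Quotient.mk_surjective).mp hy₀
  have e : ∀ a, Ideal.Quotient.mk ((maximalIdeal C).map (algebraMap C A)) a ∈
      Ideal.span {Ideal.Quotient.mk ((maximalIdeal C).map (algebraMap C A)) x} ↔
        a ∈ Ideal.span {x} ⊔ (maximalIdeal C).map (algebraMap C A) := fun a => by
    rw [← Set.image_singleton, ← Ideal.map_span, ← Ideal.mem_comap,
      Ideal.comap_map_of_surjective _ Ideal.Quotient.mk_surjective, ← RingHom.ker_eq_comap_bot, Ideal.mk_ker]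
  refine ⟨x, hxI, y, hyI, fun a ha => ?_, fun a ha => ?_⟩
  · rw [← Ideal.Quotient.eq_zero_iff_mem, map_mul] at ha
    exact Ideal.Quotient.eq_zero_iff_mem.mp (hx _ ha)
  · rw [← e] at ha ⊢
    rw [map_mul] at ha
    exact hy _ ha

end Depth

end Groth.L15.HB
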