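import Groth.Prelude.Def_QuadGrp
import Mathlib.LinearAlgebra.Matrix.BilinearForm
import Mathlib.LinearAlgebra.Matrix.SesquilinearForm
import Mathlib.Data.ZMod.Basic
import Mathlib.Algebra.CharP.Two
import Mathlib.Algebra.CharP.Algebra
import Mathlib.Algebra.Field.ZMod
import Mathlib.GroupTheory.Perm.Support
import Mathlib.Algebra.MvPolynomial.Monad

/-! The half-discriminant in odd rank. -/

set_option autoImplicit false

namespace Groth.L15

universe u v
open Matrix

/-- A symmetric matrix with zero diagonal of odd size has zero determinant in characteristic two. -/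
theorem det_eq_zero_of_symm_of_odd {ι : Type*} [Fintype ι] [DecidableEq ι] {R : Type*} [CommRing R]
    [CharP R 2] (hodd : Odd (Fintype.card ι)) (A : Matrix ι ι R) (hA : ∀ i j, A i j = A j i)
    (h0 : ∀ i, A i i = 0) : A.det = 0 := by
  classical
  rw [Matrix.det_apply']
  refine Finset.sum_involution (fun σ _ => σ⁻¹) ?_ ?_ (fun _ _ => Finset.mem_univ _) (fun σ _ => inv_inv σ)
  · intro σ _
    have hprod : ∏ i, A (σ⁻¹ i) i = ∏ i, A (σ i) i := by
      rw [← Equiv.prod_comp σ]
      refine Finset.prod_congr rfl fun i _ => ?_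
      rw [show σ⁻¹ (σ i) = i from σ.symm_apply_apply i, hA]
    rw [Equiv.Perm.sign_inv, hprod]
    exact CharTwo.add_self_eq_zero _
  · intro σ _ hne heq
    apply hne
    have hfix : ∃ i, σ i = i := by
      by_contra hc
      push Not at hc
      have hsq : σ * σ = 1 := mul_eq_one_iff_eq_inv.2 heq.symm
      have h2 : σ ^ 2 ^ 1 = 1 := by simpa [sq] using hsq
      have := Equiv.Perm.card_compl_support_modEq (p := 2) h2
      have hsupp : σ.support = Finset.univ :=
        Finset.eq_univ_of_forall fun i => Equiv.Perm.mem_support.2 (hc i)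
      rw [hsupp, Finset.compl_univ, Finset.card_empty] at this
      obtain ⟨m, hm⟩ := hodd
      rw [hm] at this
      unfold Nat.ModEq at this
      omega
    obtain ⟨i, hi⟩ := hfix
    rw [Finset.prod_eq_zero (Finset.mem_univ i) (by rw [hi, h0]), mul_zero]

theorem two_dvd_discUniv {n : ℕ} (hn : Odd n) : (2 : MvPolynomial (Sym2 (Fin n)) ℤ) ∣ QuadGrp.discUniv n := by
  classical
  rw [show (2 : MvPolynomial (Sym2 (Fin n)) ℤ) = MvPolynomial.C (2 : ℤ) by simp,
    MvPolynomial.C_dvd_iff_dvd_coeff]
  intro s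
  set f := MvPolynomial.map (σ := Sym2 (Fin n)) (Int.castRingHom (ZMod 2))
  haveI : CharP (MvPolynomial (Sym2 (Fin n)) (ZMod 2)) 2 :=
    charP_of_injective_algebraMap (MvPolynomial.C_injective _ _) 2
  have h : f (QuadGrp.discUniv n) = 0 := by
    rw [QuadGrp.discUniv, RingHom.map_det]
    refine det_eq_zero_of_symm_of_odd (by simpa using hn) _ (fun i j => ?_) (fun i => ?_)
    · simp only [RingHom.mapMatrix_apply, Matrix.map_apply, QuadGrp.univPolarMat, Matrix.of_apply]
      by_cases hij : i = j
      · subst hij; rfl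
      · rw [if_neg hij, if_neg (Ne.symm hij), Sym2.eq_swap]
    · simp only [RingHom.mapMatrix_apply, Matrix.map_apply, QuadGrp.univPolarMat, Matrix.of_apply,
        if_true, map_mul, map_ofNat, CharTwo.two_eq_zero, zero_mul]
  have := congrArg (MvPolynomial.coeff s) h
  rw [MvPolynomial.coeff_map, MvPolynomial.coeff_zero] at this
  exact (ZMod.intCast_zmod_eq_zero_iff_dvd _ 2).1 this

theorem two_mul_halfDiscUniv {n : ℕ} (hn : Odd n) : 2 * QuadGrp.halfDiscUniv n = QuadGrp.discUniv n := by
  obtain ⟨q, hq⟩ := two_dvd_discUniv hn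
  rw [hq]
  congr 1
  refine MvPolynomial.ext _ _ fun s => ?_
  rw [QuadGrp.coeff_halfDiscUniv, hq, show (2 : MvPolynomial (Sym2 (Fin n)) ℤ) = MvPolynomial.C (2 : ℤ) by simp,
    MvPolynomial.coeff_C_mul]
  omega

variable {R : Type u} [CommRing R] {M : Type v} [AddCommGroup M] [Module R M]

/-- The matrix of the polar form. -/
noncomputable def polarMat {n : ℕ} (b : Module.Basis (Fin n) R M) (Q : QuadraticForm R M) :
    Matrix (Fin n) (Fin n) R := Matrix.of fun i j => QuadraticMap.polar Q (b i) (b j)

theorem two_mul_halfDisc {n : ℕ} (hn : Odd n) (b : Module.Basis (Fin n) R M) (Q : QuadraticForm R M) :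
    2 * QuadGrp.halfDisc b (LinearEquiv.refl R R) Q = (polarMat b Q).det := by
  rw [QuadGrp.halfDisc, ← MvPolynomial.coe_eval₂Hom,
    ← map_ofNat (MvPolynomial.eval₂Hom (Int.castRingHom R) (QuadGrp.coeffs b (LinearEquiv.refl R R) Q)) 2, ← map_mul,
    two_mul_halfDiscUniv hn, QuadGrp.discUniv, RingHom.map_det]
  congr 1
  ext i j
  simp only [RingHom.mapMatrix_apply, Matrix.map_apply, QuadGrp.univPolarMat, Matrix.of_apply, polarMat]
  by_cases hij : i = j
  · subst hij
    rw [if_pos rfl, map_mul, map_ofNat, MvPolynomial.eval₂Hom_X', QuadGrp.coeffs_mk, if_pos rfl,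
      QuadraticMap.polar_self]
    simp [two_nsmul, two_mul]
  · rw [if_neg hij, MvPolynomial.eval₂Hom_X', QuadGrp.coeffs_mk, if_neg hij]
    rfl

/-- `Q'` over `P` specialises to `Q` along `φ`. -/
def Specialises {P : Type*} [CommRing P] (φ : P →+* R) {n : ℕ} (b : Module.Basis (Fin n) R M)
    (Q : QuadraticForm R M) {M' : Type*} [AddCommGroup M'] [Module P M'] (b' : Module.Basis (Fin n) P M')
    (Q' : QuadraticForm P M') : Prop :=
  ∀ x : Fin n → P, φ (Q' (∑ i, x i • b' i)) = Q (∑ i, φ (x i) • b i)

section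
variable {P : Type*} [CommRing P] (φ : P →+* R) {n : ℕ} {b : Module.Basis (Fin n) R M}
  {Q : QuadraticForm R M} {M' : Type*} [AddCommGroup M'] [Module P M']
  {b' : Module.Basis (Fin n) P M'} {Q' : QuadraticForm P M'}

theorem Specialises.map_Q (h : Specialises φ b Q b' Q') (i : Fin n) : φ (Q' (b' i)) = Q (b i) := by
  classical
  have := h (Pi.single i 1)
  simpa [Pi.single_apply, apply_ite φ, ite_smul] using this

theorem Specialises.map_polar (h : Specialises φ b Q b' Q') (i j : Fin n) :
    φ (QuadraticMap.polar Q' (b' i) (b' j)) = QuadraticMap.polar Q (b i) (b j) := by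
  classical
  have hij := h (Pi.single i 1 + Pi.single j 1)
  simp [Pi.single_apply, apply_ite φ, ite_smul, add_smul, Finset.sum_add_distrib] at hij
  simp only [QuadraticMap.polar, map_sub, h.map_Q, hij]

theorem Specialises.map_halfDisc (h : Specialises φ b Q b' Q') :
    φ (QuadGrp.halfDisc b' (LinearEquiv.refl P P) Q') = QuadGrp.halfDisc b (LinearEquiv.refl R R) Q := by
  rw [QuadGrp.halfDisc, QuadGrp.halfDisc, MvPolynomial.eval₂_comp_left]
  have hc : φ ∘ QuadGrp.coeffs b' (LinearEquiv.refl P P) Q' = QuadGrp.coeffs b (LinearEquiv.refl R R) Q := by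
    funext s
    induction s using Sym2.ind with
    | _ i j =>
      rw [Function.comp_apply]
      show φ (QuadGrp.coeffs b' _ Q' (Sym2.mk i j)) = QuadGrp.coeffs b _ Q (Sym2.mk i j)
      rw [QuadGrp.coeffs_mk, QuadGrp.coeffs_mk]
      by_cases hij : i = j
      · rw [if_pos hij, if_pos hij]; exact h.map_Q φ i
      · rw [if_neg hij, if_neg hij]; exact h.map_polar φ i j
  rw [hc, RingHom.ext_int (φ.comp (Int.castRingHom P)) (Int.castRingHom R)]

theorem Specialises.map_polarMat (h : Specialises φ b Q b' Q') :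
    (polarMat b' Q').map φ = polarMat b Q := by
  ext i j; exact h.map_polar φ i j
end

/-- The form with a given matrix, on `Fin n → P`. -/
noncomputable def matForm {P : Type*} [CommRing P] {n : ℕ} (T : Matrix (Fin n) (Fin n) P) :
    QuadraticForm P (Fin n → P) :=
  LinearMap.BilinMap.toQuadraticMap (Matrix.toLinearMap₂' P T : LinearMap.BilinMap P (Fin n → P) P)

theorem polar_matForm {P : Type*} [CommRing P] {n : ℕ} (T : Matrix (Fin n) (Fin n) P) (i j : Fin n) :
    QuadraticMap.polar (matForm T) (Pi.basisFun P (Fin n) i) (Pi.basisFun P (Fin n) j) = T i j + T j i := by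
  rw [matForm, LinearMap.BilinMap.polar_toQuadraticMap]
  simp [Matrix.toLinearMap₂'_apply']

theorem matForm_apply {P : Type*} [CommRing P] {n : ℕ} (T : Matrix (Fin n) (Fin n) P) (x : Fin n → P) :
    matForm T x = ∑ i, ∑ j, x i * T i j * x j := by
  simp only [matForm, LinearMap.BilinMap.toQuadraticMap_apply, Matrix.toLinearMap₂'_apply, smul_eq_mul]
  exact Finset.sum_congr rfl fun i _ => Finset.sum_congr rfl fun j _ => by ring

theorem form_eq_sum {n : ℕ} (b : Module.Basis (Fin n) R M) (Q : QuadraticForm R M) (c : Fin n → R) :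
    Q (∑ i, c i • b i) = ∑ i, ∑ j, c i * Q.toBilin b (b i) (b j) * c j := by
  conv_lhs => rw [← Q.toQuadraticMap_toBilin b]
  simp only [LinearMap.BilinMap.toQuadraticMap_apply, map_sum, map_smul, LinearMap.sum_apply,
    LinearMap.smul_apply, smul_eq_mul, Finset.mul_sum]
  rw [Finset.sum_comm]
  exact Finset.sum_congr rfl fun i _ => Finset.sum_congr rfl fun j _ => by ring

theorem specialises_matForm {P : Type*} [CommRing P] (φ : P →+* R) {n : ℕ} (b : Module.Basis (Fin n) R M)
    (Q : QuadraticForm R M) (T : Matrix (Fin n) (Fin n) P)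
    (hT : ∀ i j, φ (T i j) = Q.toBilin b (b i) (b j)) :
    Specialises φ b Q (Pi.basisFun P (Fin n)) (matForm T) := by
  intro x
  rw [form_eq_sum b Q]
  have hx : ∑ i, x i • Pi.basisFun P (Fin n) i = x := by
    conv_rhs => rw [← (Pi.basisFun P (Fin n)).sum_repr x]
    simp
  rw [hx, matForm_apply]
  simp [map_sum, map_mul, hT]

/-- Universal ring with all the entries. -/
noncomputable def liftHom (R : Type u) [CommRing R] : MvPolynomial R ℤ →+* R :=
  MvPolynomial.eval₂Hom (Int.castRingHom R) id

theorem two_ne_zero_mvPoly (R : Type u) : (2 : MvPolynomial R ℤ) ≠ 0 := by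
  rw [show (2 : MvPolynomial R ℤ) = MvPolynomial.C (2 : ℤ) by simp, Ne, MvPolynomial.C_eq_zero]
  norm_num

theorem liftHom_X (r : R) : liftHom R (MvPolynomial.X r) = r := MvPolynomial.eval₂Hom_X' _ _ r

theorem polarMat_comp {n : ℕ} (b : Module.Basis (Fin n) R M) (Q : QuadraticForm R M) (g : M →ₗ[R] M) :
    polarMat b (Q.comp g) = (LinearMap.toMatrix b b g).transpose * polarMat b Q * LinearMap.toMatrix b b g := by
  classical
  have h : ∀ Q : QuadraticForm R M, polarMat b Q = LinearMap.toMatrix₂ b b (QuadraticMap.polarBilin Q) := by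
    intro Q; ext i j; simp [polarMat, LinearMap.toMatrix₂_apply]
  rw [h, h, ← LinearMap.toMatrix₂_compl₁₂]
  congr 1
  exact LinearMap.ext₂ fun x y => by simp [QuadraticMap.polar]

/-- The transformation rule. -/
theorem halfDisc_comp {n : ℕ} (hn : Odd n) (b : Module.Basis (Fin n) R M) (Q : QuadraticForm R M)
    (g : M →ₗ[R] M) :
    QuadGrp.halfDisc b (LinearEquiv.refl R R) (Q.comp g) =
      LinearMap.det g ^ 2 * QuadGrp.halfDisc b (LinearEquiv.refl R R) Q := by
  classical
  let P := MvPolynomial R ℤ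
  let φ := liftHom R
  let T : Matrix (Fin n) (Fin n) P := Matrix.of fun i j => MvPolynomial.X (Q.toBilin b (b i) (b j))
  let G : Matrix (Fin n) (Fin n) P := Matrix.of fun i j => MvPolynomial.X (LinearMap.toMatrix b b g i j)
  let e := Pi.basisFun P (Fin n)
  let g' : (Fin n → P) →ₗ[P] (Fin n → P) := Matrix.toLin e e G
  have h1 : Specialises φ b Q e (matForm T) := specialises_matForm φ b Q T fun i j => liftHom_X _
  have hG : G.map φ = LinearMap.toMatrix b b g := by ext i j; exact liftHom_X _
  have h2 : Specialises φ b (Q.comp g) e ((matForm T).comp g') := by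
    intro x
    rw [QuadraticMap.comp_apply, QuadraticMap.comp_apply]
    have e1 : g' (∑ i, x i • e i) = ∑ i, (∑ j, x j * G i j) • e i := by
      rw [map_sum]
      simp only [map_smul, g', Matrix.toLin_self, Finset.smul_sum, smul_smul, Finset.sum_smul]
      rw [Finset.sum_comm]
    have e2 : g (∑ i, φ (x i) • b i) = ∑ i, φ (∑ j, x j * G i j) • b i := by
      rw [map_sum]
      simp only [map_smul, map_sum, map_mul, Finset.sum_smul]
      rw [Finset.sum_comm]
      refine Finset.sum_congr rfl fun j _ => ?_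
      have hgb : g (b j) = ∑ i, φ (G i j) • b i := by
        conv_lhs => rw [← b.sum_repr (g (b j))]
        refine Finset.sum_congr rfl fun i _ => ?_
        rw [← LinearMap.toMatrix_apply, ← hG]
        rfl
      rw [hgb, Finset.smul_sum]
      exact Finset.sum_congr rfl fun i _ => smul_smul _ _ _
    rw [e1, e2]
    exact h1 _
  have key : QuadGrp.halfDisc e (LinearEquiv.refl P P) ((matForm T).comp g') =
      G.det ^ 2 * QuadGrp.halfDisc e (LinearEquiv.refl P P) (matForm T) := by
    apply mul_left_cancel₀ (two_ne_zero_mvPoly R : (2 : P) ≠ 0)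
    rw [two_mul_halfDisc hn, polarMat_comp, Matrix.det_mul, Matrix.det_mul, Matrix.det_transpose,
      LinearMap.toMatrix_toLin, ← two_mul_halfDisc hn]
    ring
  have := congrArg φ key
  rw [h2.map_halfDisc φ, map_mul, map_pow, h1.map_halfDisc φ, RingHom.map_det] at this
  rw [this, show φ.mapMatrix G = G.map φ from rfl, hG, LinearMap.det_toMatrix]

/-- If `b 0` is orthogonal to the other basis vectors. -/
theorem halfDisc_eq_of_orth {m : ℕ} (hn : Odd (m + 1)) (b : Module.Basis (Fin (m + 1)) R M)
    (Q : QuadraticForm R M) (h : ∀ j : Fin m, QuadraticMap.polar Q (b 0) (b j.succ) = 0) :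
    QuadGrp.halfDisc b (LinearEquiv.refl R R) Q =
      Q (b 0) * ((polarMat b Q).submatrix Fin.succ Fin.succ).det := by
  classical
  let P := MvPolynomial R ℤ
  let φ := liftHom R
  let T : Matrix (Fin (m + 1)) (Fin (m + 1)) P := Matrix.of fun i j =>
    if (i = 0 ↔ j = 0) then MvPolynomial.X (Q.toBilin b (b i) (b j)) else 0
  let e := Pi.basisFun P (Fin (m + 1))
  have hT : ∀ i j, φ (T i j) = Q.toBilin b (b i) (b j) := by
    intro i j
    simp only [T, Matrix.of_apply]
    split_ifs with hij
    · exact liftHom_X _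
    · rw [map_zero, QuadraticMap.toBilin_apply]
      rcases Fin.eq_zero_or_eq_succ i with rfl | ⟨i, rfl⟩ <;>
        rcases Fin.eq_zero_or_eq_succ j with rfl | ⟨j, rfl⟩
      · simp at hij
      · rw [if_neg (Fin.succ_ne_zero j).symm, if_pos (Fin.succ_pos j), h]
      · rw [if_neg (Fin.succ_ne_zero i), if_neg (by simp)]
      · simp [Fin.succ_ne_zero] at hij
  have h1 : Specialises φ b Q e (matForm T) := specialises_matForm φ b Q T hT
  set B := polarMat e (matForm T) with hB
  have hB0 : ∀ j : Fin m, B 0 j.succ = 0 := by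
    intro j
    rw [hB, polarMat, Matrix.of_apply, polar_matForm]
    simp [T, Fin.succ_ne_zero]
  have hB00 : B 0 0 = 2 * matForm T (e 0) := by
    simp only [hB, polarMat, Matrix.of_apply, QuadraticMap.polar_self, smul_eq_mul, two_smul, two_mul]
  have key : QuadGrp.halfDisc e (LinearEquiv.refl P P) (matForm T) =
      matForm T (e 0) * (B.submatrix Fin.succ Fin.succ).det := by
    apply mul_left_cancel₀ (two_ne_zero_mvPoly R : (2 : P) ≠ 0)
    rw [two_mul_halfDisc hn, ← hB, Matrix.det_succ_row_zero, Fin.sum_univ_succ,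
      Finset.sum_eq_zero fun j _ => by rw [hB0, mul_zero, zero_mul], hB00]
    simp [Fin.succAbove_zero, mul_assoc]
  have := congrArg φ key
  rw [h1.map_halfDisc φ, map_mul, h1.map_Q φ, RingHom.map_det] at this
  rw [this]
  congr 2
  rw [← h1.map_polarMat φ]
  rfl

end Groth.L15
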