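import Groth.Agent.L08.Lambda.Inv
import Groth.Agent.L08.Lambda.Eigen
import Groth.Prelude.Def_KGr
import Mathlib.LinearAlgebra.Lagrange
import Mathlib.LinearAlgebra.Eigenspace.Minpoly
import Mathlib.RingTheory.Flat.Localization
import Mathlib.RingTheory.Localization.FractionRing
import Mathlib.RingTheory.TensorProduct.Maps
import Mathlib.Algebra.Module.Rat
import Mathlib.RingTheory.Polynomial.Pochhammer

/-!
The Chern character `ℚ ⊗ K → ℚGr K` is the decomposition into Adams eigenspaces.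
-/

universe u

namespace Groth.L15.ChernChar

open LambdaRing TensorProduct Finset LaurentPolynomial

variable {K : Type u} [CommRing K] [LambdaOps K] (P : PosStructure K)

/-- The Adams operation as a ring endomorphism. -/
noncomputable def psiHom (hK : HasSplitting K P) (j : ℕ) : K →+* K where
  toFun := adams P j
  map_one' := Groth.L08.Lambda.adams_one P j
  map_mul' := fun a b => Groth.L08.Lambda.adams_mul P hK a b j
  map_zero' := Groth.L08.Lambda.adams_zero_arg P j
  map_add' := Groth.L22.Lambda.adams_add P j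

/-- The rationalised Adams operation `ψ²`. -/
noncomputable def Psi (hK : HasSplitting K P) : (ℚ ⊗[ℤ] K) →ₐ[ℚ] (ℚ ⊗[ℤ] K) :=
  Algebra.TensorProduct.map (AlgHom.id ℚ ℚ) (psiHom P hK 2).toIntAlgHom

theorem Psi_one_tmul (hK : HasSplitting K P) (x : K) :
    Psi P hK ((1 : ℚ) ⊗ₜ[ℤ] x) = (1 : ℚ) ⊗ₜ[ℤ] adams P 2 x := rfl

theorem adams_one_op (hK : HasSplitting K P) (x : K) : adams P 1 x = x := by
  rw [Groth.L08.Lambda.adams_eq_adamsOp hK le_rfl, Groth.L08.Lambda.adamsOp_eq_gh le_rfl,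
    Groth.L08.Lambda.gh_one_eq, LambdaOps.lam_one]

theorem Psi_pow (hK : HasSplitting K P) (i : ℕ) (x : K) :
    ((Psi P hK).toLinearMap ^ i) ((1 : ℚ) ⊗ₜ[ℤ] x) = (1 : ℚ) ⊗ₜ[ℤ] adams P (2 ^ i) x := by
  induction i with
  | zero => rw [pow_zero, pow_zero, adams_one_op P hK]; rfl
  | succ i ih =>
    rw [pow_succ', pow_succ', Module.End.mul_apply, ih, AlgHom.toLinearMap_apply, Psi_one_tmul,
      Groth.L08.Lambda.adams_adams P hK]

open Groth.L08.Lambda in
theorem fil (hK : HasSplitting K P) {d : ℕ} (hd : gammaFiltration P (d + 1) = ⊥) :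
    EigenFil (Psi P hK).toLinearMap (fun m => (2 : ℚ) ^ m) (ratFil P) d := by
  simpa using eigenFil P hK hd (j := 2) le_rfl (Psi P hK).toLinearMap (fun x => Psi_one_tmul P hK x)

/-- The projection to the `2^m`-eigenspace. -/
noncomputable def proj (hK : HasSplitting K P) (d m : ℕ) : Module.End ℚ (ℚ ⊗[ℤ] K) :=
  if m ≤ d then Polynomial.aeval (Psi P hK).toLinearMap (Lagrange.basis (range (d + 1)) (fun i => (2 : ℚ) ^ i) m)
  else 0

/-- The eigenspaces. -/
noncomputable def Eig (hK : HasSplitting K P) (m : ℕ) : Submodule ℚ (ℚ ⊗[ℤ] K) :=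
  Module.End.eigenspace (Psi P hK).toLinearMap ((2 : ℚ) ^ m)

variable (hK : HasSplitting K P) {d : ℕ} (hd : gammaFiltration P (d + 1) = ⊥)
include hd

open Groth.L08.Lambda in
theorem mem_eig_zero_of_lt {m : ℕ} (hm : d < m) {y : ℚ ⊗[ℤ] K} (hy : y ∈ Eig P hK m) : y = 0 :=
  (fil P hK hd).eq_zero_of_le hm ((fil P hK hd).eigenspace_le m hy)

theorem proj_eig {i : ℕ} {y : ℚ ⊗[ℤ] K} (hy : y ∈ Eig P hK i) (m : ℕ) :
    proj P hK d m y = if i = m then y else 0 := by
  by_cases hy0 : y = 0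
  · subst hy0; simp
  have hi : i ≤ d := by
    by_contra h
    exact hy0 (mem_eig_zero_of_lt P hK hd (by omega) hy)
  unfold proj
  split_ifs with hm h1 h2
  · subst h1
    rw [Module.End.aeval_apply_of_hasEigenvector ⟨hy, hy0⟩, Lagrange.eval_basis_self
      (fun a _ b _ h => (fil P hK hd).inj h) (by simp; omega), one_smul]
  · rw [Module.End.aeval_apply_of_hasEigenvector ⟨hy, hy0⟩, Lagrange.eval_basis_of_ne (Ne.symm h1)
      (by simp; omega), zero_smul]
  · omega
  · simp

@[elab_as_elim]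
theorem eig_induction {motive : (ℚ ⊗[ℤ] K) → Prop} (y : ℚ ⊗[ℤ] K) (h0 : motive 0)
    (hadd : ∀ a b, motive a → motive b → motive (a + b)) (heig : ∀ i, ∀ a ∈ Eig P hK i, motive a) : motive y := by
  have hy : y ∈ ⨆ m : ℕ, Eig P hK m := by
    have : y ∈ (⊤ : Submodule ℚ (ℚ ⊗[ℤ] K)) := trivial
    rw [← (fil P hK hd).iSup_eq_top] at this
    exact (iSup₂_le fun m _ => le_iSup (Eig P hK) m) this
  exact Submodule.iSup_induction _ (motive := motive) hy heig h0 hadd

theorem proj_mem (m : ℕ) (y : ℚ ⊗[ℤ] K) : proj P hK d m y ∈ Eig P hK m := by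
  refine eig_induction P hK hd y (by simp) (fun a b ha hb => by rw [map_add]; exact add_mem ha hb) fun i a ha => ?_
  rw [proj_eig P hK hd ha]
  split_ifs with h
  · exact h ▸ ha
  · exact zero_mem _

theorem sum_proj (y : ℚ ⊗[ℤ] K) : ∑ m ∈ range (d + 1), proj P hK d m y = y := by
  refine eig_induction P hK hd y (by simp) (fun a b ha hb => by simp only [map_add, sum_add_distrib, ha, hb]) fun i a ha => ?_
  simp only [proj_eig P hK hd ha, sum_ite_eq, mem_range]
  split_ifs with h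
  · rfl
  · exact (mem_eig_zero_of_lt P hK hd (by omega) ha).symm

theorem proj_sub_mem {m : ℕ} {y : ℚ ⊗[ℤ] K} (hy : y ∈ Groth.L08.Lambda.ratFil P m) :
    proj P hK d m y - y ∈ Groth.L08.Lambda.ratFil P (m + 1) ∧
      (∀ n < m, proj P hK d n y = 0) := by
  suffices hkill : ∀ p, ∀ z ∈ Groth.L08.Lambda.ratFil P p, ∀ n < p, proj P hK d n z = 0 by
    refine ⟨?_, hkill m y hy⟩
    rw [← (fil P hK hd).sup_eq m] at hy
    obtain ⟨e, he, z, hz, rfl⟩ := Submodule.mem_sup.1 hy
    rw [map_add, proj_eig P hK hd he, if_pos rfl, hkill _ z hz m (by omega), add_zero,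
      sub_add_cancel_left]
    exact neg_mem hz
  intro p
  induction hj : d + 1 - p generalizing p with
  | zero =>
    intro z hz n _
    rw [(fil P hK hd).eq_zero_of_le (by omega) hz, map_zero]
  | succ j ih =>
    intro z hz n hn
    rw [← (fil P hK hd).sup_eq p] at hz
    obtain ⟨e, he, w, hw, rfl⟩ := Submodule.mem_sup.1 hz
    rw [map_add, proj_eig P hK hd he, if_neg (by omega), ih (p + 1) (by omega) w hw n (by omega), add_zero]

theorem eig_mul {a b : ℕ} {u v : ℚ ⊗[ℤ] K} (hu : u ∈ Eig P hK a) (hv : v ∈ Eig P hK b) :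
    u * v ∈ Eig P hK (a + b) := by
  rw [Eig, Module.End.mem_eigenspace_iff, AlgHom.toLinearMap_apply] at *
  rw [map_mul, hu, hv, smul_mul_smul_comm, pow_add]

theorem one_mem_eig : (1 : ℚ ⊗[ℤ] K) ∈ Eig P hK 0 := by
  rw [Eig, Module.End.mem_eigenspace_iff, AlgHom.toLinearMap_apply, map_one, pow_zero, one_smul]

omit hd in
theorem tmul_mem {n : ℕ} {x : K} (hx : x ∈ gammaFiltration P n) :
    (1 : ℚ) ⊗ₜ[ℤ] x ∈ Groth.L08.Lambda.ratFil P n :=
  Submodule.subset_span ⟨x, hx, rfl⟩

omit hd in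
theorem ratFil_mul {a b : ℕ} {u v : ℚ ⊗[ℤ] K} (hu : u ∈ Groth.L08.Lambda.ratFil P a)
    (hv : v ∈ Groth.L08.Lambda.ratFil P b) : u * v ∈ Groth.L08.Lambda.ratFil P (a + b) := by
  induction hu using Submodule.span_induction with
  | mem z hz =>
    induction hv using Submodule.span_induction with
    | mem w hw =>
      obtain ⟨x, hx, rfl⟩ := hz
      obtain ⟨y, hy, rfl⟩ := hw
      rw [Algebra.TensorProduct.tmul_mul_tmul, one_mul]
      exact tmul_mem P (Groth.L08.Lambda.mul_mem_gammaFiltration P hx hy)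
    | zero => simp
    | add _ _ _ _ h1 h2 => rw [mul_add]; exact add_mem h1 h2
    | smul c _ _ h1 => rw [mul_smul_comm]; exact Submodule.smul_mem _ _ h1
  | zero => simp
  | add _ _ _ _ h1 h2 => rw [add_mul]; exact add_mem h1 h2
  | smul c _ _ h1 => rw [smul_mul_assoc]; exact Submodule.smul_mem _ _ h1

theorem proj_mul {a b : ℕ} {u v : ℚ ⊗[ℤ] K} (hu : u ∈ Groth.L08.Lambda.ratFil P a)
    (hv : v ∈ Groth.L08.Lambda.ratFil P b) :
    proj P hK d a u * proj P hK d b v = proj P hK d (a + b) (u * v) := by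
  set e := proj P hK d a u with he
  set f := proj P hK d b v with hf
  have h1 := (proj_sub_mem P hK hd hu).1
  have h2 := (proj_sub_mem P hK hd hv).1
  have heF : e ∈ Groth.L08.Lambda.ratFil P a := (fil P hK hd).eigenspace_le a (proj_mem P hK hd a u)
  have hdiff : e * f - u * v ∈ Groth.L08.Lambda.ratFil P (a + b + 1) := by
    rw [show e * f - u * v = e * (f - v) + (e - u) * v by ring]
    refine add_mem ?_ ?_
    · rw [show a + b + 1 = a + (b + 1) by omega]
      exact ratFil_mul P heF h2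
    rw [show a + b + 1 = a + 1 + b by omega]
    exact ratFil_mul P h1 hv
  have h3 := (proj_sub_mem P hK hd hdiff).2 (a + b) (by omega)
  rw [map_sub, proj_eig P hK hd (eig_mul P hK hd (proj_mem P hK hd a u) (proj_mem P hK hd b v)), if_pos rfl,
    sub_eq_zero] at h3
  exact h3

omit hd

/-- The monomials spanning the Rees ring. -/
def monos : Set (LaurentPolynomial K) :=
  {p | ∃ (z : ℤ) (x : K), x ∈ gammaFiltration P (-z).toNat ∧ p = C x * T z}

theorem rees_le : ∀ p ∈ KGr.rees P, p ∈ AddSubgroup.closure (monos P) := by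
  intro p hp
  induction hp using Subring.closure_induction with
  | mem q hq =>
    refine AddSubgroup.subset_closure ?_
    rcases hq with rfl | ⟨n, x, hx, rfl⟩
    · exact ⟨1, 1, by simp [gammaFiltration], by rw [map_one, one_mul]⟩
    · exact ⟨-n, x, by simpa using hx, rfl⟩
  | zero => exact zero_mem _
  | one => exact AddSubgroup.subset_closure ⟨0, 1, by simp [gammaFiltration], by simp⟩
  | add a b _ _ ha hb => exact add_mem ha hb
  | neg a _ ha => exact neg_mem ha
  | mul a b ha' hb' ha hb =>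
    clear ha' hb'
    induction ha using AddSubgroup.closure_induction with
    | mem a ha =>
      induction hb using AddSubgroup.closure_induction with
      | mem b hb =>
        obtain ⟨z, x, hx, rfl⟩ := ha
        obtain ⟨w, y, hy, rfl⟩ := hb
        refine AddSubgroup.subset_closure ⟨z + w, x * y, ?_, by rw [map_mul, T_add]; ring⟩
        exact Groth.L08.Lambda.gammaFiltration_antitone P (by omega)
          (Groth.L08.Lambda.mul_mem_gammaFiltration P hx hy)
      | zero => simp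
      | add _ _ _ _ h1 h2 => rw [mul_add]; exact add_mem h1 h2
      | neg _ _ h1 => rw [mul_neg]; exact neg_mem h1
    | zero => simp
    | add _ _ _ _ h1 h2 => rw [add_mul]; exact add_mem h1 h2
    | neg _ _ h1 => rw [neg_mul]; exact neg_mem h1

theorem mem_rees {z : ℤ} {x : K} (hx : x ∈ gammaFiltration P (-z).toNat) : C x * T z ∈ KGr.rees P := by
  rcases le_or_gt z 0 with h | h
  · refine Subring.subset_closure (Set.mem_insert_of_mem _ ⟨(-z).toNat, x, hx, ?_⟩)
    rw [show (-((-z).toNat : ℤ)) = z by omega]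
  · have h1 : (T (1 : ℤ) : LaurentPolynomial K) ∈ KGr.rees P := Subring.subset_closure (Set.mem_insert _ _)
    have h0 : C x * T 0 ∈ KGr.rees P :=
      Subring.subset_closure (Set.mem_insert_of_mem _ ⟨0, x, by simp [gammaFiltration], by simp⟩)
    have := mul_mem h0 (pow_mem h1 z.toNat)
    rwa [T_pow, mul_assoc, ← T_add, show 0 + (z.toNat : ℤ) * 1 = z by omega] at this

/-- The class in `Gr` of a monomial. -/
noncomputable def cls (z : ℤ) (x : K) (hx : x ∈ gammaFiltration P (-z).toNat) : KGr.GrZ P :=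
  Ideal.Quotient.mk _ ⟨C x * T z, mem_rees P hx⟩

@[elab_as_elim]
theorem grZ_induction {motive : KGr.GrZ P → Prop} (q : KGr.GrZ P) (h0 : motive 0)
    (hadd : ∀ a b, motive a → motive b → motive (a + b)) (hneg : ∀ a, motive a → motive (-a))
    (hcls : ∀ z x hx, motive (cls P z x hx)) : motive q := by
  obtain ⟨⟨p, hp⟩, rfl⟩ := Ideal.Quotient.mk_surjective q
  have := rees_le P p hp
  suffices ∀ hp' : p ∈ KGr.rees P, motive (Ideal.Quotient.mk _ ⟨p, hp'⟩) from this hp
  clear hp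
  suffices p ∈ KGr.rees P ∧ ∀ hp' : p ∈ KGr.rees P, motive (Ideal.Quotient.mk _ ⟨p, hp'⟩) from this.2
  induction this using AddSubgroup.closure_induction with
  | mem a ha =>
    obtain ⟨z, x, hx, rfl⟩ := ha
    exact ⟨mem_rees P hx, fun _ => hcls z x hx⟩
  | zero => exact ⟨zero_mem _, fun _ => h0⟩
  | add a b _ _ ha hb =>
    exact ⟨add_mem ha.1 hb.1, fun _ => hadd _ _ (ha.2 ha.1) (hb.2 hb.1)⟩
  | neg a _ ha => exact ⟨neg_mem ha.1, fun _ => hneg _ (ha.2 ha.1)⟩

/-- Coefficientwise projection. -/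
noncomputable def D0 (d : ℕ) : LaurentPolynomial K →+ (ℚ ⊗[ℤ] K) :=
  ∑ n ∈ range (d + 1), (proj P hK d n).toAddMonoidHom.comp
    ((TensorProduct.mk ℤ ℚ K 1).toAddMonoidHom.comp
      ((Finsupp.applyAddHom (-(n : ℤ))).comp (AddMonoidAlgebra.coeffAddEquiv (R := K) (M := ℤ)).toAddMonoidHom))

theorem D0_monomial (d : ℕ) (z : ℤ) (x : K) :
    D0 P hK d (C x * T z) = if z ≤ 0 then proj P hK d (-z).toNat ((1 : ℚ) ⊗ₜ[ℤ] x) else 0 := by
  rw [← single_eq_C_mul_T]
  have key : ∀ n ∈ range (d + 1), (proj P hK d n) ((1 : ℚ) ⊗ₜ[ℤ] (Finsupp.single z x (-(n : ℤ)))) =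
      if n = (-z).toNat ∧ z ≤ 0 then proj P hK d n ((1 : ℚ) ⊗ₜ[ℤ] x) else 0 := fun n _ => by
    by_cases h : z = -(n : ℤ)
    · rw [if_pos (by omega), h, Finsupp.single_eq_same]
    · rw [if_neg (by omega), Finsupp.single_eq_of_ne (Ne.symm h), tmul_zero, map_zero]
  simp only [D0, AddMonoidHom.finsetSum_apply, AddMonoidHom.comp_apply]
  refine (Finset.sum_congr rfl key).trans ?_
  split_ifs with hz
  · simp only [hz, and_true, sum_ite_eq', mem_range]
    split_ifs with h
    · rfl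
    · rw [proj, if_neg (by omega), LinearMap.zero_apply]
  · simp [hz]

include hd

theorem D0_kills (p : KGr.rees P) (hp : p ∈ Ideal.span {KGr.tGen P}) : D0 P hK d p = 0 := by
  obtain ⟨⟨q, hq⟩, rfl⟩ := Ideal.mem_span_singleton'.1 hp
  show D0 P hK d (q * T 1) = 0
  have := rees_le P q hq
  clear hq hp
  induction this using AddSubgroup.closure_induction with
  | mem a ha =>
    obtain ⟨z, x, hx, rfl⟩ := ha
    rw [mul_assoc, ← T_add, D0_monomial]
    split_ifs with h
    · exact (proj_sub_mem P hK hd (tmul_mem P hx)).2 _ (by omega)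
    · rfl
  | zero => simp
  | add a b _ _ ha hb => rw [add_mul, map_add, ha, hb, add_zero]
  | neg a _ ha => rw [neg_mul, map_neg, ha, neg_zero]

/-- The map `Gr K → ℚ ⊗ K`. -/
noncomputable def DZ : KGr.GrZ P →+ (ℚ ⊗[ℤ] K) :=
  QuotientAddGroup.lift (Submodule.toAddSubgroup (Ideal.span {KGr.tGen P}))
    ((D0 P hK d).comp (KGr.rees P).subtype.toAddMonoidHom) (fun p hp => D0_kills P hK hd p hp)

theorem DZ_cls (z : ℤ) (x : K) (hx : x ∈ gammaFiltration P (-z).toNat) :
    DZ P hK hd (cls P z x hx) = if z ≤ 0 then proj P hK d (-z).toNat ((1 : ℚ) ⊗ₜ[ℤ] x) else 0 :=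
  D0_monomial P hK d z x

omit hd in
theorem cls_pos (z : ℤ) (x : K) (hx : x ∈ gammaFiltration P (-z).toNat) (hz : 0 < z) : cls P z x hx = 0 := by
  refine Ideal.Quotient.eq_zero_iff_mem.2 (Ideal.mem_span_singleton'.2 ⟨⟨C x * T (z - 1), mem_rees P ?_⟩, ?_⟩)
  · rw [show (-(z - 1)).toNat = 0 by omega]; simp [gammaFiltration]
  · refine Subtype.ext ?_
    show C x * T (z - 1) * T 1 = _
    rw [mul_assoc, ← T_add, sub_add_cancel]

theorem DZ_one : DZ P hK hd 1 = 1 := by
  have h : (1 : KGr.GrZ P) = cls P 0 1 (by simp [gammaFiltration]) := by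
    rw [cls, ← map_one (Ideal.Quotient.mk (Ideal.span {KGr.tGen P}))]
    congr 1
    exact Subtype.ext (by simp)
  rw [h, DZ_cls P hK hd, if_pos le_rfl, ← Algebra.TensorProduct.one_def,
    proj_eig P hK hd (one_mem_eig P hK hd), if_pos (by omega)]

theorem DZ_mul (q r : KGr.GrZ P) : DZ P hK hd (q * r) = DZ P hK hd q * DZ P hK hd r := by
  refine grZ_induction P q (by simp) (fun a b ha hb => by rw [add_mul, map_add, map_add, add_mul, ha, hb])
    (fun a ha => by rw [neg_mul, map_neg, map_neg, ha]; exact (neg_mul (DZ P hK hd a) _).symm) fun z x hx => ?_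
  refine grZ_induction P r (by simp) (fun a b ha hb => by rw [mul_add, map_add, map_add, mul_add, ha, hb])
    (fun a ha => by rw [mul_neg, map_neg, map_neg, ha]; exact (mul_neg _ (DZ P hK hd a)).symm) fun w y hy => ?_
  rcases le_or_gt z 0 with hz | hz
  swap
  · simp [cls_pos P z x hx hz]
  rcases le_or_gt w 0 with hw | hw
  swap
  · simp [cls_pos P w y hy hw]
  have hxy : x * y ∈ gammaFiltration P (-(z + w)).toNat :=
    Groth.L08.Lambda.gammaFiltration_antitone P (by omega) (Groth.L08.Lambda.mul_mem_gammaFiltration P hx hy)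
  have : cls P z x hx * cls P w y hy = cls P (z + w) (x * y) hxy := by
    rw [cls, cls, cls, ← map_mul]
    congr 1
    refine Subtype.ext ?_
    show C x * T z * (C y * T w) = _
    simp only [map_mul, T_add]
    ring
  rw [this, DZ_cls P hK hd, DZ_cls P hK hd, DZ_cls P hK hd, if_pos hz, if_pos hw, if_pos (by omega),
    proj_mul P hK hd (tmul_mem P hx) (tmul_mem P hy), Algebra.TensorProduct.tmul_mul_tmul, one_mul,
    show (-(z + w)).toNat = (-z).toNat + (-w).toNat by omega]

/-- `DZ` as a ring homomorphism. -/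
noncomputable def DZr : KGr.GrZ P →+* (ℚ ⊗[ℤ] K) :=
  { DZ P hK hd with map_one' := DZ_one P hK hd, map_mul' := DZ_mul P hK hd }

/-- The decomposition map `ℚGr K → ℚ ⊗ K`. -/
noncomputable def D : KGr.Gr P →ₐ[ℚ] (ℚ ⊗[ℤ] K) :=
  Algebra.TensorProduct.lift (Algebra.ofId ℚ _) (DZr P hK hd).toIntAlgHom (fun _ _ => Commute.all _ _)

theorem D_tmul (r : ℚ) (q : KGr.GrZ P) : D P hK hd (r ⊗ₜ[ℤ] q) = r • DZ P hK hd q := by
  rw [D, Algebra.TensorProduct.lift_tmul, Algebra.ofId_apply, ← Algebra.smul_def]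
  rfl

omit hd in
/-- `grK` of an element of `F^n` is its class. -/
theorem grK_eq {n : ℕ} {x : K} (hx : x ∈ gammaFiltration P (-(-(n : ℤ))).toNat) :
    KGr.grK P (n : ℤ) x = (1 : ℚ) ⊗ₜ[ℤ] cls P (-(n : ℤ)) x hx := by
  have h : ∃ N : ℕ, 1 ≤ N ∧ C ((N : K) * x) * T (-(n : ℤ)) ∈ KGr.rees P :=
    ⟨1, le_rfl, by rw [Nat.cast_one, one_mul]; exact mem_rees P hx⟩
  rw [KGr.grK, dif_pos h]
  have hN : (h.choose : ℚ) ≠ 0 := by
    have := h.choose_spec.1
    exact_mod_cast (show h.choose ≠ 0 by omega)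
  have e : Ideal.Quotient.mk (Ideal.span {KGr.tGen P}) (⟨C ((h.choose : K) * x) * T (-(n : ℤ)), h.choose_spec.2⟩ : KGr.rees P) =
      (h.choose : ℤ) • cls P (-(n : ℤ)) x hx := by
    rw [cls, ← map_zsmul]
    congr 1
    refine Subtype.ext ?_
    show _ = (h.choose : ℤ) • (C x * T (-(n : ℤ)))
    simp only [zsmul_eq_mul, Int.cast_natCast]
    simp [map_mul, mul_assoc]
  rw [e, ← TensorProduct.smul_tmul, zsmul_eq_mul, Int.cast_natCast, mul_one_div_cancel hN]

/-- The inclusion `ℚ ⊗ F^n → ℚ ⊗ K`. -/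
noncomputable def inc (n : ℕ) : ℚ ⊗[ℤ] (gammaFiltration P n).toIntSubmodule →ₗ[ℚ] ℚ ⊗[ℤ] K :=
  ((gammaFiltration P n).toIntSubmodule.subtype).baseChange ℚ

/-- The class map `F^n → Gr`. -/
noncomputable def clsHom (n : ℕ) : (gammaFiltration P n).toIntSubmodule →+ KGr.GrZ P :=
  AddMonoidHom.mk' (fun x => cls P (-(n : ℤ)) x (by simpa using x.2)) fun a b => by
    rw [cls, cls, cls, ← map_add]
    congr 1
    refine Subtype.ext ?_
    show C ((a : K) + (b : K)) * T _ = _
    rw [map_add, add_mul]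
    rfl

omit hd in
theorem inc_injective (n : ℕ) : Function.Injective (inc P n) :=
  haveI : Module.Flat ℤ ℚ := IsLocalization.flat ℚ (nonZeroDivisors ℤ)
  Module.Flat.lTensor_preserves_injective_linearMap (M := ℚ) _ Subtype.val_injective

omit hd in
theorem ratFil_le (n : ℕ) : Groth.L08.Lambda.ratFil P n ≤ LinearMap.range (inc P n) := by
  refine Submodule.span_le.2 ?_
  rintro _ ⟨x, hx, rfl⟩
  exact ⟨(1 : ℚ) ⊗ₜ[ℤ] (⟨x, hx⟩ : (gammaFiltration P n).toIntSubmodule), rfl⟩

/-- The class map on `ℚF^n`. -/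
noncomputable def L (n : ℕ) : LinearMap.range (inc P n) →ₗ[ℚ] KGr.Gr P :=
  ((clsHom P n).toIntLinearMap.baseChange ℚ).comp (LinearEquiv.ofInjective (inc P n) (inc_injective P n)).symm.toLinearMap

omit hd in
theorem L_tmul (n : ℕ) (x : K) (hx : x ∈ gammaFiltration P n) (hx' : (1 : ℚ) ⊗ₜ[ℤ] x ∈ LinearMap.range (inc P n)) :
    L P n ⟨(1 : ℚ) ⊗ₜ[ℤ] x, hx'⟩ = (1 : ℚ) ⊗ₜ[ℤ] cls P (-(n : ℤ)) x (by simpa using hx) := by
  have : (LinearEquiv.ofInjective (inc P n) (inc_injective P n)).symm ⟨(1 : ℚ) ⊗ₜ[ℤ] x, hx'⟩ =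
      (1 : ℚ) ⊗ₜ[ℤ] (⟨x, hx⟩ : (gammaFiltration P n).toIntSubmodule) :=
    (LinearEquiv.symm_apply_eq _).2 (Subtype.ext rfl)
  rw [L, LinearMap.comp_apply, LinearEquiv.coe_toLinearMap, this]
  rfl

theorem proj_mem_range (n : ℕ) (y : ℚ ⊗[ℤ] K) : proj P hK d n y ∈ LinearMap.range (inc P n) :=
  ratFil_le P n ((fil P hK hd).eigenspace_le n (proj_mem P hK hd n y))

/-- The inverse of `D`. -/
noncomputable def G : (ℚ ⊗[ℤ] K) →ₗ[ℚ] KGr.Gr P :=
  ∑ n ∈ range (d + 1), (L P n).comp ((proj P hK d n).codRestrict _ (proj_mem_range P hK hd n))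

omit hd in
theorem L_succ (n : ℕ) {y : ℚ ⊗[ℤ] K} (hy : y ∈ Groth.L08.Lambda.ratFil P (n + 1))
    (hy' : y ∈ LinearMap.range (inc P n)) : L P n ⟨y, hy'⟩ = 0 := by
  have hle : Groth.L08.Lambda.ratFil P (n + 1) ≤ LinearMap.range (inc P n) :=
    (Submodule.span_mono (Set.image_mono (Groth.L08.Lambda.gammaFiltration_antitone P (Nat.le_succ n)))).trans (ratFil_le P n)
  suffices ((L P n).comp (Submodule.inclusion hle)) ⟨y, hy⟩ = 0 from this
  induction hy using Submodule.span_induction with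
  | mem z hz =>
    obtain ⟨x, hx, rfl⟩ := hz
    have hxn : x ∈ gammaFiltration P n := Groth.L08.Lambda.gammaFiltration_antitone P (Nat.le_succ n) hx
    refine (L_tmul P n x hxn _).trans ?_
    have : cls P (-(n : ℤ)) x (by simpa using hxn) = 0 := by
      refine Ideal.Quotient.eq_zero_iff_mem.2 (Ideal.mem_span_singleton'.2
        ⟨⟨C x * T (-(n : ℤ) - 1), mem_rees P ?_⟩, ?_⟩)
      · rw [show (-(-(n : ℤ) - 1)).toNat = n + 1 by omega]; exact hx
      · refine Subtype.ext ?_
        show C x * T (-(n : ℤ) - 1) * T 1 = _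
        rw [mul_assoc, ← T_add, sub_add_cancel]
    rw [this, tmul_zero]
  | zero => exact map_zero _
  | add a b _ _ ha hb =>
    have e := map_add ((L P n).comp (Submodule.inclusion hle)) ⟨a, by assumption⟩ ⟨b, by assumption⟩
    rw [ha (hle (by assumption)), hb (hle (by assumption)), add_zero] at e
    exact e
  | smul c a _ ha =>
    have e := map_smul ((L P n).comp (Submodule.inclusion hle)) c ⟨a, by assumption⟩
    rw [ha (hle (by assumption)), smul_zero] at e
    exact e

theorem G_D (w : KGr.Gr P) : G P hK hd (D P hK hd w) = w := by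
  induction w using TensorProduct.induction_on with
  | zero => simp
  | add a b ha hb => rw [map_add, map_add, ha, hb]
  | tmul r q =>
    rw [D_tmul, map_smul]
    suffices G P hK hd (DZ P hK hd q) = (1 : ℚ) ⊗ₜ[ℤ] q by
      rw [this, TensorProduct.smul_tmul', smul_eq_mul, mul_one]
    refine grZ_induction P q (by simp) (fun a b ha hb => by rw [map_add, map_add, ha, hb, tmul_add])
      (fun a ha => by rw [map_neg, map_neg, ha, tmul_neg]) fun z x hx => ?_
    rcases le_or_gt z 0 with hz | hz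
    swap
    · simp [cls_pos P z x hx hz]
    obtain ⟨n, rfl⟩ : ∃ n : ℕ, z = -(n : ℤ) := ⟨(-z).toNat, by omega⟩
    have hxn : x ∈ gammaFiltration P n := by simpa using hx
    rw [DZ_cls P hK hd, if_pos hz, show (-(-(n : ℤ))).toNat = n by omega]
    rcases le_or_gt n d with hn | hn
    swap
    · have hx0 : x = 0 := by
        have := Groth.L08.Lambda.gammaFiltration_antitone P (show d + 1 ≤ n by omega) hxn
        rwa [hd, AddSubgroup.mem_bot] at this
      subst hx0
      have : cls P (-(n : ℤ)) 0 hx = 0 := by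
        rw [cls, ← map_zero (Ideal.Quotient.mk (Ideal.span {KGr.tGen P}))]
        congr 1
        exact Subtype.ext (by simp)
      rw [this]
      simp only [tmul_zero, map_zero]
    set e := proj P hK d n ((1 : ℚ) ⊗ₜ[ℤ] x) with he
    have hee : ∀ m, proj P hK d m e = if n = m then e else 0 := proj_eig P hK hd (proj_mem P hK hd n _)
    rw [G, LinearMap.sum_apply, Finset.sum_eq_single n]
    · rw [LinearMap.comp_apply]
      have h1 : (proj P hK d n).codRestrict _ (proj_mem_range P hK hd n) e =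
          ⟨(1 : ℚ) ⊗ₜ[ℤ] x, ratFil_le P n (tmul_mem P hxn)⟩ +
            ⟨e - (1 : ℚ) ⊗ₜ[ℤ] x, sub_mem (proj_mem_range P hK hd n _) (ratFil_le P n (tmul_mem P hxn))⟩ := by
        refine Subtype.ext ?_
        show proj P hK d n e = _ + (e - _)
        rw [hee, if_pos rfl]
        abel
      rw [h1, map_add, L_tmul P n x hxn, L_succ P n (proj_sub_mem P hK hd (tmul_mem P hxn)).1, add_zero]
    · intro m _ hm
      have : (proj P hK d m).codRestrict _ (proj_mem_range P hK hd m) e = 0 :=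
        Subtype.ext (by show proj P hK d m e = 0; rw [hee, if_neg (Ne.symm hm)])
      rw [LinearMap.comp_apply, this, map_zero]
    · intro h; simp at h; omega

theorem D_bijective : Function.Bijective (D P hK hd) := by
  refine ⟨Function.LeftInverse.injective (G_D P hK hd), fun y => ?_⟩
  suffices y ∈ LinearMap.range (D P hK hd).toLinearMap from this
  rw [← sum_proj P hK hd y]
  refine Submodule.sum_mem _ fun n _ => ?_
  have hy : proj P hK d n y ∈ Groth.L08.Lambda.ratFil P n :=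
    (fil P hK hd).eigenspace_le n (proj_mem P hK hd n y)
  have hle : Groth.L08.Lambda.ratFil P n ≤ (LinearMap.range (D P hK hd).toLinearMap).comap (proj P hK d n) := by
    refine Submodule.span_le.2 ?_
    rintro _ ⟨x, hx, rfl⟩
    refine ⟨(1 : ℚ) ⊗ₜ[ℤ] cls P (-(n : ℤ)) x (by simpa using hx), ?_⟩
    rw [AlgHom.toLinearMap_apply, D_tmul, one_smul, DZ_cls P hK hd, if_pos (by omega),
      show (-(-(n : ℤ))).toNat = n by omega]
  have := hle hy
  rwa [Submodule.mem_comap, proj_eig P hK hd (proj_mem P hK hd n y), if_pos rfl] at this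

omit hd in
theorem gamma_mem {y : K} (hy : P.aug y = 0) (i : ℕ) : gamma i y ∈ gammaFiltration P i := by
  simpa using Groth.L08.Lambda.prod_mem_gammaFiltration P [(i, y)] (by simpa using hy) i (by simp)

theorem gh_proj (c : ℕ → K) (hc0 : c 0 = 1) (hc : ∀ i, c i ∈ gammaFiltration P i) : ∀ k,
    Groth.L08.Lambda.gh c k ∈ gammaFiltration P k ∧
      Groth.L08.Lambda.gh (fun i => proj P hK d i ((1 : ℚ) ⊗ₜ[ℤ] c i)) k =
        proj P hK d k ((1 : ℚ) ⊗ₜ[ℤ] Groth.L08.Lambda.gh c k) := by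
  intro k
  induction k using Nat.strong_induction_on with
  | _ k ih =>
    rcases k with - | n
    · simp [Groth.L08.Lambda.gh]
    have hterm : ∀ i : Fin n, Groth.L08.Lambda.gh c ((i : ℕ) + 1) * c (n - i) ∈ gammaFiltration P (n + 1) ∧
        Groth.L08.Lambda.gh (fun i => proj P hK d i ((1 : ℚ) ⊗ₜ[ℤ] c i)) ((i : ℕ) + 1) *
          proj P hK d (n - i) ((1 : ℚ) ⊗ₜ[ℤ] c (n - i)) =
        proj P hK d (n + 1) ((1 : ℚ) ⊗ₜ[ℤ] (Groth.L08.Lambda.gh c ((i : ℕ) + 1) * c (n - i))) := fun i => by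
      have hadd : (i : ℕ) + 1 + (n - i) = n + 1 := by omega
      obtain ⟨h1, h2⟩ := ih ((i : ℕ) + 1) (by omega)
      refine ⟨?_, ?_⟩
      · have := Groth.L08.Lambda.mul_mem_gammaFiltration P h1 (hc (n - i))
        rwa [hadd] at this
      · rw [h2, proj_mul P hK hd (tmul_mem P h1) (tmul_mem P (hc _)), hadd,
          Algebra.TensorProduct.tmul_mul_tmul, one_mul]
    refine ⟨?_, ?_⟩
    · rw [Groth.L08.Lambda.gh.eq_2]
      refine Groth.L08.Lambda.smul_mem_gammaFiltration P _ _ (sub_mem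
        (Groth.L08.Lambda.smul_mem_gammaFiltration P _ _ (hc _)) (sum_mem fun i _ => ?_))
      rw [mul_assoc]
      exact Groth.L08.Lambda.smul_mem_gammaFiltration P _ _ (hterm i).1
    · rw [Groth.L08.Lambda.gh.eq_2, Groth.L08.Lambda.gh.eq_2]
      simp only [mul_assoc, (hterm _).2]
      have hs : ∀ (z : ℤ) (x : K), (1 : ℚ) ⊗ₜ[ℤ] ((z : K) * x) = (z : ℚ ⊗[ℤ] K) * ((1 : ℚ) ⊗ₜ[ℤ] x) := fun z x => by
        rw [← zsmul_eq_mul, ← zsmul_eq_mul, tmul_smul]
      have hp : ∀ (z : ℤ) (x : K), proj P hK d (n + 1) ((1 : ℚ) ⊗ₜ[ℤ] ((z : K) * x)) =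
          (z : ℚ ⊗[ℤ] K) * proj P hK d (n + 1) ((1 : ℚ) ⊗ₜ[ℤ] x) := fun z x => by
        rw [hs, ← zsmul_eq_mul, map_zsmul, zsmul_eq_mul]
      have e1 : ((-1 : ℤ) ^ n : ℤ) = ((-1) ^ n : ℤ) := rfl
      have := hp ((-1) ^ n) (((n : K) + 1) * c (n + 1) -
        ∑ i : Fin n, (-1 : K) ^ (i : ℕ) * (Groth.L08.Lambda.gh c ((i : ℕ) + 1) * c (n - i)))
      push_cast at this
      rw [this, tmul_sub, map_sub, tmul_sum, map_sum]
      congr 2
      · have := hp ((n : ℤ) + 1) (c (n + 1))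
        push_cast at this
        exact this.symm
      · refine Finset.sum_congr rfl fun i _ => ?_
        have := hp ((-1) ^ (i : ℕ)) (Groth.L08.Lambda.gh c ((i : ℕ) + 1) * c (n - i))
        push_cast at this
        exact this.symm

theorem proj_eq_gh {y : K} (hy : P.aug y = 0) (m : ℕ) (hm : m ≤ d) :
    proj P hK d m ((1 : ℚ) ⊗ₜ[ℤ] y) =
      (1 / (m.factorial : ℚ)) • proj P hK d m ((1 : ℚ) ⊗ₜ[ℤ] Groth.L08.Lambda.gh (fun i => gamma i y) m) := by
  set g := fun r => Groth.L08.Lambda.gh (fun i => gamma i y) r with hg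
  have hgF : ∀ r, g r ∈ gammaFiltration P r := fun r =>
    (gh_proj P hK hd _ (Groth.L08.Lambda.gamma_zero y) (gamma_mem P hy) r).1
  set q := Lagrange.basis (range (d + 1)) (fun i => (2 : ℚ) ^ i) m with hq
  have hqm : ∀ s ≤ d, q.eval ((2 : ℚ) ^ s) = if s = m then 1 else 0 := fun s hs => by
    split_ifs with h
    · subst h
      exact Lagrange.eval_basis_self (fun a _ b _ h => (fil P hK hd).inj h) (by simp; omega)
    · exact Lagrange.eval_basis_of_ne (Ne.symm h) (by simp; omega)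
  -- the binomial expansion
  have hpow : ∀ i, ((Psi P hK).toLinearMap ^ i) ((1 : ℚ) ⊗ₜ[ℤ] y) =
      ∑ r ∈ range (d + 1), (((descPochhammer ℚ r).eval ((2 : ℚ) ^ i)) / r.factorial) • ((1 : ℚ) ⊗ₜ[ℤ] g r) := fun i => by
    rw [Psi_pow P hK, Groth.L08.Lambda.adams_eq_adamsOp hK Nat.one_le_two_pow,
      Groth.L08.Lambda.adamsOp_eq_sum_gh_gamma, tmul_sum]
    have hb : ∀ r, ((descPochhammer ℚ r).eval ((2 : ℚ) ^ i)) / r.factorial = ((2 ^ i).choose r : ℚ) := fun r => by
      rw [Nat.cast_choose_eq_descPochhammer_div]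
      push_cast
      rfl
    have hterm : ∀ r, (1 : ℚ) ⊗ₜ[ℤ] (((2 ^ i).choose r : K) * g r) = ((2 ^ i).choose r : ℚ) • ((1 : ℚ) ⊗ₜ[ℤ] g r) := fun r => by
      rw [← nsmul_eq_mul, tmul_smul, ← Nat.cast_smul_eq_nsmul ℚ]
    simp only [hb]
    rw [Finset.sum_congr rfl fun r _ => hterm r]
    have h2i := Nat.one_le_two_pow (n := i)
    refine (Finset.sum_subset (s₂ := range (2 ^ i + d + 1)) (range_mono (by omega)) fun r _ hr => ?_).trans
      (Finset.sum_subset (range_mono (by omega)) fun r _ hr => ?_).symm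
    · rw [Nat.choose_eq_zero_of_lt (by simp at hr; omega), Nat.cast_zero, zero_smul]
    · have := Groth.L08.Lambda.gammaFiltration_antitone P (show d + 1 ≤ r by simp at hr; omega) (hgF r)
      rw [hd, AddSubgroup.mem_bot] at this
      rw [this, tmul_zero, smul_zero]
  have hexp : proj P hK d m ((1 : ℚ) ⊗ₜ[ℤ] y) =
      ∑ r ∈ range (d + 1), ((descPochhammer ℚ r).coeff m / r.factorial) • ((1 : ℚ) ⊗ₜ[ℤ] g r) := by
    rw [proj, if_pos hm, ← hq, Polynomial.aeval_eq_sum_range, LinearMap.sum_apply]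
    simp only [LinearMap.smul_apply, hpow, Finset.smul_sum, smul_smul]
    rw [Finset.sum_comm]
    refine Finset.sum_congr rfl fun r hr => ?_
    rw [← Finset.sum_smul]
    congr 1
    have hr' : (descPochhammer ℚ r).natDegree < d + 1 := by rw [descPochhammer_natDegree]; simpa using hr
    calc ∑ i ∈ range (q.natDegree + 1), q.coeff i * ((descPochhammer ℚ r).eval ((2 : ℚ) ^ i) / r.factorial)
        = (∑ i ∈ range (q.natDegree + 1), ∑ s ∈ range (d + 1),
            (descPochhammer ℚ r).coeff s * (q.coeff i * ((2 : ℚ) ^ s) ^ i)) / r.factorial := by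
          rw [Finset.sum_div]
          refine Finset.sum_congr rfl fun i _ => ?_
          rw [Polynomial.eval_eq_sum_range' hr', mul_div_assoc', Finset.mul_sum]
          congr 1
          refine Finset.sum_congr rfl fun s _ => ?_
          rw [← pow_mul, ← pow_mul, mul_comm i s]
          ring
      _ = (∑ s ∈ range (d + 1), (descPochhammer ℚ r).coeff s * q.eval ((2 : ℚ) ^ s)) / r.factorial := by
          rw [Finset.sum_comm]
          congr 1
          refine Finset.sum_congr rfl fun s _ => ?_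
          rw [Polynomial.eval_eq_sum_range, Finset.mul_sum]
      _ = _ := by
          congr 1
          rw [Finset.sum_eq_single m]
          · rw [hqm m hm, if_pos rfl, mul_one]
          · intro s hs hsm
            rw [hqm s (by simp at hs; omega), if_neg hsm, mul_zero]
          · intro h; simp at h; omega
  have hsub : proj P hK d m ((1 : ℚ) ⊗ₜ[ℤ] y) - (1 / (m.factorial : ℚ)) • ((1 : ℚ) ⊗ₜ[ℤ] g m) ∈
      Groth.L08.Lambda.ratFil P (m + 1) := by
    rw [hexp, Finset.sum_eq_add_sum_sdiff_singleton_of_mem (show m ∈ range (d + 1) by simp; omega)]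
    have hlead : (descPochhammer ℚ m).coeff m = 1 := by
      have := (monic_descPochhammer ℚ m).coeff_natDegree
      rwa [descPochhammer_natDegree] at this
    rw [hlead, add_sub_cancel_left]
    refine Submodule.sum_mem _ fun r hr => ?_
    simp only [mem_sdiff, mem_range, mem_singleton] at hr
    rcases lt_or_gt_of_ne hr.2 with h | h
    · rw [Polynomial.coeff_eq_zero_of_natDegree_lt (by rw [descPochhammer_natDegree]; exact h), zero_div, zero_smul]
      exact zero_mem _
    · exact Submodule.smul_mem _ _ (tmul_mem P (Groth.L08.Lambda.gammaFiltration_antitone P (by omega) (hgF r)))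
  have h3 := (proj_sub_mem P hK hd hsub).2 m (by omega)
  rw [map_sub, map_smul, proj_eig P hK hd (proj_mem P hK hd m _), if_pos rfl, sub_eq_zero] at h3
  exact h3

omit hd in
theorem chPoly_eq (d : ℕ) : KGr.chPoly d = MvPolynomial.C (d : ℚ) + ∑ k ∈ range d,
    MvPolynomial.C (1 / ((k + 1).factorial : ℚ)) * Groth.L08.Lambda.gh
      (fun i : ℕ => if i = 0 then (1 : MvPolynomial (Fin d) ℚ) else if h : i - 1 < d then MvPolynomial.X ⟨i - 1, h⟩ else 0)
      (k + 1) := by
  rw [KGr.chPoly, AlgEquiv.symm_apply_eq]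
  refine Subtype.ext ?_
  rw [MvPolynomial.esymmAlgEquiv_apply]
  set E := MvPolynomial.aeval (R := ℚ) (fun i : Fin d => MvPolynomial.esymm (Fin d) ℚ (i + 1))
  show (∑ i : Fin d, Polynomial.aeval (MvPolynomial.X i) (KGr.expTrunc d) : MvPolynomial (Fin d) ℚ) = _
  rw [MvPolynomial.esymmAlgHom_apply]
  show _ = E _
  rw [map_add, map_sum, MvPolynomial.algHom_C]
  set s : Multiset (MvPolynomial (Fin d) ℚ) := (Finset.univ : Finset (Fin d)).val.map MvPolynomial.X with hs
  have hgh : ∀ k < d, E (Groth.L08.Lambda.gh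
      (fun i : ℕ => if i = 0 then (1 : MvPolynomial (Fin d) ℚ) else if h : i - 1 < d then MvPolynomial.X ⟨i - 1, h⟩ else 0)
      (k + 1)) = ∑ a : Fin d, MvPolynomial.X a ^ (k + 1) := fun k hk => by
    show E.toRingHom _ = _
    rw [Groth.L08.Lambda.gh_map E.toRingHom (by simp),
      Groth.L08.Lambda.gh_congr (c' := fun i => s.esymm i) (by simp) d (fun i hi => ?_) (k + 1) hk,
      ← (Groth.L08.Lambda.newton_esymm s).eq_gh (k + 1) (by omega), hs, Multiset.map_map]
    · rfl
    · show E _ = _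
      rw [hs, ← MvPolynomial.esymm_eq_multiset_esymm]
      rcases i with - | i
      · simp
      · rw [if_neg (by omega), dif_pos (by omega)]
        simp [E]
  simp only [KGr.expTrunc, map_sum, map_mul, map_pow, Polynomial.aeval_C, Polynomial.aeval_X, MvPolynomial.algHom_C]
  rw [Finset.sum_comm, Finset.sum_range_succ', add_comm]
  congr 1
  · simp
  · refine Finset.sum_congr rfl fun k hk => ?_
    rw [hgh k (by simpa using hk), Finset.mul_sum]

theorem D_chK (x : K) : D P hK hd (KGr.chK P d x) = (1 : ℚ) ⊗ₜ[ℤ] x := by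
  set y := x - (P.aug x : K) with hy
  have hy0 : P.aug y = 0 := by rw [hy, map_sub, map_intCast]; simp
  have hchern : ∀ i, D P hK hd (KGr.chern P i x) = proj P hK d i ((1 : ℚ) ⊗ₜ[ℤ] gamma i y) := fun i => by
    have hx : gamma i y ∈ gammaFiltration P (-(-(i : ℤ))).toNat := by simpa using gamma_mem P hy0 i
    rw [KGr.chern, ← hy, grK_eq P hx, D_tmul, one_smul, DZ_cls P hK hd, if_pos (by omega)]
    simp
  rw [KGr.chK, map_add, AlgHom.commutes, chPoly_eq, map_add, map_sum, MvPolynomial.aeval_C, map_add, AlgHom.commutes, map_sum]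
  have hk : ∀ k ∈ range d, D P hK hd (MvPolynomial.aeval (fun i : Fin d => KGr.chern P (i.1 + 1) x)
      (MvPolynomial.C (1 / ((k + 1).factorial : ℚ)) * Groth.L08.Lambda.gh
        (fun i : ℕ => if i = 0 then (1 : MvPolynomial (Fin d) ℚ) else if h : i - 1 < d then MvPolynomial.X ⟨i - 1, h⟩ else 0)
        (k + 1))) = proj P hK d (k + 1) ((1 : ℚ) ⊗ₜ[ℤ] x) := fun k hk => by
    simp only [mem_range] at hk
    rw [← AlgHom.comp_apply, map_mul, MvPolynomial.algHom_C, ← Algebra.smul_def]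
    show _ • ((D P hK hd).comp _).toRingHom _ = _
    rw [Groth.L08.Lambda.gh_map _ (by simp),
      Groth.L08.Lambda.gh_congr (c' := fun i => proj P hK d i ((1 : ℚ) ⊗ₜ[ℤ] gamma i y)) (by simp) d (fun i hi => ?_) (k + 1) hk,
      (gh_proj P hK hd _ (Groth.L08.Lambda.gamma_zero y) (gamma_mem P hy0) (k + 1)).2,
      ← proj_eq_gh P hK hd hy0 (k + 1) hk]
    · have h1 : (1 : ℚ) ⊗ₜ[ℤ] x = (1 : ℚ) ⊗ₜ[ℤ] y + (P.aug x : ℚ) • (1 : ℚ ⊗[ℤ] K) := by
        rw [hy, tmul_sub, Int.cast_smul_eq_zsmul, Algebra.TensorProduct.one_def, ← tmul_smul, zsmul_eq_mul, mul_one]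
        abel
      rw [h1, map_add, map_smul, proj_eig P hK hd (one_mem_eig P hK hd), if_neg (by omega), smul_zero, add_zero]
    · show (D P hK hd).comp _ _ = _
      rcases i with - | i
      · simp only [if_pos, map_one, Groth.L08.Lambda.gamma_zero]
        rw [← Algebra.TensorProduct.one_def, proj_eig P hK hd (one_mem_eig P hK hd), if_pos rfl]
      · rw [if_neg (by omega), dif_pos (by omega), AlgHom.comp_apply, MvPolynomial.aeval_X]
        exact hchern _
  rw [Finset.sum_congr rfl hk]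
  conv_rhs => rw [← sum_proj P hK hd ((1 : ℚ) ⊗ₜ[ℤ] x), Finset.sum_range_succ']
  rw [← add_assoc, ← map_add, sub_add_cancel, add_comm]
  congr 1
  have h1 : (1 : ℚ) ⊗ₜ[ℤ] x = (1 : ℚ) ⊗ₜ[ℤ] y + (P.aug x : ℚ) • (1 : ℚ ⊗[ℤ] K) := by
    rw [hy, tmul_sub, Int.cast_smul_eq_zsmul, Algebra.TensorProduct.one_def, ← tmul_smul, zsmul_eq_mul, mul_one]
    abel
  have hy1 : y ∈ gammaFiltration P 1 := by
    simpa [Groth.L08.Lambda.gamma_one] using gamma_mem P hy0 1
  rw [h1, map_add, map_smul, proj_eig P hK hd (one_mem_eig P hK hd), if_pos rfl,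
    (proj_sub_mem P hK hd (tmul_mem P hy1)).2 0 (by omega), zero_add, Algebra.algebraMap_eq_smul_one]

end Groth.L15.ChernChar
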