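import Mathlib.RingTheory.Localization.AtPrime.Basic
import Mathlib.RingTheory.Localization.Away.Basic
import Mathlib.RingTheory.Localization.Ideal
import Mathlib.RingTheory.Noetherian.Basic
import Mathlib.LinearAlgebra.Matrix.ToLin
import Mathlib.LinearAlgebra.Matrix.Determinant.Basic
import Groth.Agent.L15.HilbertBurch

/-!
Spreading out a Hilbert-Burch complex from a prime to a basic open.
-/

set_option autoImplicit false

universe u

namespace Groth.L15.Spread

variable {R S : Type u} [CommRing R] [CommRing S] [Algebra R S] (M : Submonoid R) [IsLocalization M S]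

include M in
theorem exists_smul_eq_map {n : ℕ} (v : Fin n → S) :
    ∃ (a : Fin n → R) (s : M), ∀ i, algebraMap R S (a i) = algebraMap R S s * v i := by
  obtain ⟨s, hs⟩ := IsLocalization.exist_integer_multiples_of_finite M v
  choose a ha using hs
  exact ⟨a, s, fun i => by rw [ha i, Algebra.smul_def]⟩

omit [Algebra R S] in
theorem exists_mem_forall {P : Type*} [Finite P] (Q : P → R → Prop)
    (hQ : ∀ i a b, Q i a → Q i (b * a)) (h : ∀ i, ∃ t ∈ M, Q i t) : ∃ t ∈ M, ∀ i, Q i t := by
  cases nonempty_fintype P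
  classical
  choose t ht htQ using h
  refine ⟨∏ i, t i, M.prod_mem fun i _ => ht i, fun i => ?_⟩
  rw [← Finset.prod_erase_mul _ _ (Finset.mem_univ i)]
  exact hQ i _ _ (htQ i)

include S in
theorem exists_smul_eq_zero {n : ℕ} (z : Fin n → R) (hz : ∀ i, algebraMap R S (z i) = 0) :
    ∃ t ∈ M, ∀ i, t * z i = 0 := by
  refine exists_mem_forall M (fun i t => t * z i = 0) (fun i a b h => by rw [mul_assoc, h, mul_zero]) fun i => ?_
  obtain ⟨t, ht⟩ := (IsLocalization.map_eq_zero_iff M S _).mp (hz i)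
  exact ⟨t, t.2, ht⟩

/-- An element of the range over the localization comes from the range. -/
theorem exists_mem_range {n m : ℕ} (φ : Matrix (Fin n) (Fin m) R) (x : Fin n → R)
    (hx : (fun i => algebraMap R S (x i)) ∈ LinearMap.range (φ.map (algebraMap R S)).mulVecLin) :
    ∃ t ∈ M, t • x ∈ LinearMap.range φ.mulVecLin := by
  obtain ⟨z, hz⟩ := hx
  obtain ⟨a, s, ha⟩ := exists_smul_eq_map M z
  have h : ∀ i, algebraMap R S ((s : R) * x i - φ.mulVecLin a i) = 0 := fun i => by
    have h1 := congrFun (Groth.L15.HB.map_mulVecLin (algebraMap R S) φ a) i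
    simp only [Function.comp_apply] at h1
    rw [map_sub, map_mul, h1, show (algebraMap R S ∘ a) = algebraMap R S s • z from funext ha, map_smul, hz,
      Pi.smul_apply, smul_eq_mul, sub_self]
  obtain ⟨t, ht, htz⟩ := exists_smul_eq_zero (S := S) M _ h
  refine ⟨t * s, M.mul_mem ht s.2, t • a, funext fun i => ?_⟩
  rw [map_smul, Pi.smul_apply, Pi.smul_apply, smul_eq_mul, smul_eq_mul]
  linear_combination - htz i

/-- A presentation over a localization is a localization of the presentation. -/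
theorem injective_map {n m : ℕ} (φ : Matrix (Fin n) (Fin m) R)
    (h : ∀ z, φ.mulVecLin z = 0 → ∃ t ∈ M, t • z = 0) :
    Function.Injective (φ.map (algebraMap R S)).mulVecLin := by
  rw [injective_iff_map_eq_zero]
  intro z hz
  obtain ⟨a, s, ha⟩ := exists_smul_eq_map M z
  have h1 : ∀ i, algebraMap R S (φ.mulVecLin a i) = 0 := fun i => by
    have h1 := congrFun (Groth.L15.HB.map_mulVecLin (algebraMap R S) φ a) i
    simp only [Function.comp_apply] at h1
    rw [h1, show (algebraMap R S ∘ a) = algebraMap R S s • z from funext ha, map_smul, hz, smul_zero,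
      Pi.zero_apply]
  obtain ⟨t, ht, htz⟩ := exists_smul_eq_zero (S := S) M _ h1
  obtain ⟨t', ht', htz'⟩ := h (t • a) (funext fun i => by
    rw [map_smul, Pi.smul_apply, smul_eq_mul, htz i, Pi.zero_apply])
  funext i
  have h2 := congrArg (algebraMap R S) (congrFun htz' i)
  simp only [Pi.smul_apply, smul_eq_mul, Pi.zero_apply, map_zero] at h2
  have h3 : algebraMap R S (t' * t * s) * z i = algebraMap R S (t' * (t * a i)) := by
    simp only [map_mul, ha i]; ring
  rw [← h3] at h2
  exact ((IsLocalization.map_units S (⟨t' * t * s, M.mul_mem (M.mul_mem ht' ht) s.2⟩ : M)).mul_right_eq_zero).mp h2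

theorem range_map_eq_ker {n m : ℕ} (φ : Matrix (Fin n) (Fin m) R) (g : Fin n → R)
    (hgφ : ∀ j, ∑ i, g i * φ i j = 0)
    (h : ∀ x, Fintype.linearCombination R g x = 0 → ∃ t ∈ M, t • x ∈ LinearMap.range φ.mulVecLin) :
    LinearMap.range (φ.map (algebraMap R S)).mulVecLin =
      LinearMap.ker (Fintype.linearCombination S (algebraMap R S ∘ g)) := by
  refine le_antisymm ?_ fun x hx => ?_
  · rintro _ ⟨z, rfl⟩
    refine Groth.L15.HB.linearCombination_mulVec _ _ (fun j => ?_) z
    simp only [Function.comp_apply, Matrix.map_apply, ← map_mul, ← map_sum, hgφ j, map_zero]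
  · obtain ⟨a, s, ha⟩ := exists_smul_eq_map M x
    have h1 : algebraMap R S (Fintype.linearCombination R g a) = 0 := by
      rw [Groth.L15.HB.map_linearCombination, show (algebraMap R S ∘ a) = algebraMap R S s • x from funext ha,
        map_smul, LinearMap.mem_ker.mp hx, smul_zero]
    obtain ⟨t, ht⟩ := (IsLocalization.map_eq_zero_iff M S _).mp h1
    obtain ⟨t', ht', z, hz⟩ := h ((t : R) • a) (by rw [map_smul, smul_eq_mul, ht])
    obtain ⟨w, hw⟩ := (IsLocalization.map_units S (⟨t' * t * s, M.mul_mem (M.mul_mem ht' t.2) s.2⟩ : M))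
    refine ⟨(↑w⁻¹ : S) • (algebraMap R S ∘ z), ?_⟩
    rw [map_smul, ← Groth.L15.HB.map_mulVecLin, hz]
    funext i
    simp only [Pi.smul_apply, smul_eq_mul, Function.comp_apply, map_mul, ha i]
    have hw' : (↑w⁻¹ : S) * ↑w = 1 := Units.inv_mul w
    rw [hw] at hw'
    rw [show (algebraMap R S) ((⟨t' * t * s, M.mul_mem (M.mul_mem ht' t.2) s.2⟩ : M) : R) =
      algebraMap R S t' * algebraMap R S t * algebraMap R S s by simp] at hw'
    linear_combination x i * hw'

theorem exists_ideal_le (I G : Ideal R) (hI : I.FG) (h : I.map (algebraMap R S) ≤ G.map (algebraMap R S)) :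
    ∃ t ∈ M, ∀ a ∈ I, t * a ∈ G := by
  obtain ⟨k, c, hc⟩ := Submodule.fg_iff_exists_fin_generating_family.mp hI
  obtain ⟨t, ht, htc⟩ := exists_mem_forall M (fun i t => t * c i ∈ G)
    (fun i a b h => by rw [mul_assoc]; exact G.mul_mem_left b h) fun i => by
      have h1 := h (Ideal.mem_map_of_mem _ (hc.le (Submodule.subset_span (Set.mem_range_self i))))
      exact (IsLocalization.algebraMap_mem_map_algebraMap_iff M S G _).mp h1
  refine ⟨t, ht, fun a ha => ?_⟩
  obtain ⟨e, rfl⟩ := (Submodule.mem_span_range_iff_exists_fun R).mp (hc.ge ha)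
  rw [Finset.mul_sum]
  exact G.sum_mem fun i _ => by rw [smul_eq_mul, mul_left_comm]; exact G.mul_mem_left _ (htc i)

theorem map_le_of_forall (I G : Ideal R) (h : ∀ a ∈ I, ∃ t ∈ M, t * a ∈ G) :
    I.map (algebraMap R S) ≤ G.map (algebraMap R S) :=
  Ideal.map_le_iff_le_comap.2 fun a ha =>
    let ⟨t, ht, hta⟩ := h a ha
    (IsLocalization.algebraMap_mem_map_algebraMap_iff M S G a).mpr ⟨t, ht, hta⟩

theorem exists_spread_mem {N : Type u} [AddCommGroup N] [Module R N] (K P : Submodule R N) (hK : K.FG)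
    (h : ∀ x ∈ K, ∃ t ∈ M, t • x ∈ P) : ∃ t ∈ M, ∀ x ∈ K, t • x ∈ P := by
  obtain ⟨k, c, hc⟩ := Submodule.fg_iff_exists_fin_generating_family.mp hK
  obtain ⟨t, ht, htc⟩ := exists_mem_forall M (fun i t => t • c i ∈ P)
    (fun i a b h => by rw [mul_smul]; exact P.smul_mem b h)
    fun i => h _ (hc.le (Submodule.subset_span (Set.mem_range_self i)))
  refine ⟨t, ht, fun a ha => ?_⟩
  obtain ⟨e, rfl⟩ := (Submodule.mem_span_range_iff_exists_fun R).mp (hc.ge ha)
  rw [Finset.smul_sum]
  exact P.sum_mem fun i _ => by rw [smul_comm]; exact P.smul_mem _ (htc i)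

/-- Signed maximal minors scale by a power. -/
theorem minor_smul {A : Type u} [CommRing A] {r : ℕ} (c : A) (ψ : Matrix (Fin (r + 1)) (Fin r) A) (i : Fin (r + 1)) :
    (-1 : A) ^ (i : ℕ) * ((c • ψ).submatrix i.succAbove id).det =
      c ^ r * ((-1 : A) ^ (i : ℕ) * (ψ.submatrix i.succAbove id).det) := by
  rw [Matrix.submatrix_smul]
  simp only [Pi.smul_apply, Matrix.det_smul, Fintype.card_fin]
  ring

/-- A Hilbert-Burch presentation at a prime spreads out to a basic open. -/
theorem exists_spread [IsNoetherianRing R] (p : Ideal R) [p.IsPrime] [IsLocalization.AtPrime S p] (I : Ideal R)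
    (r : ℕ) (ψ : Matrix (Fin (r + 1)) (Fin r) S)
    (h1 : Ideal.span (Set.range fun i : Fin (r + 1) => (-1 : S) ^ (i : ℕ) * (ψ.submatrix i.succAbove id).det) =
      I.map (algebraMap R S))
    (h2 : Function.Injective ψ.mulVecLin)
    (h3 : LinearMap.range ψ.mulVecLin = LinearMap.ker (Fintype.linearCombination S
      fun i : Fin (r + 1) => (-1 : S) ^ (i : ℕ) * (ψ.submatrix i.succAbove id).det)) :
    ∃ f ∉ p, ∃ φ : Matrix (Fin (r + 1)) (Fin r) R, ∀ (T : Type u) [CommRing T] [Algebra R T] [IsLocalization.Away f T],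
      Ideal.span (Set.range fun i : Fin (r + 1) => (-1 : T) ^ (i : ℕ) * ((φ.map (algebraMap R T)).submatrix i.succAbove id).det) =
          I.map (algebraMap R T) ∧
        Function.Injective (φ.map (algebraMap R T)).mulVecLin ∧
        LinearMap.range (φ.map (algebraMap R T)).mulVecLin = LinearMap.ker (Fintype.linearCombination T
          fun i : Fin (r + 1) => (-1 : T) ^ (i : ℕ) * ((φ.map (algebraMap R T)).submatrix i.succAbove id).det) := by
  set M := p.primeCompl
  obtain ⟨s, hs⟩ := IsLocalization.exist_integer_multiples_of_finite M (fun x : Fin (r + 1) × Fin r => ψ x.1 x.2)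
  choose a ha using hs
  let φ : Matrix (Fin (r + 1)) (Fin r) R := Matrix.of fun i j => a (i, j)
  set c := algebraMap R S s
  have hc : IsUnit c := IsLocalization.map_units S s
  have hφ : φ.map (algebraMap R S) = c • ψ := by
    ext i j
    simp [φ, ha, c, Algebra.smul_def]
  set g : Fin (r + 1) → R := fun i => (-1 : R) ^ (i : ℕ) * (φ.submatrix i.succAbove id).det
  have hgφ : ∀ j, ∑ i, g i * φ i j = 0 := fun j => Groth.L15.HB.sum_minor_mul φ j
  have hg : ∀ i, algebraMap R S (g i) = c ^ r * ((-1 : S) ^ (i : ℕ) * (ψ.submatrix i.succAbove id).det) := fun i => by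
    simp only [g]
    rw [Groth.L15.HB.map_minor, hφ, minor_smul]
  have hG : (Ideal.span (Set.range g)).map (algebraMap R S) = I.map (algebraMap R S) := by
    rw [Ideal.map_span, ← h1, ← Set.range_comp]
    refine le_antisymm (Ideal.span_le.2 ?_) (Ideal.span_le.2 ?_)
    · rintro _ ⟨i, rfl⟩
      show algebraMap R S (g i) ∈ _
      rw [hg]
      exact Ideal.mul_mem_left _ _ (Ideal.subset_span (Set.mem_range_self i))
    · rintro _ ⟨i, rfl⟩
      refine (Ideal.unit_mul_mem_iff_mem _ (hc.pow r)).mp ?_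
      rw [← hg]
      exact Ideal.subset_span ⟨i, rfl⟩
  have hinj : ∀ z, φ.mulVecLin z = 0 → ∃ t ∈ M, t • z = 0 := by
    intro z hz
    have h := congrArg (fun v => algebraMap R S ∘ v) hz
    simp only [Groth.L15.HB.map_mulVecLin, hφ] at h
    have h' : ψ.mulVecLin (algebraMap R S ∘ z) = 0 := by
      funext i
      refine hc.mul_right_eq_zero.mp ?_
      have := congrFun h i
      simpa [Matrix.smul_mulVec] using this
    have h'' : algebraMap R S ∘ z = 0 := h2 (h'.trans (map_zero _).symm)
    obtain ⟨t, ht, htz⟩ := exists_smul_eq_zero (S := S) M z (congrFun h'')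
    exact ⟨t, ht, funext htz⟩
  have hex : ∀ x, Fintype.linearCombination R g x = 0 → ∃ t ∈ M, t • x ∈ LinearMap.range φ.mulVecLin := by
    intro x hx
    refine exists_mem_range (S := S) M φ x ?_
    have h := congrArg (algebraMap R S) hx
    rw [Groth.L15.HB.map_linearCombination, map_zero] at h
    have h' : algebraMap R S ∘ x ∈ LinearMap.range ψ.mulVecLin := by
      rw [h3, LinearMap.mem_ker]
      refine (hc.pow r).mul_right_eq_zero.mp (Eq.trans ?_ h)
      simp only [Fintype.linearCombination_apply, Function.comp_apply, smul_eq_mul, Finset.mul_sum, hg]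
      exact Finset.sum_congr rfl fun i _ => by ring
    obtain ⟨z, hz⟩ := h'
    obtain ⟨w, hw⟩ := hc
    refine ⟨(↑w⁻¹ : S) • z, ?_⟩
    rw [hφ, map_smul]
    funext i
    simp only [Pi.smul_apply, Matrix.mulVecLin_apply, Matrix.smul_mulVec, smul_eq_mul]
    rw [← mul_assoc, ← hw, Units.inv_mul, one_mul]
    exact congrFun hz i
  obtain ⟨t₁, ht₁, h₁⟩ := exists_ideal_le (S := S) M I (Ideal.span (Set.range g)) (IsNoetherian.noetherian _) hG.ge
  obtain ⟨t₂, ht₂, h₂⟩ := exists_ideal_le (S := S) M (Ideal.span (Set.range g)) I (IsNoetherian.noetherian _) hG.le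
  obtain ⟨t₃, ht₃, h₃⟩ := exists_spread_mem M (LinearMap.ker φ.mulVecLin) ⊥ (IsNoetherian.noetherian _)
    fun z hz => by simpa using hinj z (LinearMap.mem_ker.mp hz)
  obtain ⟨t₄, ht₄, h₄⟩ := exists_spread_mem M (LinearMap.ker (Fintype.linearCombination R g))
    (LinearMap.range φ.mulVecLin) (IsNoetherian.noetherian _) fun x hx => hex x (LinearMap.mem_ker.mp hx)
  refine ⟨t₁ * t₂ * t₃ * t₄, M.mul_mem (M.mul_mem (M.mul_mem ht₁ ht₂) ht₃) ht₄, φ, fun T _ _ _ => ?_⟩
  set f := t₁ * t₂ * t₃ * t₄ with hf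
  have hfm : f ∈ Submonoid.powers f := Submonoid.mem_powers f
  have hmin : (fun i : Fin (r + 1) => (-1 : T) ^ (i : ℕ) * ((φ.map (algebraMap R T)).submatrix i.succAbove id).det) =
      algebraMap R T ∘ g := funext fun i => (Groth.L15.HB.map_minor (algebraMap R T) φ i).symm
  rw [hmin]
  refine ⟨?_, injective_map (S := T) (Submonoid.powers f) φ fun z hz => ⟨f, hfm, ?_⟩,
    range_map_eq_ker (S := T) (Submonoid.powers f) φ g hgφ fun x hx => ⟨f, hfm, ?_⟩⟩
  · rw [Set.range_comp, ← Ideal.map_span]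
    refine le_antisymm (map_le_of_forall (S := T) (Submonoid.powers f) _ _ fun a ha => ⟨f, hfm, ?_⟩)
      (map_le_of_forall (S := T) (Submonoid.powers f) _ _ fun a ha => ⟨f, hfm, ?_⟩)
    · rw [show f * a = t₁ * t₃ * t₄ * (t₂ * a) by rw [hf]; ring]
      exact I.mul_mem_left _ (h₂ a ha)
    · rw [show f * a = t₂ * t₃ * t₄ * (t₁ * a) by rw [hf]; ring]
      exact Ideal.mul_mem_left _ _ (h₁ a ha)
  · rw [show f = t₁ * t₂ * t₄ * t₃ by rw [hf]; ring, mul_smul, (Submodule.mem_bot R).mp (h₃ z hz), smul_zero]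
  · rw [show f = t₁ * t₂ * t₃ * t₄ from hf, mul_smul]
    exact Submodule.smul_mem _ _ (h₄ x hx)

end Groth.L15.Spread
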