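import Mathlib.RingTheory.PowerSeries.Substitution
import Mathlib.RingTheory.PowerSeries.Trunc
import Mathlib.RingTheory.PowerSeries.Inverse
import Mathlib.RingTheory.PowerSeries.NoZeroDivisors
import Mathlib.Algebra.Polynomial.Inductions
import Mathlib.FieldTheory.IsAlgClosed.Basic
import Mathlib.Algebra.CharP.Lemmas
import Mathlib.Algebra.CharP.Algebra
import Mathlib.Algebra.Ring.GeomSum
import Mathlib.Tactic.Ring
import Mathlib.Tactic.LinearCombination
import Mathlib.Tactic.FieldSimp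

/-!
The automorphism `X ↦ X u`, `u ^ n (1 + X ^ n) = 1`, of a power series ring in characteristic `p`.
-/

set_option autoImplicit false

noncomputable section

universe u

open PowerSeries

namespace Groth.L15.AS

variable {k : Type u} [Field k] {n : ℕ} {u : k⟦X⟧}

theorem natCast_ne_zero (p : ℕ) [Fact p.Prime] [CharP k p] (hpn : ¬ p ∣ n) : (n : k) ≠ 0 :=
  fun h => hpn ((CharP.cast_eq_zero_iff k p n).1 h)

theorem hasSubst_Xu (u : k⟦X⟧) : HasSubst (X * u) :=
  HasSubst.of_constantCoeff_zero' (by simp)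

theorem geom_isUnit (hn0 : (n : k) ≠ 0) {a : k⟦X⟧} (ha : constantCoeff a = 1) :
    IsUnit (∑ i ∈ Finset.range n, a ^ i) := by
  rw [isUnit_iff_constantCoeff, map_sum]
  simp only [map_pow, ha, one_pow, Finset.sum_const, Finset.card_range, nsmul_one]
  exact hn0.isUnit

theorem root_unique (hn0 : (n : k) ≠ 0) {a b : k⟦X⟧} (ha : constantCoeff a = 1) (hb : constantCoeff b = 1)
    (h : a ^ n = b ^ n) : a = b := by
  have hu : IsUnit (∑ i ∈ Finset.range n, a ^ i * b ^ (n - 1 - i)) := by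
    rw [isUnit_iff_constantCoeff, map_sum]
    simp only [map_mul, map_pow, ha, hb, one_pow, mul_one, Finset.sum_const, Finset.card_range, nsmul_one]
    exact hn0.isUnit
  have h1 := geom_sum₂_mul a b n
  rw [h, sub_self, mul_eq_zero] at h1
  exact sub_eq_zero.1 (h1.resolve_left hu.ne_zero)

section

variable (hn0 : (n : k) ≠ 0) (hu1 : constantCoeff u = 1) (hun : u ^ n * (1 + X ^ n) = 1)
include hn0 hu1 hun

theorem exists_leading : ∃ w : k⟦X⟧, u = 1 + X ^ n * w ∧ constantCoeff w = -(n : k)⁻¹ := by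
  have hG := geom_isUnit hn0 hu1
  obtain ⟨G', hG'⟩ := hG.exists_right_inv
  refine ⟨-(u ^ n) * G', ?_, ?_⟩
  · linear_combination G' * geom_sum_mul u n - (u - 1) * hG' + G' * hun
  · have h1 := congrArg constantCoeff hG'
    simp only [map_mul, map_sum, map_pow, hu1, one_pow, Finset.sum_const, Finset.card_range, nsmul_one, map_one] at h1
    simp only [map_mul, map_neg, map_pow, hu1, one_pow]
    field_simp
    linear_combination -h1

theorem exists_leading_zpow (hu : IsUnit u) (e : ℤ) :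
    ∃ w : k⟦X⟧, ((hu.unit ^ e : k⟦X⟧ˣ) : k⟦X⟧) = 1 + X ^ n * w ∧ constantCoeff w = -(e : k) / n := by
  have hn : n ≠ 0 := fun h => hn0 (by simp [h])
  obtain ⟨w₁, hw₁, hw₁0⟩ := exists_leading hn0 hu1 hun
  induction e using Int.induction_on with
  | zero => exact ⟨0, by simp, by simp⟩
  | succ i ih =>
    obtain ⟨w, hw, hw0⟩ := ih
    refine ⟨w + w₁ + X ^ n * w * w₁, ?_, ?_⟩
    · rw [zpow_add_one, Units.val_mul, hw, hu.unit_spec, hw₁]; ring
    · simp only [map_add, map_mul, map_pow, constantCoeff_X, zero_pow hn, zero_mul, add_zero, hw0, hw₁0]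
      push_cast
      field_simp
      ring
  | pred i ih =>
    obtain ⟨w, hw, hw0⟩ := ih
    obtain ⟨v, hv⟩ : ∃ v, ((hu.unit⁻¹ : k⟦X⟧ˣ) : k⟦X⟧) = v := ⟨_, rfl⟩
    have huv : u * v = 1 := by rw [← hv]; exact hu.mul_val_inv
    refine ⟨w - w₁ * v - X ^ n * w * w₁ * v, ?_, ?_⟩
    · rw [zpow_sub_one, Units.val_mul, hw, hv]
      linear_combination (1 + X ^ n * w) * huv - (1 + X ^ n * w) * v * hw₁
    · have hv0 := congrArg constantCoeff huv
      simp only [map_mul, hu1, one_mul, map_one] at hv0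
      simp only [map_sub, map_mul, map_pow, constantCoeff_X, zero_pow hn, zero_mul, sub_zero, hw0, hw₁0, hv0]
      push_cast
      field_simp
      ring

theorem subst_sub_dvd (s : k⟦X⟧) : X ^ n ∣ subst (X * u) s - s := by
  obtain ⟨w, hw, -⟩ := exists_leading hn0 hu1 hun
  have hs := eq_X_pow_mul_shift_add_trunc n s
  set r := PowerSeries.mk fun i => coeff (i + n) s
  set P := s.trunc n
  have h1 : subst (X * u) s = (X * u) ^ n * subst (X * u) r + Polynomial.aeval (X * u) P := by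
    conv_lhs => rw [hs]
    rw [subst_add (hasSubst_Xu u), subst_mul (hasSubst_Xu u), subst_pow (hasSubst_Xu u), subst_X (hasSubst_Xu u),
      subst_coe (hasSubst_Xu u)]
  have h2 : X ^ n ∣ Polynomial.aeval (X * u) P - (P : k⟦X⟧) := by
    have h3 := Polynomial.sub_dvd_eval_sub (X * u) (X : k⟦X⟧) (P.map (algebraMap k k⟦X⟧))
    rw [Polynomial.eval_map_algebraMap, Polynomial.eval_map_algebraMap] at h3
    have e : Polynomial.aeval (X : k⟦X⟧) P = (P : k⟦X⟧) := by
      rw [← subst_coe (HasSubst.X' (R := k)), ← PowerSeries.map_algebraMap_eq_subst_X]; simp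
    rw [e] at h3
    exact (Dvd.intro (X * w) (by rw [hw]; ring) : X ^ n ∣ X * u - X).trans h3
  obtain ⟨c, hc⟩ := h2
  refine ⟨u ^ n * subst (X * u) r - r + c, ?_⟩
  rw [h1]
  linear_combination hc - hs

/-- The leading coefficient of `σ g - g`. -/
theorem coeff_twist (hu : IsUnit u) (b : ℤ) (g : k⟦X⟧) (i : ℕ) (hlow : ∀ j < i, coeff j g = 0) :
    coeff (i + n) (((hu.unit ^ b : k⟦X⟧ˣ) : k⟦X⟧) * subst (X * u) g - g) =
      -((b + i : ℤ) : k) / n * coeff i g := by
  set r := PowerSeries.mk fun j => coeff (j + (i + 1)) g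
  have hg : g = X ^ i * (C (coeff i g) + X * r) := by
    conv_lhs => rw [eq_X_pow_mul_shift_add_trunc (i + 1) g]
    have : (g.trunc (i + 1) : k⟦X⟧) = X ^ i * C (coeff i g) := by
      ext j
      rw [Polynomial.coeff_coe, coeff_trunc, mul_comm, coeff_C_mul_X_pow]
      rcases lt_trichotomy j i with h | h | h
      · rw [if_pos (by omega), if_neg h.ne, hlow j h]
      · subst h; simp
      · rw [if_neg (by omega), if_neg h.ne']
    rw [this, pow_succ]
    ring
  obtain ⟨w, hw, hw0⟩ := exists_leading_zpow hn0 hu1 hun hu (b + i)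
  obtain ⟨w', hw', -⟩ := exists_leading_zpow hn0 hu1 hun hu (b + i + 1)
  obtain ⟨c, hc⟩ := subst_sub_dvd hn0 hu1 hun r
  have hpow : ∀ j : ℕ, ((hu.unit ^ b : k⟦X⟧ˣ) : k⟦X⟧) * u ^ j = ((hu.unit ^ (b + j) : k⟦X⟧ˣ) : k⟦X⟧) := fun j => by
    rw [zpow_add, zpow_natCast, Units.val_mul, Units.val_pow_eq_pow_val, hu.unit_spec]
  have key : ((hu.unit ^ b : k⟦X⟧ˣ) : k⟦X⟧) * subst (X * u) g - g =
      X ^ (i + n) * (C (coeff i g) * w + X * (w' * subst (X * u) r + c)) := by
    conv_lhs => rw [hg]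
    rw [subst_mul (hasSubst_Xu u), subst_pow (hasSubst_Xu u), subst_X (hasSubst_Xu u), subst_add (hasSubst_Xu u),
      subst_C, subst_mul (hasSubst_Xu u), subst_X (hasSubst_Xu u), mul_pow]
    have e1 := (hpow i).trans hw
    have e2 : ((hu.unit ^ b : k⟦X⟧ˣ) : k⟦X⟧) * u ^ (i + 1) = 1 + X ^ n * w' := by
      rw [hpow, show b + ((i + 1 : ℕ) : ℤ) = b + i + 1 by push_cast; ring, hw']
    rw [show MvPowerSeries.C (coeff i g) = C (coeff i g) from rfl]
    linear_combination X ^ i * C (coeff i g) * e1 + X ^ i * X * subst (X * u) r * e2 + X ^ i * X * hc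
  rw [key, coeff_X_pow_mul', if_pos le_rfl, Nat.sub_self, coeff_zero_eq_constantCoeff]
  simp [hw0]
  ring

/-- Independence of the obstruction classes. -/
theorem coeff_eq_zero (p : ℕ) [Fact p.Prime] [CharP k p] (hu : IsUnit u) (a : ℤ) (c : ℕ → k⟦X⟧)
    (hc : ∀ m : ℕ, 1 ≤ m → m ≤ n →
      X ^ m * c m = ((hu.unit ^ (a - m) : k⟦X⟧ˣ) : k⟦X⟧) - 1)
    (coef : ℕ → k) (h : k⟦X⟧)
    (hh : ((hu.unit ^ a : k⟦X⟧ˣ) : k⟦X⟧) * subst (X * u) h - h =
      ∑ m ∈ (Finset.Icc 1 n).filter (fun m : ℕ => ¬ (p : ℤ) ∣ a - (m : ℤ)), coef m • c m) :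
    ∀ m ∈ (Finset.Icc 1 n).filter (fun m : ℕ => ¬ (p : ℤ) ∣ a - (m : ℤ)), coef m = 0 := by
  classical
  set S := (Finset.Icc 1 n).filter (fun m : ℕ => ¬ (p : ℤ) ∣ a - (m : ℤ))
  have hS : ∀ m ∈ S, 1 ≤ m ∧ m ≤ n ∧ ¬ (p : ℤ) ∣ a - (m : ℤ) := fun m hm => by
    simp only [S, Finset.mem_filter, Finset.mem_Icc] at hm
    exact ⟨hm.1.1, hm.1.2, hm.2⟩
  set g := X ^ n * h - ∑ m ∈ S, C (coef m) * X ^ (n - m) with hg
  set U := ((hu.unit ^ (a - n) : k⟦X⟧ˣ) : k⟦X⟧)
  have hpow : ∀ j : ℕ, U * u ^ j = ((hu.unit ^ (a - n + j) : k⟦X⟧ˣ) : k⟦X⟧) := fun j => by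
    rw [zpow_add _ (a - n), zpow_natCast, Units.val_mul, Units.val_pow_eq_pow_val, hu.unit_spec]
  have hinv : U * subst (X * u) g - g = 0 := by
    rw [hg, ← coe_substAlgHom (hasSubst_Xu u), map_sub, map_sum, map_mul, map_pow]
    simp only [map_mul, map_pow, coe_substAlgHom (hasSubst_Xu u), subst_X (hasSubst_Xu u), subst_C]
    have e1 : U * ((X * u) ^ n * subst (X * u) h) = X ^ n * (((hu.unit ^ a : k⟦X⟧ˣ) : k⟦X⟧) * subst (X * u) h) := by
      have := hpow n
      rw [sub_add_cancel] at this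
      rw [mul_pow, ← this]; ring
    have e2 : ∀ m ∈ S, U * (C (coef m) * (X * u) ^ (n - m)) =
        C (coef m) * X ^ (n - m) + X ^ n * (coef m • c m) := by
      intro m hm
      obtain ⟨h1, h2, -⟩ := hS m hm
      have := hpow (n - m)
      rw [show a - (n : ℤ) + ((n - m : ℕ) : ℤ) = a - m by rw [Nat.cast_sub h2]; ring,
        eq_add_of_sub_eq (hc m h1 h2).symm] at this
      have e : (X : k⟦X⟧) ^ n = X ^ (n - m) * X ^ m := by rw [← pow_add, Nat.sub_add_cancel h2]
      rw [mul_pow, smul_eq_C_mul, e]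
      linear_combination C (coef m) * X ^ (n - m) * this
    rw [show (∑ m ∈ S, MvPowerSeries.C (coef m) * (X * u) ^ (n - m)) = ∑ m ∈ S, C (coef m) * (X * u) ^ (n - m) from rfl,
      mul_sub, e1, Finset.mul_sum, Finset.sum_congr rfl e2, Finset.sum_add_distrib, ← Finset.mul_sum]
    linear_combination (X : k⟦X⟧) ^ n * hh
  have hval : ∀ i < n, coeff i g = -(if n - i ∈ S then coef (n - i) else 0) := by
    intro i hi
    rw [hg, map_sub, map_sum, coeff_X_pow_mul', if_neg (by omega), zero_sub]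
    simp only [coeff_C_mul_X_pow]
    congr 1
    by_cases hm : n - i ∈ S
    · rw [if_pos hm, Finset.sum_eq_single (n - i)]
      · rw [if_pos (by omega)]
      · intro b hb hne; rw [if_neg]; intro hc'; have := (hS b hb).2.1; omega
      · exact fun h => absurd hm h
    · rw [if_neg hm]
      refine Finset.sum_eq_zero fun b hb => if_neg fun hc' => hm ?_
      have := (hS b hb).2.1
      rwa [show n - i = b by omega]
  have hzero : ∀ i < n, coeff i g = 0 := by
    intro i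
    induction i using Nat.strong_induction_on with
    | _ i ih =>
      intro hi
      by_cases hm : n - i ∈ S
      swap
      · rw [hval i hi, if_neg hm, neg_zero]
      have h1 := coeff_twist hn0 hu1 hun hu (a - n) g i (fun j hj => ih j hj (by omega))
      rw [hinv, map_zero, eq_comm, mul_eq_zero] at h1
      refine h1.resolve_left (div_ne_zero (neg_ne_zero.2 fun h0 => (hS _ hm).2.2 ?_) hn0)
      rw [← CharP.intCast_eq_zero_iff k p]
      rw [Nat.cast_sub hi.le, show a - ((n : ℤ) - i) = a - n + i by ring]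
      exact h0
  intro m hm
  obtain ⟨h1, h2, -⟩ := hS m hm
  have h3 := hval (n - m) (by omega)
  rw [hzero (n - m) (by omega), show n - (n - m) = m by omega, if_pos hm, eq_comm, neg_eq_zero] at h3
  exact h3

/-- The classes with `p ∣ a - m` are coboundaries. -/
theorem exists_coboundary (p : ℕ) [Fact p.Prime] [CharP k p] [IsAlgClosed k] (hu : IsUnit u) (a : ℤ) (m : ℕ)
    (hm1 : 1 ≤ m) (hmn : m ≤ n) (hdvd : (p : ℤ) ∣ a - m) (c : k⟦X⟧)
    (hc : X ^ m * c = ((hu.unit ^ (a - m) : k⟦X⟧ˣ) : k⟦X⟧) - 1) :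
    ∃ h : k⟦X⟧, ((hu.unit ^ a : k⟦X⟧ˣ) : k⟦X⟧) * subst (X * u) h - h = c := by
  have hn : 0 < n := by omega
  have hp : p.Prime := Fact.out
  haveI : CharP k⟦X⟧ p := charP_of_injective_algebraMap (algebraMap k k⟦X⟧).injective p
  obtain ⟨ζ, hζ⟩ := IsAlgClosed.exists_pow_nat_eq (-1 : k) hn
  set t : k⟦X⟧ := C ζ * X ^ (p - 1) with ht
  have hp1 : p - 1 ≠ 0 := by have := hp.two_le; omega
  have hts : HasSubst t := HasSubst.of_constantCoeff_zero' (by simp [ht, hp1])
  set v := subst t u with hv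
  have htn : t ^ n = -(X ^ (p - 1)) ^ n := by rw [ht, mul_pow, ← map_pow, hζ, map_neg, map_one, neg_one_mul]
  have hvn : v ^ n * (1 - (X ^ (p - 1)) ^ n) = 1 := by
    have h1 := congrArg (substAlgHom (R := k) hts) hun
    rw [map_mul, map_pow, map_add, map_one, map_pow, coe_substAlgHom hts, subst_X hts, htn, ← sub_eq_add_neg] at h1
    exact h1
  have hvdvd : X ^ ((p - 1) * n) ∣ v - 1 := by
    obtain ⟨w, hw, -⟩ := exists_leading hn0 hu1 hun
    have h1 := congrArg (substAlgHom (R := k) hts) hw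
    rw [map_add, map_one, map_mul, map_pow, coe_substAlgHom hts, subst_X hts, htn, ← pow_mul] at h1
    exact ⟨-subst t w, by rw [hv, h1]; ring⟩
  have hv0 : constantCoeff v = 1 := by
    obtain ⟨w, hw⟩ := hvdvd
    rw [sub_eq_iff_eq_add] at hw
    rw [hw]
    simp [Nat.mul_ne_zero hp1 (by omega), hp1, hn.ne']
  have hvu : IsUnit v := isUnit_iff_constantCoeff.2 (by rw [hv0]; exact isUnit_one)
  -- invariance
  have hinv : u ^ p * subst (X * u) v = v := by
    refine root_unique hn0 ?_ hv0 ?_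
    · rw [map_mul, map_pow, hu1, one_pow, one_mul]
      obtain ⟨d, hd⟩ := subst_sub_dvd hn0 hu1 hun v
      rw [sub_eq_iff_eq_add] at hd
      rw [hd]
      simp [hv0, hn.ne']
    · have h1 := congrArg (substAlgHom (R := k) (hasSubst_Xu u)) hvn
      rw [map_mul, map_pow, map_sub, map_one, map_pow, map_pow, coe_substAlgHom (hasSubst_Xu u),
        subst_X (hasSubst_Xu u)] at h1
      set V := subst (X * u) v
      have hfrob : (1 + X ^ n : k⟦X⟧) ^ p = 1 + (X ^ n) ^ p := by rw [add_pow_char, one_pow]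
      set Z : k⟦X⟧ := (1 + X ^ n) with hZ
      have hup : (u ^ n) ^ p * Z ^ p = 1 := by rw [← mul_pow, hun, one_pow]
      have hunit : IsUnit (1 - (X ^ (p - 1)) ^ n : k⟦X⟧) := IsUnit.of_mul_eq_one (v ^ n) (by rw [mul_comm, hvn])
      refine hunit.mul_right_cancel ?_
      rw [hvn, mul_pow]
      have e : (X : k⟦X⟧) ^ (n * p) = (X ^ (p - 1)) ^ n * X ^ n := by
        rw [← pow_mul, ← pow_add]; congr 1
        obtain ⟨q, hq⟩ : ∃ q, p = q + 1 := ⟨p - 1, by omega⟩
        rw [hq, Nat.add_sub_cancel]; ring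
      have hfrob' : Z ^ p = 1 + (X ^ (p - 1)) ^ n * X ^ n := by rw [hfrob, ← pow_mul, e]
      have e4 : ((X * u) ^ (p - 1)) ^ n = (X ^ (p - 1)) ^ n * (u ^ n) ^ (p - 1) := by
        rw [mul_pow, mul_pow, ← pow_mul u, ← pow_mul u, mul_comm (p - 1) n, mul_comm]
      rw [e4] at h1
      set W : k⟦X⟧ := (X ^ (p - 1)) ^ n
      set A : k⟦X⟧ := (u ^ n) ^ (p - 1) with hA
      have hupA : (u ^ p) ^ n = A * u ^ n := by
        rw [hA, ← pow_succ, ← pow_mul, ← pow_mul, show p - 1 + 1 = p by omega, mul_comm]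
      rw [hupA]
      have hA1 : A * u ^ n * (1 + W * X ^ n) = 1 := by
        rw [← hfrob', ← hupA, ← pow_mul, mul_comm p, pow_mul]; exact hup
      linear_combination h1 - V ^ n * A * W * hun + V ^ n * hA1
  obtain ⟨e, he⟩ := hdvd
  set G := ((hvu.unit ^ e : k⟦X⟧ˣ) : k⟦X⟧) with hG
  have hσG : ((hu.unit ^ (a - m) : k⟦X⟧ˣ) : k⟦X⟧) * subst (X * u) G = G := by
    have hmap : Units.map (substAlgHom (R := k) (hasSubst_Xu u)).toRingHom.toMonoidHom hvu.unit = hvu.unit * (hu.unit ^ (p : ℤ))⁻¹ := by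
      refine eq_mul_inv_of_mul_eq (Units.ext ?_)
      rw [zpow_natCast, Units.val_mul, Units.val_pow_eq_pow_val, hu.unit_spec, Units.coe_map]
      show substAlgHom (hasSubst_Xu u) (hvu.unit : k⟦X⟧) * u ^ p = hvu.unit
      rw [hvu.unit_spec, coe_substAlgHom, mul_comm, hinv]
    have h2 : subst (X * u) G = ((Units.map (substAlgHom (R := k) (hasSubst_Xu u)).toRingHom.toMonoidHom (hvu.unit ^ e) : k⟦X⟧ˣ) : k⟦X⟧) := by
      rw [Units.coe_map]
      show _ = substAlgHom (hasSubst_Xu u) _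
      rw [coe_substAlgHom]
    rw [h2, map_zpow, hmap, mul_zpow, inv_zpow, ← zpow_mul, he, ← Units.val_mul, mul_comm (hvu.unit ^ e),
      ← mul_assoc, mul_inv_cancel, one_mul]
  have hGdvd : X ^ m ∣ G - 1 := by
    have hsub : (X : k⟦X⟧) ^ m ∣ v - 1 :=
      (pow_dvd_pow _ (le_trans hmn (Nat.le_mul_of_pos_left n (Nat.pos_of_ne_zero hp1)))).trans hvdvd
    have hmem : ∀ x : k⟦X⟧, X ^ m ∣ x ↔ x ∈ Ideal.span {(X : k⟦X⟧) ^ m} := fun x => Ideal.mem_span_singleton.symm
    rw [hmem, ← Ideal.Quotient.mk_eq_mk_iff_sub_mem] at hsub ⊢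
    have hu' : Units.map (Ideal.Quotient.mk (Ideal.span {(X : k⟦X⟧) ^ m})).toMonoidHom hvu.unit = 1 :=
      Units.ext (by rw [Units.coe_map]; simpa using hsub)
    have := congrArg Units.val (show Units.map (Ideal.Quotient.mk (Ideal.span {(X : k⟦X⟧) ^ m})).toMonoidHom (hvu.unit ^ e) = 1 by
      rw [map_zpow, hu', one_zpow])
    exact this.trans (map_one _).symm
  obtain ⟨d, hd⟩ := hGdvd
  refine ⟨-d, ?_⟩
  refine mul_left_cancel₀ (pow_ne_zero m (X_ne_zero (R := k))) ?_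
  have hGd : subst (X * u) G = 1 + (X * u) ^ m * subst (X * u) d := by
    rw [sub_eq_iff_eq_add'] at hd
    rw [hd, ← coe_substAlgHom (hasSubst_Xu u), map_add, map_one, map_mul, map_pow, coe_substAlgHom (hasSubst_Xu u),
      subst_X (hasSubst_Xu u)]
  have hpow : ((hu.unit ^ (a - m) : k⟦X⟧ˣ) : k⟦X⟧) * u ^ m = ((hu.unit ^ a : k⟦X⟧ˣ) : k⟦X⟧) := by
    rw [show u ^ m = ((hu.unit ^ (m : ℤ) : k⟦X⟧ˣ) : k⟦X⟧) by rw [zpow_natCast, Units.val_pow_eq_pow_val, hu.unit_spec],
      ← Units.val_mul, ← zpow_add, sub_add_cancel]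
  rw [← coe_substAlgHom (hasSubst_Xu u), map_neg, coe_substAlgHom (hasSubst_Xu u), hc]
  rw [hGd] at hσG
  linear_combination -hσG + X ^ m * subst (X * u) d * hpow - hd

end

end Groth.L15.AS
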