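import Groth.Agent.L15.ASBase
import Mathlib.RingTheory.PowerSeries.Derivative
import Mathlib.RepresentationTheory.Homological.GroupCohomology.Functoriality
import Mathlib.Algebra.Polynomial.AlgebraMap
import Mathlib.LinearAlgebra.FiniteDimensional.Basic
import Mathlib.GroupTheory.OrderOfElement

/-!
First cohomology of the twisted Artin–Schreier action on a power series ring.
-/

set_option autoImplicit false

noncomputable section

universe u

open PowerSeries

namespace Groth.L15.AS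

variable {k : Type u} [Field k] {n : ℕ} {u : k⟦X⟧} (hu : IsUnit u)

/-- The twisted automorphism of weight `b`. -/
def tw (b : ℤ) : Module.End k k⟦X⟧ :=
  LinearMap.mulLeft k ((hu.unit ^ b : k⟦X⟧ˣ) : k⟦X⟧) ∘ₗ (substAlgHom (R := k) (hasSubst_Xu u)).toLinearMap

theorem tw_apply (b : ℤ) (h : k⟦X⟧) :
    tw hu b h = ((hu.unit ^ b : k⟦X⟧ˣ) : k⟦X⟧) * subst (X * u) h := by
  simp [tw, coe_substAlgHom]

theorem tw_pow_mul (b : ℤ) (j : ℕ) (x y : k⟦X⟧) :
    (tw hu b ^ j) (x * y) = (tw hu 0 ^ j) x * (tw hu b ^ j) y := by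
  induction j generalizing x y with
  | zero => simp
  | succ j ih =>
    simp only [pow_succ', Module.End.mul_apply, ih, tw_apply, subst_mul (hasSubst_Xu u), zpow_zero, Units.val_one, one_mul]
    ring

theorem tw_sub_X_pow (a : ℤ) (y : k⟦X⟧) :
    tw hu (a - n) (X ^ n * y) = X ^ n * tw hu a y := by
  have h : ((hu.unit ^ (a - n) : k⟦X⟧ˣ) : k⟦X⟧) * u ^ n = ((hu.unit ^ a : k⟦X⟧ˣ) : k⟦X⟧) := by
    rw [show u ^ n = ((hu.unit ^ (n : ℤ) : k⟦X⟧ˣ) : k⟦X⟧) by rw [zpow_natCast, Units.val_pow_eq_pow_val, hu.unit_spec],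
      ← Units.val_mul, ← zpow_add, sub_add_cancel]
  simp only [tw_apply, subst_mul (hasSubst_Xu u), subst_pow (hasSubst_Xu u), subst_X (hasSubst_Xu u), mul_pow, ← h]
  ring

theorem tw_pow_sub_X_pow (a : ℤ) (j : ℕ) (y : k⟦X⟧) :
    (tw hu (a - n) ^ j) (X ^ n * y) = X ^ n * (tw hu a ^ j) y := by
  induction j with
  | zero => simp
  | succ j ih => simp only [pow_succ', Module.End.mul_apply, ih, tw_sub_X_pow]

theorem tw_pow_eq_one (a : ℤ) (p : ℕ) (hp1 : tw hu a ^ p = 1) : tw hu (a - n) ^ p = 1 := by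
  refine LinearMap.ext fun y => ?_
  rw [Module.End.one_apply]
  refine mul_left_cancel₀ (pow_ne_zero n (X_ne_zero (R := k))) ?_
  have h0 := tw_pow_mul hu a p (X ^ n) 1
  rw [hp1, Module.End.one_apply, Module.End.one_apply, mul_one, mul_one] at h0
  have h1 := tw_pow_sub_X_pow (n := n) hu a p y
  rw [hp1, Module.End.one_apply, tw_pow_mul, ← h0] at h1
  exact h1

theorem sum_pow_eq (p : ℕ) [Fact p.Prime] [CharP k p] (f : Module.End k k⟦X⟧) :
    ∑ j ∈ Finset.range p, f ^ j = (f - 1) ^ (p - 1) := by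
  have h : (∑ j ∈ Finset.range p, Polynomial.X ^ j : Polynomial k) = (Polynomial.X - 1) ^ (p - 1) := by
    have hne : (Polynomial.X - 1 : Polynomial k) ≠ 0 := by
      rw [← Polynomial.C_1]; exact Polynomial.X_sub_C_ne_zero _
    have hp : p.Prime := Fact.out
    refine mul_right_cancel₀ hne ?_
    rw [geom_sum_mul, ← pow_succ, Nat.sub_add_cancel hp.one_le, sub_pow_char, one_pow]
  have := congrArg (Polynomial.aeval f) h
  simpa [map_sum] using this

/-- The obstruction class. -/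
def cls (a : ℤ) (m : ℕ) : k⟦X⟧ :=
  PowerSeries.mk fun i => coeff (i + m) (((hu.unit ^ (a - m) : k⟦X⟧ˣ) : k⟦X⟧) - 1)

section

variable (hn0 : (n : k) ≠ 0) (hu1 : constantCoeff u = 1) (hun : u ^ n * (1 + X ^ n) = 1)
include hn0 hu1 hun

theorem X_pow_mul_cls (a : ℤ) {m : ℕ} (hm : m ≤ n) :
    X ^ m * cls hu a m = ((hu.unit ^ (a - m) : k⟦X⟧ˣ) : k⟦X⟧) - 1 := by
  obtain ⟨w, hw, -⟩ := exists_leading_zpow hn0 hu1 hun hu (a - m)
  conv_rhs => rw [eq_X_pow_mul_shift_add_trunc m (((hu.unit ^ (a - m) : k⟦X⟧ˣ) : k⟦X⟧) - 1)]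
  have h0 : trunc m (((hu.unit ^ (a - m) : k⟦X⟧ˣ) : k⟦X⟧) - 1) = 0 := by
    ext i
    rw [coeff_trunc, Polynomial.coeff_zero]
    split_ifs with hi
    · rw [hw, add_sub_cancel_left, coeff_X_pow_mul', if_neg (by omega)]
    · rfl
  rw [h0, Polynomial.coe_zero, add_zero, cls]

theorem X_pow_mul_cls_eq (a : ℤ) {m : ℕ} (hm : m ≤ n) :
    X ^ n * cls hu a m = (tw hu (a - n) - 1) (X ^ (n - m)) := by
  have hpow : ((hu.unit ^ (a - n) : k⟦X⟧ˣ) : k⟦X⟧) * u ^ (n - m) = ((hu.unit ^ (a - m) : k⟦X⟧ˣ) : k⟦X⟧) := by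
    rw [show u ^ (n - m) = ((hu.unit ^ ((n - m : ℕ) : ℤ) : k⟦X⟧ˣ) : k⟦X⟧) by
        rw [zpow_natCast, Units.val_pow_eq_pow_val, hu.unit_spec],
      ← Units.val_mul, ← zpow_add, show a - (n : ℤ) + ((n - m : ℕ) : ℤ) = a - m by rw [Nat.cast_sub hm]; ring]
  rw [LinearMap.sub_apply, Module.End.one_apply, tw_apply, subst_pow (hasSubst_Xu u), subst_X (hasSubst_Xu u),
    show (X : k⟦X⟧) ^ n = X ^ (n - m) * X ^ m by rw [← pow_add, Nat.sub_add_cancel hm], mul_assoc,
    X_pow_mul_cls hu hn0 hu1 hun a hm, ← hpow, mul_pow]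
  ring

theorem norm_cls (p : ℕ) (a : ℤ) (hp1 : tw hu a ^ p = 1) {m : ℕ} (hm : m ≤ n) :
    (∑ j ∈ Finset.range p, tw hu a ^ j) (cls hu a m) = 0 := by
  refine (mul_eq_zero.1 ?_).resolve_left (pow_ne_zero n (X_ne_zero (R := k)))
  rw [LinearMap.sum_apply, Finset.mul_sum, Finset.sum_congr rfl fun j _ => (tw_pow_sub_X_pow (n := n) hu a j _).symm,
    ← LinearMap.sum_apply, X_pow_mul_cls_eq hu hn0 hu1 hun a hm, ← Module.End.mul_apply, geom_sum_mul,
    tw_pow_eq_one hu a p hp1, sub_self, LinearMap.zero_apply]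

theorem dvd_twist (b : ℤ) (g : k⟦X⟧) : X ^ n ∣ (tw hu b - 1) g := by
  obtain ⟨w, hw, -⟩ := exists_leading_zpow hn0 hu1 hun hu b
  obtain ⟨c, hc⟩ := subst_sub_dvd hn0 hu1 hun g
  refine ⟨w * subst (X * u) g + c, ?_⟩
  rw [LinearMap.sub_apply, Module.End.one_apply, tw_apply, hw]
  linear_combination hc

theorem coeff_twist_low (b : ℤ) (g : k⟦X⟧) (i : ℕ) (hlow : ∀ j < i, coeff j g = 0) :
    ∀ j < i + n, coeff j ((tw hu b - 1) g) = 0 := by
  intro j hj
  rcases lt_or_ge j n with h | h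
  · exact X_pow_dvd_iff.1 (dvd_twist hu hn0 hu1 hun b g) j h
  · obtain ⟨i', rfl⟩ : ∃ i', j = i' + n := ⟨j - n, by omega⟩
    rw [LinearMap.sub_apply, Module.End.one_apply, tw_apply,
      coeff_twist hn0 hu1 hun hu b g i' (fun l hl => hlow l (by omega)), hlow i' (by omega), mul_zero]

theorem coeff_twist' (b : ℤ) (g : k⟦X⟧) (i : ℕ) (hlow : ∀ j < i, coeff j g = 0) :
    coeff (i + n) ((tw hu b - 1) g) = -((b + i : ℤ) : k) / n * coeff i g := by
  rw [LinearMap.sub_apply, Module.End.one_apply, tw_apply, coeff_twist hn0 hu1 hun hu b g i hlow]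

/-- Iterates of `σ - 1` on a series supported at resonant positions do not vanish. -/
theorem eq_zero_of_support (p : ℕ) [Fact p.Prime] [CharP k p] (a : ℤ) (r : k⟦X⟧)
    (hsupp : ∀ i, coeff i r ≠ 0 → (p : ℤ) ∣ a - n + i)
    (hN : (∑ j ∈ Finset.range p, tw hu a ^ j) r = 0) : r = 0 := by
  classical
  by_contra hr
  obtain ⟨i, hi⟩ : ∃ i, coeff i r ≠ 0 := by
    by_contra hc
    simp only [not_exists, not_not] at hc
    exact hr (PowerSeries.ext fun i => by rw [hc i, map_zero])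
  have hex : ∃ i, coeff i r ≠ 0 := ⟨i, hi⟩
  set i₀ := Nat.find hex
  have hlow : ∀ j < i₀, coeff j r = 0 := fun j hj => not_not.1 (Nat.find_min hex hj)
  have key : ∀ l, l ≤ p - 1 → (∀ j < i₀ + l * n, coeff j (((tw hu a - 1) ^ l) r) = 0) ∧
      coeff (i₀ + l * n) (((tw hu a - 1) ^ l) r) ≠ 0 := by
    intro l
    induction l with
    | zero => intro _; simpa using ⟨hlow, Nat.find_spec hex⟩
    | succ l ih =>
      intro hl
      obtain ⟨h1, h2⟩ := ih (by omega)
      rw [pow_succ', Module.End.mul_apply, show i₀ + (l + 1) * n = i₀ + l * n + n by ring]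
      refine ⟨coeff_twist_low hu hn0 hu1 hun a _ _ h1, ?_⟩
      rw [coeff_twist' hu hn0 hu1 hun a _ _ h1]
      refine mul_ne_zero (div_ne_zero (neg_ne_zero.2 ?_) hn0) h2
      have hz : ((a - n + i₀ : ℤ) : k) = 0 := (CharP.intCast_eq_zero_iff k p _).2 (hsupp _ (Nat.find_spec hex))
      rw [show a + ((i₀ + l * n : ℕ) : ℤ) = (a - n + i₀) + ((l + 1) * n : ℕ) by push_cast; ring, Int.cast_add, hz,
        zero_add, Int.cast_natCast, Nat.cast_mul]
      refine mul_ne_zero (fun hc => ?_) hn0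
      rw [CharP.cast_eq_zero_iff k p] at hc
      have := Nat.le_of_dvd (by omega) hc
      omega
  have h := (key (p - 1) le_rfl).2
  rw [← sum_pow_eq, hN, map_zero] at h
  exact h rfl

/-- The indices of a basis of the first cohomology. -/
def idx (_hn0 : (n : k) ≠ 0) (_hu1 : constantCoeff u = 1) (_hun : u ^ n * (1 + X ^ n) = 1) (p : ℕ) (a : ℤ) :
    Finset ℕ := (Finset.Icc 1 n).filter (fun m : ℕ => ¬ (p : ℤ) ∣ a - (m : ℤ))

theorem exists_decomp (p : ℕ) [Fact p.Prime] [CharP k p] (a : ℤ) (hp1 : tw hu a ^ p = 1) (h : k⟦X⟧)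
    (hN : (∑ j ∈ Finset.range p, tw hu a ^ j) h = 0) :
    ∃ (s : k⟦X⟧) (coef : ℕ → k), h - (tw hu a - 1) s =
      ∑ m ∈ (Finset.Icc 1 n).filter (fun m : ℕ => ¬ (p : ℤ) ∣ a - (m : ℤ)), coef m • cls hu a m := by
  classical
  set S := (Finset.Icc 1 n).filter (fun m : ℕ => ¬ (p : ℤ) ∣ a - (m : ℤ)) with hS
  set L' := tw hu (a - n) - 1
  let Y : ℕ → k⟦X⟧ := fun i => Nat.rec 0 (fun i P => P +
    C (if (p : ℤ) ∣ a - n + i then 0 else -(n : k) / ((a - n + i : ℤ) : k) * (coeff i h - coeff (i + n) (L' P))) * X ^ i) i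
  have hY : ∀ i, Y (i + 1) = Y i +
      C (if (p : ℤ) ∣ a - n + i then 0 else -(n : k) / ((a - n + i : ℤ) : k) * (coeff i h - coeff (i + n) (L' (Y i)))) * X ^ i :=
    fun i => rfl
  have hYhigh : ∀ i j, i ≤ j → coeff j (Y i) = 0 := by
    intro i
    induction i with
    | zero => intro j _; exact map_zero _
    | succ i ih =>
      intro j hj
      rw [hY, map_add, ih j (by omega), coeff_C_mul_X_pow, if_neg (by omega), add_zero]
  set y : k⟦X⟧ := PowerSeries.mk fun j => coeff j (Y (j + 1))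
  have hylow : ∀ i j, j < i → coeff j (Y i) = coeff j y := by
    intro i
    induction i with
    | zero => intro j hj; omega
    | succ i ih =>
      intro j hj
      rcases eq_or_lt_of_le (Nat.lt_succ_iff.1 hj) with rfl | hlt
      · rw [coeff_mk]
      · rw [hY, map_add, coeff_C_mul_X_pow, if_neg hlt.ne, add_zero, ih j hlt]
  have hyval : ∀ i, coeff i y = if (p : ℤ) ∣ a - n + i then 0 else
      -(n : k) / ((a - n + i : ℤ) : k) * (coeff i h - coeff (i + n) (L' (Y i))) := fun i => by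
    rw [coeff_mk, hY, map_add, hYhigh i i le_rfl, coeff_C_mul_X_pow, if_pos rfl, zero_add]
  obtain ⟨z, hz⟩ := dvd_twist hu hn0 hu1 hun (a - n) y
  have hsupp : ∀ i, coeff i (h - z) ≠ 0 → (p : ℤ) ∣ a - n + i := by
    intro i hi
    by_contra hnd
    refine hi ?_
    have h1 := coeff_twist' hu hn0 hu1 hun (a - n) (y - Y i) i
      (fun j hj => by rw [map_sub, hylow i j hj, sub_self])
    rw [map_sub, map_sub, map_sub, hz, hYhigh i i le_rfl, sub_zero, coeff_X_pow_mul', if_pos (by omega),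
      Nat.add_sub_cancel, hyval, if_neg hnd] at h1
    have hne : ((a - n + i : ℤ) : k) ≠ 0 := fun h0 => hnd ((CharP.intCast_eq_zero_iff k p _).1 h0)
    rw [map_sub, sub_eq_zero]
    field_simp at h1
    simp only [L'] at h1
    linear_combination -h1
  let coef : ℕ → k := fun m => coeff (n - m) y
  set s := PowerSeries.mk fun i => coeff (i + n) y
  have hsplit : y = X ^ n * s + ∑ m ∈ S, C (coef m) * X ^ (n - m) := by
    conv_lhs => rw [eq_X_pow_mul_shift_add_trunc n y]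
    refine congrArg (X ^ n * s + ·) (PowerSeries.ext fun j => ?_)
    rw [Polynomial.coeff_coe, coeff_trunc, map_sum]
    simp only [coeff_C_mul_X_pow]
    by_cases hj : j < n
    · rw [if_pos hj]
      by_cases hm : n - j ∈ S
      · rw [Finset.sum_eq_single (n - j)]
        · rw [if_pos (by omega)]
          show coeff j y = coeff (n - (n - j)) y
          rw [show n - (n - j) = j by omega]
        · intro b hb hne
          have := (Finset.mem_Icc.1 (Finset.mem_filter.1 hb).1).2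
          rw [if_neg]; intro hc; omega
        · exact fun h => absurd hm h
      · rw [Finset.sum_eq_zero fun b hb => if_neg (fun hc => hm ?_), hyval, if_pos]
        · by_contra hnd
          refine hm (Finset.mem_filter.2 ⟨Finset.mem_Icc.2 ⟨by omega, Nat.sub_le _ _⟩, ?_⟩)
          rwa [Nat.cast_sub hj.le, show a - ((n : ℤ) - j) = a - n + j by ring]
        · have := (Finset.mem_Icc.1 (Finset.mem_filter.1 hb).1).2
          rwa [show n - j = b by omega]
    · rw [if_neg hj]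
      refine (Finset.sum_eq_zero fun b hb => if_neg ?_).symm
      have := (Finset.mem_Icc.1 (Finset.mem_filter.1 hb).1).1
      have := (Finset.mem_Icc.1 (Finset.mem_filter.1 hb).1).2
      omega
  have hzdec : z = (tw hu a - 1) s + ∑ m ∈ S, coef m • cls hu a m := by
    refine mul_left_cancel₀ (pow_ne_zero n (X_ne_zero (R := k))) ?_
    rw [← hz, hsplit, mul_add, Finset.mul_sum, map_add, map_sum]
    congr 1
    · simp only [L', LinearMap.sub_apply, Module.End.one_apply, tw_sub_X_pow, mul_sub]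
    · refine Finset.sum_congr rfl fun m hm => ?_
      rw [← smul_eq_C_mul, map_smul, mul_smul_comm,
        X_pow_mul_cls_eq hu hn0 hu1 hun a (Finset.mem_Icc.1 (Finset.mem_filter.1 hm).1).2]
  have hzN : (∑ j ∈ Finset.range p, tw hu a ^ j) z = 0 := by
    rw [hzdec, map_add, map_sum, ← Module.End.mul_apply, geom_sum_mul, hp1, sub_self, LinearMap.zero_apply, zero_add]
    exact Finset.sum_eq_zero fun m hm => by
      rw [map_smul, norm_cls hu hn0 hu1 hun p a hp1 (Finset.mem_Icc.1 (Finset.mem_filter.1 hm).1).2, smul_zero]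
  have h0 := eq_zero_of_support hu hn0 hu1 hun p a (h - z) hsupp (by rw [map_sub, hN, hzN, sub_zero])
  refine ⟨s, coef, ?_⟩
  rw [sub_eq_zero.1 h0, hzdec, add_sub_cancel_left]

end

section Cohomology

variable {G : Type u} [Group G] [Finite G] {g : G} {p : ℕ} (hG : Nat.card G = p)
  (hg : ∀ x : G, x ∈ Subgroup.zpowers g) (ρ : Representation k G k⟦X⟧)
include hG hg

theorem orderOf_gen : orderOf g = p := by rw [orderOf_eq_card_of_forall_mem_zpowers hg, hG]

theorem exists_pow_eq (x : G) : ∃ j < p, g ^ j = x := by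
  obtain ⟨z, rfl⟩ := hg x
  have hp : 0 < p := hG ▸ Nat.card_pos
  refine ⟨(z % p).toNat, ?_, ?_⟩
  · have := Int.emod_lt_of_pos z (Int.natCast_pos.2 hp)
    have := Int.emod_nonneg z (Int.natCast_ne_zero.2 hp.ne')
    omega
  · show g ^ (z % (p : ℤ)).toNat = g ^ z
    rw [← zpow_natCast, Int.toNat_of_nonneg (Int.emod_nonneg z (Int.natCast_ne_zero.2 hp.ne')),
      ← orderOf_gen hG hg, zpow_mod_orderOf]

open groupCohomology

theorem cocycle_pow (f : cocycles₁ (Rep.of ρ)) (j : ℕ) :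
    f (g ^ j) = ∑ i ∈ Finset.range j, (ρ g ^ i) (f g) := by
  induction j with
  | zero => rw [pow_zero, cocycles₁_map_one]; simp
  | succ j ih =>
    rw [pow_succ, (mem_cocycles₁_iff f).1 f.2, Finset.sum_range_succ, ← ih, add_comm]
    congr 1
    rw [← map_pow]

theorem exists_cocycle (c : k⟦X⟧) (hc : (∑ j ∈ Finset.range p, ρ g ^ j) c = 0) :
    ∃ f : cocycles₁ (Rep.of ρ), f g = c := by
  classical
  choose j hj hjx using exists_pow_eq hG hg
  have hper : ∀ a, (∑ i ∈ Finset.range a, (ρ g ^ i) c) = ∑ i ∈ Finset.range (a % p), (ρ g ^ i) c := by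
    intro a
    conv_lhs => rw [← Nat.mod_add_div a p]
    generalize a / p = q
    induction q with
    | zero => simp
    | succ q ih =>
      rw [Nat.mul_succ, ← add_assoc, Finset.sum_range_add, ih]
      have : ∑ i ∈ Finset.range p, (ρ g ^ (a % p + p * q + i)) c = (ρ g ^ (a % p + p * q)) ((∑ i ∈ Finset.range p, ρ g ^ i) c) := by
        simp only [LinearMap.sum_apply, map_sum, pow_add, Module.End.mul_apply]
      rw [this, hc, map_zero, add_zero]
  have hmod : ∀ a b, g ^ a = g ^ b → a % p = b % p := fun a b h => by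
    rw [← orderOf_gen hG hg]; exact pow_inj_mod.1 h
  have hval : ∀ a, (∑ i ∈ Finset.range (j (g ^ a)), (ρ g ^ i) c) = ∑ i ∈ Finset.range a, (ρ g ^ i) c := fun a => by
    rw [hper a, hper (j (g ^ a)), hmod _ _ (hjx (g ^ a))]
  refine ⟨⟨fun x => ∑ i ∈ Finset.range (j x), (ρ g ^ i) c, (mem_cocycles₁_iff _).2 fun x y => ?_⟩, ?_⟩
  · show (∑ i ∈ Finset.range (j (x * y)), (ρ g ^ i) c) =
      ρ x (∑ i ∈ Finset.range (j y), (ρ g ^ i) c) + ∑ i ∈ Finset.range (j x), (ρ g ^ i) c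
    conv_lhs => rw [← hjx x, ← hjx y, ← pow_add, hval, Finset.sum_range_add, add_comm]
    congr 1
    conv_rhs => rw [← hjx x, map_pow, map_sum]
    simp only [pow_add, Module.End.mul_apply]
  · show (∑ i ∈ Finset.range (j g), (ρ g ^ i) c) = c
    have := hval 1
    rw [pow_one] at this
    rw [this]
    simp

theorem norm_cocycle (f : cocycles₁ (Rep.of ρ)) : (∑ j ∈ Finset.range p, ρ g ^ j) (f g) = 0 := by
  rw [LinearMap.sum_apply, ← cocycle_pow hG hg ρ, ← orderOf_gen hG hg, pow_orderOf_eq_one, cocycles₁_map_one]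

theorem mem_range_iff (f : cocycles₁ (Rep.of ρ)) :
    H1π (Rep.of ρ) f = 0 ↔ ∃ s, (ρ g - 1) s = f g := by
  rw [H1π_eq_zero_iff]
  constructor
  · rintro ⟨s, hs⟩
    exact ⟨s, congrFun hs g⟩
  · rintro ⟨s, hs⟩
    refine ⟨s, funext fun x => ?_⟩
    obtain ⟨j, -, rfl⟩ := exists_pow_eq hG hg x
    show ρ (g ^ j) s - s = f (g ^ j)
    rw [cocycle_pow hG hg ρ, ← hs, map_pow]
    have h1 := congrArg (fun F : Module.End k k⟦X⟧ => F s) (geom_sum_mul (ρ g) j)
    simp only [Module.End.mul_apply, LinearMap.sum_apply, LinearMap.sub_apply, Module.End.one_apply] at h1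
    exact h1.symm

end Cohomology

section Basis

variable (hn0 : (n : k) ≠ 0) (hu1 : constantCoeff u = 1) (hun : u ^ n * (1 + X ^ n) = 1)
  {G : Type u} [Group G] [Finite G] {g : G} {p : ℕ} [Fact p.Prime] [CharP k p] (hG : Nat.card G = p)
  (hg : ∀ x : G, x ∈ Subgroup.zpowers g) (a : ℤ) (ρ : Representation k G k⟦X⟧)
include hn0 hu1 hun hG hg

omit hn0 hu1 hun [Fact p.Prime] [CharP k p] in
theorem tw_pow_card (hρ : ρ g = tw hu a) : tw hu a ^ p = 1 := by
  rw [← hρ, ← map_pow, ← orderOf_gen hG hg, pow_orderOf_eq_one, map_one]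

open groupCohomology in
theorem exists_H1_equiv (hρ : ρ g = tw hu a) :
    ∃ Θ : (((Finset.Icc 1 n).filter (fun m : ℕ => ¬ (p : ℤ) ∣ a - (m : ℤ)) : Finset ℕ) → k) ≃ₗ[k] H1 (Rep.of ρ),
      ∀ (f : cocycles₁ (Rep.of ρ)) (v : ((Finset.Icc 1 n).filter (fun m : ℕ => ¬ (p : ℤ) ∣ a - (m : ℤ)) : Finset ℕ) → k),
        (∃ s, f g - ∑ m, v m • cls hu a (m : ℕ) = (ρ g - 1) s) → H1π (Rep.of ρ) f = Θ v := by
  classical
  set S := (Finset.Icc 1 n).filter (fun m : ℕ => ¬ (p : ℤ) ∣ a - (m : ℤ)) with hS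
  have hp1 := tw_pow_card hu hG hg a ρ hρ
  have hcN : ∀ m : S, (∑ j ∈ Finset.range p, ρ g ^ j) (cls hu a (m : ℕ)) = 0 := fun m => by
    rw [hρ]
    exact norm_cls hu hn0 hu1 hun p a hp1 (Finset.mem_Icc.1 (Finset.mem_filter.1 m.2).1).2
  choose F hF using fun m : S => exists_cocycle hG hg ρ _ (hcN m)
  let Θ₀ : (S → k) →ₗ[k] H1 (Rep.of ρ) :=
    { toFun := fun v => H1π (Rep.of ρ) (∑ m, v m • F m)
      map_add' := fun v w => by simp [add_smul, Finset.sum_add_distrib]
      map_smul' := fun r v => by simp [mul_smul, ← Finset.smul_sum] }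
  have hFv : ∀ v : S → k, (∑ m, v m • F m : cocycles₁ (Rep.of ρ)) g = ∑ m, v m • cls hu a (m : ℕ) := by
    intro v
    show ((∑ m, v m • F m : cocycles₁ (Rep.of ρ)) : G → k⟦X⟧) g = _
    rw [show ((∑ m, v m • F m : cocycles₁ (Rep.of ρ)) : G → k⟦X⟧) g = ((LinearMap.proj g).comp (cocycles₁ (Rep.of ρ)).subtype) (∑ m, v m • F m) from rfl, map_sum]
    exact Finset.sum_congr rfl fun m _ => congrArg (v m • ·) (hF m)
  have hspec : ∀ (f : cocycles₁ (Rep.of ρ)) (v : S → k),
      (∃ s, f g - ∑ m, v m • cls hu a (m : ℕ) = (ρ g - 1) s) → H1π (Rep.of ρ) f = Θ₀ v := by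
    rintro f v ⟨s, hs⟩
    show _ = H1π (Rep.of ρ) (∑ m, v m • F m)
    rw [← sub_eq_zero, ← map_sub, mem_range_iff hG hg ρ]
    exact ⟨s, by rw [← hs, ← hFv v]; rfl⟩
  have hinj : Function.Injective Θ₀ := by
    rw [injective_iff_map_eq_zero]
    intro v hv
    obtain ⟨s, hs⟩ := (mem_range_iff hG hg ρ _).1 hv
    rw [hFv, hρ] at hs
    let coef : ℕ → k := fun m => if hm : m ∈ S then v ⟨m, hm⟩ else 0
    have hsum : ∑ m ∈ S, coef m • cls hu a m = ∑ m : S, v m • cls hu a (m : ℕ) := by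
      rw [← Finset.sum_coe_sort]
      exact Finset.sum_congr rfl fun m _ => by simp [coef, m.2]
    have := coeff_eq_zero hn0 hu1 hun p hu a (cls hu a) (fun m _ hm => X_pow_mul_cls hu hn0 hu1 hun a hm) coef s
      (by rw [← hS, hsum, ← hs, LinearMap.sub_apply, Module.End.one_apply, tw_apply])
    funext m
    simpa [coef, m.2] using this m m.2
  have hsurj : Function.Surjective Θ₀ := by
    intro x
    induction x using H1_induction_on with
    | _ f =>
      have hN := norm_cocycle hG hg ρ f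
      rw [hρ] at hN
      obtain ⟨s, coef, hs⟩ := exists_decomp hu hn0 hu1 hun p a hp1 _ hN
      refine ⟨fun m => coef m, (hspec f _ ⟨s, ?_⟩).symm⟩
      rw [← Finset.sum_coe_sort] at hs
      rw [hρ, ← hs]
      abel
  exact ⟨LinearEquiv.ofBijective Θ₀ ⟨hinj, hsurj⟩, hspec⟩

end Basis

/-- The number of integers in `[lo, hi]` divisible by `p`. -/
theorem card_filter_dvd {p : ℕ} (hp : 0 < p) (a : ℤ) (n : ℕ) :
    (((Finset.Icc 1 n).filter (fun m : ℕ => (p : ℤ) ∣ a - (m : ℤ))).card : ℤ) =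
      (a - 1) / (p : ℤ) - (a - 1 - n) / (p : ℤ) := by
  induction n with
  | zero => simp
  | succ n ih =>
    rw [show Finset.Icc 1 (n + 1) = insert (n + 1) (Finset.Icc 1 n) from
      (Finset.insert_Icc_right_eq_Icc_add_one (by omega)).symm, Finset.filter_insert]
    have hp' : (0 : ℤ) < p := by exact_mod_cast hp
    have hd := Int.ediv_mul_add_emod (a - 1 - n) (p : ℤ)
    by_cases hdiv : (p : ℤ) ∣ a - ((n + 1 : ℕ) : ℤ)
    · rw [if_pos hdiv, Finset.card_insert_of_notMem (by simp), Nat.cast_add, Nat.cast_one, ih]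
      obtain ⟨c, hc⟩ := hdiv
      push_cast at hc ⊢
      have h1 : (a - 1 - (n : ℤ)) / p = c := by
        rw [show a - 1 - (n : ℤ) = p * c by linear_combination hc, Int.mul_ediv_cancel_left _ hp'.ne']
      have h2 : (a - 1 - ((n : ℤ) + 1)) / p = c - 1 := by
        rw [show a - 1 - ((n : ℤ) + 1) = (p - 1) + p * (c - 1) by linear_combination hc, Int.add_mul_ediv_left _ _ hp'.ne',
          Int.ediv_eq_zero_of_lt (by omega) (by omega), zero_add]
      rw [h1, h2]; ring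
    · rw [if_neg hdiv, ih]
      push_cast at hdiv ⊢
      have hmod : (a - 1 - (n : ℤ)) % p ≠ 0 := fun h => hdiv (by
        rw [show a - ((n : ℤ) + 1) = a - 1 - n by ring]; exact Int.dvd_of_emod_eq_zero h)
      have hnn := Int.emod_nonneg (a - 1 - (n : ℤ)) hp'.ne'
      have hlt := Int.emod_lt_of_pos (a - 1 - (n : ℤ)) hp'
      have h3 : ((a - 1 - (n : ℤ)) % p - 1) / (p : ℤ) = 0 := Int.ediv_eq_zero_of_lt (by omega) (by omega)
      have h4 : (a - 1 - ((n : ℤ) + 1)) / (p : ℤ) = (a - 1 - (n : ℤ)) / p := by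
        rw [show a - 1 - ((n : ℤ) + 1) = ((a - 1 - (n : ℤ)) % p - 1) + p * ((a - 1 - (n : ℤ)) / p) by
          linear_combination -hd, Int.add_mul_ediv_left _ _ hp'.ne', h3, zero_add]
      rw [h4]

theorem card_idx {p : ℕ} (hp : 0 < p) (a : ℤ) (n : ℕ) :
    (((Finset.Icc 1 n).filter (fun m : ℕ => ¬ (p : ℤ) ∣ a - (m : ℤ))).card : ℤ) =
      n - (a - 1) / (p : ℤ) + (a - 1 - n) / (p : ℤ) := by
  have h := Finset.card_filter_add_card_filter_not (s := Finset.Icc 1 n) (p := fun m : ℕ => (p : ℤ) ∣ a - (m : ℤ))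
  rw [Nat.card_Icc, Nat.add_sub_cancel] at h
  have := card_filter_dvd hp a n
  omega

section Derivative

variable (hn0 : (n : k) ≠ 0) (hu1 : constantCoeff u = 1) (hun : u ^ n * (1 + X ^ n) = 1)
include hn0 hu1 hun

theorem derivative_u : derivative k u = -(X ^ (n - 1) * u ^ (n + 1)) := by
  have hn : n ≠ 0 := fun h => hn0 (by simp [h])
  obtain ⟨j, rfl⟩ : ∃ j, n = j + 1 := ⟨n - 1, by omega⟩
  have h := congrArg (derivative k) hun
  rw [Derivation.leibniz, map_add, Derivation.map_one_eq_zero, zero_add, Derivation.leibniz_pow, Derivation.leibniz_pow,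
    derivative_X] at h
  simp only [smul_eq_mul, nsmul_eq_mul, mul_one, Nat.add_sub_cancel] at h
  have hne : ((j + 1 : ℕ) : k⟦X⟧) ≠ 0 := by
    rw [← map_natCast (C (R := k))]
    exact fun hc => hn0 (C_injective (hc.trans (map_zero _).symm))
  refine mul_left_cancel₀ hne ?_
  rw [Nat.add_sub_cancel]
  linear_combination u * h - ((j + 1 : ℕ) : k⟦X⟧) * derivative k u * hun

theorem derivative_cls {m : ℕ} (hm1 : 1 ≤ m) (hmn : m ≤ n) :
    derivative k (cls hu 0 m) = if m < n then (-(m : k)) • cls hu (n + 1) (m + 1) else 0 := by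
  obtain ⟨j, rfl⟩ : ∃ j, m = j + 1 := ⟨m - 1, by omega⟩
  obtain ⟨i, rfl⟩ : ∃ i, n = j + 1 + i := ⟨n - (j + 1), by omega⟩
  set c := cls hu 0 (j + 1)
  have hc := X_pow_mul_cls hu hn0 hu1 hun 0 hmn
  set v : k⟦X⟧ := ((hu.unit ^ ((0 : ℤ) - ((j + 1 : ℕ) : ℤ)) : k⟦X⟧ˣ) : k⟦X⟧) with hv
  have hvu : v * u ^ (j + 1) = 1 := by
    rw [hv, show u ^ (j + 1) = ((hu.unit ^ ((j + 1 : ℕ) : ℤ) : k⟦X⟧ˣ) : k⟦X⟧) by
      rw [zpow_natCast, Units.val_pow_eq_pow_val, hu.unit_spec], ← Units.val_mul, ← zpow_add, sub_add_cancel, zpow_zero,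
      Units.val_one]
  have hd := congrArg (derivative k) hvu
  have hdc := congrArg (derivative k) hc
  simp only [Derivation.leibniz, Derivation.leibniz_pow, Derivation.map_one_eq_zero, map_sub, derivative_X, smul_eq_mul,
    nsmul_eq_mul, mul_one, Nat.add_sub_cancel, sub_zero] at hd hdc
  rw [derivative_u hn0 hu1 hun, show j + 1 + i - 1 = j + i by omega] at hd
  -- `X ^ (m + 1) D c = -m (u ^ (n - m) - 1)`
  have key : X ^ (j + 2) * derivative k c = -((j + 1 : ℕ) : k⟦X⟧) * (u ^ i - 1) := by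
    have hdv : derivative k v = ((j + 1 : ℕ) : k⟦X⟧) * (X ^ (j + i) * u ^ (j + 1 + i) * v) := by
      refine mul_right_cancel₀ (pow_ne_zero (j + 1) hu.ne_zero) ?_
      linear_combination hd
    linear_combination X * hdc + X * hdv - ((j + 1 : ℕ) : k⟦X⟧) * hc +
      ((j + 1 : ℕ) : k⟦X⟧) * v * hun - ((j + 1 : ℕ) : k⟦X⟧) * u ^ i * hvu
  split_ifs with h
  · refine mul_left_cancel₀ (pow_ne_zero (j + 2) (X_ne_zero (R := k))) ?_
    rw [key, mul_smul_comm, X_pow_mul_cls hu hn0 hu1 hun _ (show j + 1 + 1 ≤ j + 1 + i by omega), smul_eq_C_mul,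
      show ((j + 1 + i : ℕ) : ℤ) + 1 - ((j + 1 + 1 : ℕ) : ℤ) = (i : ℤ) by push_cast; ring, zpow_natCast,
      Units.val_pow_eq_pow_val, hu.unit_spec, map_neg, map_natCast]
  · have : i = 0 := by omega
    subst this
    refine (mul_eq_zero.1 ?_).resolve_left (pow_ne_zero (j + 2) (X_ne_zero (R := k)))
    rw [key, pow_zero, sub_self, mul_zero]

end Derivative

end Groth.L15.AS
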