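import Groth.Agent.L15.ASH1

/-!
Ranks: first cohomology of the twisted action and of the derivative on it.
-/

set_option autoImplicit false

noncomputable section

universe u

open PowerSeries groupCohomology

namespace Groth.L15.AS

theorem map_H1π {k G : Type u} [CommRing k] [Group G] {A B : Rep k G} (φ : A ⟶ B) (f : cocycles₁ A) :
    (groupCohomology.map (A := A) (B := B) (MonoidHom.id G) φ 1).hom (H1π A f) =
      H1π B (mapCocycles₁ (A := A) (B := B) (MonoidHom.id G) φ f) :=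
  H1π_comp_map_apply (A := A) (B := B) (MonoidHom.id G) φ f

theorem mapCocycles₁_val {k G : Type u} [CommRing k] [Group G] {A B : Rep k G} (φ : A ⟶ B) (f : cocycles₁ A) (g : G) :
    (mapCocycles₁ (A := A) (B := B) (MonoidHom.id G) φ f : G → B) g = φ.hom (f g) := rfl

variable {k : Type u} [Field k] {n : ℕ} {u : k⟦X⟧} (hu : IsUnit u)
  (hn0 : (n : k) ≠ 0) (hu1 : constantCoeff u = 1) (hun : u ^ n * (1 + X ^ n) = 1)
  {G : Type u} [Group G] [Finite G] {g : G} {p : ℕ} [Fact p.Prime] [CharP k p] (hG : Nat.card G = p)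
  (hg : ∀ x : G, x ∈ Subgroup.zpowers g)
include hn0 hu1 hun hG hg

theorem finrank_H1 (a : ℤ) (ρ : Representation k G k⟦X⟧) (hρ : ρ g = tw hu a) :
    Module.Finite k (H1 (Rep.of ρ)) ∧
      (Module.finrank k (H1 (Rep.of ρ)) : ℤ) = n - (a - 1) / (p : ℤ) + (a - 1 - n) / (p : ℤ) := by
  obtain ⟨Θ, -⟩ := exists_H1_equiv hu hn0 hu1 hun hG hg a ρ hρ
  refine ⟨Module.Finite.equiv Θ, ?_⟩
  rw [← Θ.finrank_eq, Module.finrank_pi, Fintype.card_coe, card_idx (Fact.out : p.Prime).pos]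

/-- The indices of a basis of the image of the derivative. -/
def idxD (n p : ℕ) : Finset ℕ :=
  (Finset.Ico 1 n).filter (fun m : ℕ => ¬ (p : ℤ) ∣ (m : ℤ) ∧ ¬ (p : ℤ) ∣ (n : ℤ) - m)

omit hn0 hu1 hun hG hg in
theorem card_idxD (p n : ℕ) (hp : p.Prime) (hn : 0 < n) (hpn : ¬ p ∣ n) :
    ((idxD n p).card : ℤ) = ((n + 1) * (p - 1) : ℤ) / p - 1 - (n - 1 : ℤ) / p := by
  have h1 := card_filter_dvd hp.pos 0 (n - 1)
  have h2 := card_filter_dvd hp.pos (n : ℤ) (n - 1)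
  set A := (Finset.Icc 1 (n - 1)).filter (fun m : ℕ => (p : ℤ) ∣ 0 - (m : ℤ))
  set B := (Finset.Icc 1 (n - 1)).filter (fun m : ℕ => (p : ℤ) ∣ (n : ℤ) - (m : ℤ))
  have hd : Disjoint A B := Finset.disjoint_filter.2 fun m _ hm hm' => hpn (by
    rw [zero_sub, dvd_neg] at hm
    have := dvd_add hm' hm
    rw [sub_add_cancel] at this
    exact_mod_cast this)
  have he : idxD n p = Finset.Icc 1 (n - 1) \ (A ∪ B) := by
    ext m
    simp only [idxD, A, B, Finset.mem_filter, Finset.mem_Ico, Finset.mem_Icc, Finset.mem_sdiff, Finset.mem_union,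
      zero_sub, dvd_neg, not_or, not_and]
    constructor
    · rintro ⟨⟨h3, h4⟩, h5, h6⟩
      exact ⟨⟨h3, by omega⟩, fun _ => h5, fun _ => h6⟩
    · rintro ⟨⟨h3, h4⟩, h5, h6⟩
      exact ⟨⟨h3, by omega⟩, h5 ⟨h3, h4⟩, h6 ⟨h3, h4⟩⟩
  have hsub : A ∪ B ⊆ Finset.Icc 1 (n - 1) := Finset.union_subset (Finset.filter_subset _ _) (Finset.filter_subset _ _)
  have hc := Finset.card_sdiff_add_card_eq_card hsub
  rw [← he, Finset.card_union_of_disjoint hd, Nat.card_Icc] at hc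
  obtain ⟨q, r, hr0, hrp, hnq⟩ : ∃ q r : ℕ, 0 < r ∧ r < p ∧ n = p * q + r :=
    ⟨n / p, n % p, Nat.pos_of_ne_zero fun h => hpn (Nat.dvd_of_mod_eq_zero h), Nat.mod_lt _ hp.pos, (Nat.div_add_mod n p).symm⟩
  have hp0 : (p : ℤ) ≠ 0 := by exact_mod_cast hp.ne_zero
  have ev : ∀ x c e : ℤ, x = e + p * c → 0 ≤ e → e < p → x / (p : ℤ) = c := fun x c e hx he0 hep => by
    rw [hx, Int.add_mul_ediv_left _ _ hp0, Int.ediv_eq_zero_of_lt he0 hep, zero_add]
  have hn' : ((n - 1 : ℕ) : ℤ) = (n : ℤ) - 1 := by omega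
  have hnz : (n : ℤ) = p * q + r := by exact_mod_cast hnq
  rw [hn', ev (0 - 1) (-1) (p - 1) (by ring) (by omega) (by omega),
    ev (0 - 1 - ((n : ℤ) - 1)) (-(q : ℤ) - 1) ((p : ℤ) - r) (by linear_combination -hnz) (by omega) (by omega)] at h1
  rw [hn', ev ((n : ℤ) - 1) q ((r : ℤ) - 1) (by linear_combination hnz) (by omega) (by omega),
    ev ((n : ℤ) - 1 - ((n : ℤ) - 1)) 0 0 (by ring) le_rfl (by omega)] at h2
  rw [ev (((n : ℤ) + 1) * ((p : ℤ) - 1)) ((n : ℤ) - q) ((p : ℤ) - r - 1) (by linear_combination -hnz) (by omega) (by omega),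
    ev ((n : ℤ) - 1) q ((r : ℤ) - 1) (by linear_combination hnz) (by omega) (by omega)]
  omega

theorem finrank_range_map [IsAlgClosed k] (hn : 0 < n) (hpn : ¬ p ∣ n) (ρ₀ ρ₁ : Representation k G k⟦X⟧)
    (hρ₀ : ρ₀ g = tw hu 0) (hρ₁ : ρ₁ g = tw hu ((n : ℤ) + 1)) (φ : Rep.of ρ₀ ⟶ Rep.of ρ₁)
    (hφ : ∀ h : k⟦X⟧, φ.hom h = derivative k h) :
    Module.Finite k (LinearMap.range (groupCohomology.map (A := Rep.of ρ₀) (B := Rep.of ρ₁) (MonoidHom.id G) φ 1).hom) ∧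
      (Module.finrank k (LinearMap.range (groupCohomology.map (A := Rep.of ρ₀) (B := Rep.of ρ₁) (MonoidHom.id G) φ 1).hom) : ℤ) =
        ((n + 1) * (p - 1) : ℤ) / p - 1 - (n - 1 : ℤ) / p := by
  classical
  let S₀ := (Finset.Icc 1 n).filter (fun m : ℕ => ¬ (p : ℤ) ∣ (0 : ℤ) - (m : ℤ))
  let S₁ := (Finset.Icc 1 n).filter (fun m : ℕ => ¬ (p : ℤ) ∣ ((n : ℤ) + 1) - (m : ℤ))
  obtain ⟨Θ₀, hΘ₀⟩ := exists_H1_equiv hu hn0 hu1 hun hG hg 0 ρ₀ hρ₀
  obtain ⟨Θ₁, hΘ₁⟩ := exists_H1_equiv hu hn0 hu1 hun hG hg ((n : ℤ) + 1) ρ₁ hρ₁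
  set T := idxD n p with hTdef
  have hT : ∀ m, m ∈ T ↔ 1 ≤ m ∧ m < n ∧ ¬ (p : ℤ) ∣ (m : ℤ) ∧ ¬ (p : ℤ) ∣ (n : ℤ) - m := fun m => by
    simp [hTdef, idxD, and_assoc]
  have hT₀ : ∀ m : T, (m : ℕ) ∈ S₀ := fun m => by
    have := (hT m).1 m.2
    simp only [S₀, Finset.mem_filter, Finset.mem_Icc, zero_sub, dvd_neg]
    exact ⟨⟨this.1, this.2.1.le⟩, this.2.2.1⟩
  have hT₁ : ∀ m : T, (m : ℕ) + 1 ∈ S₁ := fun m => by
    have := (hT m).1 m.2
    simp only [S₁, Finset.mem_filter, Finset.mem_Icc, Nat.cast_add, Nat.cast_one, add_sub_add_right_eq_sub]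
    exact ⟨⟨by omega, this.2.1⟩, this.2.2.2⟩
  let ι : (T → k) →ₗ[k] (S₁ → k) :=
    { toFun := fun x m' => ∑ m : T, if (m : ℕ) + 1 = (m' : ℕ) then x m else 0
      map_add' := fun x y => funext fun m' => by
        simp only [Pi.add_apply, ← Finset.sum_add_distrib]; exact Finset.sum_congr rfl fun m _ => by split_ifs <;> simp
      map_smul' := fun r x => funext fun m' => by simp [Finset.mul_sum] }
  have hι : ∀ (x : T → k) (m : T), ι x ⟨_, hT₁ m⟩ = x m := fun x m => by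
    show (∑ m₂ : T, if (m₂ : ℕ) + 1 = (m : ℕ) + 1 then x m₂ else 0) = x m
    rw [Finset.sum_eq_single m]
    · simp
    · intro b _ hb; rw [if_neg]; exact fun h => hb (Subtype.ext (by omega))
    · simp
  have hιinj : Function.Injective ι := fun x y h => funext fun m => by rw [← hι x m, ← hι y m, h]
  let res : (S₀ → k) → (T → k) := fun v m => -((m : ℕ) : k) * v ⟨_, hT₀ m⟩
  have hmap : ∀ v, (groupCohomology.map (A := Rep.of ρ₀) (B := Rep.of ρ₁) (MonoidHom.id G) φ 1).hom (Θ₀ v) = Θ₁ (ι (res v)) := by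
    intro v
    obtain ⟨f, hf⟩ := exists_cocycle hG hg ρ₀ (∑ m, v m • cls hu 0 (m : ℕ)) (by
      rw [map_sum]
      refine Finset.sum_eq_zero fun m _ => ?_
      rw [map_smul, hρ₀, norm_cls hu hn0 hu1 hun p 0 (tw_pow_card hu hG hg 0 ρ₀ hρ₀)
        (Finset.mem_Icc.1 (Finset.mem_filter.1 m.2).1).2, smul_zero])
    rw [← hΘ₀ f v ⟨0, by rw [hf, sub_self, map_zero]⟩]
    rw [map_H1π φ f]
    refine hΘ₁ _ _ ?_
    have hval : (mapCocycles₁ (MonoidHom.id G) φ f : G → k⟦X⟧) g = ∑ m, v m • derivative k (cls hu 0 (m : ℕ)) := by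
      rw [mapCocycles₁_val, hf, hφ, map_sum]
      exact Finset.sum_congr rfl fun m _ => Derivation.map_smul _ _ _
    -- the classes outside `T` are coboundaries
    have hco : ∀ m : S₀, (m : ℕ) ∉ T → ∃ s, derivative k (cls hu 0 (m : ℕ)) = (ρ₁ g - 1) s := by
      intro m hm
      have hm' := Finset.mem_filter.1 m.2
      obtain ⟨h1, h2⟩ := Finset.mem_Icc.1 hm'.1
      rw [derivative_cls hu hn0 hu1 hun h1 h2]
      split_ifs with hlt
      · have hdvd : (p : ℤ) ∣ ((n : ℤ) + 1) - (((m : ℕ) + 1 : ℕ) : ℤ) := by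
          by_contra hnd
          refine hm ((hT _).2 ⟨h1, hlt, ?_, ?_⟩)
          · simpa using hm'.2
          · simpa using hnd
        obtain ⟨s, hs⟩ := exists_coboundary hn0 hu1 hun p hu ((n : ℤ) + 1) ((m : ℕ) + 1) (by omega) hlt hdvd _
          (X_pow_mul_cls hu hn0 hu1 hun _ hlt)
        refine ⟨(-((m : ℕ) : k)) • s, ?_⟩
        rw [map_smul, hρ₁, LinearMap.sub_apply, Module.End.one_apply, tw_apply, hs]
      · exact ⟨0, (map_zero _).symm⟩
    choose s hs using hco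
    refine ⟨∑ m : S₀, if h : (m : ℕ) ∉ T then v m • s m h else 0, ?_⟩
    show (mapCocycles₁ (MonoidHom.id G) φ f : G → k⟦X⟧) g - _ = _
    rw [hval, map_sum, sub_eq_iff_eq_add]
    let F : ℕ → k⟦X⟧ := fun m => if h : m ∈ S₀ ∧ m ∈ T then v ⟨m, h.1⟩ • derivative k (cls hu 0 m) else 0
    have hsplit : ∀ m : S₀, v m • derivative k (cls hu 0 (m : ℕ)) =
        (ρ₁ g - 1) (if h : (m : ℕ) ∉ T then v m • s m h else 0) + F m := by
      intro m
      by_cases hm : (m : ℕ) ∈ T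
      · rw [dif_neg (not_not.2 hm), map_zero, zero_add]
        simp [F, hm, m.2]
      · rw [dif_pos hm, map_smul, ← hs m hm]
        simp [F, hm]
    rw [Finset.sum_congr rfl fun m _ => hsplit m, Finset.sum_add_distrib]
    congr 1
    rw [Finset.sum_coe_sort S₀ F]
    have hTS : T ⊆ S₀ := fun m hm => hT₀ ⟨m, hm⟩
    rw [← Finset.sum_subset hTS (fun m _ hm => dif_neg (fun h => hm h.2)), ← Finset.sum_coe_sort T F]
    simp only [ι, LinearMap.coe_mk, AddHom.coe_mk, Finset.sum_smul]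
    rw [Finset.sum_comm]
    refine Finset.sum_congr rfl fun m _ => ?_
    rw [Finset.sum_eq_single (⟨_, hT₁ m⟩ : S₁) (fun b _ hb => by
      rw [if_neg (fun h => hb (Subtype.ext h.symm)), zero_smul]) (by simp)]
    have hm := (hT m).1 m.2
    simp only [F, if_true, dif_pos (And.intro (hT₀ m) m.2), res]
    rw [derivative_cls hu hn0 hu1 hun hm.1 hm.2.1.le, if_pos hm.2.1, smul_smul, mul_comm]
  have hrange : LinearMap.range (groupCohomology.map (A := Rep.of ρ₀) (B := Rep.of ρ₁) (MonoidHom.id G) φ 1).hom =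
      LinearMap.range (Θ₁.toLinearMap ∘ₗ ι) := by
    apply le_antisymm
    · rintro _ ⟨x, rfl⟩
      obtain ⟨v, rfl⟩ := Θ₀.surjective x
      exact ⟨res v, (hmap v).symm⟩
    · rintro _ ⟨x, rfl⟩
      refine ⟨Θ₀ (fun m => if h : (m : ℕ) ∈ T then -((m : ℕ) : k)⁻¹ * x ⟨_, h⟩ else 0), ?_⟩
      rw [hmap]
      refine congrArg Θ₁ (congrArg ι (funext fun m => ?_))
      have hne : ((m : ℕ) : k) ≠ 0 := fun h0 => ((hT m).1 m.2).2.2.1 (by
        exact_mod_cast (CharP.cast_eq_zero_iff k p _).1 h0)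
      simp only [res, dif_pos m.2]
      field_simp
  rw [hrange]
  refine ⟨inferInstance, ?_⟩
  rw [LinearMap.finrank_range_of_inj (f := Θ₁.toLinearMap ∘ₗ ι) (Θ₁.injective.comp hιinj), Module.finrank_pi,
    Fintype.card_coe]
  exact card_idxD p n Fact.out hn hpn

end Groth.L15.AS
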