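import Mathlib.LinearAlgebra.QuadraticForm.Basic
import Mathlib.LinearAlgebra.FiniteDimensional.Lemmas
import Mathlib.Algebra.Polynomial.Splits
import Mathlib.Algebra.Polynomial.AlgebraMap
import Mathlib.LinearAlgebra.Projection
import Mathlib.Algebra.Module.LinearMap.End
import Mathlib.Tactic.LinearCombination
import Mathlib.Tactic.NoncommRing
import Mathlib.Tactic.Module
import Mathlib.Tactic.FieldSimp

/-! Isometries of finite order of anisotropic quadratic forms (char ≠ 2). -/

set_option autoImplicit false

namespace Groth.L15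

universe u v
open Polynomial

variable {K : Type u} [Field K] {V : Type v} [AddCommGroup V] [Module K V]

/-- A unipotent step: an isometry of an anisotropic form fixing `f y - y` fixes `y`. -/
theorem isometry_step (h2 : (2 : K) ≠ 0) (q : QuadraticForm K V) (hq : q.Anisotropic)
    (f : Module.End K V) (hf : ∀ x, q (f x) = q x) (y : V) (hz : f (f y - y) = f y - y) :
    f y = y := by
  set z := f y - y with hzd
  have hfy : f y = y + z := by rw [hzd]; abel
  have h1 : q (y + z) = q y := by rw [← hfy, hf]
  have h2' : q (y + z + z) = q (y + z) := by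
    have : f (y + z) = y + z + z := by rw [map_add, hz, hfy]
    rw [← this, hf]
  have hz2 : q (z + z) = 4 * q z := by
    rw [show z + z = (2 : K) • z by module, QuadraticMap.map_smul, smul_eq_mul]; ring
  have e1 := QuadraticMap.polar_add_right q y z z
  simp only [QuadraticMap.polar] at e1
  rw [show y + (z + z) = y + z + z by abel, hz2, h2', h1] at e1
  have hqz : q z = 0 := by
    have : (2 : K) * q z = 0 := by linear_combination -e1
    exact (mul_eq_zero.1 this).resolve_left h2
  have := hq z hqz
  rw [hfy, this, add_zero]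

/-- kernels of `(f - a)` are stable, `a = ± 1`. -/
theorem isometry_step' (h2 : (2 : K) ≠ 0) (q : QuadraticForm K V) (hq : q.Anisotropic)
    (f : Module.End K V) (hf : ∀ x, q (f x) = q x) (a : K) (ha : a ^ 2 = 1) (y : V)
    (hy : f (f y - a • y) = a • (f y - a • y)) : f y = a • y := by
  have haa : a * a = 1 := by rw [← ha, sq]
  have hg : ∀ x, q ((a • f) x) = q x := by
    intro x
    rw [LinearMap.smul_apply, QuadraticMap.map_smul, smul_eq_mul, haa, one_mul, hf]
  have hz : (a • f) ((a • f) y - y) = (a • f) y - y := by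
    have e : (a • f) y - y = a • (f y - a • y) := by
      rw [LinearMap.smul_apply, smul_sub, smul_smul, haa, one_smul]
    rw [e, LinearMap.smul_apply, map_smul, hy, smul_smul, smul_smul, haa, one_mul]
  have := isometry_step h2 q hq (a • f) hg y hz
  calc f y = (a * a) • f y := by rw [haa, one_smul]
    _ = a • y := by rw [mul_smul, ← LinearMap.smul_apply a f y, this]

theorem sq_eq_one_of_prod_eq_zero (h2 : (2 : K) ≠ 0) (q : QuadraticForm K V) (hq : q.Anisotropic)
    (f : Module.End K V) (hf : ∀ x, q (f x) = q x) (s : Multiset K) (v : V)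
    (hv : aeval f (s.map fun a => X - C a).prod v = 0) : f (f v) = v := by
  induction s using Multiset.induction generalizing v with
  | empty =>
    have h0 : v = 0 := by simpa using hv
    simp [h0]
  | cons a s ih =>
    rw [Multiset.map_cons, Multiset.prod_cons] at hv
    set P := (s.map fun a => X - C a).prod with hP
    by_cases ha : a ^ 2 = 1
    · have h1 : aeval f P (f v - a • v) = 0 := by
        rw [mul_comm, map_mul, Module.End.mul_apply] at hv
        simpa [Module.algebraMap_end_apply] using hv
      have h3 := ih _ h1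
      have hy : f (f (f v + a • v) - a • (f v + a • v)) = a • (f (f v + a • v) - a • (f v + a • v)) := by
        have e1 : f (f v + a • v) - a • (f v + a • v) = f (f v) - v := by
          rw [map_add, map_smul, smul_add, smul_smul, show a * a = 1 by rw [← ha, sq], one_smul]
          abel
        rw [e1]
        rw [map_sub, map_sub, map_smul, map_smul] at h3
        rw [map_sub, smul_sub]
        linear_combination (norm := abel) h3
      have h4 := isometry_step' h2 q hq f hf a ha _ hy
      rw [map_add, map_smul, smul_add, smul_smul, show a * a = 1 by rw [← ha, sq], one_smul] at h4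
      linear_combination (norm := abel) h4
    · rw [map_mul, Module.End.mul_apply] at hv
      simp only [map_sub, aeval_X, aeval_C, LinearMap.sub_apply,
        Module.algebraMap_end_apply, sub_eq_zero] at hv
      set w := aeval f P v with hw
      have h3 := hf w
      rw [hv, QuadraticMap.map_smul, smul_eq_mul] at h3
      have hw0 : q w = 0 := by
        have h4 : (a ^ 2 - 1) * q w = 0 := by linear_combination h3
        exact (mul_eq_zero.1 h4).resolve_left (sub_ne_zero.2 ha)
      exact ih v (hq w hw0)

theorem sq_eq_one_of_pow_eq_one (h2 : (2 : K) ≠ 0) (q : QuadraticForm K V) (hq : q.Anisotropic)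
    (f : Module.End K V) (hf : ∀ x, q (f x) = q x) (d : ℕ) (hd : 0 < d)
    (hsp : (X ^ d - 1 : K[X]).Splits) (hfd : f ^ d = 1) : f * f = 1 := by
  ext v
  rw [Module.End.mul_apply, Module.End.one_apply]
  apply sq_eq_one_of_prod_eq_zero h2 q hq f hf (X ^ d - 1 : K[X]).roots v
  have hm : (X ^ d - 1 : K[X]).Monic := by
    simpa using monic_X_pow_sub_C (1 : K) hd.ne'
  rw [← hsp.eq_prod_roots_of_monic hm]
  simp [hfd]

theorem card_le_of_involutions (h2 : (2 : K) ≠ 0) :
    ∀ (n : ℕ) (W : Type v) [AddCommGroup W] [Module K W] [FiniteDimensional K W],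
      Module.finrank K W = n → ∀ s : Finset (Module.End K W),
      (∀ f ∈ s, f * f = 1) → (∀ f ∈ s, ∀ g ∈ s, f * g = g * f) → s.card ≤ 2 ^ n := by
  classical
  intro n
  induction n using Nat.strong_induction_on with
  | _ n ih =>
  intro W _ _ _ hn s hs hc
  rcases Nat.eq_zero_or_pos n with rfl | hpos
  · have : Subsingleton W := Module.finrank_zero_iff.1 hn
    exact Finset.card_le_one.2 fun f _ g _ => Subsingleton.elim f g
  by_cases hsc : s ⊆ {1, -1}
  · calc s.card ≤ ({1, -1} : Finset (Module.End K W)).card := Finset.card_le_card hsc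
      _ ≤ 2 := Finset.card_le_two
      _ = 2 ^ 1 := by norm_num
      _ ≤ 2 ^ n := Nat.pow_le_pow_right (by norm_num) hpos
  obtain ⟨f, hfs, hf⟩ := Finset.not_subset.1 hsc
  simp only [Finset.mem_insert, Finset.mem_singleton, not_or] at hf
  set P := LinearMap.ker (f - 1) with hPd
  set Q := LinearMap.ker (f + 1) with hQd
  have hP : ∀ x, x ∈ P ↔ f x = x := by intro x; simp [hPd, sub_eq_zero]
  have hQ : ∀ x, x ∈ Q ↔ f x = -x := by intro x; simp [hQd, eq_neg_iff_add_eq_zero]
  have hff : ∀ x, f (f x) = x := fun x => LinearMap.congr_fun (hs f hfs) x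
  have hc' : IsCompl P Q := by
    constructor
    · rw [Submodule.disjoint_def]
      intro x hx hx'
      rw [hP] at hx; rw [hQ, hx] at hx'
      have : (2 : K) • x = 0 := by
        rw [two_smul]
        nth_rw 1 [hx']
        simp
      exact (smul_eq_zero.1 this).resolve_left h2
    · rw [codisjoint_iff, eq_top_iff]
      intro x _
      refine Submodule.mem_sup.2 ⟨(2 : K)⁻¹ • (x + f x), ?_, (2 : K)⁻¹ • (x - f x), ?_, ?_⟩
      · rw [hP, map_smul, map_add, hff, add_comm]
      · rw [hQ, map_smul, map_sub, hff, ← smul_neg, neg_sub]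
      · rw [← smul_add, show x + f x + (x - f x) = (2 : K) • x by module, smul_smul,
          inv_mul_cancel₀ h2, one_smul]
  have hsum := Submodule.finrank_add_eq_of_isCompl hc'
  have hPn : P ≠ ⊤ := fun h => hf.1 (LinearMap.ext fun x => (hP x).1 (h ▸ trivial))
  have hQn : Q ≠ ⊤ := fun h => hf.2 (LinearMap.ext fun x => by
    simpa using (hQ x).1 (h ▸ trivial))
  have hp := hn ▸ Submodule.finrank_lt hPn
  have hq := hn ▸ Submodule.finrank_lt hQn
  have hmP : ∀ g ∈ s, ∀ x ∈ P, g x ∈ P := by
    intro g hg x hx
    rw [hP] at hx ⊢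
    have := LinearMap.congr_fun (hc f hfs g hg) x
    rwa [Module.End.mul_apply, Module.End.mul_apply, hx] at this
  have hmQ : ∀ g ∈ s, ∀ x ∈ Q, g x ∈ Q := by
    intro g hg x hx
    rw [hQ] at hx ⊢
    have := LinearMap.congr_fun (hc f hfs g hg) x
    rwa [Module.End.mul_apply, Module.End.mul_apply, hx, map_neg] at this
  let rP : s → Module.End K P := fun g => g.1.restrict (hmP g.1 g.2)
  let rQ : s → Module.End K Q := fun g => g.1.restrict (hmQ g.1 g.2)
  have hinj : Function.Injective fun g : s => (rP g, rQ g) := by
    intro g g' h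
    simp only [Prod.mk.injEq] at h
    apply Subtype.ext
    apply LinearMap.ext
    intro x
    obtain ⟨a, ha, b, hb, rfl⟩ := Submodule.mem_sup.1 (show x ∈ P ⊔ Q by rw [hc'.sup_eq_top]; trivial)
    have h1 := congrArg Subtype.val (LinearMap.congr_fun h.1 ⟨a, ha⟩)
    have h3 := congrArg Subtype.val (LinearMap.congr_fun h.2 ⟨b, hb⟩)
    simp only [rP, rQ, LinearMap.restrict_apply] at h1 h3
    rw [map_add, map_add, h1, h3]
  have iP := ih _ hp P rfl (s.attach.image rP)
    (by
      intro g hg
      obtain ⟨a, -, rfl⟩ := Finset.mem_image.1 hg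
      ext x
      exact LinearMap.congr_fun (hs a.1 a.2) x.1)
    (by
      intro g hg g' hg'
      obtain ⟨a, -, rfl⟩ := Finset.mem_image.1 hg
      obtain ⟨b, -, rfl⟩ := Finset.mem_image.1 hg'
      ext x
      exact LinearMap.congr_fun (hc a.1 a.2 b.1 b.2) x.1)
  have iQ := ih _ hq Q rfl (s.attach.image rQ)
    (by
      intro g hg
      obtain ⟨a, -, rfl⟩ := Finset.mem_image.1 hg
      ext x
      exact LinearMap.congr_fun (hs a.1 a.2) x.1)
    (by
      intro g hg g' hg'
      obtain ⟨a, -, rfl⟩ := Finset.mem_image.1 hg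
      obtain ⟨b, -, rfl⟩ := Finset.mem_image.1 hg'
      ext x
      exact LinearMap.congr_fun (hc a.1 a.2 b.1 b.2) x.1)
  calc s.card = (s.attach.image fun g => (rP g, rQ g)).card := by
        rw [Finset.card_image_of_injective _ hinj, Finset.card_attach]
    _ ≤ ((s.attach.image rP) ×ˢ (s.attach.image rQ)).card := by
        apply Finset.card_le_card
        intro z hz
        obtain ⟨g, hg, rfl⟩ := Finset.mem_image.1 hz
        exact Finset.mem_product.2 ⟨Finset.mem_image_of_mem _ hg, Finset.mem_image_of_mem _ hg⟩
    _ ≤ 2 ^ Module.finrank K P * 2 ^ Module.finrank K Q := by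
        rw [Finset.card_product]; exact Nat.mul_le_mul iP iQ
    _ = 2 ^ n := by rw [← pow_add, hsum, hn]

end Groth.L15
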