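import Groth.Prelude.Def_W4c1nerontoraddGraph
import Mathlib.LinearAlgebra.FreeModule.StrongRankCondition
import Mathlib.LinearAlgebra.Dimension.StrongRankCondition
import Mathlib.LinearAlgebra.Dimension.Constructions
import Mathlib.LinearAlgebra.Dimension.Finite
import Mathlib.Data.ZMod.Basic
import Mathlib.Algebra.Module.CharacterModule
import Mathlib.GroupTheory.OrderOfElement
import Mathlib.Tactic.Ring
import Mathlib.Tactic.LinearCombination

/-!
Cycles, circuits and potentials on finite multigraphs.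
-/

set_option autoImplicit false

noncomputable section

universe u v

open Finset LabGraph

namespace Groth.L15.Cycles

variable {V E : Type u} [Fintype V] [Fintype E] [DecidableEq V] [DecidableEq E]
variable (ends : E → V × V)

section

variable {K : Type v} [AddCommGroup K]

/-- The boundary with values in an abelian group. -/
def bd (γ : E → K) (v : V) : K :=
  ∑ e : E, ((if (ends e).2 = v then γ e else 0) - (if (ends e).1 = v then γ e else 0))

variable {ends}

theorem sum_bd (γ : E → K) : ∑ v, bd ends γ v = 0 := by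
  unfold bd
  rw [Finset.sum_comm]
  exact Finset.sum_eq_zero fun e _ => by rw [sum_sub_distrib]; simp

theorem bd_add (γ δ : E → K) (v : V) : bd ends (γ + δ) v = bd ends γ v + bd ends δ v := by
  rw [bd, bd, bd, ← sum_add_distrib]
  exact sum_congr rfl fun e _ => by split_ifs <;> simp <;> abel

theorem bd_zero (v : V) : bd ends (0 : E → K) v = 0 := by simp [bd]

theorem bd_neg (γ : E → K) (v : V) : bd ends (-γ) v = -bd ends γ v := by
  rw [eq_neg_iff_add_eq_zero, ← bd_add, neg_add_cancel, bd_zero]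

theorem bd_map {L : Type*} [AddCommGroup L] (φ : K →+ L) (γ : E → K) (v : V) :
    bd ends (fun e => φ (γ e)) v = φ (bd ends γ v) := by
  rw [bd, bd, map_sum]
  exact sum_congr rfl fun e _ => by split_ifs <;> simp

theorem bd_single (e : E) (a : K) (v : V) :
    bd ends (Pi.single e a) v = (if (ends e).2 = v then a else 0) - (if (ends e).1 = v then a else 0) := by
  rw [bd, sum_eq_single e]
  · simp
  · intro b _ hb; simp [hb]
  · simp

/-- A cycle meets every vertex in no edge or in at least two edge ends. -/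
theorem endCount_ne_one {γ : E → K} {S : Finset E} (hS : ∀ e, e ∈ S ↔ γ e ≠ 0)
    (hγ : ∀ v, bd ends γ v = 0) (v : V) : endCount ends S v ≠ 1 := by
  intro h1
  rw [endCount] at h1
  obtain ⟨e, heS, hne0⟩ := exists_ne_zero_of_sum_ne_zero (ne_of_eq_of_ne h1 one_ne_zero)
  rw [← add_sum_erase _ _ heS] at h1
  have he1 : ((if (ends e).1 = v then 1 else 0) + if (ends e).2 = v then 1 else 0) = (1 : ℕ) := by omega
  have hrest : ∀ e' ∈ S, e' ≠ e → ((if (ends e').1 = v then 1 else 0) + if (ends e').2 = v then 1 else 0) = (0 : ℕ) :=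
    by
      have hz : (∑ x ∈ S.erase e, ((if (ends x).1 = v then 1 else 0) + if (ends x).2 = v then 1 else 0)) = (0 : ℕ) := by omega
      exact fun e' he' hne' => sum_eq_zero_iff.1 hz e' (mem_erase.2 ⟨hne', he'⟩)
  have hb : bd ends γ v = bd ends (Pi.single e (γ e)) v := by
    rw [bd, bd]
    refine sum_congr rfl fun e' _ => ?_
    by_cases hee : e' = e
    · subst hee; simp
    · rw [Pi.single_eq_of_ne hee]
      by_cases hS' : e' ∈ S
      · have := hrest e' hS' hee
        split_ifs at this ⊢ <;> simp_all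
      · simp [not_not.1 (mt (hS e').2 hS')]
  rw [hγ, bd_single] at hb
  have hne := (hS e).1 heS
  by_cases h2 : (ends e).2 = v <;> by_cases h3 : (ends e).1 = v <;>
    simp only [h2, h3, if_true, if_false, sub_zero, zero_sub] at he1 hb
  · omega
  · exact hne hb.symm
  · exact hne (neg_eq_zero.1 hb.symm)
  · omega

end

variable {ends}

theorem bd_int (γ : E → ℤ) (v : V) : bd ends γ v = boundary ends γ v := rfl

/-- Pairing of a coboundary with a chain. -/
theorem sum_coboundary (γ : E → ℤ) (f : V → ℤ) :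
    ∑ e, γ e * (f (ends e).2 - f (ends e).1) = ∑ v, f v * boundary ends γ v := by
  unfold boundary
  simp only [mul_sum, mul_sub, mul_ite, mul_zero]
  rw [Finset.sum_comm]
  refine sum_congr rfl fun e _ => ?_
  rw [sum_sub_distrib]
  simp [mul_comm]

/-- An edge set meeting every vertex in no or at least two ends supports a cycle over any nontrivial ring. -/
theorem exists_cycle (K : Type v) [CommRing K] [Nontrivial K] {S : Finset E} (hne : S.Nonempty)
    (hdeg : ∀ v, endCount ends S v ≠ 1) :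
    ∃ γ : E → K, (∃ e, γ e ≠ 0) ∧ (∀ e, e ∉ S → γ e = 0) ∧ ∀ v, bd ends γ v = 0 := by
  classical
  let VS : Finset V := univ.filter fun v => endCount ends S v ≠ 0
  have htot : ∑ v, endCount ends S v = 2 * S.card := by
    unfold endCount
    rw [Finset.sum_comm, mul_comm, ← smul_eq_mul, ← Finset.sum_const]
    exact sum_congr rfl fun e _ => by rw [sum_add_distrib]; simp
  have hcard : 2 * VS.card ≤ 2 * S.card := by
    rw [← htot, mul_comm, ← smul_eq_mul, ← Finset.sum_const]
    refine (Finset.sum_le_sum fun v hv => ?_).trans (sum_le_sum_of_subset (subset_univ _))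
    have := (mem_filter.1 hv).2
    have := hdeg v
    omega
  obtain ⟨e₀, he₀⟩ := hne
  let w := (ends e₀).1
  have hw : w ∈ VS := by
    refine mem_filter.2 ⟨mem_univ _, fun h => ?_⟩
    rw [endCount, sum_eq_zero_iff] at h
    have := h e₀ he₀
    simp [w] at this
  let ext : (S → K) →ₗ[K] (E → K) :=
    { toFun := fun c e => if h : e ∈ S then c ⟨e, h⟩ else 0
      map_add' := fun c d => funext fun e => by by_cases h : e ∈ S <;> simp [h]
      map_smul' := fun r c => funext fun e => by by_cases h : e ∈ S <;> simp [h] }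
  let T : (S → K) →ₗ[K] (↥(VS.erase w) → K) :=
    { toFun := fun c v => bd ends (ext c) v
      map_add' := fun c d => funext fun v => by rw [map_add, bd_add]; rfl
      map_smul' := fun r c => funext fun v => by
        rw [map_smul]
        exact bd_map (AddMonoidHom.mulLeft r) (ext c) _ }
  have hT : ¬ Function.Injective T := by
    intro hT
    have := LinearMap.finrank_le_finrank_of_injective hT
    simp only [Module.finrank_pi, Fintype.card_coe, card_erase_of_mem hw] at this
    have : 0 < VS.card := card_pos.2 ⟨w, hw⟩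
    omega
  rw [← LinearMap.ker_eq_bot] at hT
  obtain ⟨c, hc, hc0⟩ := (Submodule.ne_bot_iff _).1 hT
  have hout : ∀ e, e ∉ S → ext c e = 0 := fun e he => dif_neg he
  refine ⟨ext c, ?_, hout, ?_⟩
  · obtain ⟨⟨e, he⟩, hce⟩ := Function.ne_iff.1 hc0
    exact ⟨e, by simpa [ext, he] using hce⟩
  have hv : ∀ v, v ≠ w → bd ends (ext c) v = 0 := by
    intro v hvw
    by_cases hvS : v ∈ VS
    · exact congrFun (LinearMap.mem_ker.1 hc) ⟨v, mem_erase.2 ⟨hvw, hvS⟩⟩
    · have h0 : endCount ends S v = 0 := by simpa [VS] using hvS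
      rw [endCount, sum_eq_zero_iff] at h0
      refine sum_eq_zero fun e _ => ?_
      by_cases he : e ∈ S
      · have := h0 e he
        split_ifs at this ⊢ <;> simp_all
      · simp [hout e he]
  intro v
  by_cases hvw : v = w
  · rw [hvw]
    exact (sum_eq_single w (fun b _ hb => hv b hb) (by simp)).symm.trans (sum_bd (ends := ends) (ext c))
  · exact hv v hvw

/-- An edge set meeting every vertex in no or at least two ends contains a circuit. -/
theorem exists_circuit {S : Finset E} (hne : S.Nonempty) (hdeg : ∀ v, endCount ends S v ≠ 1) :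
    ∃ C, C ⊆ S ∧ IsCircuit ends C := by
  classical
  obtain ⟨γ, ⟨e₀, he₀⟩, hout, hγ⟩ := exists_cycle (ZMod 2) hne hdeg
  let C₀ : Finset E := univ.filter fun e => γ e ≠ 0
  have hev : ∀ v, Even (endCount ends C₀ v) := by
    intro v
    rw [← ZMod.natCast_eq_zero_iff_even]
    rw [endCount, Nat.cast_sum]
    have h := hγ v
    rw [bd] at h
    refine Eq.trans ?_ h
    rw [sum_filter]
    refine sum_congr rfl fun e _ => ?_
    have h2 : ∀ a : ZMod 2, (a = 0 ∨ a = 1) := by decide
    rcases h2 (γ e) with h' | h' <;> rw [h'] <;> split_ifs <;> simp_all <;> decide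
  let P : Finset (Finset E) := univ.filter fun C => C ⊆ C₀ ∧ C.Nonempty ∧ ∀ v, Even (endCount ends C v)
  obtain ⟨C, -, hC⟩ := P.exists_le_minimal (a := C₀) (by simpa [P] using ⟨⟨e₀, by simpa [C₀] using he₀⟩, hev⟩)
  have hCP := (mem_filter.1 hC.prop).2
  refine ⟨C, fun e he => ?_, hCP.2.1, hCP.2.2, fun C' hC' hne' => ?_⟩
  · by_contra hnS
    exact (mem_filter.1 (hCP.1 he)).2 (hout e hnS)
  · by_contra hcon
    simp only [not_exists, not_not] at hcon
    exact hC'.2 (hC.le_of_le (mem_filter.2 ⟨mem_univ _, hC'.subset.trans hCP.1, hne', hcon⟩) hC'.subset)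

/-- A cycle vanishing outside an edge set without circuits vanishes. -/
theorem exists_circuit_of_cycle {K : Type v} [AddCommGroup K] {γ : E → K} (hne : ∃ e, γ e ≠ 0)
    (hγ : ∀ v, bd ends γ v = 0) : ∃ C, IsCircuit ends C ∧ ∀ e ∈ C, γ e ≠ 0 := by
  classical
  obtain ⟨e, he⟩ := hne
  obtain ⟨C, hCS, hC⟩ := exists_circuit (ends := ends) (S := univ.filter fun e => γ e ≠ 0) ⟨e, by simpa using he⟩
    (endCount_ne_one (γ := γ) (by simp) hγ)
  exact ⟨C, hC, fun e he => (mem_filter.1 (hCS he)).2⟩

theorem endCount_circuit {C : Finset E} (hC : IsCircuit ends C) (v : V) : endCount ends C v ≠ 1 := fun h => by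
  have := hC.2.1 v
  rw [h] at this
  exact absurd this (by decide)

/-- The integral cycle of a circuit is not divisible by any `g ≥ 2`. -/
theorem exists_cycle_not_dvd {C : Finset E} (hC : IsCircuit ends C) {g : ℕ} (hg : 2 ≤ g) :
    ∃ γ : E → ℤ, (∀ e, e ∉ C → γ e = 0) ∧ (∀ v, boundary ends γ v = 0) ∧ ∃ e, ¬ (g : ℤ) ∣ γ e := by
  classical
  obtain ⟨γ, hne, hout, hγ⟩ := exists_cycle (ends := ends) ℤ hC.1 (endCount_circuit hC)
  suffices H : ∀ (N : ℕ) (γ : E → ℤ), ∑ e, (γ e).natAbs ≤ N → (∃ e, γ e ≠ 0) → (∀ e, e ∉ C → γ e = 0) →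
      (∀ v, boundary ends γ v = 0) →
      ∃ γ : E → ℤ, (∀ e, e ∉ C → γ e = 0) ∧ (∀ v, boundary ends γ v = 0) ∧ ∃ e, ¬ (g : ℤ) ∣ γ e from
    H _ γ le_rfl hne hout hγ
  intro N
  induction N with
  | zero =>
    intro γ h ⟨e, he⟩
    exact absurd ((sum_eq_zero_iff.1 (Nat.le_zero.1 h)) e (mem_univ _)) (by simpa using he)
  | succ N ih =>
    intro γ hN hne hout hγ
    by_cases hdvd : ∀ e, (g : ℤ) ∣ γ e
    · choose δ hδ using hdvd
      obtain ⟨e, he⟩ := hne
      have hδne : δ e ≠ 0 := fun h => he (by rw [hδ, h, mul_zero])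
      refine ih δ ?_ ⟨e, hδne⟩ (fun e' he' => ?_) (fun v => ?_)
      · have h1 : ∑ e, (γ e).natAbs = g * ∑ e, (δ e).natAbs := by
          rw [mul_sum]
          exact sum_congr rfl fun e _ => by rw [hδ, Int.natAbs_mul, Int.natAbs_natCast]
        have h2 : 0 < ∑ e, (δ e).natAbs :=
          (Int.natAbs_pos.2 hδne).trans_le (single_le_sum (fun i _ => Nat.zero_le ((δ i).natAbs)) (mem_univ e))
        have h3 : 2 * ∑ e, (δ e).natAbs ≤ g * ∑ e, (δ e).natAbs := Nat.mul_le_mul_right _ hg
        omega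
      · have := hout e' he'
        rw [hδ] at this
        exact (mul_eq_zero.1 this).resolve_left (by omega)
      · have h1 := bd_map (ends := ends) (AddMonoidHom.mulLeft (g : ℤ)) δ v
        simp only [AddMonoidHom.coe_mulLeft] at h1
        rw [show (fun e => (g : ℤ) * δ e) = γ from funext fun e => (hδ e).symm, bd_int, hγ] at h1
        exact (mul_eq_zero.1 h1.symm).resolve_left (by omega)
    · exact ⟨γ, hout, hγ, not_forall.1 hdvd⟩

/-- Circuit-coprime labellings: every edge vector is a coboundary modulo the labels. -/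
theorem exists_coboundary_add {l : E → ℕ} (hl : ∀ e, 0 < l e) (h : IsCircuitCoprime ends l) (x : E → ℤ) :
    ∃ (f : V → ℤ) (y : E → ℤ), ∀ e, x e = (f (ends e).2 - f (ends e).1) + (l e : ℤ) * y e := by
  classical
  let Φ : (V → ℤ) × (E → ℤ) →ₗ[ℤ] (E → ℤ) :=
    { toFun := fun p e => (p.1 (ends e).2 - p.1 (ends e).1) + (l e : ℤ) * p.2 e
      map_add' := fun p q => funext fun e => by simp; ring
      map_smul' := fun r p => funext fun e => by simp; ring }
  suffices hx : x ∈ LinearMap.range Φ by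
    obtain ⟨⟨f, y⟩, hfy⟩ := hx
    exact ⟨f, y, fun e => (congrFun hfy e).symm⟩
  by_contra hx
  have hq : Submodule.Quotient.mk (p := LinearMap.range Φ) x ≠ 0 := by simpa using hx
  obtain ⟨φ, hφ⟩ := CharacterModule.exists_character_apply_ne_zero_of_ne_zero hq
  let ψ : (E → ℤ) →+ AddCircle (1 : ℚ) := φ.comp (LinearMap.range Φ).mkQ.toAddMonoidHom
  have hψ : ∀ p, ψ (Φ p) = 0 := fun p => by
    show φ (Submodule.Quotient.mk (Φ p)) = 0
    rw [(Submodule.Quotient.mk_eq_zero _).2 (LinearMap.mem_range_self Φ p)]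
    exact map_zero φ
  let a : E → AddCircle (1 : ℚ) := fun e => ψ (Pi.single e 1)
  have hψa : ∀ z : E → ℤ, ψ z = ∑ e, z e • a e := by
    intro z
    conv_lhs => rw [pi_eq_sum_univ' z]
    rw [map_sum]
    exact sum_congr rfl fun e _ => map_zsmul ψ _ _
  have hane : ∃ e, a e ≠ 0 := by
    by_contra hc
    simp only [not_exists, not_not] at hc
    exact hφ ((hψa x).trans (by simp [hc]))
  have hla : ∀ e, l e • a e = 0 := by
    intro e
    have h1 := hψ (0, Pi.single e 1)
    rw [hψa, sum_eq_single e] at h1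
    · rw [← natCast_zsmul]; simpa [Φ] using h1
    · intro b _ hb; simp [Φ, hb]
    · simp
  have hba : ∀ v, bd ends a v = 0 := by
    intro v
    have h1 := hψ (Pi.single v 1, 0)
    rw [hψa] at h1
    refine Eq.trans (sum_congr rfl fun e _ => ?_) h1
    simp only [Φ, LinearMap.coe_mk, AddHom.coe_mk, Pi.single_apply, Pi.zero_apply, mul_zero, add_zero,
      sub_zsmul]
    split_ifs <;> simp
  -- reduce to prime torsion
  obtain ⟨e, he⟩ := hane
  have hfin : IsOfFinAddOrder a := isOfFinAddOrder_iff_nsmul_eq_zero.2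
    ⟨∏ e, l e, prod_pos fun e _ => hl e, funext fun e => by
      rw [Pi.smul_apply, ← prod_erase_mul _ _ (mem_univ e), mul_smul, hla, smul_zero]; rfl⟩
  have hn1 : addOrderOf a ≠ 1 := fun hc => he (congrFun (AddMonoid.addOrderOf_eq_one_iff.1 hc) e)
  obtain ⟨p, hp, hpn⟩ := Nat.exists_prime_and_dvd hn1
  obtain ⟨q, hq'⟩ := hpn
  have hqpos : 0 < q := Nat.pos_of_ne_zero fun h => by
    rw [h, mul_zero] at hq'
    exact (addOrderOf_ne_zero_iff.2 hfin) hq'
  let b : E → AddCircle (1 : ℚ) := fun e => q • a e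
  have hbne : ∃ e, b e ≠ 0 := by
    by_contra hc
    simp only [not_exists, not_not] at hc
    have h2 : addOrderOf a ∣ q := addOrderOf_dvd_of_nsmul_eq_zero (funext hc)
    have h3 := Nat.le_of_dvd hqpos h2
    rw [hq'] at h3
    have := hp.two_le
    nlinarith
  obtain ⟨C, hC, hCb⟩ := exists_circuit_of_cycle hbne (fun v => by
    show bd ends (fun e => (nsmulAddMonoidHom (α := AddCircle (1 : ℚ)) q) (a e)) v = 0
    rw [bd_map, hba, map_zero])
  have hpC : p ∣ C.gcd l := by
    refine Finset.dvd_gcd fun e he => ?_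
    have hpb : p • b e = 0 := by
      simp only [b, ← mul_smul, ← hq']
      exact congrFun (addOrderOf_nsmul_eq_zero a) e
    by_contra hnd
    have hcop : Nat.Coprime p (l e) := hp.coprime_iff_not_dvd.2 hnd
    refine hCb e he ?_
    have h1 : addOrderOf (b e) ∣ p := addOrderOf_dvd_of_nsmul_eq_zero hpb
    have h2 : addOrderOf (b e) ∣ l e := addOrderOf_dvd_of_nsmul_eq_zero (by
      simp only [b]; rw [← mul_smul, mul_comm, mul_smul, hla, smul_zero])
    exact AddMonoid.addOrderOf_eq_one_iff.1 (Nat.dvd_one.1 (hcop.gcd_eq_one ▸ Nat.dvd_gcd h1 h2))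
  rw [h C hC] at hpC
  exact hp.one_lt.ne' (Nat.dvd_one.1 hpC)

/-- Conversely. -/
theorem isCircuitCoprime_of_orth {l : E → ℕ} (hl : ∀ e, 0 < l e)
    (h : ∀ x : E → ℤ, ∃ y : E → ℤ, ∀ γ : E → ℤ, (∀ v : V, boundary ends γ v = 0) →
      ∑ e : E, γ e * (x e - (l e : ℤ) * y e) = 0) : IsCircuitCoprime ends l := by
  classical
  intro C hC
  by_contra hne
  have h0 : C.gcd l ≠ 0 := fun hc => by
    obtain ⟨e, he⟩ := hC.1
    exact (hl e).ne' ((Finset.gcd_eq_zero_iff.1 hc) e he)
  obtain ⟨γ, hout, hγ, e, hnd⟩ := exists_cycle_not_dvd hC (g := C.gcd l) (by omega)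
  obtain ⟨y, hy⟩ := h (Pi.single e 1)
  have h1 := hy γ hγ
  simp only [mul_sub, sum_sub_distrib, sub_eq_zero] at h1
  rw [sum_eq_single e (fun b _ hb => by simp [hb]) (by simp), Pi.single_eq_same, mul_one] at h1
  refine hnd (h1 ▸ dvd_sum fun e' _ => ?_)
  by_cases he' : e' ∈ C
  · exact ((Int.natCast_dvd_natCast.2 (Finset.gcd_dvd he')).mul_right _).mul_left _
  · simp [hout e' he']

/-- Potentials. -/
theorem exists_potential (hconn : Connected ends) (a : E → ℤ)
    (ha : ∀ γ : E → ℤ, (∀ v, boundary ends γ v = 0) → ∑ e, γ e * a e = 0) (v₀ : V) :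
    ∃ f : V → ℤ, f v₀ = 0 ∧ ∀ e, f (ends e).2 - f (ends e).1 = a e := by
  classical
  let rel : V → ℤ → Prop := fun w t => ∃ γ : E → ℤ,
    (∀ v, bd ends γ v = (if v = w then 1 else 0) - (if v = v₀ then 1 else 0)) ∧ ∑ e, γ e * a e = t
  have hex : ∀ w, ∃ t, rel w t := by
    intro w
    induction hconn.2 v₀ w with
    | refl => exact ⟨0, 0, fun v => by rw [bd_zero, sub_self], by simp⟩
    | tail _ hbc ih =>
      obtain ⟨t, γ, hγ, ht⟩ := ih
      obtain ⟨e, he | he⟩ := hbc
      · refine ⟨t + a e, γ + Pi.single e 1, fun v => ?_, ?_⟩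
        · rw [bd_add, hγ, bd_single, he]
          simp only [eq_comm (a := v)]
          ring
        · simp [add_mul, sum_add_distrib, ht, Pi.single_apply, ite_mul]
      · refine ⟨t - a e, γ + -(Pi.single e 1), fun v => ?_, ?_⟩
        · rw [bd_add, bd_neg, hγ, bd_single, he]
          simp only [eq_comm (a := v)]
          ring
        · simp [add_mul, sum_add_distrib, ht, Pi.single_apply, ite_mul, sub_eq_add_neg]
  have huniq : ∀ w t t', rel w t → rel w t' → t = t' := by
    rintro w t t' ⟨γ, hγ, ht⟩ ⟨γ', hγ', ht'⟩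
    have h1 := ha (γ + -γ') (fun v => by rw [← bd_int, bd_add, bd_neg, hγ, hγ', add_neg_cancel])
    simp only [Pi.add_apply, Pi.neg_apply, add_mul, neg_mul, sum_add_distrib, sum_neg_distrib, ht, ht'] at h1
    linear_combination h1
  choose f hf using hex
  refine ⟨f, huniq v₀ _ _ (hf v₀) ⟨0, fun v => by rw [bd_zero, sub_self], by simp⟩, fun e => ?_⟩
  obtain ⟨γ, hγ, ht⟩ := hf (ends e).1
  rw [sub_eq_iff_eq_add]
  refine huniq _ _ _ (hf _) ⟨γ + Pi.single e 1, fun v => ?_, ?_⟩
  · rw [bd_add, hγ, bd_single]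
    simp only [eq_comm (a := v)]
    ring
  · simp [add_mul, sum_add_distrib, ht, Pi.single_apply, ite_mul, add_comm]

end Groth.L15.Cycles
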