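import Groth.Prelude.Def_W4c4cptpiccptjacBI
import Groth.Agent.L15.Cycles
import Mathlib.Data.Int.LeastGreatest
import Mathlib.Tactic.Linarith
import Mathlib.Data.Fintype.Order

/-!
The Basic Inequality on dual graphs.
-/

set_option autoImplicit false

noncomputable section

universe u

open Finset LabGraph

namespace Groth.L15.BI

variable {V E : Type u} [Fintype V] [Fintype E] [DecidableEq V] [DecidableEq E]
variable {ends : E → V × V} {w : V → ℕ} {d d' : V → ℤ}

/-- Indicator of a vertex set. -/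
def ind (Y : Finset V) (v : V) : ℤ := if v ∈ Y then 1 else 0

/-- Contribution of an edge to the cut. -/
def cutE (ends : E → V × V) (Y : Finset V) (e : E) : ℤ :=
  if ((ends e).1 ∈ Y ∧ (ends e).2 ∉ Y) ∨ ((ends e).1 ∉ Y ∧ (ends e).2 ∈ Y) then 1 else 0

theorem cut_eq (Y : Finset V) : (cut ends Y : ℤ) = ∑ e, cutE ends Y e := by
  simp [cut, cutE, sum_boole]

theorem sum_twist (φ : V → ℤ) (Y : Finset V) :
    ∑ v ∈ Y, twist ends φ v =
      ∑ e, (ind Y (ends e).1 - ind Y (ends e).2) * (φ (ends e).2 - φ (ends e).1) := by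
  unfold twist ind
  rw [Finset.sum_comm]
  refine sum_congr rfl fun e _ => ?_
  rw [sum_add_distrib, sum_ite_eq, sum_ite_eq]
  split_ifs <;> ring

theorem sum_twist_univ (φ : V → ℤ) : ∑ v, twist ends φ v = 0 := by
  rw [sum_twist]
  simp [ind]

theorem twist_eq_singleton (φ : V → ℤ) (v : V) : twist ends φ v = ∑ u ∈ ({v} : Finset V), twist ends φ u := by
  rw [sum_singleton]

/-- The excess `K d_Y - D c_Y`. -/
def eps (ends : E → V × V) (w : V → ℕ) (d : V → ℤ) (Y : Finset V) : ℤ :=
  canDeg ends w univ * (∑ v ∈ Y, d v) - (∑ v, d v) * canDeg ends w Y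

theorem eps_add (A B : Finset V) :
    eps ends w d A + eps ends w d B = eps ends w d (A ∪ B) + eps ends w d (A ∩ B) := by
  unfold eps canDeg
  linear_combination -(∑ v, (2 * (w v : ℤ) - 2 + (endCount ends Finset.univ v : ℤ))) *
      (sum_union_inter (s₁ := A) (s₂ := B) (f := d)) +
    (∑ v, d v) * (sum_union_inter (s₁ := A) (s₂ := B) (f := fun v => 2 * (w v : ℤ) - 2 + (endCount ends Finset.univ v : ℤ)))

theorem canDeg_univ : canDeg ends w univ = 2 * genus ends w - 2 := by
  have htot : ∑ v, (endCount ends univ v : ℤ) = 2 * (Fintype.card E : ℤ) := by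
    simp only [endCount, Nat.cast_sum]
    rw [Finset.sum_comm, mul_comm, ← Finset.card_univ, ← nsmul_eq_mul, ← Finset.sum_const]
    exact sum_congr rfl fun e _ => by push_cast; rw [sum_add_distrib]; simp
  simp only [canDeg, genus, sum_add_distrib, sum_sub_distrib, ← mul_sum, htot, sum_const, card_univ, nsmul_eq_mul]
  ring

theorem bi_iff : SatisfiesBI ends w d ↔ ∀ Y, 2 * eps ends w d Y ≤ cut ends Y * canDeg ends w univ ∧
    -(cut ends Y * canDeg ends w univ) ≤ 2 * eps ends w d Y := by
  refine forall_congr' fun Y => ?_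
  show 2 * |eps ends w d Y| ≤ _ ↔ _
  rw [show (2 : ℤ) * |eps ends w d Y| = |2 * eps ends w d Y| by rw [abs_mul, abs_two], abs_le]
  exact and_comm

theorem eps_add_twist (φ : V → ℤ) (Y : Finset V) :
    eps ends w (fun v => d v + twist ends φ v) Y =
      eps ends w d Y + canDeg ends w univ * ∑ v ∈ Y, twist ends φ v := by
  simp only [eps, sum_add_distrib, sum_twist_univ]
  ring

theorem add_twist_extreme (hK : 0 ≤ canDeg ends w univ) (hBI : SatisfiesBI ends w d) (Z : Finset V)
    (hZ : 2 * eps ends w d Z = cut ends Z * canDeg ends w univ) :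
    SatisfiesBI ends w (fun v => d v + twist ends (fun u => if u ∈ Z then 1 else 0) v) := by
  rw [bi_iff] at hBI ⊢
  intro Y
  rw [eps_add_twist, sum_twist]
  set T := ∑ e, (ind Y (ends e).1 - ind Y (ends e).2) *
    ((if (ends e).2 ∈ Z then (1 : ℤ) else 0) - if (ends e).1 ∈ Z then 1 else 0) with hT
  have h1 := (hBI (Y ∩ Z)).1
  have h2 := (hBI (Y ∪ Z)).1
  have h3 := (hBI (Z \ Y)).1
  have h4 := (hBI (Y \ Z)).2
  have e1 := eps_add (ends := ends) (w := w) (d := d) Y Z
  have e2 := eps_add (ends := ends) (w := w) (d := d) (Y ∩ Z) (Z \ Y)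
  have e3 := eps_add (ends := ends) (w := w) (d := d) (Y ∩ Z) (Y \ Z)
  have e0 : eps ends w d (∅ : Finset V) = 0 := by simp [eps, canDeg]
  rw [show (Y ∩ Z) ∪ (Z \ Y) = Z by ext; simp; tauto, show (Y ∩ Z) ∩ (Z \ Y) = ∅ by ext; simp; tauto, e0] at e2
  rw [show (Y ∩ Z) ∪ (Y \ Z) = Y by ext; simp; tauto, show (Y ∩ Z) ∩ (Y \ Z) = ∅ by ext; simp, e0] at e3
  have c1 : (cut ends (Y ∩ Z) : ℤ) + cut ends (Y ∪ Z) - cut ends Z + 2 * T ≤ cut ends Y := by
    simp only [cut_eq, hT, mul_sum, ← sum_add_distrib, ← sum_sub_distrib]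
    refine sum_le_sum fun e _ => ?_
    by_cases p : (ends e).1 ∈ Y <;> by_cases q : (ends e).2 ∈ Y <;>
      by_cases r : (ends e).1 ∈ Z <;> by_cases s : (ends e).2 ∈ Z <;>
      simp [cutE, ind, p, q, r, s]
  have c2 : -(cut ends Y : ℤ) ≤ cut ends Z - cut ends (Z \ Y) - cut ends (Y \ Z) + 2 * T := by
    simp only [cut_eq, hT, mul_sum, ← sum_add_distrib, ← sum_sub_distrib, ← sum_neg_distrib]
    refine sum_le_sum fun e _ => ?_
    by_cases p : (ends e).1 ∈ Y <;> by_cases q : (ends e).2 ∈ Y <;>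
      by_cases r : (ends e).1 ∈ Z <;> by_cases s : (ends e).2 ∈ Z <;>
      simp [cutE, ind, p, q, r, s]
  constructor <;> nlinarith

theorem exists_bi (hconn : Connected ends) (hK : 0 < canDeg ends w univ) :
    ∃ d' : V → ℤ, TwistEquiv ends d' d ∧ SatisfiesBI ends w d' := by
  classical
  set K := canDeg ends w univ
  let ε : V → ℤ := fun v => eps ends w d {v}
  have hεY : ∀ Y : Finset V, eps ends w d Y = ∑ v ∈ Y, ε v := fun Y => by
    simp only [ε, eps, canDeg, sum_singleton, sum_sub_distrib, ← mul_sum]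
  let Δ : (V → ℤ) → E → ℤ := fun φ e => φ (ends e).2 - φ (ends e).1
  let F : (V → ℤ) → ℤ := fun φ => K * ∑ e, Δ φ e * Δ φ e - 2 * ∑ v, ε v * φ v
  obtain ⟨v₀⟩ := hconn.1
  have hn : ∀ v, ∃ n : ℕ, ∀ φ : V → ℤ, |φ v - φ v₀| ≤ n * ∑ e, |Δ φ e| := by
    intro v
    induction hconn.2 v₀ v with
    | refl => exact ⟨0, fun φ => by simp⟩
    | @tail b c _ hbc ih =>
      obtain ⟨n, hn⟩ := ih
      obtain ⟨e, he⟩ := hbc
      refine ⟨n + 1, fun φ => ?_⟩
      have h1 : |φ c - φ b| ≤ ∑ e, |Δ φ e| := by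
        refine le_trans (le_of_eq ?_) (single_le_sum (fun i _ => abs_nonneg (Δ φ i)) (mem_univ e))
        rcases he with he | he <;> simp only [Δ, he]
        exact abs_sub_comm _ _
      have h2 := hn φ
      push_cast
      have h3 := abs_sub_le (φ c) (φ b) (φ v₀)
      linarith
  choose n hn using hn
  set M : ℤ := ∑ v, |ε v| * n v
  have hεu : ∑ v, ε v = 0 := by
    rw [← hεY]
    simp [eps]
    ring
  have hlow : ∀ z : ℤ, (∃ φ, F φ = z) → -((Fintype.card E : ℤ) * (M * M)) ≤ z := by
    rintro _ ⟨φ, rfl⟩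
    set T := ∑ e, |Δ φ e|
    have h1 : ∑ v, ε v * φ v ≤ M * T := by
      have : ∑ v, ε v * φ v = ∑ v, ε v * (φ v - φ v₀) := by
        simp only [mul_sub, sum_sub_distrib, ← sum_mul, hεu, zero_mul, sub_zero]
      rw [this]
      simp only [M, sum_mul]
      refine sum_le_sum fun v _ => (le_abs_self _).trans ?_
      rw [abs_mul, mul_assoc]
      exact mul_le_mul_of_nonneg_left (hn v φ) (abs_nonneg _)
    have h2 : 2 * M * T - (Fintype.card E : ℤ) * (M * M) ≤ ∑ e, Δ φ e * Δ φ e := by
      rw [← card_univ, ← nsmul_eq_mul, ← sum_const]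
      simp only [T, mul_sum, ← sum_sub_distrib]
      refine sum_le_sum fun e _ => ?_
      have := mul_self_nonneg (|Δ φ e| - M)
      have := abs_mul_abs_self (Δ φ e)
      linarith
    have h3 : ∑ e, Δ φ e * Δ φ e ≤ K * ∑ e, Δ φ e * Δ φ e :=
      le_mul_of_one_le_left (sum_nonneg fun e _ => mul_self_nonneg _) (by omega)
    show _ ≤ K * _ - _
    linarith
  obtain ⟨z, ⟨φ, hφz⟩, hmin⟩ := Int.exists_least_of_bdd ⟨_, hlow⟩ ⟨F 0, 0, rfl⟩
  refine ⟨fun v => d v + twist ends φ v, ⟨φ, fun v => by ring⟩, bi_iff.2 fun Y => ?_⟩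
  rw [eps_add_twist, sum_twist, hεY]
  have hstep : ∀ t : ℤ, F (fun v => φ v + t * ind Y v) = F φ +
      t * (2 * K * ∑ e, Δ φ e * (ind Y (ends e).2 - ind Y (ends e).1)) + t * t * (K * cut ends Y) -
        t * (2 * ∑ v ∈ Y, ε v) := by
    intro t
    have hq : ∀ e, (ind Y (ends e).2 - ind Y (ends e).1) * (ind Y (ends e).2 - ind Y (ends e).1) = cutE ends Y e := by
      intro e
      by_cases p : (ends e).1 ∈ Y <;> by_cases q : (ends e).2 ∈ Y <;> simp [cutE, ind, p, q]
    have hl : ∑ v, ε v * ind Y v = ∑ v ∈ Y, ε v := by simp [ind, sum_ite_mem]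
    simp only [F, Δ, cut_eq, ← hl, mul_sum, ← hq, ← sum_add_distrib]
    rw [show ∀ a b c d e : ℤ, a - b + c + d - e = (a + c + d) - (b + e) from fun a b c d e => by ring,
      ← sum_add_distrib, ← sum_add_distrib, ← sum_add_distrib]
    congr 1 <;> exact sum_congr rfl fun _ _ => by ring
  have hp := hmin _ ⟨fun v => φ v + 1 * ind Y v, rfl⟩
  have hm := hmin _ ⟨fun v => φ v + (-1) * ind Y v, rfl⟩
  rw [hstep, ← hφz] at hp hm
  have hT : ∑ e, (ind Y (ends e).1 - ind Y (ends e).2) * (φ (ends e).2 - φ (ends e).1) =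
      -∑ e, Δ φ e * (ind Y (ends e).2 - ind Y (ends e).1) := by
    rw [← sum_neg_distrib]
    exact sum_congr rfl fun e _ => by simp only [Δ]; ring
  rw [hT]
  constructor <;> linarith

theorem exists_levels (hconn : Connected ends) (hK : 0 < canDeg ends w univ)
    (hBI : SatisfiesBI ends w d) (hBI' : SatisfiesBI ends w d') (heq : TwistEquiv ends d d') :
    ∃ (q : ℕ) (h : V → ℕ), (∀ v : V, h v ≤ q) ∧ (∀ i : ℕ, i ≤ q → ∃ v : V, h v = i) ∧
      (∀ v : V, d v - d' v = twist ends (fun u => (h u : ℤ)) v) ∧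
      (∀ i j : ℕ, i ≤ q → j ≤ q → i ≠ j →
        ((∃ e : E, (h (ends e).1 = i ∧ h (ends e).2 = j) ∨ (h (ends e).1 = j ∧ h (ends e).2 = i)) ↔
          (i + 1 = j ∨ j + 1 = i))) := by
  classical
  haveI := hconn.1
  obtain ⟨φ, hφ⟩ := heq
  obtain ⟨vm, -, hvm⟩ := exists_min_image univ φ univ_nonempty
  let h : V → ℕ := fun v => (φ v - φ vm).toNat
  have hh : ∀ v, (h v : ℤ) = φ v - φ vm := fun v => Int.toNat_of_nonneg (sub_nonneg.2 (hvm v (mem_univ v)))
  have htw : ∀ v, d v - d' v = twist ends (fun u => (h u : ℤ)) v := fun v => by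
    simp only [hφ, twist, hh, sub_sub_sub_cancel_right]
  obtain ⟨vM, -, hvM⟩ := exists_max_image univ h univ_nonempty
  have hstep : ∀ e, h (ends e).1 < h (ends e).2 → h (ends e).2 = h (ends e).1 + 1 := by
    have hall : ∀ (i : ℕ) (e : E),
        (h (ends e).1 < i ∧ i ≤ h (ends e).2 → h (ends e).2 = h (ends e).1 + 1) := by
      intro i e ⟨he1, he2⟩
      set Y : Finset V := univ.filter fun v => i ≤ h v
      have hD : ∑ v, d v = ∑ v, d' v := by
        rw [← sub_eq_zero, ← sum_sub_distrib, sum_congr rfl fun v _ => htw v, sum_twist_univ]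
      have h1 : eps ends w d Y - eps ends w d' Y = canDeg ends w univ * ∑ v ∈ Y, twist ends (fun u => (h u : ℤ)) v := by
        simp only [← htw, eps, hD, sum_sub_distrib]
        ring
      rw [sum_twist] at h1
      have b1 := ((bi_iff.1 hBI) Y).2
      have b2 := ((bi_iff.1 hBI') Y).1
      have h2 : ∀ e' ∈ univ, (0 : ℤ) ≤ -((ind Y (ends e').1 - ind Y (ends e').2) * ((h (ends e').2 : ℤ) - h (ends e').1)) - cutE ends Y e' := by
        intro e' _
        by_cases p : i ≤ h (ends e').1 <;> by_cases q : i ≤ h (ends e').2 <;>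
          simp [cutE, ind, Y, p, q] <;> omega
      have h3 : ∑ e', (-((ind Y (ends e').1 - ind Y (ends e').2) * ((h (ends e').2 : ℤ) - h (ends e').1)) - cutE ends Y e') ≤ 0 := by
        rw [sum_sub_distrib, sum_neg_distrib, ← cut_eq]
        nlinarith
      have h4 := (sum_eq_zero_iff_of_nonneg h2).1 (le_antisymm h3 (sum_nonneg h2)) e (mem_univ _)
      simp [cutE, ind, Y, show ¬ i ≤ h (ends e).1 by omega, he2] at h4
      omega
    exact fun e he => hall _ e ⟨he, le_rfl⟩
  have hstep' : ∀ e, h (ends e).2 < h (ends e).1 → h (ends e).1 = h (ends e).2 + 1 := by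
    intro e he
    by_contra hne
    set i := h (ends e).1
    set Y : Finset V := univ.filter fun v => i ≤ h v
    have hD : ∑ v, d v = ∑ v, d' v := by
      rw [← sub_eq_zero, ← sum_sub_distrib, sum_congr rfl fun v _ => htw v, sum_twist_univ]
    have h1 : eps ends w d Y - eps ends w d' Y = canDeg ends w univ * ∑ v ∈ Y, twist ends (fun u => (h u : ℤ)) v := by
      simp only [← htw, eps, hD, sum_sub_distrib]
      ring
    rw [sum_twist] at h1
    have b1 := ((bi_iff.1 hBI) Y).2
    have b2 := ((bi_iff.1 hBI') Y).1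
    have h2 : ∀ e' ∈ univ, (0 : ℤ) ≤ -((ind Y (ends e').1 - ind Y (ends e').2) * ((h (ends e').2 : ℤ) - h (ends e').1)) - cutE ends Y e' := by
      intro e' _
      by_cases p : i ≤ h (ends e').1 <;> by_cases q : i ≤ h (ends e').2 <;>
        simp [cutE, ind, Y, p, q] <;> omega
    have h3 : ∑ e', (-((ind Y (ends e').1 - ind Y (ends e').2) * ((h (ends e').2 : ℤ) - h (ends e').1)) - cutE ends Y e') ≤ 0 := by
      rw [sum_sub_distrib, sum_neg_distrib, ← cut_eq]
      nlinarith
    have h4 := (sum_eq_zero_iff_of_nonneg h2).1 (le_antisymm h3 (sum_nonneg h2)) e (mem_univ _)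
    simp [cutE, ind, Y, show i ≤ h (ends e).1 from le_rfl, show ¬ i ≤ h (ends e).2 by omega] at h4
    omega
  have hadj : ∀ i, i + 1 ≤ h vM → ∃ e, (h (ends e).1 = i ∧ h (ends e).2 = i + 1) ∨ (h (ends e).1 = i + 1 ∧ h (ends e).2 = i) := by
    intro i hi
    have key : ∀ v, i + 1 ≤ h v → ∃ e, (h (ends e).1 = i ∧ h (ends e).2 = i + 1) ∨ (h (ends e).1 = i + 1 ∧ h (ends e).2 = i) := by
      intro v
      induction hconn.2 vm v with
      | refl => intro hv; have := hh vm; simp at this; omega
      | @tail b c _ hbc ih =>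
        intro hv
        by_cases hb : i + 1 ≤ h b
        · exact ih hb
        obtain ⟨e, he | he⟩ := hbc
        · have := hstep e (by rw [he]; show h b < h c; omega)
          simp only [he] at this
          exact ⟨e, Or.inl (by rw [he]; exact ⟨show h b = i by omega, show h c = i + 1 by omega⟩)⟩
        · have := hstep' e (by rw [he]; show h b < h c; omega)
          simp only [he] at this
          exact ⟨e, Or.inr (by rw [he]; exact ⟨show h c = i + 1 by omega, show h b = i by omega⟩)⟩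
    exact key vM hi
  refine ⟨h vM, h, fun v => hvM v (mem_univ v), fun i hi => ?_, htw, fun i j hi hj hij => ⟨?_, ?_⟩⟩
  · rcases Nat.eq_zero_or_pos i with rfl | hi0
    · exact ⟨vm, by simp [h]⟩
    · obtain ⟨e, he | he⟩ := hadj (i - 1) (by omega)
      · exact ⟨(ends e).2, by have := he.2; omega⟩
      · exact ⟨(ends e).1, by have := he.1; omega⟩
  · rintro ⟨e, ⟨h1, h2⟩ | ⟨h1, h2⟩⟩ <;>
      rcases lt_trichotomy (h (ends e).1) (h (ends e).2) with hlt | hlt | hlt <;>
      (try have := hstep e hlt) <;> (try have := hstep' e hlt) <;> omega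
  · rintro (rfl | rfl)
    · exact hadj i hj
    · obtain ⟨e, he⟩ := hadj j hi
      exact ⟨e, he.symm⟩

theorem exceptional_facts {v : V} (hv : IsExceptional ends w v) :
    canDeg ends w {v} = 0 ∧ (univ.filter fun e => (ends e).1 = v ∨ (ends e).2 = v).card = 2 := by
  obtain ⟨hw, hloop, hcut⟩ := hv
  have hno : ∀ e, ¬((ends e).1 = v ∧ (ends e).2 = v) := fun e h => hloop e (Prod.ext h.1 h.2)
  have hcard : (univ.filter fun e => (ends e).1 = v ∨ (ends e).2 = v).card = 2 := by
    rw [← hcut, cut]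
    congr 1
    ext e
    have := hno e
    simp
    tauto
  refine ⟨?_, hcard⟩
  rw [canDeg, sum_singleton, hw]
  have hend : endCount ends univ v = 2 := by
    rw [← hcard, card_filter, endCount]
    refine sum_congr rfl fun e _ => ?_
    by_cases p : (ends e).1 = v <;> by_cases q : (ends e).2 = v <;> simp [p, q]
    exact hno e ⟨p, q⟩
  rw [hend]; norm_num

theorem eps_singleton_exceptional {v : V} (hv : IsExceptional ends w v) :
    eps ends w d {v} = canDeg ends w univ * d v := by
  simp [eps, (exceptional_facts hv).1]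

/-- An exceptional vertex of degree one outside an extremal set is not adjacent to it. -/
theorem not_adjacent_extreme (hK : 0 < canDeg ends w univ) (hBI : SatisfiesBI ends w d) {Z : Finset V}
    (hZ : 2 * eps ends w d Z = cut ends Z * canDeg ends w univ) {v : V} (hv : IsExceptional ends w v)
    (hd : d v = 1) (hvZ : v ∉ Z) {e : E}
    (he : ((ends e).1 = v ∧ (ends e).2 ∈ Z) ∨ ((ends e).2 = v ∧ (ends e).1 ∈ Z)) : False := by
  have h1 := ((bi_iff.1 hBI) ({v} ∪ Z)).1
  have h2 := eps_add (ends := ends) (w := w) (d := d) {v} Z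
  rw [eps_singleton_exceptional hv, hd, show ({v} : Finset V) ∩ Z = ∅ by simp [hvZ],
    show eps ends w d (∅ : Finset V) = 0 by simp [eps, canDeg]] at h2
  have hc : (cut ends ({v} ∪ Z) : ℤ) ≤ cut ends Z := by
    set S := univ.filter fun e => (ends e).1 = v ∨ (ends e).2 = v with hS
    have heS : e ∈ S := mem_filter.2 ⟨mem_univ _, by rcases he with h | h <;> simp [h.1]⟩
    have hout : ∀ e' ∈ (univ : Finset E), e' ∉ S → cutE ends ({v} ∪ Z) e' - cutE ends Z e' = 0 := by
      intro e' _ h
      simp only [hS, mem_filter, mem_univ, true_and, not_or] at h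
      simp [cutE, h.1, h.2]
    rw [cut_eq, cut_eq, ← sub_nonpos, ← sum_sub_distrib, ← sum_subset (subset_univ S) hout,
      ← add_sum_erase S _ heS]
    have hle : ∑ x ∈ S.erase e, (cutE ends ({v} ∪ Z) x - cutE ends Z x) ≤ 1 := by
      refine le_trans (sum_le_card_nsmul _ _ 1 fun x _ => ?_) ?_
      · unfold cutE; split_ifs <;> norm_num
      · rw [card_erase_of_mem heS, (exceptional_facts hv).2]; norm_num
    have hne : ((ends e).1 = v → (ends e).2 ≠ v) := fun p q => hv.2.1 e (Prod.ext p q)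
    have hm : cutE ends ({v} ∪ Z) e - cutE ends Z e = -1 := by
      rcases he with ⟨p, q⟩ | ⟨p, q⟩
      · simp [cutE, p, q, hvZ]
      · simp [cutE, p, q, hvZ]
    linarith
  nlinarith

theorem eq_of_nested (hK : 0 < canDeg ends w univ) (hBI : SatisfiesBI ends w d)
    (hone : ∀ v : V, IsExceptional ends w v → d v = 1) (hone' : ∀ v : V, IsExceptional ends w v → d' v = 1)
    (hstrict : ∀ Y : Finset V, Y.Nonempty → Y ≠ univ →
      2 * eps ends w d Y = (cut ends Y : ℤ) * canDeg ends w univ →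
      ∀ e : E, (((ends e).1 ∈ Y ∧ (ends e).2 ∉ Y) ∨ ((ends e).1 ∉ Y ∧ (ends e).2 ∈ Y)) →
        (IsExceptional ends w (ends e).1 ∨ IsExceptional ends w (ends e).2))
    {m : ℕ} (Z : Fin m → Finset V) (hmono : ∀ i j : Fin m, i ≤ j → Z i ⊆ Z j)
    (hext : ∀ i : Fin m, 2 * eps ends w d (Z i) = (cut ends (Z i) : ℤ) * canDeg ends w univ)
    (hsep : ∀ i j : Fin m, j < i → ∀ e : E,
      ¬ (((ends e).1 ∈ Z j ∧ (ends e).2 ∉ Z i) ∨ ((ends e).2 ∈ Z j ∧ (ends e).1 ∉ Z i)))
    (hsum : ∀ v : V, d' v = d v + ∑ i : Fin m, twist ends (fun u => if u ∈ Z i then (1 : ℤ) else 0) v) :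
    d = d' := by
  classical
  let h : V → ℤ := fun u => ∑ i : Fin m, if u ∈ Z i then (1 : ℤ) else 0
  have htw : ∀ v, d' v = d v + twist ends h v := by
    intro v
    rw [hsum, twist]
    simp only [twist, h]
    rw [Finset.sum_comm]
    refine congrArg (d v + ·) (sum_congr rfl fun e _ => ?_)
    split_ifs <;> simp [sum_sub_distrib, sum_add_distrib]
  -- an edge crosses at most one of the sets
  have hone1 : ∀ a b : V, (∃ e, ends e = (a, b) ∨ ends e = (b, a)) → ∀ i, a ∈ Z i → b ∉ Z i → h a - h b = 1 := by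
    intro a b ⟨e, he⟩ i hai hbi
    simp only [h, ← sum_sub_distrib]
    rw [sum_eq_single i]
    · simp [hai, hbi]
    · intro j _ hji
      have hsame : a ∈ Z j ↔ b ∈ Z j := by
        constructor
        · intro haj
          by_contra hbj
          rcases lt_or_gt_of_ne hji with hlt | hlt
          · exact hsep i j hlt e (by rcases he with he | he <;> rw [he] <;> simp [haj, hbi])
          · exact hsep j i hlt e (by rcases he with he | he <;> rw [he] <;> simp [hai, hbj])
        · intro hbj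
          by_contra haj
          rcases le_total i j with hle | hle
          · exact haj (hmono i j hle hai)
          · exact hbi (hmono j i hle hbj)
      by_cases haj : a ∈ Z j <;> simp [haj, hsame.symm, ← hsame]
    · simp
  have hex : ∀ a b : V, h b < h a → ∃ i, a ∈ Z i ∧ b ∉ Z i := by
    intro a b hlt
    by_contra hc
    simp only [not_exists, not_and, not_not] at hc
    refine absurd (sum_le_sum fun i _ => ?_) (not_le.2 hlt)
    split_ifs with p q <;> first | exact le_refl _ | exact zero_le_one | exact absurd (hc i p) q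
  have hno : ∀ a b, (∃ e, ends e = (a, b) ∨ ends e = (b, a)) → ¬ h b < h a := by
    rintro a b ⟨e, he⟩ hlt
    obtain ⟨i, hai, hbi⟩ := hex a b hlt
    have hexc : IsExceptional ends w a := by
      rcases hstrict (Z i) ⟨a, hai⟩ (fun hu => hbi (hu ▸ mem_univ b)) (hext i) e
        (by rcases he with he | he <;> rw [he] <;> simp [hai, hbi]) with hx | hx
      all_goals rcases he with he | he <;> simp only [he] at hx
      all_goals first
        | exact hx
        | exact (not_adjacent_extreme hK hBI (hext i) hx (hone b hx) hbi (e := e) (by rw [he]; simp [hai])).elim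
    have h0 : twist ends h a = 0 := by
      have := htw a
      rw [hone a hexc, hone' a hexc] at this
      linarith
    -- some neighbour lies higher
    obtain ⟨e', u', he', hu'⟩ : ∃ e' u', (ends e' = (a, u') ∨ ends e' = (u', a)) ∧ h a < h u' := by
      by_contra hc
      simp only [not_exists, not_and, not_lt] at hc
      have hterm : ∀ x ∈ (univ : Finset E), ((if (ends x).1 = a then h (ends x).2 - h (ends x).1 else 0) +
          (if (ends x).2 = a then h (ends x).1 - h (ends x).2 else 0)) ≤ 0 := by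
        intro x _
        refine add_nonpos ?_ ?_
        · split_ifs with p
          · have := hc x (ends x).2 (Or.inl (Prod.ext p rfl)); rw [p]; linarith
          · exact le_rfl
        · split_ifs with p
          · have := hc x (ends x).1 (Or.inr (Prod.ext rfl p)); rw [p]; linarith
          · exact le_rfl
      have h1 := (sum_eq_zero_iff_of_nonpos hterm).1 h0 e (mem_univ _)
      have hne : a ≠ b := fun h' => lt_irrefl _ (h' ▸ hlt)
      rcases he with he | he <;> simp [he, hne, hne.symm] at h1 <;> linarith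
    obtain ⟨j, huj, haj⟩ := hex u' a hu'
    exact not_adjacent_extreme hK hBI (hext j) hexc (hone a hexc) haj (e := e')
      (by rcases he' with he' | he' <;> rw [he'] <;> simp [huj])
  funext v
  rw [htw, twist, sum_eq_zero fun e _ => ?_, add_zero]
  have e1 := hno (ends e).1 (ends e).2 ⟨e, Or.inl rfl⟩
  have e2 := hno (ends e).2 (ends e).1 ⟨e, Or.inr rfl⟩
  rw [not_lt] at e1 e2
  rw [le_antisymm e1 e2]
  simp

theorem bi_pullback (hZ : IsQuasistableGraph ends w) (hK : 0 ≤ canDeg ends w univ) (S : Finset V)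
    (hS : ∀ v ∈ S, IsExceptional ends w v) (dt : V → ℤ) (hzero : ∀ v ∈ S, dt v = 0)
    (hBI : ∀ W : Finset V, Disjoint W S →
      2 * |canDeg ends w Finset.univ * (∑ v ∈ W, dt v) - (∑ v, dt v) * canDeg ends w (Finset.univ.filter (fun v : V => v ∈ W ∨ (v ∈ S ∧ ∀ e : E, ((ends e).1 = v → (ends e).2 ∈ W) ∧ ((ends e).2 = v → (ends e).1 ∈ W))))|
        ≤ (cut ends (Finset.univ.filter (fun v : V => v ∈ W ∨ (v ∈ S ∧ ∀ e : E, ((ends e).1 = v → (ends e).2 ∈ W) ∧ ((ends e).2 = v → (ends e).1 ∈ W)))) : ℤ) * canDeg ends w Finset.univ) :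
    SatisfiesBI ends w dt := by
  classical
  intro Y
  set W := Y \ S with hW
  set P := univ.filter (fun v : V => v ∈ W ∨ (v ∈ S ∧ ∀ e : E, ((ends e).1 = v → (ends e).2 ∈ W) ∧ ((ends e).2 = v → (ends e).1 ∈ W))) with hP
  have hsd : ∀ T : Finset V, T \ S = W → canDeg ends w T = canDeg ends w W := by
    intro T hT
    rw [canDeg, canDeg, ← hT]
    refine (sum_subset sdiff_subset fun x hx hx' => ?_).symm
    have hxS : x ∈ S := by_contra fun h => hx' (mem_sdiff.2 ⟨hx, h⟩)
    have := (exceptional_facts (hS x hxS)).1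
    rwa [canDeg, sum_singleton] at this
  have hPW : P \ S = W := by
    ext x
    simp [hP, hW]
    tauto
  have hdY : ∑ v ∈ Y, dt v = ∑ v ∈ W, dt v :=
    (sum_subset sdiff_subset fun x hx hx' => hzero x (by_contra fun h => hx' (mem_sdiff.2 ⟨hx, h⟩))).symm
  rw [hdY, hsd Y rfl, ← hsd P hPW]
  refine (hBI W sdiff_disjoint).trans (mul_le_mul_of_nonneg_right ?_ hK)
  -- the cut only drops
  rw [cut_eq, cut_eq]
  have hnoSS : ∀ e, ¬((ends e).1 ∈ S ∧ (ends e).2 ∈ S) := by
    rintro e ⟨p, q⟩
    refine hZ.2 e (fun heq => (hS _ p).2.1 e (Prod.ext rfl heq.symm)) ⟨hS _ p, hS _ q⟩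
  have hsplit : ∀ g : E → ℤ, ∑ e, g e = ∑ e, (if (ends e).1 ∉ S ∧ (ends e).2 ∉ S then g e else 0) +
      ∑ s ∈ S, ∑ e ∈ univ.filter (fun e => (ends e).1 = s ∨ (ends e).2 = s), g e := by
    intro g
    simp only [sum_filter]
    rw [Finset.sum_comm (s := S), ← sum_add_distrib]
    refine sum_congr rfl fun e _ => ?_
    have := hnoSS e
    by_cases p : (ends e).1 ∈ S
    · have q : (ends e).2 ∉ S := fun q => this ⟨p, q⟩
      rw [if_neg (fun h => h.1 p), zero_add, sum_eq_single (ends e).1]
      · simp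
      · intro b hb hne
        rw [if_neg]
        rintro (h | h)
        · exact hne h.symm
        · exact q (h ▸ hb)
      · exact fun h => absurd p h
    · by_cases q : (ends e).2 ∈ S
      · rw [if_neg (fun h => h.2 q), zero_add, sum_eq_single (ends e).2]
        · simp
        · intro b hb hne
          rw [if_neg]
          rintro (h | h)
          · exact p (h ▸ hb)
          · exact hne h.symm
        · exact fun h => absurd q h
      · rw [if_pos ⟨p, q⟩, sum_eq_zero, add_zero]
        intro b hb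
        rw [if_neg]
        rintro (h | h)
        · exact p (h ▸ hb)
        · exact q (h ▸ hb)
  rw [hsplit (cutE ends P), hsplit (cutE ends Y)]
  have hmemP : ∀ x, x ∉ S → (x ∈ P ↔ x ∈ Y) := fun x hx => by simp [hP, hW, hx]
  refine add_le_add (le_of_eq (sum_congr rfl fun e _ => ?_)) (sum_le_sum fun s hs => ?_)
  · split_ifs with h
    · simp only [cutE, hmemP _ h.1, hmemP _ h.2]
    · rfl
  · set I := univ.filter (fun e => (ends e).1 = s ∨ (ends e).2 = s)
    have hI2 : I.card = 2 := (exceptional_facts (hS s hs)).2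
    obtain ⟨e₁, e₂, hne, hI⟩ := card_eq_two.1 hI2
    have hends : ∀ e ∈ I, ∀ T : Finset V, ∃ u, u ∉ S ∧ cutE ends T e = if (s ∈ T ↔ u ∈ T) then 0 else 1 := by
      intro e he T
      rcases (mem_filter.1 he).2 with p | p
      · refine ⟨(ends e).2, fun q => hnoSS e ⟨p ▸ hs, q⟩, ?_⟩
        by_cases a : s ∈ T <;> by_cases b : (ends e).2 ∈ T <;> simp [cutE, p, a, b]
      · refine ⟨(ends e).1, fun q => hnoSS e ⟨q, p ▸ hs⟩, ?_⟩
        by_cases a : s ∈ T <;> by_cases b : (ends e).1 ∈ T <;> simp [cutE, p, a, b]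
    by_cases hin : ∀ e : E, ((ends e).1 = s → (ends e).2 ∈ W) ∧ ((ends e).2 = s → (ends e).1 ∈ W)
    · have hsP : s ∈ P := mem_filter.2 ⟨mem_univ _, Or.inr ⟨hs, hin⟩⟩
      refine sum_le_sum fun e he => ?_
      refine le_trans (le_of_eq ?_) (show (0 : ℤ) ≤ cutE ends Y e by unfold cutE; split_ifs <;> norm_num)
      rcases (mem_filter.1 he).2 with p | p
      · have : (ends e).2 ∈ P := mem_filter.2 ⟨mem_univ _, Or.inl ((hin e).1 p)⟩
        simp [cutE, p, hsP, this]
      · have : (ends e).1 ∈ P := mem_filter.2 ⟨mem_univ _, Or.inl ((hin e).2 p)⟩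
        simp [cutE, p, hsP, this]
    · have hsP : s ∉ P := by
        intro h
        rcases (mem_filter.1 h).2 with h | h
        · exact (mem_sdiff.1 h).2 hs
        · exact hin h.2
      by_cases hsY : s ∈ Y
      · -- at most one neighbour inside
        obtain ⟨e₀, he₀, hz⟩ : ∃ e₀ ∈ I, cutE ends P e₀ = 0 ∧ cutE ends Y e₀ = 1 := by
          by_contra hc
          refine hin fun e => ⟨fun p => ?_, fun p => ?_⟩
          · by_contra hu
            have q : (ends e).2 ∉ S := fun q => hnoSS e ⟨p ▸ hs, q⟩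
            refine hc ⟨e, mem_filter.2 ⟨mem_univ _, Or.inl p⟩, ?_⟩
            have : (ends e).2 ∉ Y := fun h => hu (mem_sdiff.2 ⟨h, q⟩)
            simp [cutE, p, hsP, hsY, this, (hmemP _ q)]
          · by_contra hu
            have q : (ends e).1 ∉ S := fun q => hnoSS e ⟨q, p ▸ hs⟩
            refine hc ⟨e, mem_filter.2 ⟨mem_univ _, Or.inr p⟩, ?_⟩
            have : (ends e).1 ∉ Y := fun h => hu (mem_sdiff.2 ⟨h, q⟩)
            simp [cutE, p, hsP, hsY, this, (hmemP _ q)]
        rw [← add_sum_erase _ _ he₀, ← add_sum_erase (f := cutE ends Y) _ he₀, hz.1, hz.2, zero_add]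
        have h1 : ∑ x ∈ I.erase e₀, cutE ends P x ≤ 1 := by
          refine le_trans (sum_le_card_nsmul _ _ 1 fun x _ => ?_) ?_
          · unfold cutE; split_ifs <;> norm_num
          · rw [card_erase_of_mem he₀, hI2]; norm_num
        have h2 : (0 : ℤ) ≤ ∑ x ∈ I.erase e₀, cutE ends Y x :=
          sum_nonneg fun x _ => by unfold cutE; split_ifs <;> norm_num
        linarith
      · refine le_of_eq (sum_congr rfl fun e he => ?_)
        rcases (mem_filter.1 he).2 with p | p
        · have q : (ends e).2 ∉ S := fun q => hnoSS e ⟨p ▸ hs, q⟩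
          simp [cutE, p, hsP, hsY, hmemP _ q]
        · have q : (ends e).1 ∉ S := fun q => hnoSS e ⟨q, p ▸ hs⟩
          simp [cutE, p, hsP, hsY, hmemP _ q]

end Groth.L15.BI
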