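import Mathlib.RingTheory.LocalRing.ResidueField.Ideal
import Mathlib.Algebra.Module.FinitePresentation
import Mathlib.RingTheory.Ideal.Height
import Mathlib.RingTheory.Ideal.MinimalPrime.Noetherian
import Mathlib.RingTheory.Noetherian.Basic
import Mathlib.LinearAlgebra.Matrix.NonsingularInverse
import Mathlib.LinearAlgebra.Matrix.ToLinearEquiv
import Mathlib.LinearAlgebra.Dual.Lemmas

/-!
Basic elements in the sense of Eisenbud-Evans for modules which are free of rank `r` at all primes
of height `≤ k`.
-/

noncomputable section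

universe u
namespace Groth.L15.BasicElements

variable {A : Type u} [CommRing A] {M : Type u} [AddCommGroup M] [Module A M] {r : ℕ}

/-- residue-level coordinates at `p` -/
structure Frame (A : Type u) [CommRing A] (M : Type u) [AddCommGroup M] [Module A M]
    (r : ℕ) (p : PrimeSpectrum A) where
  f : Fin r → Module.Dual A M
  y : Fin r → M
  c : A
  hc : c ∉ p.asIdeal
  hfy : ∀ i j, f i (y j) - (if i = j then c else 0) ∈ p.asIdeal
  hker : ∀ x, (∀ i, f i x ∈ p.asIdeal) → ∀ g : Module.Dual A M, g x ∈ p.asIdeal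

theorem exists_frame [Module.FinitePresentation A M] (p : PrimeSpectrum A)
    (e : LocalizedModule p.asIdeal.primeCompl M ≃ₗ[Localization.AtPrime p.asIdeal]
      (Fin r → Localization.AtPrime p.asIdeal)) :
    Nonempty (Frame A M r p) := by
  classical
  let S := p.asIdeal.primeCompl
  let L := Localization.AtPrime p.asIdeal
  let al : A →ₗ[A] L := Algebra.linearMap A L
  let mk := LocalizedModule.mkLinearMap S M
  let g : Fin r → (M →ₗ[A] L) := fun i =>
    ((LinearMap.proj (R := L) (φ := fun _ : Fin r => L) i).restrictScalars A) ∘ₗ (e.toLinearMap.restrictScalars A) ∘ₗ mk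
  have hlift : ∀ i, ∃ (h : M →ₗ[A] A) (s : S), ∀ m, algebraMap A L (h m) = (s : A) • g i m := by
    intro i
    obtain ⟨h, s, hs⟩ := Module.FinitePresentation.exists_lift_of_isLocalizedModule S al (g i)
    exact ⟨h, s, fun m => by simpa [al, Submonoid.smul_def] using LinearMap.congr_fun hs m⟩
  choose h s hs using hlift
  have hsurj : ∀ j, ∃ (y : M) (t : S), mk y = (t : A) • e.symm (Pi.single j 1) := by
    intro j
    obtain ⟨⟨y, t⟩, hyt⟩ := IsLocalizedModule.surj S mk (e.symm (Pi.single j 1))
    exact ⟨y, t, by simpa [Submonoid.smul_def] using hyt.symm⟩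
  choose y t hy using hsurj
  have hunit : ∀ a ∈ S, IsUnit (algebraMap A L a) := fun a ha =>
    IsLocalization.map_units L (⟨a, ha⟩ : S)
  let f : Fin r → Module.Dual A M := fun i => (∏ l ∈ Finset.univ.erase i, (s l : A)) • h i
  let y' : Fin r → M := fun j => (∏ l ∈ Finset.univ.erase j, (t l : A)) • y j
  let Sp : A := ∏ l, (s l : A)
  let Tp : A := ∏ l, (t l : A)
  have hSp : Sp ∈ S := prod_mem fun l _ => (s l).2
  have hTp : Tp ∈ S := prod_mem fun l _ => (t l).2
  have hf : ∀ i m, algebraMap A L (f i m) = algebraMap A L Sp * e (mk m) i := by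
    intro i m
    simp only [f, Sp, LinearMap.smul_apply, smul_eq_mul, map_mul, hs i m, Algebra.smul_def, g,
      LinearMap.coe_comp, LinearMap.coe_restrictScalars, LinearEquiv.coe_coe, Function.comp_apply,
      LinearMap.proj_apply]
    rw [← mul_assoc, ← map_mul, Finset.prod_erase_mul _ _ (Finset.mem_univ i)]
  have hy' : ∀ j, e (mk (y' j)) = algebraMap A L Tp • Pi.single j 1 := by
    intro j
    simp only [y', Tp, map_smul, hy j, smul_smul, Finset.prod_erase_mul _ _ (Finset.mem_univ j)]
    rw [← algebraMap_smul L (∏ l, (t l : A)) (e.symm (Pi.single j 1)), map_smul,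
      e.apply_symm_apply]
  refine ⟨⟨f, y', Sp * Tp, S.mul_mem hSp hTp, ?_, ?_⟩⟩
  · intro i j
    have h1 : algebraMap A L (f i (y' j) - (if i = j then Sp * Tp else 0)) = 0 := by
      rw [map_sub, hf i (y' j), hy' j]
      by_cases hij : i = j
      · subst hij; simp
      · simp [hij]
    obtain ⟨w, hw⟩ := (IsLocalization.map_eq_zero_iff S L _).mp h1
    exact (p.isPrime.mem_or_mem (by rw [hw]; exact zero_mem _)).resolve_left w.2
  · intro x hx φ
    have hcoord : ∀ i, e (mk x) i ∈ IsLocalRing.maximalIdeal L := by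
      intro i
      have := (IsLocalization.AtPrime.to_map_mem_maximal_iff L p.asIdeal (f i x)).mpr (hx i)
      rw [hf i x] at this
      exact (Ideal.unit_mul_mem_iff_mem _ (hunit _ hSp)).mp this
    let φL : LocalizedModule S M →ₗ[L] L :=
      LinearMap.extendScalarsOfIsLocalization S L (IsLocalizedModule.map S mk al φ)
    have hφL : φL (mk x) = algebraMap A L (φ x) := by
      change IsLocalizedModule.map S mk al φ (mk x) = _
      rw [IsLocalizedModule.map_apply]
      rfl
    refine (IsLocalization.AtPrime.to_map_mem_maximal_iff L p.asIdeal (φ x)).mp ?_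
    rw [← hφL]
    have hsum : mk x = ∑ i, e (mk x) i • e.symm (Pi.single i 1) := by
      apply e.injective
      rw [map_sum]
      simp only [map_smul, e.apply_symm_apply]
      rw [← pi_eq_sum_univ' (e (mk x))]
    rw [hsum, map_sum]
    refine sum_mem fun i _ => ?_
    rw [map_smul, smul_eq_mul]
    exact Ideal.mul_mem_right _ _ (hcoord i)

variable {p : PrimeSpectrum A} (F : Frame A M r p)

/-- coordinates in the residue field -/
def Frame.chi : M →ₗ[A] (Fin r → p.asIdeal.ResidueField) :=
  LinearMap.pi fun i => (Algebra.linearMap A p.asIdeal.ResidueField) ∘ₗ F.f i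

theorem Frame.chi_apply (m : M) (i : Fin r) :
    F.chi m i = algebraMap A p.asIdeal.ResidueField (F.f i m) := rfl

/-- rank of a family at `p` -/
def Frame.rk {m : ℕ} (x : Fin m → M) : ℕ :=
  Module.finrank p.asIdeal.ResidueField
    (Submodule.span p.asIdeal.ResidueField (Set.range (F.chi ∘ x)))

theorem Frame.chi_y (j : Fin r) :
    F.chi (F.y j) = algebraMap A p.asIdeal.ResidueField F.c • Pi.single j 1 := by
  funext i
  have h := F.hfy i j
  rw [← Ideal.algebraMap_residueField_eq_zero, map_sub, sub_eq_zero] at h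
  rw [Frame.chi_apply, h]
  by_cases hij : i = j
  · subst hij; simp
  · simp [hij]

theorem Frame.rk_of_span_eq_top {m : ℕ} (x : Fin m → M)
    (hx : Submodule.span A (Set.range x) = ⊤) : F.rk x = r := by
  set κ := p.asIdeal.ResidueField
  have hall : ∀ v : M, F.chi v ∈ Submodule.span κ (Set.range (F.chi ∘ x)) := by
    intro v
    have hv : v ∈ Submodule.span A (Set.range x) := hx ▸ Submodule.mem_top
    have hle : Submodule.span A (Set.range x) ≤
        ((Submodule.span κ (Set.range (F.chi ∘ x))).restrictScalars A).comap F.chi :=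
      Submodule.span_le.mpr (by
        rintro _ ⟨i, rfl⟩
        exact Submodule.subset_span ⟨i, rfl⟩)
    exact hle hv
  have htop : Submodule.span κ (Set.range (F.chi ∘ x)) = ⊤ := by
    rw [eq_top_iff]
    intro v _
    rw [pi_eq_sum_univ' v]
    refine Submodule.sum_mem _ fun j _ => Submodule.smul_mem _ _ ?_
    have hc : algebraMap A κ F.c ≠ 0 := fun h0 =>
      F.hc (Ideal.algebraMap_residueField_eq_zero.mp h0)
    have := Submodule.smul_mem _ (algebraMap A κ F.c)⁻¹ (hall (F.y j))
    rwa [F.chi_y, smul_smul, inv_mul_cancel₀ hc, one_smul] at this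
  rw [Frame.rk, htop, finrank_top, Module.finrank_fin_fun]

/-- every functional factors through the coordinates modulo `p` -/
theorem Frame.dual_factor (g : Module.Dual A M) (v : M) :
    algebraMap A p.asIdeal.ResidueField F.c * algebraMap A p.asIdeal.ResidueField (g v) =
      ∑ i, algebraMap A p.asIdeal.ResidueField (g (F.y i)) * F.chi v i := by
  have h0 : g (F.c • v - ∑ i, F.f i v • F.y i) ∈ p.asIdeal := by
    refine F.hker _ (fun k => ?_) g
    have : F.f k (F.c • v - ∑ i, F.f i v • F.y i) =
        ∑ i, F.f i v * ((if k = i then F.c else 0) - F.f k (F.y i)) := by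
      simp [mul_sub, Finset.sum_sub_distrib, mul_comm]
    rw [this]
    refine sum_mem fun i _ => Ideal.mul_mem_left _ _ ?_
    have := p.asIdeal.neg_mem (F.hfy k i)
    rwa [neg_sub] at this
  rw [← Ideal.algebraMap_residueField_eq_zero] at h0
  simp only [map_sub, map_sum, map_smul, smul_eq_mul, map_mul, sub_eq_zero] at h0
  rw [h0]
  exact Finset.sum_congr rfl fun i _ => by rw [Frame.chi_apply, mul_comm]

theorem Frame.linearIndependent_of_det {j : ℕ} (z : Fin j → M) (f : Fin j → Module.Dual A M)
    (hdet : (Matrix.of fun a b => f a (z b)).det ∉ p.asIdeal) :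
    LinearIndependent p.asIdeal.ResidueField (F.chi ∘ z) := by
  classical
  set κ := p.asIdeal.ResidueField
  rw [Fintype.linearIndependent_iff]
  intro d hd
  let Mx : Matrix (Fin j) (Fin j) A := Matrix.of fun a b => f a (z b)
  have hdet' : (Mx.map (algebraMap A κ)).det ≠ 0 := by
    rw [← RingHom.mapMatrix_apply, ← RingHom.map_det]
    exact fun h0 => hdet (Ideal.algebraMap_residueField_eq_zero.mp h0)
  have hc : algebraMap A κ F.c ≠ 0 := fun h0 =>
    F.hc (Ideal.algebraMap_residueField_eq_zero.mp h0)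
  have hmul : Matrix.mulVec (Mx.map (algebraMap A κ)) d = 0 := by
    funext a
    have hd' : ∀ i, ∑ b, d b * F.chi (z b) i = 0 := fun i => by
      simpa using congrFun hd i
    apply mul_left_cancel₀ hc
    simp only [Matrix.mulVec, dotProduct, Matrix.map_apply, Mx, Matrix.of_apply, Pi.zero_apply,
      mul_zero, Finset.mul_sum, ← mul_assoc]
    rw [Finset.sum_congr rfl fun b _ => by rw [F.dual_factor (f a) (z b), Finset.sum_mul]]
    rw [Finset.sum_comm]
    refine Finset.sum_eq_zero fun i _ => ?_
    simp only [mul_assoc, mul_comm (F.chi _ i) _]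
    rw [← Finset.mul_sum, hd' i, mul_zero]
  exact fun i => congrFun (Matrix.eq_zero_of_mulVec_eq_zero hdet' hmul) i

theorem Frame.exists_det_of_linearIndependent {j : ℕ} (z : Fin j → M)
    (hz : LinearIndependent p.asIdeal.ResidueField (F.chi ∘ z)) :
    ∃ f : Fin j → Module.Dual A M, (Matrix.of fun a b => f a (z b)).det ∉ p.asIdeal := by
  classical
  set κ := p.asIdeal.ResidueField
  obtain ⟨G, hG⟩ := LinearMap.exists_leftInverse_of_injective
    (Fintype.linearCombination κ (F.chi ∘ z))
    (LinearMap.ker_eq_bot.mpr hz.fintypeLinearCombination_injective)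
  obtain ⟨⟨b, hb⟩, hint⟩ := IsLocalization.exist_integer_multiples_of_finite
    (nonZeroDivisors (A ⧸ p.asIdeal)) (fun q : Fin j × Fin r => G (Pi.single q.2 1) q.1)
  obtain ⟨c, rfl⟩ := Ideal.Quotient.mk_surjective b
  have hlift : ∀ q : Fin j × Fin r, ∃ a : A,
      algebraMap A κ a = algebraMap A κ c * G (Pi.single q.2 1) q.1 := by
    intro q
    obtain ⟨w, hw⟩ := hint q
    obtain ⟨a, rfl⟩ := Ideal.Quotient.mk_surjective w
    refine ⟨a, ?_⟩
    have := hw
    rw [Algebra.smul_def] at this
    rw [IsScalarTower.algebraMap_apply A (A ⧸ p.asIdeal) κ,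
      IsScalarTower.algebraMap_apply A (A ⧸ p.asIdeal) κ]
    exact this
  choose a ha using hlift
  refine ⟨fun l => ∑ i, a (l, i) • F.f i, ?_⟩
  rw [← Ideal.algebraMap_residueField_eq_zero, RingHom.map_det]
  have hmat : (algebraMap A κ).mapMatrix
      (Matrix.of fun l b => (∑ i, a (l, i) • F.f i) (z b)) =
      algebraMap A κ c • (1 : Matrix (Fin j) (Fin j) κ) := by
    ext l b
    have h1 := congrFun (LinearMap.congr_fun hG (Pi.single b 1)) l
    simp only [LinearMap.coe_comp, Function.comp_apply, Fintype.linearCombination_apply_single,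
      one_smul, LinearMap.id_coe, id_eq] at h1
    rw [pi_eq_sum_univ' (F.chi (z b))] at h1
    simp only [map_sum, map_smul, Finset.sum_apply, Pi.smul_apply, smul_eq_mul] at h1
    simp only [RingHom.mapMatrix_apply, Matrix.map_apply, Matrix.of_apply, LinearMap.sum_apply,
      LinearMap.smul_apply, smul_eq_mul, map_sum, map_mul, ha, Matrix.smul_apply,
      Matrix.one_apply]
    have h2 : (Pi.single b 1 : Fin j → κ) l = if l = b then 1 else 0 := Pi.single_apply b 1 l
    rw [← h2, ← h1, Finset.mul_sum]
    refine Finset.sum_congr rfl fun i _ => ?_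
    rw [Frame.chi_apply]
    ring
  rw [hmat, Matrix.det_smul, Matrix.det_one, mul_one]
  refine pow_ne_zero _ fun h0 => ?_
  have : Ideal.Quotient.mk p.asIdeal c = 0 :=
    Ideal.Quotient.eq_zero_iff_mem.mpr (Ideal.algebraMap_residueField_eq_zero.mp h0)
  exact nonZeroDivisors.ne_zero hb this

/-- ideal generated by the `j × j` minors of `x` against functionals -/
def minorIdeal (A : Type u) [CommRing A] {M : Type u} [AddCommGroup M] [Module A M] {m : ℕ}
    (x : Fin m → M) (j : ℕ) : Ideal A :=
  Ideal.span (Set.range fun q : (Fin j → Module.Dual A M) × (Fin j → Fin m) =>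
    (Matrix.of fun a b => q.1 a (x (q.2 b))).det)

theorem Frame.le_rk_iff {m : ℕ} (x : Fin m → M) (j : ℕ) :
    j ≤ F.rk x ↔ ¬ minorIdeal A x j ≤ p.asIdeal := by
  classical
  set κ := p.asIdeal.ResidueField
  constructor
  · intro hj hle
    obtain ⟨b, hbsub, hbspan, hbind⟩ := exists_linearIndependent κ (Set.range (F.chi ∘ x))
    have : Finite b := ((Set.finite_range _).subset hbsub).to_subtype
    have := Fintype.ofFinite b
    have hcard : j ≤ Fintype.card b := by
      rw [← finrank_span_eq_card hbind, Subtype.range_coe_subtype, Set.setOf_mem_eq, hbspan]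
      exact hj
    obtain ⟨emb⟩ : Nonempty (Fin j ↪ b) := Function.Embedding.nonempty_of_card_le (by simpa using hcard)
    have hs : ∀ l, ∃ i, F.chi (x i) = (emb l : Fin r → κ) := fun l => hbsub (emb l).2
    choose s hs using hs
    have hind : LinearIndependent κ (F.chi ∘ (x ∘ s)) := by
      have hh := hbind.comp emb emb.injective
      have he : F.chi ∘ (x ∘ s) = Subtype.val ∘ emb := funext hs
      rw [he]
      exact hh
    obtain ⟨f, hf⟩ := F.exists_det_of_linearIndependent (x ∘ s) hind
    exact hf (hle (Ideal.subset_span ⟨(f, s), rfl⟩))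
  · intro hnle
    obtain ⟨d, ⟨⟨f, s⟩, rfl⟩, hd⟩ : ∃ d ∈ (Set.range fun q : (Fin j → Module.Dual A M) ×
        (Fin j → Fin m) => (Matrix.of fun a b => q.1 a (x (q.2 b))).det), d ∉ p.asIdeal := by
      by_contra hne
      push_neg at hne
      exact hnle (Ideal.span_le.mpr hne)
    have hind := F.linearIndependent_of_det (x ∘ s) f hd
    have h1 := finrank_span_eq_card hind
    rw [Fintype.card_fin] at h1
    rw [← h1, Frame.rk]
    exact Submodule.finrank_mono (Submodule.span_mono (by
      rintro _ ⟨l, rfl⟩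
      exact ⟨s l, rfl⟩))

/-- replacing `x` by `x i + a i • x last` -/
def shear {m : ℕ} (x : Fin (m + 1) → M) (a : Fin m → A) : Fin m → M :=
  fun i => x i.castSucc + a i • x (Fin.last m)

theorem Frame.rk_le_shear {m : ℕ} (x : Fin (m + 1) → M) (a : Fin m → A) :
    F.rk x ≤ F.rk (shear x a) + 1 := by
  set κ := p.asIdeal.ResidueField
  set v := F.chi (x (Fin.last m))
  have hle : Submodule.span κ (Set.range (F.chi ∘ x)) ≤
      Submodule.span κ (Set.range (F.chi ∘ shear x a)) ⊔ Submodule.span κ {v} := by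
    rw [Submodule.span_le]
    rintro _ ⟨i, rfl⟩
    induction i using Fin.lastCases with
    | last => exact Submodule.mem_sup_right (Submodule.mem_span_singleton_self v)
    | cast i =>
      have : F.chi (x i.castSucc) = F.chi (shear x a i) - algebraMap A κ (a i) • v := by
        simp [shear, v, map_add, map_smul]
      rw [Function.comp_apply, this, sub_eq_add_neg]
      exact Submodule.add_mem_sup (Submodule.subset_span ⟨i, rfl⟩)
        (Submodule.neg_mem _ (Submodule.smul_mem _ _ (Submodule.mem_span_singleton_self v)))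
  have h1 := Submodule.finrank_mono hle
  have h2 := Submodule.finrank_add_le_finrank_add_finrank
    (Submodule.span κ (Set.range (F.chi ∘ shear x a))) (Submodule.span κ {v})
  have h3 : Module.finrank κ (Submodule.span κ {v}) ≤ 1 := by
    by_cases hv : v = 0
    · rw [hv, Submodule.span_zero_singleton, finrank_bot]; exact Nat.zero_le _
    · exact (finrank_span_singleton hv).le
  exact (h1.trans h2).trans (Nat.add_le_add_left h3 _)

theorem Frame.rk_le_shear_of_mem {m : ℕ} (x : Fin (m + 1) → M) (a : Fin m → A)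
    (hv : F.chi (x (Fin.last m)) ∈
      Submodule.span p.asIdeal.ResidueField (Set.range (F.chi ∘ shear x a))) :
    F.rk x ≤ F.rk (shear x a) := by
  refine Submodule.finrank_mono (Submodule.span_le.mpr ?_)
  rintro _ ⟨i, rfl⟩
  induction i using Fin.lastCases with
  | last => exact hv
  | cast i =>
    have : F.chi (x i.castSucc) = F.chi (shear x a i) -
        algebraMap A p.asIdeal.ResidueField (a i) • F.chi (x (Fin.last m)) := by
      simp [shear, map_add, map_smul]
    rw [Function.comp_apply, this]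
    exact Submodule.sub_mem _ (Submodule.subset_span ⟨i, rfl⟩) (Submodule.smul_mem _ _ hv)

theorem Frame.rk_shear_congr {m : ℕ} (x : Fin (m + 1) → M) (a a' : Fin m → A)
    (h : ∀ i, a i - a' i ∈ p.asIdeal) : F.rk (shear x a) = F.rk (shear x a') := by
  have : F.chi ∘ shear x a = F.chi ∘ shear x a' := by
    funext i
    have h' : algebraMap A p.asIdeal.ResidueField (a i) = algebraMap A _ (a' i) := by
      rw [← sub_eq_zero, ← map_sub]; exact Ideal.algebraMap_residueField_eq_zero.mpr (h i)
    simp only [Function.comp_apply, shear, map_add, map_smul]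
    rw [← algebraMap_smul p.asIdeal.ResidueField (a i), h', algebraMap_smul]
  unfold Frame.rk
  rw [this]

theorem Frame.exists_fix {m : ℕ} (x : Fin (m + 1) → M) (hm : F.rk x ≤ m) (a : Fin m → A)
    (hbad : ¬ F.rk x ≤ F.rk (shear x a)) :
    ∃ b : Fin m, ∀ t ∉ p.asIdeal, F.rk x ≤ F.rk (shear x (a + Pi.single b t)) := by
  classical
  set κ := p.asIdeal.ResidueField
  have hdep : ¬ LinearIndependent κ (F.chi ∘ shear x a) := fun hind => hbad (by
    have := finrank_span_eq_card hind
    rw [Fintype.card_fin] at this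
    rw [show F.rk (shear x a) = m from this]
    exact hm)
  rw [Fintype.linearIndependent_iff] at hdep
  push_neg at hdep
  obtain ⟨d, hd, b, hb⟩ := hdep
  refine ⟨b, fun t ht => F.rk_le_shear_of_mem x _ ?_⟩
  have ht' : algebraMap A κ t ≠ 0 := fun h0 => ht (Ideal.algebraMap_residueField_eq_zero.mp h0)
  set v := F.chi (x (Fin.last m))
  have hsum : ∑ i, d i • (F.chi ∘ shear x (a + Pi.single b t)) i =
      (d b * algebraMap A κ t) • v := by
    have hterm : ∀ i, (F.chi ∘ shear x (a + Pi.single b t)) i = (F.chi ∘ shear x a) i +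
        algebraMap A κ ((Pi.single b t : Fin m → A) i) • v := by
      intro i
      simp only [Function.comp_apply, shear, Pi.add_apply, add_smul, map_add, map_smul, v,
        algebraMap_smul]
      abel
    simp only [hterm, smul_add, Finset.sum_add_distrib]
    rw [show ∑ i, d i • (F.chi ∘ shear x a) i = 0 from hd, zero_add, Finset.sum_eq_single b]
    · rw [Pi.single_eq_same, smul_smul]
    · intro i _ hi; simp [hi]
    · simp
  have hmem : (d b * algebraMap A κ t) • v ∈
      Submodule.span κ (Set.range (F.chi ∘ shear x (a + Pi.single b t))) := by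
    rw [← hsum]
    exact Submodule.sum_mem _ fun i _ =>
      Submodule.smul_mem _ _ (Submodule.subset_span ⟨i, rfl⟩)
  have := Submodule.smul_mem _ (d b * algebraMap A κ t)⁻¹ hmem
  rwa [smul_smul, inv_mul_cancel₀ (mul_ne_zero hb ht'), one_smul] at this

/-- a simultaneous choice at finitely many primes -/
theorem exists_avoid {m : ℕ} (C : Finset (PrimeSpectrum A))
    (Good : PrimeSpectrum A → (Fin m → A) → Prop)
    (hmod : ∀ p ∈ C, ∀ a a', (∀ i, a i - a' i ∈ p.asIdeal) → Good p a → Good p a')
    (hfix : ∀ p ∈ C, ∀ a, ¬ Good p a → ∃ b : Fin m, ∀ t ∉ p.asIdeal, Good p (a + Pi.single b t)) :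
    ∃ a, ∀ p ∈ C, Good p a := by
  classical
  induction C using Finset.strongInduction with
  | H C ih =>
    rcases C.eq_empty_or_nonempty with rfl | hne
    · exact ⟨0, by simp⟩
    obtain ⟨p₀, hp₀⟩ := C.exists_minimal hne
    obtain ⟨a, ha⟩ := ih (C.erase p₀) (Finset.erase_ssubset hp₀.1)
      (fun p hp => hmod p (Finset.mem_of_mem_erase hp))
      (fun p hp => hfix p (Finset.mem_of_mem_erase hp))
    by_cases hg : Good p₀ a
    · exact ⟨a, fun p hp => if h : p = p₀ then h ▸ hg else
        ha p (Finset.mem_erase.mpr ⟨h, hp⟩)⟩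
    obtain ⟨b, hb⟩ := hfix p₀ hp₀.1 a hg
    have hnle : ∀ q ∈ C.erase p₀, ∃ w ∈ q.asIdeal, w ∉ p₀.asIdeal := by
      intro q hq
      by_contra hcon
      push_neg at hcon
      have hle : q ≤ p₀ := hcon
      exact Finset.ne_of_mem_erase hq (le_antisymm hle (hp₀.2 (Finset.mem_of_mem_erase hq) hle))
    choose w hw hw' using hnle
    let t : A := ∏ q ∈ (C.erase p₀).attach, w q.1 q.2
    have ht : t ∉ p₀.asIdeal := fun h => by
      obtain ⟨q, -, hq⟩ := (Ideal.IsPrime.prod_mem_iff (hp := p₀.isPrime)).mp h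
      exact hw' q.1 q.2 hq
    refine ⟨a + Pi.single b t, fun p hp => ?_⟩
    by_cases h : p = p₀
    · exact h ▸ hb t ht
    have hpe := Finset.mem_erase.mpr ⟨h, hp⟩
    refine hmod p hp a _ (fun i => ?_) (ha p hpe)
    rw [Pi.add_apply, sub_add_cancel_left]
    refine p.asIdeal.neg_mem ?_
    by_cases hi : i = b
    · subst hi
      rw [Pi.single_eq_same]
      exact p.asIdeal.mem_of_dvd (Finset.dvd_prod_of_mem (fun q => w q.1 q.2)
        (Finset.mem_attach _ ⟨p, hpe⟩)) (hw p hpe)
    · rw [Pi.single_eq_of_ne hi]; exact zero_mem _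

/-- Eisenbud-Evans: `r - k` elements which are independent at every prime of height `≤ k`. -/
theorem exists_basic [IsNoetherianRing A] [Module.Finite A M] {k : ℕ} (hkr : k ≤ r)
    (F : ∀ p : PrimeSpectrum A, p.asIdeal.height ≤ k → Frame A M r p) :
    ∃ x : Fin (r - k) → M, ∀ (p : PrimeSpectrum A) (hp : p.asIdeal.height ≤ k), r - k ≤ (F p hp).rk x := by
  classical
  suffices H : ∀ d, ∀ m, m = r - k + d → (∃ x : Fin m → M, ∀ (p : PrimeSpectrum A) (hp : p.asIdeal.height ≤ k),
      ∀ h : ℕ, p.asIdeal.height ≤ h → h ≤ k → min m (r - h) ≤ (F p hp).rk x) →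
      ∃ x : Fin (r - k) → M, ∀ (p : PrimeSpectrum A) (hp : p.asIdeal.height ≤ k), r - k ≤ (F p hp).rk x by
    obtain ⟨n, g, hg⟩ := Module.Finite.exists_fin (R := A) (M := M)
    refine H n (r - k + n) rfl ⟨fun i => if h : (i : ℕ) < n then g ⟨i, h⟩ else 0, ?_⟩
    intro p hp h _ _
    rw [(F p hp).rk_of_span_eq_top _ ?_]
    · exact (min_le_right _ _).trans (Nat.sub_le _ _)
    · rw [eq_top_iff, ← hg]
      refine Submodule.span_mono ?_
      rintro _ ⟨i, rfl⟩
      exact ⟨⟨i, by omega⟩, by simp⟩
  intro d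
  induction d with
  | zero =>
    intro m hm ⟨x, hx⟩
    rw [Nat.add_zero] at hm
    subst hm
    refine ⟨x, fun p hp => ?_⟩
    have := hx p hp k hp le_rfl
    rwa [min_self] at this
  | succ d ih =>
    intro m hm ⟨x, hx⟩
    obtain ⟨m', rfl⟩ : ∃ m', m = m' + 1 := ⟨r - k + d, hm⟩
    let Cset : Set (PrimeSpectrum A) := {p | ∃ h : ℕ, h ≤ k ∧ r - h ≤ m' ∧
      p.asIdeal.height = h ∧ minorIdeal A x (r - h + 1) ≤ p.asIdeal}
    have hfin : Cset.Finite := by
      have hU : (⋃ h ∈ Finset.range (k + 1), PrimeSpectrum.asIdeal ⁻¹'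
          (minorIdeal A x (r - h + 1)).minimalPrimes).Finite := by
        refine Set.Finite.biUnion (Finset.finite_toSet _) fun h _ => ?_
        exact Set.Finite.preimage (fun a _ b _ hab => PrimeSpectrum.ext hab)
          (Ideal.finite_minimalPrimes_of_isNoetherianRing A _)
      refine hU.subset ?_
      rintro p ⟨h, hk, hm', hht, hle⟩
      simp only [Set.mem_iUnion, Set.mem_preimage, Finset.mem_range]
      refine ⟨h, by omega, ⟨⟨p.isPrime, hle⟩, fun q ⟨hq, hqle⟩ hqp => ?_⟩⟩
      by_contra hne
      have hlt : q < p.asIdeal := lt_of_le_of_ne hqp fun he => hne (le_of_eq he.symm)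
      have : p.asIdeal.FiniteHeight := ⟨Or.inr (by rw [hht]; simp)⟩
      have := hq
      have hqh := Ideal.height_strict_mono_of_isPrime_of_isPrime hlt
      rw [hht] at hqh
      obtain ⟨h', hh'⟩ := ENat.ne_top_iff_exists.mp hqh.ne_top
      rw [← hh', Nat.cast_lt] at hqh
      have hqk : (⟨q, hq⟩ : PrimeSpectrum A).asIdeal.height ≤ k := by
        change q.height ≤ (k : ℕ∞); rw [← hh']; exact_mod_cast (by omega : h' ≤ k)
      have h1 := hx ⟨q, hq⟩ hqk h' (le_of_eq hh'.symm) (by omega)
      exact ((F ⟨q, hq⟩ hqk).le_rk_iff x (r - h + 1)).mp (le_trans (by omega) h1) hqle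
    let Good : PrimeSpectrum A → (Fin m' → A) → Prop := fun p a =>
      ∀ hp : p.asIdeal.height ≤ k, (F p hp).rk x ≤ m' → (F p hp).rk x ≤ (F p hp).rk (shear x a)
    obtain ⟨a, ha⟩ := exists_avoid hfin.toFinset Good
      (fun p _ a a' haa hg hp hle => by
        rw [← (F p hp).rk_shear_congr x a a' haa]; exact hg hp hle)
      (fun p _ a hbad => by
        simp only [Good, not_forall] at hbad
        obtain ⟨hp, hle, hbad⟩ := hbad
        obtain ⟨b, hb⟩ := (F p hp).exists_fix x hle a hbad
        exact ⟨b, fun t ht hp' _ => hb t ht⟩)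
    refine ih m' (by omega) ⟨shear x a, fun p hp h hh hhk => ?_⟩
    obtain ⟨h₀, hh₀⟩ := ENat.ne_top_iff_exists.mp
      (lt_of_le_of_lt hp (ENat.natCast_lt_top k)).ne
    have hh₀h : h₀ ≤ h := by rw [← hh₀] at hh; exact_mod_cast hh
    have h1 := hx p hp h₀ (le_of_eq hh₀.symm) (by omega)
    have h2 := (F p hp).rk_le_shear x a
    by_cases hcase : m' + 1 ≤ (F p hp).rk x ∨ r - h₀ + 1 ≤ (F p hp).rk x
    · omega
    · push_neg at hcase
      have hC : p ∈ hfin.toFinset := by
        rw [Set.Finite.mem_toFinset]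
        refine ⟨h₀, by omega, by omega, hh₀.symm, ?_⟩
        by_contra hn
        have := ((F p hp).le_rk_iff x (r - h₀ + 1)).mpr hn
        omega
      have h3 := ha p hC hp (by omega)
      omega

end Groth.L15.BasicElements
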