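import Groth.Prelude.Def_W4c5normfunctorschNorm
import Mathlib.RingTheory.Norm.Basic
import Mathlib.Algebra.Algebra.Basic

/-!
Elementary facts about `PolLaw.bcAlong`: values on pure tensors, bijectivity along a base change,
and invariance of the norm.
-/

universe u

open scoped TensorProduct

namespace Groth.L15.BcAlong

section

variable {R : Type u} [CommRing R] {Q : Type u} [CommRing Q] [Algebra R Q]
  {X : Type u} [AddCommGroup X] [Module R X]
  {Y : Type u} [AddCommGroup Y] [Module R Y] [Module Q Y] [IsScalarTower R Q Y]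
  (g : X →ₗ[R] Y) (P : Type u) [CommRing P] [Algebra R P] [Algebra Q P] [IsScalarTower R Q P]

theorem bcAlong_tmul (p : P) (x : X) : PolLaw.bcAlong (Q := Q) g P (p ⊗ₜ[R] x) = p ⊗ₜ[Q] g x := by
  simp [PolLaw.bcAlong]

theorem bcAlong_bijective (hg : IsBaseChange Q g) : Function.Bijective (PolLaw.bcAlong (Q := Q) g P) := by
  have h : g.liftBaseChange Q = hg.equiv.toLinearMap := by
    ext x
    simp [IsBaseChange.equiv_tmul]
  unfold PolLaw.bcAlong
  rw [h]
  exact (((TensorProduct.AlgebraTensorModule.cancelBaseChange R Q P P X).symm.restrictScalars Q).trans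
    (hg.equiv.lTensor P)).bijective

theorem bcAlong_smul (p : P) (z : P ⊗[R] X) :
    PolLaw.bcAlong (Q := Q) g P (p • z) = p • PolLaw.bcAlong (Q := Q) g P z := by
  induction z using TensorProduct.induction_on with
  | zero => simp
  | tmul q x => simp [TensorProduct.smul_tmul', bcAlong_tmul]
  | add a b ha hb => simp only [smul_add, map_add, ha, hb]

end

section Push

variable {R R' Q Q' : Type u} [CommRing R] [CommRing R'] [Algebra R R']
  [CommRing Q] [Algebra R Q] [CommRing Q'] [Algebra R Q'] [Algebra Q Q'] [Algebra R' Q']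
  [IsScalarTower R Q Q'] [IsScalarTower R R' Q'] [Algebra.IsPushout R R' Q Q']
  (P : Type u) [CommRing P] [Algebra R P] [Algebra Q P] [IsScalarTower R Q P]

theorem bc_bijective :
    Function.Bijective (PolLaw.bcAlong (Q := Q) (IsScalarTower.toAlgHom R R' Q').toLinearMap P) :=
  bcAlong_bijective _ P (Algebra.IsPushout.symm (inferInstanceAs (Algebra.IsPushout R R' Q Q'))).out

/-- `bcAlong` of the structure map of a pushout, as a ring isomorphism over the test algebra. -/
theorem exists_algEquiv : ∃ e : P ⊗[R] R' ≃ₐ[P] P ⊗[Q] Q', ∀ z,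
    e z = PolLaw.bcAlong (Q := Q) (IsScalarTower.toAlgHom R R' Q').toLinearMap P z := by
  let L : P ⊗[R] R' →ₗ[P] P ⊗[Q] Q' :=
    { toFun := fun z => PolLaw.bcAlong (Q := Q) (IsScalarTower.toAlgHom R R' Q').toLinearMap P z
      map_add' := fun a b => map_add _ a b
      map_smul' := fun p z => bcAlong_smul (Q := Q) _ P p z }
  let f : P ⊗[R] R' →ₐ[P] P ⊗[Q] Q' := Algebra.TensorProduct.algHomOfLinearMapTensorProduct L
    (fun a₁ a₂ b₁ b₂ => by simp [L, bcAlong_tmul])
    (by simp [L, Algebra.TensorProduct.one_def, bcAlong_tmul])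
  exact ⟨AlgEquiv.ofBijective f (bc_bijective P), fun z => rfl⟩

theorem norm_bcAlong (z : P ⊗[R] R') :
    Algebra.norm P (PolLaw.bcAlong (Q := Q) (IsScalarTower.toAlgHom R R' Q').toLinearMap P z) =
      Algebra.norm P z := by
  obtain ⟨e, he⟩ := exists_algEquiv (R := R) (R' := R') (Q := Q) (Q' := Q') P
  rw [← he, Algebra.norm_eq_of_algEquiv]

end Push

/-- the multiplication `P ⊗[R] Q → P` for a `Q`-algebra `P` -/
noncomputable def mulQ (R Q P : Type u) [CommRing R] [CommRing Q] [Algebra R Q] [CommRing P]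
    [Algebra R P] [Algebra Q P] [IsScalarTower R Q P] : P ⊗[R] Q →ₗ[R] P :=
  (LinearMap.mul' R P) ∘ₗ (IsScalarTower.toAlgHom R Q P).toLinearMap.lTensor P

theorem mulQ_tmul (R Q P : Type u) [CommRing R] [CommRing Q] [Algebra R Q] [CommRing P]
    [Algebra R P] [Algebra Q P] [IsScalarTower R Q P] (p : P) (q : Q) :
    mulQ R Q P (p ⊗ₜ q) = p * algebraMap Q P q := by
  simp [mulQ]

end Groth.L15.BcAlong
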