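import Groth.Agent.L15.Cycles
import Mathlib.Algebra.BigOperators.Fin
import Mathlib.Data.Fintype.Sigma
import Mathlib.RingTheory.Ideal.Span
import Mathlib.RingTheory.PrincipalIdealDomain
import Mathlib.Data.Nat.Factorization.Basic
import Mathlib.Algebra.GroupWithZero.Divisibility

/-!
Cartier labellings: the total blow-up, multidegrees, decompositions.
-/

set_option autoImplicit false

noncomputable section

universe u v

open Finset LabGraph

namespace Groth.L15.Cycles

variable {V E : Type u} [Fintype V] [Fintype E] [DecidableEq V] [DecidableEq E]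
variable {ends : E → V × V} {l : E → ℕ}

theorem const_of_edges (hconn : Connected ends) {g : V → ℤ}
    (hg : ∀ e, g (ends e).1 = g (ends e).2) (v w : V) : g v = g w := by
  induction hconn.2 v w with
  | refl => rfl
  | tail _ hbc ih =>
    obtain ⟨e, he | he⟩ := hbc <;> have := hg e <;> rw [he] at this
    · exact ih.trans this
    · exact ih.trans this.symm

theorem orth_of_coboundary {x y : E → ℤ} {f : V → ℤ}
    (h : ∀ e, x e = (f (ends e).2 - f (ends e).1) + (l e : ℤ) * y e) {γ : E → ℤ}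
    (hγ : ∀ v, boundary ends γ v = 0) : ∑ e, γ e * (x e - (l e : ℤ) * y e) = 0 := by
  simp only [h, add_sub_cancel_right, sum_coboundary, hγ, mul_zero, sum_const_zero]

theorem mdeg_eq_zero_iff (hl : ∀ e, 0 < l e) (hconn : Connected ends) {φ : V → ℤ}
    (hφ : IsCartier ends l φ) : (∀ v, mdeg ends l φ v = 0) ↔ ∀ v w, φ v = φ w := by
  refine ⟨fun h => const_of_edges hconn fun e₀ => ?_, fun h v => sum_eq_zero fun e _ => by simp [h (ends e).1 (ends e).2]⟩
  have h2 : ∑ v, φ v * mdeg ends l φ v =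
      -∑ e, (φ (ends e).2 - φ (ends e).1) * ((φ (ends e).2 - φ (ends e).1) / (l e : ℤ)) := by
    simp only [mdeg, mul_sum]
    rw [Finset.sum_comm, ← sum_neg_distrib]
    refine sum_congr rfl fun e _ => ?_
    simp only [mul_add, sum_add_distrib, mul_ite, mul_zero, sum_ite_eq, mem_univ, if_true]
    rw [← neg_sub (φ (ends e).2) (φ (ends e).1), Int.neg_ediv_of_dvd (dvd_sub_comm.1 (hφ e))]
    ring
  simp only [h, mul_zero, sum_const_zero] at h2
  have h3 : ∀ e ∈ univ, (0 : ℤ) ≤ (φ (ends e).2 - φ (ends e).1) * ((φ (ends e).2 - φ (ends e).1) / (l e : ℤ)) := by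
    intro e _
    obtain ⟨c, hc⟩ := dvd_sub_comm.1 (hφ e)
    have := hl e
    rw [hc, Int.mul_ediv_cancel_left _ (by omega), mul_assoc]
    exact mul_nonneg (by omega) (mul_self_nonneg c)
  have h4 := (sum_eq_zero_iff_of_nonneg h3).1 (by linear_combination h2) e₀ (mem_univ _)
  obtain ⟨c, hc⟩ := dvd_sub_comm.1 (hφ e₀)
  have := hl e₀
  rw [hc, Int.mul_ediv_cancel_left _ (by omega), mul_assoc] at h4
  have hc0 : c = 0 := by
    rcases mul_eq_zero.1 h4 with h5 | h5
    · omega
    · exact mul_self_eq_zero.1 h5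
  rw [hc0, mul_zero, sub_eq_zero] at hc
  exact hc.symm

theorem pathVert_zero (e : E) : pathVert ends l e 0 = Sum.inl (ends e).1 := dif_pos rfl

theorem pathVert_mid (e : E) (i : Fin (l e - 1)) :
    pathVert ends l e (i.val + 1) = Sum.inr ⟨e, i⟩ := by
  rw [pathVert, dif_neg (by omega), dif_pos (by omega)]
  rfl

theorem pathVert_end (hl : ∀ e, 0 < l e) (e : E) : pathVert ends l e (l e) = Sum.inl (ends e).2 := by
  rw [pathVert, dif_neg (by have := hl e; omega), dif_neg (lt_irrefl _)]

theorem pathVert_eq_inr {e e' : E} {j : ℕ} {i : Fin (l e' - 1)} :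
    pathVert ends l e j = Sum.inr ⟨e', i⟩ ↔ e = e' ∧ j = i.val + 1 := by
  constructor
  · intro h
    unfold pathVert at h
    split_ifs at h with h0 h1
    simp only [Sum.inr.injEq, Sigma.mk.injEq] at h
    obtain ⟨rfl, h⟩ := h
    have h' := congrArg Fin.val (eq_of_heq h)
    simp only at h'
    exact ⟨rfl, by omega⟩
  · rintro ⟨rfl, rfl⟩
    exact pathVert_mid e i

theorem pathVert_eq_inl {e : E} {j : ℕ} {v : V} :
    pathVert ends l e j = Sum.inl v ↔ (j = 0 ∧ (ends e).1 = v) ∨ (j ≠ 0 ∧ l e ≤ j ∧ (ends e).2 = v) := by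
  unfold pathVert
  split_ifs with h0 h1 <;> simp [h0] <;> omega

theorem mdeg_bl_inr (ψ : BlVert V E l → ℤ) (e : E) (i : Fin (l e - 1)) :
    mdeg (blEnds ends l) (fun _ => 1) ψ (Sum.inr ⟨e, i⟩) =
      ψ (pathVert ends l e i.val) + ψ (pathVert ends l e (i.val + 2)) - 2 * ψ (pathVert ends l e (i.val + 1)) := by
  rw [mdeg, Fintype.sum_sigma, sum_eq_single e]
  · simp only [blEnds, pathVert_eq_inr, true_and, Nat.cast_one, Int.ediv_one, sum_add_distrib]
    have hi := i.isLt
    rw [sum_eq_single (⟨i.val + 1, by omega⟩ : Fin (l e)), sum_eq_single (⟨i.val, by omega⟩ : Fin (l e))]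
    · simp only [if_true]
      rw [show i.val + 1 + 1 = i.val + 2 from rfl]
      ring
    · intro b _ hb
      rw [if_neg]
      intro hc
      exact hb (Fin.ext (show b.val = i.val by omega))
    · simp
    · intro b _ hb
      rw [if_neg]
      intro hc
      exact hb (Fin.ext hc)
    · simp
  · intro b _ hb
    exact sum_eq_zero fun k _ => by simp [blEnds, pathVert_eq_inr, hb]
  · simp

theorem mdeg_bl_inl (hl : ∀ e, 0 < l e) (ψ : BlVert V E l → ℤ) (v : V) :
    mdeg (blEnds ends l) (fun _ => 1) ψ (Sum.inl v) = ∑ e,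
      ((if (ends e).1 = v then ψ (pathVert ends l e 1) - ψ (pathVert ends l e 0) else 0) +
        (if (ends e).2 = v then ψ (pathVert ends l e (l e - 1)) - ψ (pathVert ends l e (l e)) else 0)) := by
  rw [mdeg, Fintype.sum_sigma]
  refine sum_congr rfl fun e _ => ?_
  have := hl e
  simp only [blEnds, Nat.cast_one, Int.ediv_one, sum_add_distrib]
  congr 1
  · rw [sum_eq_single (⟨0, hl e⟩ : Fin (l e))]
    · simp [pathVert_eq_inl]
    · intro b _ hb
      rw [if_neg]
      rw [pathVert_eq_inl]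
      rintro (⟨h, -⟩ | ⟨-, h, -⟩)
      · exact hb (Fin.ext h)
      · have := b.isLt; omega
    · simp
  · rw [sum_eq_single (⟨l e - 1, by omega⟩ : Fin (l e))]
    · simp only [show l e - 1 + 1 = l e by omega, pathVert_eq_inl]
      simp [show l e ≠ 0 by omega]
    · intro b _ hb
      rw [if_neg]
      rw [pathVert_eq_inl]
      rintro (⟨h, -⟩ | ⟨-, h, -⟩)
      · omega
      · have := b.isLt; exact hb (Fin.ext (show b.val = l e - 1 by omega))
    · simp

theorem exists_cartier_of_harmonic (hl : ∀ e, 0 < l e) {α : V → ℤ} {ψ : BlVert V E l → ℤ}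
    (hψ : ∀ w, mdeg (blEnds ends l) (fun _ => 1) ψ w = Sum.elim α (fun _ => (0 : ℤ)) w) :
    ∃ φ : V → ℤ, IsCartier ends l φ ∧ ∀ v, mdeg ends l φ v = α v := by
  have hlin : ∀ e, ∀ k ≤ l e, ψ (pathVert ends l e k) =
      ψ (pathVert ends l e 0) + k * (ψ (pathVert ends l e 1) - ψ (pathVert ends l e 0)) := by
    intro e k
    induction k using Nat.strong_induction_on with
    | _ k ih =>
      intro hk
      rcases k with _ | _ | k
      · simp
      · simp
      · have h := hψ (Sum.inr ⟨e, ⟨k, by omega⟩⟩)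
        rw [mdeg_bl_inr, Sum.elim_inr, ih k (by omega) (by omega), ih (k + 1) (by omega) (by omega)] at h
        push_cast at h ⊢
        linear_combination h
  have hdiff : ∀ e, ψ (Sum.inl (ends e).2) - ψ (Sum.inl (ends e).1) =
      (l e : ℤ) * (ψ (pathVert ends l e 1) - ψ (pathVert ends l e 0)) := fun e => by
    rw [← pathVert_end (ends := ends) hl e, ← pathVert_zero (ends := ends) (l := l) e, hlin e _ le_rfl]
    ring
  refine ⟨fun v => ψ (Sum.inl v), fun e => dvd_sub_comm.1 ⟨_, hdiff e⟩, fun v => ?_⟩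
  rw [show α v = Sum.elim α (fun _ => (0 : ℤ)) (Sum.inl v : BlVert V E l) from rfl, ← hψ, mdeg_bl_inl hl, mdeg]
  refine sum_congr rfl fun e _ => ?_
  have hne : ((l e : ℤ)) ≠ 0 := by have := hl e; omega
  have h1 := hlin e (l e - 1) (Nat.sub_le _ _)
  have h2 := hlin e (l e) le_rfl
  rw [← neg_sub (ψ (Sum.inl (ends e).2)) (ψ (Sum.inl (ends e).1)), hdiff, Int.mul_ediv_cancel_left _ hne,
    Int.neg_ediv_of_dvd (dvd_mul_right _ _), Int.mul_ediv_cancel_left _ hne, h1, h2,
    Nat.cast_sub (hl e), Nat.cast_one]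
  split_ifs <;> ring

/-- The second summatory function. -/
def acc (b : ℕ → ℤ) (j : ℕ) : ℤ := ∑ i ∈ range j, ((j : ℤ) - i) * b i

theorem acc_succ (b : ℕ → ℤ) (j : ℕ) : acc b (j + 1) = acc b j + ∑ i ∈ range (j + 1), b i := by
  simp only [acc, sum_range_succ, ← add_assoc, ← sum_add_distrib]
  push_cast
  congr 1
  · exact sum_congr rfl fun i _ => by ring
  · ring

theorem acc_step (b : ℕ → ℤ) (j : ℕ) : acc b (j + 2) + acc b j = 2 * acc b (j + 1) + b (j + 1) := by
  rw [acc_succ b (j + 1), sum_range_succ _ (j + 1), acc_succ b j]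
  ring

theorem blowup_surjective_iff (hl : ∀ e, 0 < l e) :
    (∀ β : BlVert V E l → ℤ, ∃ (ψ : BlVert V E l → ℤ) (α : V → ℤ),
        ∀ w : BlVert V E l,
          mdeg (blEnds ends l) (fun _ => 1) ψ w + β w = Sum.elim α (fun _ => (0 : ℤ)) w) ↔
      IsCircuitCoprime ends l := by
  constructor
  · intro h
    refine isCircuitCoprime_of_orth hl fun x => ?_
    obtain ⟨ψ, α, hψ⟩ := h (Sum.elim 0 fun p => if p.2.val = 0 then x p.1 else 0)
    have key : ∀ e, ∀ k ≤ l e, 1 ≤ k → ψ (pathVert ends l e k) =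
        ψ (pathVert ends l e 0) + k * (ψ (pathVert ends l e 1) - ψ (pathVert ends l e 0)) - ((k : ℤ) - 1) * x e := by
      intro e k hk hk1
      induction k using Nat.strong_induction_on with
      | _ k ih =>
        rcases k with _ | _ | k
        · omega
        · simp
        · have h1 := hψ (Sum.inr ⟨e, ⟨k, by omega⟩⟩)
          rw [mdeg_bl_inr, Sum.elim_inr, Sum.elim_inr] at h1
          rcases Nat.eq_zero_or_pos k with rfl | hk0
          · simp only [if_true, zero_add] at h1 ⊢
            push_cast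
            linear_combination h1
          · rw [ih k (by omega) (by omega) hk0, ih (k + 1) (by omega) (by omega) (by omega),
              if_neg (show ((⟨k, by omega⟩ : Fin (l e - 1)) : ℕ) ≠ 0 from hk0.ne'), add_zero] at h1
            push_cast at h1 ⊢
            linear_combination h1
    refine ⟨fun e => x e - (ψ (pathVert ends l e 1) - ψ (pathVert ends l e 0)), fun γ hγ => ?_⟩
    refine orth_of_coboundary (f := fun v => ψ (Sum.inl v)) (fun e => ?_) hγ
    show x e = ψ (Sum.inl (ends e).2) - ψ (Sum.inl (ends e).1) + _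
    rw [← pathVert_end (ends := ends) hl e, ← pathVert_zero (ends := ends) (l := l) e, key e (l e) le_rfl (hl e)]
    ring
  · intro h β
    let b : E → ℕ → ℤ := fun e j => if hj : j ≠ 0 ∧ j < l e then β (Sum.inr ⟨e, ⟨j - 1, by omega⟩⟩) else 0
    obtain ⟨f, y, hfy⟩ := exists_coboundary_add hl h (fun e => -acc (b e) (l e))
    let ψ : BlVert V E l → ℤ := Sum.elim f fun p => f (ends p.1).1 + ((p.2.val : ℤ) + 1) * (-y p.1) - acc (b p.1) (p.2.val + 1)
    have hψ : ∀ e, ∀ j ≤ l e, ψ (pathVert ends l e j) = f (ends e).1 + (j : ℤ) * (-y e) - acc (b e) j := by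
      intro e j hj
      by_cases h0 : j = 0
      · subst h0
        simp [pathVert_zero, ψ, acc]
      by_cases hjl : j < l e
      · obtain ⟨i, rfl⟩ : ∃ i, j = i + 1 := ⟨j - 1, by omega⟩
        rw [show pathVert ends l e (i + 1) = Sum.inr ⟨e, ⟨i, by omega⟩⟩ from pathVert_mid e ⟨i, by omega⟩]
        simp [ψ]
      · obtain rfl : j = l e := by omega
        rw [pathVert_end hl]
        simp only [ψ, Sum.elim_inl]
        linear_combination -(hfy e)
    refine ⟨ψ, fun v => mdeg (blEnds ends l) (fun _ => 1) ψ (Sum.inl v) + β (Sum.inl v), fun w => ?_⟩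
    rcases w with v | ⟨e, i⟩
    · rfl
    · have hi := i.isLt
      rw [mdeg_bl_inr, hψ e _ (by omega), hψ e _ (by omega), hψ e _ (by omega), Sum.elim_inr]
      have hb : b e (i.val + 1) = β (Sum.inr ⟨e, i⟩) := dif_pos ⟨by omega, by omega⟩
      have := acc_step (b e) i.val
      rw [hb] at this
      push_cast
      linear_combination -this

theorem mem_span_elementary (hl : ∀ e, 0 < l e) {f : V → ℤ} (hf : IsCartier ends l f) :
    f ∈ Submodule.span ℤ {g : V → ℤ | ∃ n : ℕ, 0 < n ∧ (∀ v, (n : ℤ) ∣ g v) ∧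
      ∀ e, ¬ (l e ∣ n) → g (ends e).1 = g (ends e).2} := by
  set Sp := Submodule.span ℤ {g : V → ℤ | ∃ n : ℕ, 0 < n ∧ (∀ v, (n : ℤ) ∣ g v) ∧
      ∀ e, ¬ (l e ∣ n) → g (ends e).1 = g (ends e).2}
  set N := ∏ e, l e
  have hN : 0 < N := prod_pos fun e _ => hl e
  -- the component prime to `p`
  have key : ∀ p : ℕ, p.Prime → ((ordCompl[p] N : ℕ) : ℤ) • f ∈ Sp := by
    intro p hp
    set M := ordCompl[p] N
    set K := N.factorization p
    have hMpos : 0 < M := Nat.ordCompl_pos p hN.ne'
    have hNMK : p ^ K * M = N := Nat.ordProj_mul_ordCompl_eq_self N p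
    have hdec : (M : ℤ) • f = (fun v => (M : ℤ) * (f v - f v % ((p : ℤ) ^ K))) +
        ∑ k ∈ range K, (fun v => (M : ℤ) * (f v % ((p : ℤ) ^ (k + 1)) - f v % ((p : ℤ) ^ k))) := by
      funext v
      simp only [Pi.add_apply, Finset.sum_apply, Pi.smul_apply, smul_eq_mul, ← mul_sum,
        sum_range_sub (fun k => f v % ((p : ℤ) ^ k)), pow_zero, Int.emod_one]
      ring
    rw [hdec]
    refine Submodule.add_mem _ (Submodule.subset_span ⟨N, hN, fun v => ?_, fun e he => ?_⟩)
      (Submodule.sum_mem _ fun k hk => Submodule.subset_span ⟨M * p ^ k, ?_, fun v => ?_, fun e he => ?_⟩)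
    · rw [← hNMK, mul_comm]
      push_cast
      exact mul_dvd_mul_left _ ⟨f v / (p : ℤ) ^ K, by rw [Int.emod_def]; ring⟩
    · exact absurd (dvd_prod_of_mem _ (mem_univ e)) he
    · exact Nat.mul_pos hMpos (pow_pos hp.pos k)
    · push_cast
      refine mul_dvd_mul_left _ ?_
      rw [Int.dvd_iff_emod_eq_zero, Int.sub_emod, Int.emod_emod_of_dvd _ (pow_dvd_pow _ (Nat.le_succ k)),
        Int.emod_emod, sub_self, Int.zero_emod]
    · have hpk : p ^ (k + 1) ∣ l e := by
        have hlN : l e ∣ M * p ^ K := by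
          rw [mul_comm, hNMK]; exact dvd_prod_of_mem _ (mem_univ e)
        obtain ⟨a, c, ha, hc, hac⟩ := Nat.dvd_mul.1 hlN
        obtain ⟨j, hj, rfl⟩ := (Nat.dvd_prime_pow hp).1 hc
        rw [← hac] at he ⊢
        by_contra hn
        refine he (Nat.mul_dvd_mul ha (pow_dvd_pow _ ?_))
        by_contra hjk
        exact hn ((pow_dvd_pow p (show k + 1 ≤ j by omega)).mul_left a)
      have hd : ((p : ℤ) ^ (k + 1)) ∣ f (ends e).1 - f (ends e).2 :=
        (show ((p : ℤ) ^ (k + 1)) ∣ (l e : ℤ) by exact_mod_cast hpk).trans (hf e)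
      have h1 : f (ends e).1 % (p : ℤ) ^ (k + 1) = f (ends e).2 % (p : ℤ) ^ (k + 1) :=
        Int.emod_eq_emod_iff_emod_sub_eq_zero.2 (Int.emod_eq_zero_of_dvd hd)
      have h0 : f (ends e).1 % (p : ℤ) ^ k = f (ends e).2 % (p : ℤ) ^ k :=
        Int.emod_eq_emod_iff_emod_sub_eq_zero.2 (Int.emod_eq_zero_of_dvd ((pow_dvd_pow _ (Nat.le_succ k)).trans hd))
      show (M : ℤ) * _ = (M : ℤ) * _
      rw [h1, h0]
  let I : Ideal ℤ := Submodule.comap (LinearMap.toSpanSingleton ℤ _ f) Sp
  have hmem : ∀ z : ℤ, z ∈ I ↔ z • f ∈ Sp := fun z => Iff.rfl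
  suffices h1 : (1 : ℤ) ∈ I by simpa using (hmem 1).1 h1
  obtain ⟨d, hd⟩ := (IsPrincipalIdealRing.principal I).principal
  rw [hd, Submodule.mem_span_singleton]
  rcases eq_or_ne d.natAbs 1 with h1 | h1
  · rcases Int.natAbs_eq_iff.1 h1 with rfl | rfl
    · exact ⟨1, rfl⟩
    · exact ⟨-1, rfl⟩
  · obtain ⟨p, hp, hpd⟩ := Nat.exists_prime_and_dvd h1
    have h2 := (hmem _).2 (key p hp)
    rw [hd, Submodule.mem_span_singleton] at h2
    obtain ⟨c, hc⟩ := h2
    exfalso
    refine Nat.not_dvd_ordCompl hp hN.ne' ?_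
    have : (p : ℤ) ∣ ((ordCompl[p] N : ℕ) : ℤ) := by
      rw [← hc, smul_eq_mul]
      exact (Int.natCast_dvd.2 hpd).mul_left c
    exact_mod_cast this

/-- The part of a cycle in one colour is a cycle when circuits are monochrome. -/
theorem bd_colour {L : Type v} {lab : E → L}
    (hcirc : ∀ C : Finset E, IsCircuit ends C → ∀ e ∈ C, ∀ e' ∈ C, lab e = lab e') (c : L) [DecidableEq L] :
    ∀ (n : ℕ) (γ : E → ℤ), (univ.filter fun e => γ e ≠ 0).card ≤ n → (∀ v, bd ends γ v = 0) →
      ∀ v, bd ends (fun e => if lab e = c then γ e else 0) v = 0 := by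
  intro n
  induction n with
  | zero =>
    intro γ h _ v
    have h0 : ∀ e, γ e = 0 := by simpa [filter_eq_empty_iff] using h
    simp [bd, h0]
  | succ n ih =>
    intro γ hcard hγ v
    by_cases hne : ∃ e, γ e ≠ 0
    swap
    · simp only [not_exists, not_not] at hne
      simp [bd, hne]
    obtain ⟨C, hC, hCγ⟩ := exists_circuit_of_cycle hne hγ
    obtain ⟨δ, ⟨e, he⟩, hout, hδ⟩ := exists_cycle (ends := ends) ℤ hC.1 (endCount_circuit hC)
    have heC : e ∈ C := by_contra fun h => he (hout e h)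
    have hlin : ∀ (a b : ℤ) (p q : E → ℤ) (w : V),
        bd ends (fun i => a * p i + b * q i) w = a * bd ends p w + b * bd ends q w := fun a b p q w => by
      rw [show (fun i => a * p i + b * q i) = (fun i => a * p i) + fun i => b * q i from rfl, bd_add]
      congr 1
      · exact bd_map (AddMonoidHom.mulLeft a) p w
      · exact bd_map (AddMonoidHom.mulLeft b) q w
    let γ' : E → ℤ := fun i => δ e * γ i + (-γ e) * δ i
    have h' := ih γ' (by
      have hsub : (univ.filter fun i => γ' i ≠ 0) ⊆ (univ.filter fun i => γ i ≠ 0).erase e := by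
        intro i hi
        simp only [mem_filter, mem_univ, true_and, γ'] at hi
        refine mem_erase.2 ⟨?_, mem_filter.2 ⟨mem_univ _, fun h0 => ?_⟩⟩
        · rintro rfl; exact hi (by ring)
        · exact hi (by rw [h0, hout i (fun hC' => hCγ i hC' h0)]; ring)
      have h1 := card_le_card hsub
      rw [card_erase_of_mem (show e ∈ univ.filter fun i => γ i ≠ 0 from mem_filter.2 ⟨mem_univ _, hCγ e heC⟩)] at h1
      omega)
      (fun w => by rw [hlin, hγ, hδ]; ring) v
    have hδc : bd ends (fun i => if lab i = c then δ i else 0) v = 0 := by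
      by_cases hc : lab e = c
      · rw [show (fun i => if lab i = c then δ i else 0) = δ from funext fun i => ?_]
        · exact hδ v
        · by_cases hiC : i ∈ C
          · rw [if_pos ((hcirc C hC i hiC e heC).trans hc)]
          · simp [hout i hiC]
      · rw [show (fun i => if lab i = c then δ i else 0) = 0 from funext fun i => ?_]
        · exact bd_zero v
        · by_cases hiC : i ∈ C
          · rw [if_neg (fun h => hc ((hcirc C hC e heC i hiC).trans h))]; rfl
          · simp [hout i hiC]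
    rw [show (fun i => if lab i = c then γ' i else 0) =
        fun i => δ e * (if lab i = c then γ i else 0) + (-γ e) * (if lab i = c then δ i else 0) from
      funext fun i => by split_ifs <;> simp [γ'], hlin, hδc, mul_zero, add_zero] at h'
    exact (mul_eq_zero.1 h').resolve_left he

theorem mem_closure_colours {L : Type v} {lab : E → L} {n : E → ℕ} (hconn : Connected ends)
    (hcirc : ∀ C : Finset E, IsCircuit ends C → ∀ e ∈ C, ∀ e' ∈ C, lab e = lab e')
    {f : V → ℤ} (hf : IsCartier ends n f) :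
    f ∈ AddSubmonoid.closure {g : V → ℤ | IsCartier ends n g ∧ (∃ B : Finset E, (∀ e ∈ B, ∀ e' ∈ B, lab e = lab e') ∧ ∀ e, e ∉ B → g (ends e).1 = g (ends e).2)} ∧
    ∀ v₀ : V, f v₀ = 0 →
      f ∈ AddSubmonoid.closure {g : V → ℤ | IsCartier ends n g ∧ (∃ B : Finset E, (∀ e ∈ B, ∀ e' ∈ B, lab e = lab e') ∧ ∀ e, e ∉ B → g (ends e).1 = g (ends e).2) ∧ g v₀ = 0} := by
  classical
  have main : ∀ v₀ : V, (fun v => f v - f v₀) ∈
      AddSubmonoid.closure {g : V → ℤ | IsCartier ends n g ∧ (∃ B : Finset E, (∀ e ∈ B, ∀ e' ∈ B, lab e = lab e') ∧ ∀ e, e ∉ B → g (ends e).1 = g (ends e).2) ∧ g v₀ = 0} := by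
    intro v₀
    have hpot : ∀ c : L, ∃ g : V → ℤ, g v₀ = 0 ∧
        ∀ e, g (ends e).2 - g (ends e).1 = if lab e = c then f (ends e).2 - f (ends e).1 else 0 := fun c =>
      exists_potential hconn _ (fun γ hγ => by
        have h := sum_coboundary (ends := ends) (fun e => if lab e = c then γ e else 0) f
        simp only [← bd_int, bd_colour hcirc c _ γ le_rfl hγ, mul_zero, sum_const_zero] at h
        refine Eq.trans (sum_congr rfl fun e _ => ?_) h
        split_ifs <;> simp) v₀
    choose g hg0 hg using hpot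
    have heq : (fun v => f v - f v₀) = ∑ c ∈ univ.image lab, g c := by
      funext v
      have hd : ∀ e, (f (ends e).1 - ∑ c ∈ univ.image lab, g c (ends e).1) =
          (f (ends e).2 - ∑ c ∈ univ.image lab, g c (ends e).2) := by
        intro e
        have h1 : ∑ c ∈ univ.image lab, (g c (ends e).2 - g c (ends e).1) = f (ends e).2 - f (ends e).1 := by
          simp only [hg, sum_ite_eq, mem_image_of_mem lab (mem_univ e), if_true]
        rw [sum_sub_distrib] at h1
        linear_combination h1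
      have h2 := const_of_edges hconn (g := fun w => f w - ∑ c ∈ univ.image lab, g c w) hd v v₀
      simp only [hg0, sum_const_zero, sub_zero] at h2
      rw [Finset.sum_apply]
      linear_combination h2
    rw [heq]
    refine AddSubmonoid.sum_mem _ fun c _ => AddSubmonoid.subset_closure
      ⟨fun e => ?_, ⟨univ.filter fun e => lab e = c, fun e he e' he' => ((mem_filter.1 he).2).trans (mem_filter.1 he').2.symm,
        fun e he => ?_⟩, hg0 c⟩
    · rw [dvd_sub_comm, hg]
      split_ifs
      · exact dvd_sub_comm.1 (hf e)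
      · exact dvd_zero _
    · have h1 := hg c e
      rw [if_neg (fun hc => he (mem_filter.2 ⟨mem_univ _, hc⟩))] at h1
      linear_combination -h1
  refine ⟨?_, fun v₀ hv₀ => ?_⟩
  · obtain ⟨v₀⟩ := hconn.1
    rw [show f = (fun v => f v - f v₀) + (fun _ => f v₀) from funext fun v => by simp]
    exact add_mem (AddSubmonoid.closure_mono (fun g hg => by exact ⟨hg.1, hg.2.1⟩) (main v₀))
      (AddSubmonoid.subset_closure ⟨fun e => by simp, ∅, by simp, fun e _ => rfl⟩)
  · simpa [hv₀] using main v₀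

end Groth.L15.Cycles
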