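import Mathlib.FieldTheory.Galois.Basic
import Mathlib.FieldTheory.IsAlgClosed.AlgebraicClosure
import Mathlib.FieldTheory.Separable
import Mathlib.Algebra.Central.Defs
import Mathlib.LinearAlgebra.Eigenspace.Minpoly
import Mathlib.LinearAlgebra.FreeModule.Finite.Matrix
import Mathlib.LinearAlgebra.Dimension.Free
import Mathlib.RingTheory.Adjoin.Field
import Mathlib.RingTheory.AdjoinRoot
import Mathlib.Tactic.FieldSimp
import Mathlib.Tactic.Ring

/-!
# Subfields of central division algebras (elementary approach via right vector spaces)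
-/

universe u v w

open Module Polynomial

namespace Groth.L15.CSA

variable {K : Type u} [Field K] {A : Type v} [DivisionRing A] [Algebra K A]

theorem sum_sandwich_eq_zero [Algebra.IsCentral K A] {r : ℕ} {l : Fin r → A} (hl : LinearIndependent K l)
    (a : Fin r → A) (h : ∀ x, ∑ i, a i * x * l i = 0) : a = 0 := by
  suffices ∀ s : Finset (Fin r), ∀ a : Fin r → A, (∀ x, ∑ i ∈ s, a i * x * l i = 0) → ∀ i ∈ s, a i = 0 by
    funext i; exact this Finset.univ a h i (Finset.mem_univ _)
  intro s
  induction s using Finset.induction_on with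
  | empty => simp
  | @insert j s hj ih =>
    intro a h
    by_cases ha : a j = 0
    · have h' : ∀ x, ∑ i ∈ s, a i * x * l i = 0 := fun x => by
        simpa [Finset.sum_insert hj, ha] using h x
      intro i hi
      rcases Finset.mem_insert.1 hi with rfl | hi
      exacts [ha, ih a h' i hi]
    exfalso
    set b : Fin r → A := fun i => (a j)⁻¹ * a i with hbdef
    have hb : ∀ x, ∑ i ∈ insert j s, b i * x * l i = 0 := fun x => by
      simp only [hbdef, mul_assoc] at *
      rw [← Finset.mul_sum, h, mul_zero]
    have hbj : b j = 1 := inv_mul_cancel₀ ha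
    have hc : ∀ i ∈ insert j s, b i ∈ Subalgebra.center K A := by
      intro i hi
      rw [Subalgebra.mem_center_iff]
      intro c
      rcases Finset.mem_insert.1 hi with rfl | hi
      · simp [hbj]
      have := ih (fun i => b i * c - c * b i) (fun x => by
        have h1 := hb (c * x)
        have h2 := congrArg (c * ·) (hb x)
        simp only [Finset.mul_sum, mul_zero, Finset.sum_insert hj, hbj, one_mul, mul_add, ← mul_assoc] at h1 h2
        simp only [sub_mul, Finset.sum_sub_distrib]
        exact sub_eq_zero.2 (add_left_cancel (h1.trans h2.symm))) i hi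
      exact (sub_eq_zero.1 this).symm
    have hk : ∀ i ∈ insert j s, ∃ k : K, algebraMap K A k = b i := fun i hi => by
      have := Algebra.IsCentral.out (K := K) (D := A) (hc i hi)
      rwa [Algebra.mem_bot] at this
    choose! k hk using hk
    have hrel : ∑ i ∈ insert j s, k i • l i = 0 := by
      rw [← hb 1]
      refine Finset.sum_congr rfl fun i hi => ?_
      rw [mul_one, Algebra.smul_def, hk i hi]
    have h0 := linearIndependent_iff'.1 hl _ k hrel j (Finset.mem_insert_self _ _)
    have h1 := hk j (Finset.mem_insert_self _ _)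
    rw [h0, map_zero, hbj] at h1
    exact zero_ne_one h1

section Right

variable {L : Type w} [Field L] [Algebra K L]

set_option linter.unusedVariables false in
/-- `A` as a right vector space over the subfield `ι L`. -/
def RMod (ι : L →ₐ[K] A) : Type v := A

variable (ι : L →ₐ[K] A)

instance : AddCommGroup (RMod ι) := inferInstanceAs (AddCommGroup A)
instance : Module K (RMod ι) := inferInstanceAs (Module K A)
instance [FiniteDimensional K A] : Module.Finite K (RMod ι) := inferInstanceAs (Module.Finite K A)

/-- The underlying element. -/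
def RMod.val (x : RMod ι) : A := x

/-- The inverse of `RMod.val`. -/
def RMod.mk (x : A) : RMod ι := x

instance : Nontrivial (RMod ι) := inferInstanceAs (Nontrivial A)

instance : SMul L (RMod ι) := ⟨fun l x => RMod.mk ι (RMod.val ι x * ι l)⟩

theorem RMod.smul_val (l : L) (x : RMod ι) : RMod.val ι (l • x) = RMod.val ι x * ι l := rfl

theorem RMod.ext {x y : RMod ι} (h : RMod.val ι x = RMod.val ι y) : x = y := h

instance : Module L (RMod ι) where
  one_smul x := RMod.ext ι (by rw [RMod.smul_val, map_one, mul_one])
  mul_smul l m x := RMod.ext ι (by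
    rw [RMod.smul_val, RMod.smul_val, RMod.smul_val, mul_assoc, ← map_mul, mul_comm l m])
  smul_zero l := RMod.ext ι (show (0 : A) * ι l = 0 by rw [zero_mul])
  smul_add l x y := RMod.ext ι (show (RMod.val ι x + RMod.val ι y) * ι l = _ by rw [add_mul]; rfl)
  add_smul l m x := RMod.ext ι (show RMod.val ι x * ι (l + m) = _ by rw [map_add, mul_add]; rfl)
  zero_smul x := RMod.ext ι (show RMod.val ι x * ι 0 = 0 by rw [map_zero, mul_zero])

instance : IsScalarTower K L (RMod ι) :=
  ⟨fun k l x => RMod.ext ι (show RMod.val ι x * ι (k • l) = k • (RMod.val ι x * ι l) by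
    rw [map_smul, mul_smul_comm])⟩

/-- Left multiplication, linear over the subfield acting on the right. -/
def lmul : A →ₐ[K] Module.End L (RMod ι) where
  toFun a :=
    { toFun := fun x => RMod.mk ι (a * RMod.val ι x)
      map_add' := fun x y => RMod.ext ι (show a * (RMod.val ι x + RMod.val ι y) = _ by rw [mul_add]; rfl)
      map_smul' := fun l x => RMod.ext ι (show a * (RMod.val ι x * ι l) = a * RMod.val ι x * ι l by
        rw [mul_assoc]) }
  map_one' := LinearMap.ext fun x => RMod.ext ι (one_mul (RMod.val ι x))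
  map_mul' a b := LinearMap.ext fun x => RMod.ext ι (mul_assoc a b (RMod.val ι x))
  map_zero' := LinearMap.ext fun x => RMod.ext ι (zero_mul (RMod.val ι x))
  map_add' a b := LinearMap.ext fun x => RMod.ext ι (add_mul a b (RMod.val ι x))
  commutes' k := LinearMap.ext fun x => RMod.ext ι (show algebraMap K A k * RMod.val ι x = RMod.val ι (k • x) by
    rw [← Algebra.smul_def]; rfl)

theorem lmul_val (a : A) (x : RMod ι) : RMod.val ι (lmul ι a x) = a * RMod.val ι x := rfl

/-- `a ↦ ∑ i, l i • lmul (a i)`. -/
noncomputable def sandwich {r : ℕ} (b : Basis (Fin r) K L) : (Fin r → A) →ₗ[K] Module.End L (RMod ι) where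
  toFun a := ∑ i, b i • lmul ι (a i)
  map_add' a c := by simp [Finset.sum_add_distrib, smul_add]
  map_smul' k a := by
    simp only [Pi.smul_apply, map_smul, RingHom.id_apply, Finset.smul_sum]
    exact Finset.sum_congr rfl fun i _ => smul_comm _ _ _

theorem sandwich_apply {r : ℕ} (b : Basis (Fin r) K L) (a : Fin r → A) :
    sandwich ι b a = ∑ i, b i • lmul ι (a i) := rfl

theorem sandwich_injective [Algebra.IsCentral K A] {r : ℕ} (b : Basis (Fin r) K L) :
    Function.Injective (sandwich ι b) := by
  rw [injective_iff_map_eq_zero]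
  intro a ha
  refine sum_sandwich_eq_zero (l := fun i => ι (b i)) (b.linearIndependent.map' ι.toLinearMap
    (LinearMap.ker_eq_bot.2 ι.toRingHom.injective)) a fun x => ?_
  have h := LinearMap.congr_fun ha (RMod.mk ι x)
  rw [sandwich_apply, LinearMap.sum_apply] at h
  exact h

theorem lmul_linearIndependent [Algebra.IsCentral K A] [FiniteDimensional K L] {n : ℕ} {y : Fin n → A}
    (hy : LinearIndependent K y) : LinearIndependent L (fun j => lmul ι (y j)) := by
  rw [Fintype.linearIndependent_iff]
  intro c hc
  let b := Module.finBasis K L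
  have h1 : sandwich ι b (fun i => ∑ j, b.repr (c j) i • y j) = 0 := by
    rw [sandwich_apply, ← hc]
    simp only [map_sum, map_smul, Finset.smul_sum]
    rw [Finset.sum_comm]
    refine Finset.sum_congr rfl fun j _ => ?_
    conv_rhs => rw [← b.sum_repr (c j), Finset.sum_smul]
    exact Finset.sum_congr rfl fun i _ => by rw [smul_assoc, smul_comm]
  have h2 := sandwich_injective ι b (h1.trans (map_zero _).symm)
  intro j
  apply b.repr.injective
  ext i
  rw [map_zero, Finsupp.zero_apply]
  exact Fintype.linearIndependent_iff.1 hy _ (congrFun h2 i) j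

variable [FiniteDimensional K A]

instance : Module.Finite L (RMod ι) := Module.Finite.of_restrictScalars_finite K L (RMod ι)

theorem finrank_mul_finrank_rmod : finrank K L * finrank L (RMod ι) = finrank K A :=
  Module.finrank_mul_finrank K L (RMod ι)

include ι in
theorem finiteDimensional_subfield : FiniteDimensional K L :=
  FiniteDimensional.of_injective ι.toLinearMap ι.toRingHom.injective

theorem finrank_end : finrank K (Module.End L (RMod ι)) =
    finrank K L * (finrank L (RMod ι) * finrank L (RMod ι)) := by
  rw [← Module.finrank_mul_finrank K L (Module.End L (RMod ι)), Module.finrank_linearMap]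

include ι in
theorem sq_finrank_le [Algebra.IsCentral K A] : finrank K L ^ 2 ≤ finrank K A := by
  haveI := finiteDimensional_subfield ι
  have h := LinearMap.finrank_le_finrank_of_injective (sandwich_injective ι (Module.finBasis K L))
  rw [Module.finrank_pi_fintype, finrank_end] at h
  simp only [Finset.sum_const, Finset.card_univ, Fintype.card_fin, smul_eq_mul] at h
  rw [← finrank_mul_finrank_rmod ι] at h ⊢
  have hr : 0 < finrank K L := finrank_pos
  have hm : 0 < finrank L (RMod ι) := by
    rcases Nat.eq_zero_or_pos (finrank L (RMod ι)) with h0 | h0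
    · have := finrank_mul_finrank_rmod ι
      rw [h0, mul_zero] at this
      exact absurd this.symm (finrank_pos (R := K) (M := A)).ne'
    · exact h0
  rw [sq]
  exact Nat.mul_le_mul_left _ (Nat.le_of_mul_le_mul_right (Nat.le_of_mul_le_mul_left h hr) hm)

theorem sandwich_bijective [Algebra.IsCentral K A] {r : ℕ} (b : Basis (Fin r) K L)
    (h : finrank K L ^ 2 = finrank K A) : Function.Bijective (sandwich ι b) := by
  haveI := finiteDimensional_subfield ι
  refine ⟨sandwich_injective ι b, ?_⟩
  refine (LinearMap.injective_iff_surjective_of_finrank_eq_finrank ?_).1 (sandwich_injective ι b)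
  have hr : finrank K L = r := finrank_eq_card_basis b |>.trans (Fintype.card_fin r)
  rw [Module.finrank_pi_fintype, finrank_end]
  simp only [Finset.sum_const, Finset.card_univ, Fintype.card_fin, smul_eq_mul]
  rw [← h, ← hr]
  have h2 := finrank_mul_finrank_rmod ι
  rw [← h, sq] at h2
  rw [Nat.eq_of_mul_eq_mul_left finrank_pos h2, sq]

end Right

/-- The field generated by an element of a division algebra. -/
noncomputable def adjHom (x : A) : AdjoinRoot (minpoly K x) →ₐ[K] A :=
  Ideal.Quotient.liftₐ (Ideal.span {minpoly K x}) (aeval x) (fun g hg => by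
    obtain ⟨c, rfl⟩ := Ideal.mem_span_singleton'.1 hg
    rw [map_mul, minpoly.aeval, mul_zero])

theorem adjHom_mk (x : A) (P : K[X]) : adjHom (K := K) x (AdjoinRoot.mk _ P) = aeval x P := rfl

section Prime

variable [FiniteDimensional K A] {p : ℕ} [hp : Fact p.Prime]

theorem integral (x : A) : IsIntegral K x := IsIntegral.of_finite K x

theorem natDegree_minpoly [Algebra.IsCentral K A] (hA : finrank K A = p ^ 2) {x : A}
    (hx : x ∉ (algebraMap K A).range) : (minpoly K x).natDegree = p := by
  haveI : Fact (Irreducible (minpoly K x)) := ⟨minpoly.irreducible (integral x)⟩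
  have hr : finrank K (AdjoinRoot (minpoly K x)) = (minpoly K x).natDegree :=
    (AdjoinRoot.powerBasis (minpoly.ne_zero (integral x))).finrank.trans (by simp)
  have h1 := sq_finrank_le (adjHom (K := K) x)
  have h2 : finrank K (AdjoinRoot (minpoly K x)) ∣ p ^ 2 := hA ▸ ⟨_, (finrank_mul_finrank_rmod (adjHom (K := K) x)).symm⟩
  rw [hr, hA] at h1; rw [hr] at h2
  have h3 : (minpoly K x).natDegree ≠ 1 := fun h => hx (minpoly.natDegree_eq_one_iff.1 h)
  obtain ⟨i, hi, hd⟩ := (Nat.dvd_prime_pow hp.out).1 h2
  rw [hd] at h1 h3 ⊢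
  interval_cases i
  · simp at h3
  · exact pow_one p
  · exfalso
    have : p ^ 2 < (p ^ 2) ^ 2 := lt_self_pow₀ (Nat.one_lt_pow two_ne_zero hp.out.one_lt) (by norm_num)
    omega

theorem mem_adjoin_of_commute [Algebra.IsCentral K A] (hA : finrank K A = p ^ 2) {x z : A}
    (hx : x ∉ (algebraMap K A).range) (hc : Commute x z) : z ∈ Algebra.adjoin K {x} := by
  have hcomm : ∀ a ∈ ({x, z} : Set A), ∀ b ∈ ({x, z} : Set A), a * b = b * a := by
    rintro a (rfl | rfl) b (rfl | rfl) <;> first | rfl | exact hc | exact hc.symm
  set S := Algebra.adjoin K ({x, z} : Set A) with hS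
  letI : CommRing S := Algebra.adjoinCommRingOfComm (R := K) hcomm
  haveI : IsDomain S := Subalgebra.isDomain S
  have hf : IsField S := isField_of_isIntegral_of_isField' (R := K) (S := S) (Field.toIsField K)
  letI : Field S := hf.toField
  have h1 : finrank K S ^ 2 ≤ p ^ 2 := hA ▸ sq_finrank_le S.val
  have h2 : finrank K S ≤ p := (Nat.pow_le_pow_iff_left two_ne_zero).1 h1
  haveI : Fact (Irreducible (minpoly K x)) := ⟨minpoly.irreducible (integral x)⟩
  have hr : finrank K (AdjoinRoot (minpoly K x)) = p := by
    rw [(AdjoinRoot.powerBasis (minpoly.ne_zero (integral x))).finrank]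
    simpa using natDegree_minpoly hA hx
  have hxS : x ∈ S := Algebra.subset_adjoin (by simp)
  have hle : Algebra.adjoin K {x} ≤ S := Algebra.adjoin_mono (by simp)
  have hrange : (adjHom (K := K) x).range = Algebra.adjoin K {x} := by
    rw [Algebra.adjoin_singleton_eq_range_aeval]
    apply le_antisymm
    · rintro _ ⟨y, rfl⟩
      obtain ⟨P, rfl⟩ := AdjoinRoot.mk_surjective y
      exact ⟨P, (adjHom_mk x P).symm⟩
    · rintro _ ⟨P, rfl⟩
      exact ⟨AdjoinRoot.mk _ P, adjHom_mk x P⟩
  have h3 : finrank K (Algebra.adjoin K {x}) = p := by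
    rw [← hrange, ← hr]
    exact (AlgEquiv.ofInjective _ (adjHom (K := K) x).toRingHom.injective).toLinearEquiv.finrank_eq.symm
  have h4 : Subalgebra.toSubmodule (Algebra.adjoin K {x}) = Subalgebra.toSubmodule S :=
    Submodule.eq_of_le_of_finrank_le hle (by
      rw [Subalgebra.finrank_toSubmodule, Subalgebra.finrank_toSubmodule, h3]; exact h2)
  have : z ∈ Subalgebra.toSubmodule S := Algebra.subset_adjoin (by simp)
  rwa [← h4] at this

end Prime

theorem semiconj_aeval {y a b : A} (h : y * a = b * y) (P : K[X]) : y * aeval a P = aeval b P * y := by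
  induction P using Polynomial.induction_on' with
  | add f g hf hg => simp [mul_add, add_mul, hf, hg]
  | monomial n k =>
    rw [aeval_monomial, aeval_monomial, ← mul_assoc, ← Algebra.commutes k y, mul_assoc, mul_assoc,
      (show SemiconjBy y a b from h).pow_right n]

theorem mem_range_of_sep_pow (p : ℕ) [Fact p.Prime] [CharP K p] {y : A} (hs : IsSeparable K y)
    (hy : y ^ p ∈ (algebraMap K A).range) : y ∈ (algebraMap K A).range := by
  classical
  obtain ⟨k, hk⟩ := hy
  have hi : IsIntegral K y := hs.isIntegral
  rw [RingHom.mem_range]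
  apply minpoly.natDegree_eq_one_iff.1
  set m := minpoly K y
  have hdvd : m ∣ X ^ p - C k := minpoly.dvd K y (by simp [hk])
  set Ω := AlgebraicClosure K
  have hsplit : (m.map (algebraMap K Ω)).Splits := IsAlgClosed.splits _
  rw [← natDegree_map (algebraMap K Ω), hsplit.natDegree_eq_card_roots]
  obtain ⟨s, hs0⟩ := IsAlgClosed.exists_pow_nat_eq (algebraMap K Ω k) (Fact.out : p.Prime).pos
  haveI : CharP Ω p := charP_of_injective_algebraMap (algebraMap K Ω).injective p
  have hroot : ∀ z ∈ (m.map (algebraMap K Ω)).roots, z = s := by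
    intro z hz
    obtain ⟨c, hc⟩ := hdvd
    have h0 := (mem_roots'.1 hz).2
    have h1 : ((X ^ p - C k).map (algebraMap K Ω)).eval z = 0 := by
      rw [hc, Polynomial.map_mul, eval_mul, h0.eq_zero, zero_mul]
    simp only [Polynomial.map_sub, Polynomial.map_pow, map_X, map_C, eval_sub, eval_pow, eval_X, eval_C] at h1
    rw [sub_eq_zero, ← hs0] at h1
    exact frobenius_inj Ω p h1
  have hnd : (m.map (algebraMap K Ω)).roots.Nodup := nodup_roots (Separable.map hs)
  have hne : (m.map (algebraMap K Ω)).roots ≠ 0 := by
    intro h0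
    have := hsplit.natDegree_eq_card_roots
    rw [h0, natDegree_map] at this
    exact (minpoly.natDegree_pos hi).ne' this
  obtain ⟨z, hz⟩ := Multiset.exists_mem_of_ne_zero hne
  have : (m.map (algebraMap K Ω)).roots = Multiset.replicate _ s := Multiset.eq_replicate_card.2 hroot
  rw [this] at hnd
  have h2 := Multiset.nodup_iff_count_le_one.1 hnd s
  rw [Multiset.count_replicate_self] at h2
  have h3 : 0 < Multiset.card (m.map (algebraMap K Ω)).roots := Multiset.card_pos.2 hne
  omega

/-- Skolem–Noether for a cyclic subfield of degree `p`, giving an inseparable element. -/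
theorem exists_inseparable_of_galois (p : ℕ) [Fact p.Prime] [CharP K p] [Algebra.IsCentral K A]
    [FiniteDimensional K A] (hA : finrank K A = p ^ 2) {L : Type w} [Field L] [Algebra K L] [IsGalois K L]
    (hL : finrank K L = p) (ι : L →ₐ[K] A) : ∃ v : A, ¬ IsSeparable K v := by
  classical
  have hp : p.Prime := Fact.out
  haveI := finiteDimensional_subfield ι
  obtain ⟨x, hx⟩ : ∃ x : L, x ∉ (algebraMap K L).range := by
    by_contra h
    push Not at h
    have := finrank_eq_one_iff'.2 ⟨(1 : L), one_ne_zero, fun l => by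
      obtain ⟨k, hk⟩ := h l; exact ⟨k, by rw [← hk, Algebra.smul_def, mul_one]⟩⟩
    rw [hL] at this; exact hp.one_lt.ne' this
  have hxA : ι x ∉ (algebraMap K A).range := by
    rintro ⟨k, hk⟩
    exact hx ⟨k, ι.toRingHom.injective (by simpa using hk)⟩
  set f : Module.End L (RMod ι) := lmul ι (ι x) with hf
  set m := minpoly K x with hm
  have hfm : aeval f (m.map (algebraMap K L)) = 0 := by
    rw [aeval_map_algebraMap, hf, aeval_algHom_apply, aeval_algHom_apply, hm, minpoly.aeval, map_zero, map_zero]
  set μ := minpoly L f with hμdef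
  have hfi : IsIntegral L f := IsIntegral.of_finite L f
  have hμdvd : μ ∣ m.map (algebraMap K L) := minpoly.dvd L f hfm
  have hmsplit : (m.map (algebraMap K L)).Splits := Normal.splits inferInstance x
  have hmsep : (m.map (algebraMap K L)).Separable := Separable.map (Algebra.IsSeparable.isSeparable K x)
  have hm0 : m.map (algebraMap K L) ≠ 0 := (Polynomial.map_ne_zero_iff (algebraMap K L).injective).2
    (minpoly.ne_zero (IsIntegral.of_finite K x))
  have hμsplit : μ.Splits := hmsplit.of_dvd hm0 hμdvd
  have hμsep : μ.Separable := hmsep.of_dvd hμdvd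
  obtain ⟨r, hr, hrx⟩ : ∃ r, μ.IsRoot r ∧ r ≠ x := by
    by_contra hcon
    push Not at hcon
    have hroots : μ.roots = Multiset.replicate _ x :=
      Multiset.eq_replicate_card.2 fun z hz => hcon z (isRoot_of_mem_roots hz)
    have hnd := nodup_roots hμsep
    rw [hroots] at hnd
    have h1 := Multiset.nodup_iff_count_le_one.1 hnd x
    rw [Multiset.count_replicate_self, ← hμsplit.natDegree_eq_card_roots] at h1
    have h2 : 0 < μ.natDegree := minpoly.natDegree_pos hfi
    have h3 : μ.natDegree = 1 := by omega
    obtain ⟨c, hc⟩ := minpoly.natDegree_eq_one_iff.1 h3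
    have hμ : μ = X - C c := by rw [hμdef, ← hc]; exact minpoly.eq_X_sub_C _ _
    have hcx : c = x := hcon c (by rw [hμ, IsRoot.def, eval_sub, eval_X, eval_C, sub_self])
    apply hxA
    have hcent : ι x ∈ Subalgebra.center K A := by
      rw [Subalgebra.mem_center_iff]
      intro a
      have := congrArg (RMod.val ι) (LinearMap.congr_fun hc (RMod.mk ι a))
      rw [hcx] at this
      exact this
    have := Algebra.IsCentral.out (K := K) (D := A) hcent
    rwa [Algebra.mem_bot] at this
  obtain ⟨yv, hyv⟩ := (Module.End.hasEigenvalue_of_isRoot hr).exists_hasEigenvector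
  set y : A := RMod.val ι yv with hy
  have hy0 : y ≠ 0 := hyv.2
  have hyeq : ι x * y = y * ι r := congrArg (RMod.val ι) hyv.apply_eq_smul
  have hrm : aeval r m = 0 := by
    obtain ⟨c, hc⟩ := hμdvd
    rw [← eval_map_algebraMap, hc, eval_mul, hr.eq_zero, zero_mul]
  obtain ⟨σ', hσ'⟩ := minpoly.exists_algEquiv_of_root (Algebra.IsAlgebraic.isAlgebraic x) hrm
  obtain ⟨σ, hσ⟩ : ∃ σ : L ≃ₐ[K] L, σ x = r := ⟨σ'.symm, by rw [← hσ']; exact σ'.symm_apply_apply r⟩
  have hadj : Algebra.adjoin K {x} = ⊤ := by
    haveI : IsSimpleOrder (IntermediateField K L) := IntermediateField.isSimpleOrder_of_finrank_prime K L (hL ▸ hp)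
    have h1 : IntermediateField.adjoin K {x} = ⊤ :=
      (eq_bot_or_eq_top _).resolve_left fun h => hx (by
        have := IntermediateField.mem_adjoin_simple_self K x
        rw [h, IntermediateField.mem_bot] at this
        exact this)
    rw [← IntermediateField.adjoin_simple_toSubalgebra_of_isAlgebraic (Algebra.IsAlgebraic.isAlgebraic x), h1,
      IntermediateField.top_toSubalgebra]
  have hconj : ∀ l, ι l * y = y * ι (σ l) := by
    intro l
    obtain ⟨P, rfl⟩ : ∃ P : K[X], aeval x P = l := by
      have : l ∈ Algebra.adjoin K {x} := hadj ▸ Algebra.mem_top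
      rwa [Algebra.adjoin_singleton_eq_range_aeval] at this
    rw [← aeval_algHom_apply ι, show σ (aeval x P) = aeval r P by
      rw [← hσ]; exact (aeval_algHom_apply σ.toAlgHom x P).symm, ← aeval_algHom_apply ι]
    exact (semiconj_aeval hyeq.symm P).symm
  have hconjn : ∀ (n : ℕ) l, ι l * y ^ n = y ^ n * ι ((σ ^ n) l) := by
    intro n
    induction n with
    | zero => intro l; simp
    | succ n ih =>
      intro l
      rw [pow_succ, ← mul_assoc, ih, mul_assoc, hconj, ← mul_assoc, pow_succ', AlgEquiv.mul_apply]
  have hσ1 : σ ≠ 1 := fun h => hrx (by rw [← hσ, h]; rfl)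
  have hcard : Nat.card (L ≃ₐ[K] L) = p := (IsGalois.card_aut_eq_finrank K L).trans hL
  have hσp : σ ^ p = 1 := by rw [← hcard]; exact pow_card_eq_one'
  refine ⟨y, fun hsep => ?_⟩
  have hyK : y ∉ (algebraMap K A).range := by
    rintro ⟨k, hk⟩
    apply hrx
    apply ι.toRingHom.injective
    show ι r = ι x
    apply mul_left_cancel₀ hy0
    rw [← hyeq, ← hk, Algebra.commutes]
  apply hyK
  refine mem_range_of_sep_pow p hsep ?_
  have hcom : Commute (ι x) (y ^ p) := by
    show _ = _
    rw [hconjn, hσp, AlgEquiv.one_apply]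
  have h1 := mem_adjoin_of_commute hA hxA hcom
  rw [← Set.image_singleton, ← AlgHom.map_adjoin, hadj, Algebra.map_top] at h1
  obtain ⟨c, hc⟩ := h1
  change ι c = y ^ p at hc
  have hσc : σ c = c := by
    apply ι.toRingHom.injective
    show ι (σ c) = ι c
    apply mul_left_cancel₀ hy0
    rw [← hconj, hc, ← pow_succ, ← pow_succ']
  have hfix : ∀ g : L ≃ₐ[K] L, g c = c := by
    intro g
    have hg : g ∈ Subgroup.zpowers σ := mem_zpowers_of_prime_card hcard hσ1
    exact MulAction.mem_stabilizer_iff.1 ((Subgroup.zpowers_le (H := MulAction.stabilizer (L ≃ₐ[K] L) c)).2 hσc hg)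
  obtain ⟨k, hk⟩ := (IsGalois.mem_range_algebraMap_iff_fixed c).2 hfix
  exact ⟨k, by rw [← hc, ← hk, AlgHom.commutes]⟩

end Groth.L15.CSA
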