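import Groth.Agent.L15.CSA
import Mathlib.FieldTheory.Galois.Basic
import Mathlib.FieldTheory.SplittingField.IsSplittingField

/-!
# Commutator relations in central division algebras of degree `p`
-/

universe u v

open Module Polynomial

namespace Groth.L15.CSA

variable {K : Type u} [Field K] {A : Type v} [DivisionRing A] [Algebra K A]

theorem adjoin_eq_range (x : A) : Algebra.adjoin K {x} = (adjHom (K := K) x).range := by
  rw [Algebra.adjoin_singleton_eq_range_aeval]
  apply le_antisymm
  · rintro _ ⟨P, rfl⟩; exact ⟨AdjoinRoot.mk _ P, adjHom_mk x P⟩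
  · rintro _ ⟨y, rfl⟩
    obtain ⟨P, rfl⟩ := AdjoinRoot.mk_surjective y
    exact ⟨P, (adjHom_mk x P).symm⟩

variable [FiniteDimensional K A] [Algebra.IsCentral K A] {p : ℕ} [Fact p.Prime] [CharP K p]

theorem exists_galois_subfield_of_semiconj (hA : finrank K A = p ^ 2) {x v : A} (hv : v ≠ 0)
    (hxK : x ∉ (algebraMap K A).range) (h : v * (x - 1) = x * v) :
    ∃ (L : Type v) (_ : Field L) (_ : Algebra K L), IsGalois K L ∧ finrank K L = p ∧
      Nonempty (L →ₐ[K] A) := by
  classical
  have hp : p.Prime := Fact.out
  set m := minpoly K x with hm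
  have hmd : m.natDegree = p := natDegree_minpoly hA hxK
  haveI : Fact (Irreducible m) := ⟨minpoly.irreducible (integral x)⟩
  have hinj : Function.Injective (adjHom (K := K) x) := (adjHom (K := K) x).toRingHom.injective
  have hfr : finrank K (AdjoinRoot m) = p := by
    rw [(AdjoinRoot.powerBasis (minpoly.ne_zero (integral x))).finrank]; simpa using hmd
  haveI : FiniteDimensional K (AdjoinRoot m) := FiniteDimensional.of_finrank_pos (hfr ▸ hp.pos)
  set r := AdjoinRoot.root m with hr
  haveI : CharP (AdjoinRoot m) p := charP_of_injective_algebraMap (algebraMap K (AdjoinRoot m)).injective p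
  have hshift : m.comp (X - 1) = m := by
    have hdeg : (X - 1 : K[X]).natDegree = 1 := by rw [← C_1, natDegree_X_sub_C]
    have hmon : (m.comp (X - 1)).Monic := (minpoly.monic (integral x)).comp (by
      rw [← C_1]; exact monic_X_sub_C 1) (by rw [hdeg]; exact one_ne_zero)
    refine (eq_of_monic_of_dvd_of_natDegree_le (minpoly.monic (integral x)) hmon ?_ ?_)
    · apply minpoly.dvd
      rw [aeval_comp]
      apply mul_left_cancel₀ hv
      rw [map_sub, aeval_X, map_one, semiconj_aeval h m, minpoly.aeval, zero_mul, mul_zero]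
    · rw [natDegree_comp, hdeg, mul_one]
  have hroot : ∀ i : ℕ, aeval (r - i) m = 0 := by
    intro i
    induction i with
    | zero => rw [Nat.cast_zero, sub_zero, hr, AdjoinRoot.aeval_eq, AdjoinRoot.mk_self]
    | succ i ih =>
      have h1 := congrArg (aeval (r - (i : AdjoinRoot m))) hshift
      rw [aeval_comp, map_sub, aeval_X, map_one, ih] at h1
      rw [Nat.cast_succ, ← sub_sub]; exact h1
  set mL := m.map (algebraMap K (AdjoinRoot m)) with hmL
  have hmL0 : mL ≠ 0 := (Polynomial.map_ne_zero_iff (algebraMap K (AdjoinRoot m)).injective).2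
    (minpoly.ne_zero (integral x))
  have hinjp : Set.InjOn (fun i : ℕ => r - (i : AdjoinRoot m)) (Finset.range p) := by
    intro i hi j hj hij
    simp only [Finset.coe_range, Set.mem_Iio] at hi hj
    exact CharP.natCast_injOn_Iio (AdjoinRoot m) p hi hj (sub_right_injective hij)
  set S := (Finset.range p).image (fun i : ℕ => r - (i : AdjoinRoot m)) with hS
  have hScard : S.card = p := by rw [Finset.card_image_of_injOn hinjp, Finset.card_range]
  have hSsub : S ⊆ mL.roots.toFinset := by
    intro z hz
    obtain ⟨i, -, rfl⟩ := Finset.mem_image.1 hz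
    rw [Multiset.mem_toFinset, mem_roots hmL0, IsRoot.def, eval_map_algebraMap]
    exact hroot i
  have hdeg : mL.natDegree = p := by rw [hmL, natDegree_map, hmd]
  have h1 := (Finset.card_le_card hSsub).trans (Multiset.toFinset_card_le _)
  have h2 : Multiset.card mL.roots = p := le_antisymm (hdeg ▸ card_roots' mL) (hScard ▸ h1)
  have hnd : mL.roots.Nodup := by
    rw [← Multiset.toFinset_card_eq_card_iff_nodup]
    exact le_antisymm (Multiset.toFinset_card_le _) (h2 ▸ hScard ▸ Finset.card_le_card hSsub)
  have hspl : mL.Splits := splits_iff_card_roots.2 (h2.trans hdeg.symm)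
  have hsep : m.Separable := (separable_map (algebraMap K (AdjoinRoot m))).1
    ((nodup_roots_iff_of_splits hmL0 hspl).1 hnd)
  haveI : m.IsSplittingField K (AdjoinRoot m) :=
    ⟨hspl, top_le_iff.1 (AdjoinRoot.adjoinRoot_eq_top (f := m) ▸ Algebra.adjoin_mono
      (Set.singleton_subset_iff.2 (mem_rootSet.2 ⟨minpoly.ne_zero (integral x),
        by rw [AdjoinRoot.aeval_eq, AdjoinRoot.mk_self]⟩)))⟩
  haveI : IsGalois K (AdjoinRoot m) := IsGalois.of_separable_splitting_field hsep
  let e := AlgEquiv.ofInjective (adjHom (K := K) x) hinj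
  have hf : IsField (adjHom (K := K) x).range :=
    MulEquiv.isField (Field.toIsField (AdjoinRoot m)) e.symm.toMulEquiv
  letI : CommRing (adjHom (K := K) x).range :=
    { (inferInstance : Ring (adjHom (K := K) x).range) with mul_comm := hf.mul_comm }
  letI : Field (adjHom (K := K) x).range := hf.toField
  refine ⟨(adjHom (K := K) x).range, inferInstance, inferInstance, ?_, ?_, ⟨(adjHom (K := K) x).range.val⟩⟩
  · exact IsGalois.of_algEquiv e
  · rw [← hfr]; exact e.toLinearEquiv.finrank_eq.symm

theorem exists_galois_of_commutator (hA : finrank K A = p ^ 2) {v u : A} (hvu : v * u - u * v = 1) :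
    ∃ (L : Type v) (_ : Field L) (_ : Algebra K L), IsGalois K L ∧ finrank K L = p ∧
      Nonempty (L →ₐ[K] A) := by
  have hv : v ≠ 0 := by rintro rfl; simp at hvu
  have h : v * (v * u - 1) = v * u * v := by
    have : v * u - 1 = u * v := by rw [← hvu]; abel
    rw [this, mul_assoc]
  refine exists_galois_subfield_of_semiconj hA hv ?_ h
  rintro ⟨k, hk⟩
  have h2 : v * (v * u - 1) = v * (v * u) := by
    rw [h, ← hk, Algebra.commutes]
  have := mul_left_cancel₀ hv h2
  exact one_ne_zero (sub_eq_self.1 this)

theorem exists_inseparable_of_two (hA : finrank K A = p ^ 2) (hp2 : p = 2) :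
    ∃ v : A, ¬ IsSeparable K v := by
  obtain ⟨x, hx⟩ : ∃ x : A, x ∉ (algebraMap K A).range := by
    by_contra h
    push Not at h
    have := finrank_eq_one_iff'.2 ⟨(1 : A), one_ne_zero, fun a => by
      obtain ⟨k, hk⟩ := h a; exact ⟨k, by rw [← hk, Algebra.smul_def, mul_one]⟩⟩
    rw [hA, hp2] at this; norm_num at this
  by_cases hs : IsSeparable K x
  swap
  · exact ⟨x, hs⟩
  set m := minpoly K x with hm
  haveI : Fact (Irreducible m) := ⟨minpoly.irreducible (integral x)⟩
  have hfr : finrank K (AdjoinRoot m) = p := by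
    rw [(AdjoinRoot.powerBasis (minpoly.ne_zero (integral x))).finrank]
    simpa using natDegree_minpoly hA hx
  haveI : FiniteDimensional K (AdjoinRoot m) := FiniteDimensional.of_finrank_pos (by rw [hfr, hp2]; norm_num)
  haveI : Algebra.IsQuadraticExtension K (AdjoinRoot m) := { finrank_eq_two' := hfr.trans hp2 }
  haveI : Algebra.IsSeparable K (AdjoinRoot m) := by
    have hrs : IsSeparable K (AdjoinRoot.root m) := by
      apply hs.of_dvd
      apply minpoly.dvd
      rw [AdjoinRoot.aeval_eq, AdjoinRoot.mk_self]
    haveI := IntermediateField.isSeparable_adjoin_simple_iff_isSeparable K (AdjoinRoot m) |>.2 hrs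
    rw [IntermediateField.adjoin_root_eq_top] at this
    exact AlgEquiv.Algebra.isSeparable IntermediateField.topEquiv
  exact exists_inseparable_of_galois p hA hfr (adjHom (K := K) x)

end Groth.L15.CSA
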