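import Groth.Agent.L15.CSA
import Mathlib.Algebra.CharP.Algebra
import Mathlib.RingTheory.Polynomial.Basic

/-!
# An inseparable element and a commutator partner
-/

universe u v

open Module Polynomial

namespace Groth.L15.CSA

variable {K : Type u} [Field K] {A : Type v} [DivisionRing A] [Algebra K A] [FiniteDimensional K A]
  [Algebra.IsCentral K A] {p : ℕ} [Fact p.Prime]

omit [Algebra.IsCentral K A] [Fact p.Prime] in
theorem finrank_dvd (B : Subalgebra K A) : finrank K B ∣ finrank K A := by
  haveI : IsDomain B := Subalgebra.isDomain B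
  letI : DivisionRing B := divisionRingOfFiniteDimensional K B
  exact ⟨_, (Module.finrank_mul_finrank K B A).symm⟩

theorem adjoin_pair_eq_top (hA : finrank K A = p ^ 2) {v u : A} (h : ¬ Commute v u) :
    Algebra.adjoin K {v, u} = ⊤ := by
  have hp : p.Prime := Fact.out
  set B := Algebra.adjoin K ({v, u} : Set A) with hB
  have hvK : v ∉ (algebraMap K A).range := by
    rintro ⟨k, rfl⟩; exact h (Algebra.commutes k u)
  have hle : Algebra.adjoin K {v} ≤ B := Algebra.adjoin_mono (by simp)
  have hv1 : finrank K (Algebra.adjoin K {v}) = p := by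
    rw [Algebra.adjoin_singleton_eq_range_aeval]
    haveI : Fact (Irreducible (minpoly K v)) := ⟨minpoly.irreducible (integral v)⟩
    have h1 : (adjHom (K := K) v).range = (aeval v).range := by
      apply le_antisymm
      · rintro _ ⟨y, rfl⟩
        obtain ⟨P, rfl⟩ := AdjoinRoot.mk_surjective y
        exact ⟨P, (adjHom_mk v P).symm⟩
      · rintro _ ⟨P, rfl⟩; exact ⟨AdjoinRoot.mk _ P, adjHom_mk v P⟩
    rw [← h1, ← (AlgEquiv.ofInjective _ (adjHom (K := K) v).toRingHom.injective).toLinearEquiv.finrank_eq,
      (AdjoinRoot.powerBasis (minpoly.ne_zero (integral v))).finrank]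
    simpa using natDegree_minpoly hA hvK
  have hne : Subalgebra.toSubmodule (Algebra.adjoin K {v}) ≠ Subalgebra.toSubmodule B := by
    intro he
    have hu : u ∈ Subalgebra.toSubmodule B := Algebra.subset_adjoin (by simp)
    rw [← he, Subalgebra.mem_toSubmodule, Algebra.adjoin_singleton_eq_range_aeval] at hu
    obtain ⟨P, hP⟩ := hu
    apply h
    rw [← hP]
    show v * _ = _ * v
    exact semiconj_aeval rfl P
  have hlt : p < finrank K B := by
    rw [← hv1]
    exact Submodule.finrank_lt_finrank_of_lt (lt_of_le_of_ne hle hne)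
  have hd : finrank K B ∣ p ^ 2 := hA ▸ finrank_dvd B
  obtain ⟨i, hi, hd⟩ := (Nat.dvd_prime_pow hp).1 hd
  have hfull : finrank K B = finrank K A := by
    rw [hd] at hlt
    interval_cases i
    · simp at hlt; have := hp.one_lt; omega
    · simp at hlt
    · rw [hd, hA]
  rw [← Algebra.toSubmodule_eq_top]
  exact Submodule.eq_top_of_finrank_eq hfull

theorem exists_commutator_pair [CharP K p] (hA : finrank K A = p ^ 2) {v : A} (hv : ¬ IsSeparable K v) :
    ∃ v u : A, v ^ p ∈ (algebraMap K A).range ∧ u ^ p ∈ (algebraMap K A).range ∧ v * u - u * v = 1 ∧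
      Algebra.adjoin K {v, u} = ⊤ := by
  have hp : p.Prime := Fact.out
  have hvK : v ∉ (algebraMap K A).range := by
    rintro ⟨k, rfl⟩; exact hv (isSeparable_algebraMap k)
  set m := minpoly K v with hm
  have hmd : m.natDegree = p := natDegree_minpoly hA hvK
  have hder : derivative m = 0 := by
    by_contra h0
    exact hv ((separable_iff_derivative_ne_zero (minpoly.irreducible (integral v))).2 h0)
  have hvp : v ^ p ∈ (algebraMap K A).range := by
    refine ⟨-m.coeff 0, ?_⟩
    have h0 := minpoly.aeval K v
    rw [← hm, aeval_eq_sum_range, hmd, Finset.sum_range_succ, Finset.sum_eq_single_of_mem 0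
      (Finset.mem_range.2 hp.pos), pow_zero, ← Algebra.algebraMap_eq_smul_one] at h0
    · rw [← hmd, (minpoly.monic (integral v)).coeff_natDegree, one_smul, hmd] at h0
      rw [map_neg]; exact (eq_neg_of_add_eq_zero_right h0).symm
    · intro i hi hi0
      have h1 := congrArg (fun f => f.coeff (i - 1)) hder
      simp only [coeff_derivative, coeff_zero] at h1
      rw [show i - 1 + 1 = i by omega, mul_eq_zero] at h1
      rcases h1 with h1 | h1
      · rw [h1, zero_smul]
      · exfalso
        rw [← Nat.cast_add_one, show i - 1 + 1 = i by omega, CharP.cast_eq_zero_iff K p] at h1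
        exact absurd (Nat.le_of_dvd (by omega) h1) (by have := Finset.mem_range.1 hi; omega)
  haveI : CharP (Module.End K A) p :=
    charP_of_injective_algebraMap (algebraMap K (Module.End K A)).injective p
  let D : A → Module.End K A := fun a => LinearMap.mulLeft K a - LinearMap.mulRight K a
  have hDp : ∀ a : A, D a ^ p = D (a ^ p) := by
    intro a
    show (_ - _) ^ p = _ - _
    rw [sub_pow_char_of_commute p (LinearMap.commute_mulLeft_right (R := K) a a), LinearMap.pow_mulLeft, LinearMap.pow_mulRight]
  have hD0 : ∀ a x : A, D a x = a * x - x * a := fun a x => rfl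
  have hK : ∀ a ∈ (algebraMap K A).range, D a = 0 := by
    rintro _ ⟨k, rfl⟩; ext x; rw [hD0, Algebra.commutes, sub_self]; rfl
  obtain ⟨z, hz, hz2⟩ : ∃ z, D v z ≠ 0 ∧ D v (D v z) = 0 := by
    have hD : D v ≠ 0 := by
      intro h0
      apply hvK
      have hc : v ∈ Subalgebra.center K A := Subalgebra.mem_center_iff.2 fun a =>
        (sub_eq_zero.1 (LinearMap.congr_fun h0 a)).symm
      have := Algebra.IsCentral.out (K := K) (D := A) hc
      rwa [Algebra.mem_bot] at this
    have hn : IsNilpotent (D v) := ⟨p, by rw [hDp, hK _ hvp]⟩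
    set n := nilpotencyClass (D v) with hn'
    have h2 : 2 ≤ n := by
      by_contra hlt
      push Not at hlt
      have h1 := pow_nilpotencyClass hn
      rw [← hn'] at h1
      interval_cases n
      · rw [pow_zero] at h1
        exact one_ne_zero h1
      · rw [pow_one] at h1; exact hD h1
    have hne := pow_pred_nilpotencyClass hn
    obtain ⟨w, hw⟩ : ∃ w, (D v ^ (n - 1)) w ≠ 0 := by
      by_contra hall
      push Not at hall
      exact hne (LinearMap.ext hall)
    refine ⟨(D v ^ (n - 2)) w, ?_, ?_⟩
    · rw [← Module.End.mul_apply, ← pow_succ', show n - 2 + 1 = n - 1 by omega]; exact hw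
    · rw [← Module.End.mul_apply, ← Module.End.mul_apply, ← pow_two, ← pow_add,
        show 2 + (n - 2) = n by omega, hn', pow_nilpotencyClass hn]; rfl
  set c := D v z with hc
  have hcv : Commute c v := (sub_eq_zero.1 (hD0 v c ▸ hz2)).symm
  set u := c⁻¹ * z with hu
  have hvu : v * u - u * v = 1 := by
    rw [hu, ← mul_assoc, ← (hcv.inv_left₀).eq, mul_assoc, mul_assoc, ← mul_sub, ← hD0, ← hc, inv_mul_cancel₀ hz]
  have hncomm : ¬ Commute v u := fun hh => one_ne_zero (hvu ▸ sub_eq_zero.2 hh.eq)
  have htop := adjoin_pair_eq_top hA hncomm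
  refine ⟨v, u, hvp, ?_, hvu, htop⟩
  have h1 : D (u ^ p) v = 0 := by
    have hu1 : D u v = -1 := by rw [hD0, ← hvu, neg_sub]
    rw [← hDp, show p = p - 2 + 2 by have := hp.two_le; omega, pow_add, Module.End.mul_apply, pow_two,
      Module.End.mul_apply, hu1, hD0, mul_neg, neg_mul, mul_one, one_mul, sub_self, map_zero]
  have hcent : u ^ p ∈ Subalgebra.center K A := by
    rw [Subalgebra.mem_center_iff]
    intro a
    have : Algebra.adjoin K {v, u} ≤ Subalgebra.centralizer K {u ^ p} := by
      apply Algebra.adjoin_le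
      rintro y (rfl | rfl) z hzz
      · rw [Set.mem_singleton_iff.1 hzz]; exact sub_eq_zero.1 h1
      · rw [Set.mem_singleton_iff.1 hzz]; exact ((Commute.refl _).pow_left p).eq
    exact ((htop ▸ this) Algebra.mem_top (u ^ p) rfl).symm
  have := Algebra.IsCentral.out (K := K) (D := A) hcent
  rwa [Algebra.mem_bot] at this

end Groth.L15.CSA
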