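import Groth.Agent.L15.CSA
import Mathlib.Algebra.CharP.Algebra
import Mathlib.LinearAlgebra.Matrix.Charpoly.Coeff
import Mathlib.LinearAlgebra.Charpoly.ToMatrix
import Mathlib.LinearAlgebra.Trace
import Mathlib.LinearAlgebra.Matrix.Determinant.Basic
import Mathlib.Tactic.LinearCombination

/-!
# A cubic division algebra in characteristic three has an inseparable element

Descent (Springer) for the trace form `a ↦ tr (a * a)` on trace zero elements.
-/

universe u v

open Module Polynomial

namespace Groth.L15.CSA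

theorem derivative_charpoly_eq_zero {F : Type u} [Field F] [CharP F 3] (M : Matrix (Fin 3) (Fin 3) F)
    (h1 : M.trace = 0) (h2 : (M * M).trace = 0) : derivative M.charpoly = 0 := by
  set e2 := M 0 0 * M 1 1 + M 0 0 * M 2 2 + M 1 1 * M 2 2 - M 0 1 * M 1 0 - M 0 2 * M 2 0 - M 1 2 * M 2 1
    with he2
  have hexp : M.charpoly = X ^ 3 - C M.trace * X ^ 2 + C e2 * X - C M.det := by
    simp [Matrix.charpoly, Matrix.det_fin_three, Matrix.trace_fin_three, Matrix.charmatrix_apply, he2]
    ring
  have h2e : (2 : F) * e2 = M.trace * M.trace - (M * M).trace := by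
    simp [Matrix.trace_fin_three, Matrix.mul_apply, Fin.sum_univ_three, he2]; ring
  rw [h1, h2, mul_zero, sub_zero, mul_eq_zero] at h2e
  have h20 : (2 : F) ≠ 0 := by
    intro h
    have : ((2 : ℕ) : F) = 0 := by exact_mod_cast h
    rw [CharP.cast_eq_zero_iff F 3] at this
    norm_num at this
  have h30 : (3 : F) = 0 := by exact_mod_cast CharP.cast_eq_zero F 3
  rw [hexp, h1, h2e.resolve_left h20]
  simp [derivative_X_pow, h30]
  rw [← C_1, ← C_add, show (2 : F) + 1 = 0 by linear_combination h30, C_0]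

variable {K : Type u} [Field K] [CharP K 3] {A : Type v} [DivisionRing A] [Algebra K A]
  [FiniteDimensional K A] [Algebra.IsCentral K A]

theorem exists_inseparable_of_three (hA : finrank K A = 3 ^ 2) : ∃ v : A, ¬ IsSeparable K v := by
  classical
  haveI : Fact (Nat.Prime 3) := ⟨Nat.prime_three⟩
  by_contra hsep
  push Not at hsep
  obtain ⟨x, hx⟩ : ∃ x : A, x ∉ (algebraMap K A).range := by
    by_contra h
    push Not at h
    have := finrank_eq_one_iff'.2 ⟨(1 : A), one_ne_zero, fun a => by
      obtain ⟨k, hk⟩ := h a; exact ⟨k, by rw [← hk, Algebra.smul_def, mul_one]⟩⟩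
    rw [hA] at this; norm_num at this
  set m := minpoly K x with hm
  haveI : Fact (Irreducible m) := ⟨minpoly.irreducible (integral x)⟩
  have hmd : m.natDegree = 3 := natDegree_minpoly hA hx
  set L := AdjoinRoot m
  set ι : L →ₐ[K] A := adjHom (K := K) x
  set pb := AdjoinRoot.powerBasis (minpoly.ne_zero (integral (K := K) x))
  have hdim : pb.dim = 3 := hmd
  let b : Basis (Fin 3) K L := pb.basis.reindex (finCongr hdim)
  set α : L := AdjoinRoot.root m
  have hb : ∀ i, b i = α ^ (i : ℕ) := fun i => by simp [b, pb, α]; rfl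
  haveI : FiniteDimensional K L := pb.finite
  have hLr : finrank K L = 3 := pb.finrank.trans hdim
  have hV : finrank L (RMod ι) = 3 := by
    have := finrank_mul_finrank_rmod ι
    rw [hLr, hA] at this
    omega
  let bV := Module.finBasisOfFinrankEq L (RMod ι) hV
  set ρ := lmul ι with hρ
  haveI : CharP L 3 := charP_of_injective_algebraMap (algebraMap K L).injective 3
  have h30 : (3 : L) = 0 := by exact_mod_cast CharP.cast_eq_zero L 3
  -- characteristic polynomials
  have hchar : ∀ a, a ∉ (algebraMap K A).range → (ρ a).charpoly = (minpoly K a).map (algebraMap K L) := by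
    intro a ha
    have had : (minpoly K a).natDegree = 3 := natDegree_minpoly hA ha
    set Q := (ρ a).charpoly - (minpoly K a).map (algebraMap K L) with hQ
    rw [← sub_eq_zero]
    have hann : aeval (ρ a) Q = 0 := by
      rw [hQ, map_sub, LinearMap.aeval_self_charpoly, aeval_map_algebraMap, aeval_algHom_apply, minpoly.aeval, map_zero, sub_zero]
    have hli : LinearIndependent L (fun i : Fin 3 => ρ (a ^ (i : ℕ))) :=
      lmul_linearIndependent ι ((linearIndependent_pow (K := K) a).comp (finCongr had.symm) (finCongr had.symm).injective)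
    have hdeg : Q.degree < (3 : ℕ) := by
      have h1 : (ρ a).charpoly.degree = (3 : ℕ) := by
        rw [degree_eq_natDegree (LinearMap.charpoly_monic _).ne_zero, LinearMap.charpoly_natDegree, hV]
      have h2 : ((minpoly K a).map (algebraMap K L)).degree = (3 : ℕ) := by
        rw [degree_map, degree_eq_natDegree (minpoly.ne_zero (integral a)), had]
      have := degree_sub_lt_left (h1.trans h2.symm) (LinearMap.charpoly_monic (ρ a)).ne_zero
        ((LinearMap.charpoly_monic (ρ a)).leadingCoeff.trans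
          ((minpoly.monic (integral a)).map (algebraMap K L)).leadingCoeff.symm)
      rwa [h1] at this
    have hQd : Q.natDegree < 3 := by
      by_cases hQ0 : Q = 0
      · rw [hQ0]; simp
      · exact (natDegree_lt_iff_degree_lt hQ0).2 hdeg
    rw [aeval_eq_sum_range' hQd, ← Fin.sum_univ_eq_sum_range (fun i => Q.coeff i • ρ a ^ i)] at hann
    simp_rw [← map_pow] at hann
    have h0 := Fintype.linearIndependent_iff.1 hli _ hann
    show Q = 0
    ext n
    rw [coeff_zero]
    by_cases hn : n < 3
    · exact h0 ⟨n, hn⟩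
    · exact coeff_eq_zero_of_natDegree_lt (by omega)
  -- the trace with values in `K`
  set T : Module.End L (RMod ι) →ₗ[L] L := LinearMap.trace L (RMod ι)
  have hT1 : T 1 = 0 := by
    show LinearMap.trace L (RMod ι) 1 = 0
    rw [LinearMap.trace_one, hV]; exact_mod_cast h30
  have htK : ∀ a, ∃ t : K, algebraMap K L t = T (ρ a) := by
    intro a
    by_cases ha : a ∈ (algebraMap K A).range
    · obtain ⟨k, rfl⟩ := ha
      refine ⟨0, ?_⟩
      rw [map_zero, AlgHom.commutes, IsScalarTower.algebraMap_apply K L (Module.End L (RMod ι)),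
        Algebra.algebraMap_eq_smul_one (A := Module.End L (RMod ι)), map_smul, hT1, smul_zero]
    · refine ⟨-(minpoly K a).coeff 2, ?_⟩
      show _ = LinearMap.trace L (RMod ι) (ρ a)
      rw [LinearMap.trace_eq_matrix_trace L bV, Matrix.trace_eq_neg_charpoly_coeff, LinearMap.charpoly_toMatrix,
        hchar a ha, Polynomial.coeff_map, map_neg, Fintype.card_fin]
  choose t ht using htK
  have tinj : ∀ {s s' : K}, algebraMap K L s = algebraMap K L s' → s = s' := fun h => (algebraMap K L).injective h
  have hcoef : ∀ (k : K) (a : A), ρ (k • a) = algebraMap K L k • ρ a := fun k a => by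
    rw [map_smul, algebraMap_smul]
  have hH : ∀ a, t a = 0 → t (a * a) = 0 → a ∈ (algebraMap K A).range := by
    intro a h1 h2
    by_contra ha
    refine (separable_iff_derivative_ne_zero (minpoly.irreducible (integral (K := K) a))).1 (hsep a) ?_
    apply Polynomial.map_injective (algebraMap K L) (algebraMap K L).injective
    rw [← derivative_map, ← hchar a ha, ← LinearMap.charpoly_toMatrix _ bV, Polynomial.map_zero]
    apply derivative_charpoly_eq_zero
    · rw [← LinearMap.trace_eq_matrix_trace L bV]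
      show T (ρ a) = 0
      rw [← ht, h1, map_zero]
    · rw [← LinearMap.toMatrix_mul, ← LinearMap.trace_eq_matrix_trace L bV, ← map_mul]
      show T (ρ (a * a)) = 0
      rw [← ht, h2, map_zero]
  have hind : ∀ c0 c1 c2 : K, algebraMap K L c0 + algebraMap K L c1 * α + algebraMap K L c2 * α ^ 2 = 0 →
      c0 = 0 ∧ c1 = 0 ∧ c2 = 0 := by
    intro c0 c1 c2 h
    have h0 := Fintype.linearIndependent_iff.1 b.linearIndependent ![c0, c1, c2]
      (by simpa [Fin.sum_univ_three, hb, Algebra.smul_def] using h)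
    exact ⟨h0 0, h0 1, h0 2⟩
  have hsq : ∀ a c, T (ρ c * ρ a) = T (ρ a * ρ c) := fun a c => LinearMap.trace_mul_comm L _ _
  -- scalars
  have hsc : ∀ (E : Module.End L (RMod ι)) (s : L), T E = 0 → T (E * E) = 0 →
      T (E - s • 1) = 0 ∧ T ((E - s • 1) * (E - s • 1)) = 0 := by
    intro E s h1 h2
    constructor
    · rw [map_sub, map_smul, h1, hT1, smul_zero, sub_zero]
    · simp [sub_mul, mul_sub, map_sub, map_smul, h1, h2, hT1]
  have claim1 : ∀ a0 a1 : A, T (ρ a0 + α • ρ a1) = 0 →
      T ((ρ a0 + α • ρ a1) * (ρ a0 + α • ρ a1)) = 0 → ∃ s : L, ρ a0 + α • ρ a1 = s • 1 := by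
    intro a0 a1 h1 h2
    rw [map_add, map_smul, ← ht, ← ht] at h1
    obtain ⟨t0, t1, -⟩ := hind (t a0) (t a1) 0 (by rw [← h1, map_zero, smul_eq_mul]; ring)
    simp only [add_mul, mul_add, smul_mul_assoc, mul_smul_comm, map_add, map_smul, smul_eq_mul, hsq a0 a1] at h2
    simp only [← map_mul, ← ht] at h2
    obtain ⟨q0, -, q2⟩ := hind (t (a0 * a0)) (2 * t (a0 * a1)) (t (a1 * a1)) (by
      rw [← h2, map_mul (algebraMap K L) 2, map_ofNat]; ring)
    obtain ⟨k0, hk0⟩ := hH a0 t0 q0
    obtain ⟨k1, hk1⟩ := hH a1 t1 q2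
    refine ⟨algebraMap K L k0 + α * algebraMap K L k1, ?_⟩
    rw [← hk0, ← hk1, AlgHom.commutes, AlgHom.commutes, IsScalarTower.algebraMap_apply K L (Module.End L (RMod ι)),
      IsScalarTower.algebraMap_apply K L (Module.End L (RMod ι)) k1, add_smul, mul_smul,
      ← Algebra.algebraMap_eq_smul_one, ← Algebra.algebraMap_eq_smul_one]
  have claim2 : ∀ a0 a1 a2 : A, T (ρ a0 + α • ρ a1 + α ^ 2 • ρ a2) = 0 →
      T ((ρ a0 + α • ρ a1 + α ^ 2 • ρ a2) * (ρ a0 + α • ρ a1 + α ^ 2 • ρ a2)) = 0 →
      ∃ s : L, ρ a0 + α • ρ a1 + α ^ 2 • ρ a2 = s • 1 := by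
    intro a0 a1 a2 h1 h2
    set E := ρ a0 + α • ρ a1 + α ^ 2 • ρ a2 with hE
    by_cases ha2 : a2 ∈ (algebraMap K A).range
    · obtain ⟨k, hk⟩ := ha2
      have hE' : E - (α ^ 2 * algebraMap K L k) • (1 : Module.End L (RMod ι)) = ρ a0 + α • ρ a1 := by
        rw [hE, ← hk, AlgHom.commutes, IsScalarTower.algebraMap_apply K L (Module.End L (RMod ι)),
          Algebra.algebraMap_eq_smul_one, mul_smul]; abel
      obtain ⟨e1, e2⟩ := hsc E (α ^ 2 * algebraMap K L k) h1 h2
      rw [hE'] at e1 e2
      obtain ⟨s, hs⟩ := claim1 a0 a1 e1 e2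
      exact ⟨s + α ^ 2 * algebraMap K L k, by rw [add_smul, ← hs, ← hE', sub_add_cancel]⟩
    simp only [hE, map_add, map_smul, ← ht] at h1
    obtain ⟨t0, t1, t2⟩ := hind (t a0) (t a1) (t a2) (by rw [← h1, smul_eq_mul, smul_eq_mul]; ring)
    simp only [hE, add_mul, mul_add, smul_mul_assoc, mul_smul_comm, map_add, map_smul, smul_eq_mul,
      hsq a0 a1, hsq a0 a2, hsq a1 a2] at h2
    simp only [← map_mul, ← ht] at h2
    set P : K[X] := C (t (a2 * a2)) * X ^ 4 + C (2 * t (a1 * a2)) * X ^ 3
      + C (t (a1 * a1) + 2 * t (a0 * a2)) * X ^ 2 + C (2 * t (a0 * a1)) * X + C (t (a0 * a0)) with hP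
    have hPα : aeval α P = 0 := by
      simp only [hP, map_add, map_mul, map_pow, aeval_C, aeval_X, map_ofNat]
      rw [← h2]; ring
    have hB22 : t (a2 * a2) ≠ 0 := fun h => ha2 (hH a2 t2 h)
    have hPdeg : P.natDegree = 4 := by rw [hP]; compute_degree!
    obtain ⟨g, hg⟩ : m ∣ P := by
      have hmin : minpoly K α = m := AdjoinRoot.minpoly_root (minpoly.ne_zero (integral x)) |>.trans (by
        rw [(minpoly.monic (integral (K := K) x)).leadingCoeff, inv_one, C_1, mul_one])
      rw [← hmin]; exact minpoly.dvd K α hPα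
    have hg0 : g ≠ 0 := fun h => by rw [h, mul_zero] at hg; rw [hg, natDegree_zero] at hPdeg; omega
    have hgdeg : g.natDegree = 1 := by
      have := congrArg natDegree hg
      rw [natDegree_mul (minpoly.ne_zero (integral x)) hg0, hPdeg, hmd] at this
      omega
    obtain ⟨c, hc⟩ := exists_root_of_degree_eq_one (p := g) (by rw [degree_eq_natDegree hg0, hgdeg]; rfl)
    have hPc : P.eval c = 0 := by rw [hg, eval_mul, hc.eq_zero, mul_zero]
    set f := a0 + c • a1 + (c * c) • a2 with hf
    have htlin : ∀ (k : K) (y z : A), t (y + k • z) = t y + k * t z := fun k y z => tinj (by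
      rw [map_add, map_mul, ht, ht, ht, map_add, hcoef, map_add, map_smul, smul_eq_mul])
    have tf : t f = 0 := by rw [hf, htlin, htlin, t0, t1, t2]; ring
    have tff : t (f * f) = 0 := by
      apply tinj
      rw [ht, map_zero, hf, map_mul]
      simp only [map_add, hcoef, add_mul, mul_add, smul_mul_assoc, mul_smul_comm, map_smul, smul_eq_mul,
        hsq a0 a1, hsq a0 a2, hsq a1 a2]
      simp only [← map_mul, ← ht]
      simp only [← map_mul, ← map_add]
      rw [← map_zero (algebraMap K L)]
      refine congrArg _ ?_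
      rw [← hPc]; simp [hP]; ring
    obtain ⟨k, hk⟩ := hH f tf tff
    set E1 := ρ (a1 + c • a2) + α • ρ a2 with hE1
    set s0 := algebraMap K L k
    set d := α - algebraMap K L c with hd
    have hdec : E - s0 • 1 = d • E1 := by
      have h0 : ρ a0 = s0 • 1 - algebraMap K L c • ρ a1 - algebraMap K L (c * c) • ρ a2 := by
        rw [← Algebra.algebraMap_eq_smul_one, ← IsScalarTower.algebraMap_apply, ← hcoef, ← hcoef,
          ← ρ.commutes k, hk, hf, map_add, map_add]; abel
      rw [hE, hE1, hd, h0, map_add, hcoef, map_mul]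
      module
    have hd0 : d ≠ 0 := by
      intro h
      obtain ⟨-, h', -⟩ := hind (-c) 1 0 (by rw [map_neg, map_one, map_zero, zero_mul, add_zero, one_mul, ← h, hd]; ring)
      exact one_ne_zero h'
    have h1' : T E = 0 := by simp only [hE, map_add, map_smul, ← ht, t0, t1, t2, map_zero, smul_zero, add_zero]
    have h2' : T (E * E) = 0 := by
      simp only [hE, add_mul, mul_add, smul_mul_assoc, mul_smul_comm, map_add, map_smul, smul_eq_mul,
        hsq a0 a1, hsq a0 a2, hsq a1 a2]
      simp only [← map_mul, ← ht]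
      exact h2
    obtain ⟨e1, e2⟩ := hsc E s0 h1' h2'
    rw [hdec] at e1 e2
    rw [map_smul, smul_eq_zero] at e1
    rw [smul_mul_assoc, mul_smul_comm, map_smul, map_smul, smul_eq_zero, smul_eq_zero] at e2
    obtain ⟨s, hs⟩ := claim1 (a1 + c • a2) a2 (e1.resolve_left hd0) ((e2.resolve_left hd0).resolve_left hd0)
    exact ⟨d * s + s0, by rw [add_smul, mul_smul, ← hs, ← hE1, ← hdec, sub_add_cancel]⟩
  -- an isotropic element over `L`
  set M : Matrix (Fin 3) (Fin 3) L := Matrix.single 0 1 1 with hM
  obtain ⟨a, ha⟩ := (sandwich_bijective ι b (by rw [hLr, hA])).2 (Matrix.toLinAlgEquiv bV M)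
  rw [sandwich_apply, Fin.sum_univ_three, hb, hb, hb] at ha
  simp only [Fin.val_zero, Fin.val_one, Fin.val_two, pow_zero, pow_one, one_smul] at ha
  have htr : ∀ N : Matrix (Fin 3) (Fin 3) L, T (Matrix.toLinAlgEquiv bV N) = N.trace := fun N => by
    show LinearMap.trace L (RMod ι) (Matrix.toLin bV bV N) = _
    rw [LinearMap.trace_eq_matrix_trace L bV, LinearMap.toMatrix_toLin]
  obtain ⟨s, hs⟩ := claim2 (a 0) (a 1) (a 2)
    (by rw [ha, htr]; simp [hM, Matrix.trace_fin_three])
    (by rw [ha, ← map_mul, htr]; simp [hM, Matrix.trace_fin_three])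
  rw [ha, ← Algebra.algebraMap_eq_smul_one, ← (Matrix.toLinAlgEquiv bV).commutes s] at hs
  have h01 := congrFun (congrFun ((Matrix.toLinAlgEquiv bV).injective hs) 0) 1
  simp [hM, Matrix.algebraMap_matrix_apply] at h01

end Groth.L15.CSA
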