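import Groth.Agent.L11.CSA.Split
import Mathlib.RingTheory.AdjoinRoot
import Mathlib.LinearAlgebra.TensorProduct.Tower
import Mathlib.FieldTheory.IsAlgClosed.AlgebraicClosure
import Mathlib.LinearAlgebra.Dimension.Free

/-! Dimensions of modules over central simple algebras, and factors of minimal polynomials. -/

set_option autoImplicit false

namespace Groth.L15

universe u v w x
open scoped TensorProduct
open Polynomial Module

/-- The dimension of a representation of `M_n(Ω)` is a multiple of `n`. -/
theorem dvd_finrank_of_matrix {Ω : Type u} [Field Ω] {N : Type v} [AddCommGroup N] [Module Ω N]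
    {n : ℕ} (σ : Matrix (Fin n) (Fin n) Ω →ₐ[Ω] Module.End Ω N) : n ∣ finrank Ω N := by
  rcases Nat.eq_zero_or_pos n with rfl | hn
  · have h1 : (1 : Module.End Ω N) = 0 := by
      rw [← map_one σ, Subsingleton.elim (1 : Matrix (Fin 0) (Fin 0) Ω) 0, map_zero]
    have : Subsingleton N := ⟨fun a b => by
      rw [← Module.End.one_apply (R := Ω) a, ← Module.End.one_apply (R := Ω) b, h1]; rfl⟩
    simp [finrank_zero_of_subsingleton]
  let i0 : Fin n := ⟨0, hn⟩
  let E : Fin n → Fin n → Module.End Ω N := fun i j => σ (Matrix.single i j 1)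
  have hmul : ∀ i j k x, E i j (E j k x) = E i k x := fun i j k x => by
    rw [← Module.End.mul_apply, ← map_mul, Matrix.single_mul_single_same, one_mul]
  have hzero : ∀ i j j' k x, j ≠ j' → E i j (E j' k x) = 0 := fun i j j' k x h => by
    rw [← Module.End.mul_apply, ← map_mul, Matrix.single_mul_single_of_ne _ _ _ _ h, map_zero]
    rfl
  have hsum : ∀ x, ∑ i, E i i x = x := fun x => by
    rw [← LinearMap.sum_apply, ← map_sum, Matrix.sum_single_one, map_one]; rfl
  set P := LinearMap.range (E i0 i0) with hP
  have hfix : ∀ w : P, E i0 i0 w.1 = w.1 := by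
    rintro ⟨w, x, rfl⟩; exact hmul _ _ _ _
  let e : N ≃ₗ[Ω] (Fin n → P) :=
    { toFun := fun x i => ⟨E i0 i x, ⟨E i0 i x, hmul _ _ _ _⟩⟩
      map_add' := fun x y => funext fun i => Subtype.ext (map_add _ _ _)
      map_smul' := fun c x => funext fun i => Subtype.ext (map_smul _ _ _)
      invFun := fun w => ∑ i, E i i0 (w i).1
      left_inv := fun x => by simp [hmul, hsum]
      right_inv := fun w => funext fun j => Subtype.ext (by
        show E i0 j (∑ i, E i i0 (w i).1) = _
        rw [map_sum, Finset.sum_eq_single j, hmul, hfix]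
        · intro i _ hij; exact hzero _ _ _ _ _ (Ne.symm hij)
        · intro h; exact absurd (Finset.mem_univ j) h) }
  by_cases hfin : Module.Finite Ω N
  · rw [e.finrank_eq, Module.finrank_pi_fintype]
    simp
  · rw [Module.finrank_of_not_finite hfin]
    exact dvd_zero n

variable {K : Type u} [Field K] {A : Type v} [Ring A] [Algebra K A]

/-- If a CSA of dimension `n²` acts linearly on an `L`-space, its dimension is a multiple of `n`. -/
theorem dvd_finrank_of_action [Algebra.IsCentral K A] [IsSimpleRing A] [FiniteDimensional K A]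
    {n : ℕ} (hn : finrank K A = n ^ 2)
    {L : Type w} [Field L] [Algebra K L] {M : Type x} [AddCommGroup M] [Module K M] [Module L M]
    [IsScalarTower K L M] (ρ : A →ₐ[K] Module.End L M) : n ∣ finrank L M := by
  let Ω := AlgebraicClosure L
  obtain ⟨m, -, ⟨e⟩⟩ := Groth.L11.CSA.exists_algEquiv_matrix_baseChange K A Ω
  have hmn : m = n := by
    have h := e.toLinearEquiv.finrank_eq
    rw [Module.finrank_baseChange, hn, Module.finrank_matrix, Module.finrank_self,
      Fintype.card_fin, mul_one, ← sq] at h
    exact (Nat.pow_left_injective (by norm_num) h).symm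
  let f : A →ₐ[K] Module.End Ω (Ω ⊗[L] M) :=
    ((Module.End.baseChangeHom L Ω M).restrictScalars K).comp ρ
  let F : Ω ⊗[K] A →ₐ[Ω] Module.End Ω (Ω ⊗[L] M) :=
    Algebra.TensorProduct.lift (Algebra.ofId Ω _) f fun c a => Algebra.commutes c (f a)
  have := dvd_finrank_of_matrix (F.comp e.symm.toAlgHom)
  rwa [Module.finrank_baseChange, hmn] at this

/-- restriction of a representation to a stable submodule -/
def restrRep {M : Type x} [AddCommGroup M] [Module K M] (ρ : A →ₐ[K] Module.End K M)
    (N : Submodule K M) (h : ∀ a, ∀ x ∈ N, ρ a x ∈ N) : A →ₐ[K] Module.End K N where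
  toFun a := (ρ a).restrict (h a)
  map_one' := by ext x; simp
  map_mul' a b := by ext x; simp
  map_zero' := by ext x; simp
  map_add' a b := by ext x; simp
  commutes' k := by ext x; simp [Module.algebraMap_end_apply]

theorem commute_aeval {R : Type*} [Ring R] [Algebra K R] {a b : R} (h : Commute a b) (P : K[X]) :
    Commute a (aeval b P) := by
  induction P using Polynomial.induction_on' with
  | add p q hp hq => rw [map_add]; exact hp.add_right hq
  | monomial i c =>
    rw [aeval_monomial]
    exact ((Algebra.commute_algebraMap_right c _)).mul_right (h.pow_right i)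

theorem restrict_pow_apply {M : Type x} [AddCommGroup M] [Module K M] (φ : Module.End K M)
    (N : Submodule K M) (hN : ∀ x ∈ N, φ x ∈ N) (i : ℕ) :
    ∀ x : N, ((φ.restrict hN ^ i) x).1 = (φ ^ i) x.1 := by
  induction i with
  | zero => intro x; simp
  | succ i ih => intro x; rw [pow_succ, pow_succ, Module.End.mul_apply, ih]; rfl

/-- One irreducible factor. -/
theorem mul_dvd_finrank_of_irreducible [Algebra.IsCentral K A] [IsSimpleRing A]
    [FiniteDimensional K A] {n : ℕ} (hn : finrank K A = n ^ 2)
    {M : Type x} [AddCommGroup M] [Module K M]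
    (ρ : A →ₐ[K] Module.End K M) (φ : Module.End K M) (hφ : ∀ a, Commute (ρ a) φ)
    {g : K[X]} (hg : Irreducible g) (hgφ : aeval φ g = 0) :
    g.natDegree * n ∣ finrank K M := by
  haveI : Fact (Irreducible g) := ⟨hg⟩
  let ψ : AdjoinRoot g →ₐ[K] Module.End K M :=
    Ideal.Quotient.liftₐ (Ideal.span {g}) (aeval φ) (fun P hP => by
      obtain ⟨Q, rfl⟩ := Ideal.mem_span_singleton.1 hP
      rw [map_mul, hgφ, zero_mul])
  letI : Module (AdjoinRoot g) M := Module.compHom M ψ.toRingHom
  haveI : IsScalarTower K (AdjoinRoot g) M := ⟨fun k l x => by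
    show ψ (k • l) x = k • ψ l x
    rw [map_smul, LinearMap.smul_apply]⟩
  have hc : ∀ (a : A) (l : AdjoinRoot g), Commute (ρ a) (ψ l) := by
    intro a l
    induction l using AdjoinRoot.induction_on with
    | ih P =>
      have : ψ (AdjoinRoot.mk g P) = aeval φ P := rfl
      rw [this]
      exact commute_aeval (hφ a) P
  let ρ' : A →ₐ[K] Module.End (AdjoinRoot g) M :=
    { toFun := fun a =>
        { toFun := fun x => ρ a x
          map_add' := fun x y => map_add _ _ _
          map_smul' := fun l x => LinearMap.congr_fun (hc a l).eq x }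
      map_one' := by ext x; simp
      map_mul' := fun a b => by ext x; simp
      map_zero' := by ext x; simp
      map_add' := fun a b => by ext x; simp
      commutes' := fun k => by ext x; simp [Module.algebraMap_end_apply] }
  have h := dvd_finrank_of_action hn ρ'
  have hL : finrank K (AdjoinRoot g) = g.natDegree := (AdjoinRoot.powerBasis hg.ne_zero).finrank
  rw [← Module.finrank_mul_finrank K (AdjoinRoot g) M, hL]
  exact Nat.mul_dvd_mul_left _ h

/-- If all factors have degree `r`, then `r * n` divides the dimension. -/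
theorem mul_dvd_finrank_of_prod [Algebra.IsCentral K A] [IsSimpleRing A] [FiniteDimensional K A]
    {n : ℕ} (hn : finrank K A = n ^ 2) (r : ℕ) (s : List K[X])
    (hs : ∀ g ∈ s, Irreducible g ∧ g.natDegree = r) :
    ∀ {M : Type x} [AddCommGroup M] [Module K M] [FiniteDimensional K M]
      (ρ : A →ₐ[K] Module.End K M) (φ : Module.End K M), (∀ a, Commute (ρ a) φ) →
      aeval φ s.prod = 0 → r * n ∣ finrank K M := by
  induction s with
  | nil =>
    intro M _ _ _ ρ φ _ h
    rw [List.prod_nil, map_one] at h
    have : Subsingleton M := ⟨fun a b => by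
      rw [← Module.End.one_apply (R := K) a, ← Module.End.one_apply (R := K) b, h]; rfl⟩
    simp [finrank_zero_of_subsingleton]
  | cons g s ih =>
    intro M _ _ _ ρ φ hφ h
    obtain ⟨hg, hgr⟩ := hs g List.mem_cons_self
    set T := aeval φ g with hT
    have hcT : ∀ a, Commute (ρ a) T := fun a => commute_aeval (hφ a) g
    have hTφ : Commute φ T := by
      exact commute_aeval (Commute.refl φ) g
    have hker : ∀ a, ∀ x ∈ LinearMap.ker T, ρ a x ∈ LinearMap.ker T := by
      intro a x hx
      rw [LinearMap.mem_ker] at hx ⊢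
      rw [← Module.End.mul_apply, ← (hcT a).eq, Module.End.mul_apply, hx, map_zero]
    have hkφ : ∀ x ∈ LinearMap.ker T, φ x ∈ LinearMap.ker T := by
      intro x hx
      rw [LinearMap.mem_ker] at hx ⊢
      rw [← Module.End.mul_apply, ← hTφ.eq, Module.End.mul_apply, hx, map_zero]
    have hran : ∀ a, ∀ x ∈ LinearMap.range T, ρ a x ∈ LinearMap.range T := by
      rintro a x ⟨y, rfl⟩
      exact ⟨ρ a y, by rw [← Module.End.mul_apply, ← (hcT a).eq, Module.End.mul_apply]⟩
    have hrφ : ∀ x ∈ LinearMap.range T, φ x ∈ LinearMap.range T := by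
      rintro x ⟨y, rfl⟩
      exact ⟨φ y, by rw [← Module.End.mul_apply, ← hTφ.eq, Module.End.mul_apply]⟩
    have hres : ∀ (N : Submodule K M) (hN : ∀ x ∈ N, φ x ∈ N) (P : K[X]) (x : N),
        ((aeval (φ.restrict hN) P) x).1 = aeval φ P x.1 := by
      intro N hN P
      induction P using Polynomial.induction_on' with
      | add p q hp hq => intro x; simp [hp, hq]
      | monomial i c =>
        intro x
        simp [aeval_monomial, Module.algebraMap_end_apply, restrict_pow_apply]
    rw [← LinearMap.finrank_range_add_finrank_ker T]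
    apply Nat.dvd_add
    · refine ih (fun g' hg' => hs g' (List.mem_cons_of_mem _ hg')) (restrRep ρ _ hran) (φ.restrict hrφ)
        (fun a => LinearMap.ext fun x => Subtype.ext (LinearMap.congr_fun (hφ a).eq x.1)) ?_
      apply LinearMap.ext
      rintro ⟨x, y, rfl⟩
      apply Subtype.ext
      rw [hres, hT, ← Module.End.mul_apply, ← map_mul, mul_comm, ← List.prod_cons, h]
      rfl
    · have := mul_dvd_finrank_of_irreducible hn (restrRep ρ _ hker) (φ.restrict hkφ)
        (fun a => LinearMap.ext fun x => Subtype.ext (LinearMap.congr_fun (hφ a).eq x.1)) hg (by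
          apply LinearMap.ext
          intro x
          apply Subtype.ext
          rw [hres]
          exact x.2)
      rwa [hgr] at this

end Groth.L15
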