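import Groth.Agent.L10.SiteCoh
import Groth.Agent.L10.InjOverRes
import Groth.Agent.L15.ExtZero.ExtAdj
import Mathlib.CategoryTheory.Sites.CoverPreserving
import Mathlib.CategoryTheory.Sites.CoverLifting
import Mathlib.CategoryTheory.Sites.Pullback
import Mathlib.CategoryTheory.Preadditive.Injective.Preserves

/-! Cohomology over an object is cohomology of the slice site. -/

set_option autoImplicit false
set_option backward.isDefEq.respectTransparency false

universe u

open CategoryTheory CategoryTheory.Limits CategoryTheory.Abelian Opposite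

noncomputable section

namespace Groth.L15.CohLoc

open Groth.L10.SiteCoh

variable {C : Type u} [SmallCategory C] (J : GrothendieckTopology C) (X : C)

/-- The abelian extension by zero from the slice. -/
abbrev jSh : Sheaf (J.over X) AddCommGrpCat.{u} ⥤ Sheaf J AddCommGrpCat.{u} :=
  (Over.forget X).sheafPullback AddCommGrpCat.{u} (J.over X) J

/-- Restriction to the slice. -/
abbrev res : Sheaf J AddCommGrpCat.{u} ⥤ Sheaf (J.over X) AddCommGrpCat.{u} :=
  J.overPullback AddCommGrpCat.{u} X

/-- The adjunction. -/
def adj : jSh J X ⊣ res J X :=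
  (Over.forget X).sheafAdjunctionContinuous AddCommGrpCat.{u} (J.over X) J

instance additive_res : (res J X).Additive where

instance preservesFiniteLimits_res : PreservesFiniteLimits (res J X) :=
  haveI := (adj J X).rightAdjoint_preservesLimits
  inferInstance

instance preservesFiniteColimits_res : PreservesFiniteColimits (res J X) :=
  haveI : (res J X).IsLeftAdjoint :=
    ((Over.forget X).sheafAdjunctionCocontinuous AddCommGrpCat.{u} (J.over X) J).isLeftAdjoint
  inferInstance

theorem preservesMono_jSh : (jSh J X).PreservesMonomorphisms := ⟨fun {A B} i _ => by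
  let I := Injective.under ((jSh J X).obj A)
  let a : (jSh J X).obj A ⟶ I := Injective.ι _
  haveI : Injective ((res J X).obj I) := Groth.L10.InjOverRes.injective_overPullback J X I
  let b := Injective.factorThru ((adj J X).homEquiv _ _ a) i
  have h : (jSh J X).map i ≫ ((adj J X).homEquiv _ _).symm b = a := by
    rw [← (adj J X).homEquiv_naturality_left_symm, Injective.comp_factorThru, Equiv.symm_apply_apply]
  exact mono_of_mono_fac h⟩

/-- Maps out of the extension of a free sheaf are sections. -/
def corep (V : Over X) (F : Sheaf J AddCommGrpCat.{u}) :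
    ((jSh J X).obj (fs (J.over X) V) ⟶ F) ≃ (fs J V.left ⟶ F) :=
  (((adj J X).homEquiv _ F).trans (secEquiv (J.over X) V ((res J X).obj F)).toEquiv).trans
    (secEquiv J V.left F).toEquiv.symm

theorem corep_comp (V : Over X) {F G : Sheaf J AddCommGrpCat.{u}} (g : (jSh J X).obj (fs (J.over X) V) ⟶ F)
    (φ : F ⟶ G) : corep J X V G (g ≫ φ) = corep J X V F g ≫ φ := by
  apply (secEquiv J V.left G).injective
  rw [secEquiv_comp]
  show secEquiv J V.left G ((secEquiv J V.left G).symm (secEquiv (J.over X) V ((res J X).obj G)
      ((adj J X).homEquiv _ G (g ≫ φ)))) = φ.hom.app (op V.left) (secEquiv J V.left F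
        ((secEquiv J V.left F).symm (secEquiv (J.over X) V ((res J X).obj F) ((adj J X).homEquiv _ F g))))
  rw [AddEquiv.apply_symm_apply, AddEquiv.apply_symm_apply, Adjunction.homEquiv_naturality_right,
    secEquiv_comp]
  rfl

/-- `j_! ℤ_V = ℤ_V`. -/
def freeIso (V : Over X) : fs J V.left ≅ (jSh J X).obj (fs (J.over X) V) where
  hom := corep J X V _ (𝟙 _)
  inv := (corep J X V _).symm (𝟙 _)
  hom_inv_id := by rw [← corep_comp, Category.id_comp, Equiv.apply_symm_apply]
  inv_hom_id := (corep J X V _).injective (by rw [corep_comp, Equiv.apply_symm_apply, Category.id_comp])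

/-- `H^n(V, F)` on the slice is `H^n(V, F)` on the site. -/
theorem nonempty_HU_over (V : Over X) (F : Sheaf J AddCommGrpCat.{u}) (n : ℕ) :
    Nonempty (Ext (fs J V.left) F n ≃+ Ext (fs (J.over X) V) ((res J X).obj F) n) := by
  haveI := preservesMono_jSh J X
  let e : Ext (fs J V.left) F n ≃+ Ext ((jSh J X).obj (fs (J.over X) V)) F n :=
    { toFun := fun x => (Ext.mk₀ (freeIso J X V).inv).comp x (zero_add n)
      invFun := fun x => (Ext.mk₀ (freeIso J X V).hom).comp x (zero_add n)
      left_inv := fun x => by simp
      right_inv := fun x => by simp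
      map_add' := fun x y => by simp }
  exact ⟨e.trans (Groth.L15.ExtAdj.extEquiv (adj J X) (fs (J.over X) V) F n)⟩

theorem nonempty_HU_H (F : Sheaf J AddCommGrpCat.{u}) (n : ℕ) :
    Nonempty (Ext (fs J X) F n ≃+ Sheaf.H.{u} ((res J X).obj F) n) := by
  obtain ⟨e⟩ := nonempty_HU_over J X (Over.mk (𝟙 X)) F n
  exact ⟨e.trans (hEquiv (Over.mkIdTerminal) _ n).symm⟩

end Groth.L15.CohLoc
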