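import Groth.Prelude.Def_CycAlg
import Groth.Agent.L03.RegularFiniteExt
import Mathlib.RingTheory.Artinian.Ring
import Mathlib.RingTheory.HopkinsLevitzki
import Mathlib.RingTheory.Ideal.Quotient.Noetherian
import Mathlib.RingTheory.KrullDimension.NonZeroDivisors
import Mathlib.RingTheory.IntegralClosure.Algebra.Basic
import Mathlib.RingTheory.Localization.FractionRing
import Mathlib.RingTheory.Localization.AtPrime.Basic
import Mathlib.RingTheory.Length
import Mathlib.RingTheory.Ideal.GoingUp

/-!
Common factors in finite birational extensions of one-dimensional semilocal rings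
(the local factorisation behind tame symbols).
-/

set_option autoImplicit false
universe u

noncomputable section

namespace Groth.L15.CommonFactor

/-- splitting of the length of a quotient along `X ≤ Y` -/
theorem length_quot_split {R M : Type*} [CommRing R] [AddCommGroup M] [Module R M]
    {X Y : Submodule R M} (hXY : X ≤ Y) :
    Module.length R (M ⧸ X) =
      Module.length R (↥Y ⧸ X.comap Y.subtype) + Module.length R (M ⧸ Y) := by
  refine Module.length_eq_add_of_exact (Submodule.mapQ _ X Y.subtype le_rfl)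
    (Submodule.factor hXY) ?_ (Submodule.factor_surjective hXY) ?_
  · rw [← LinearMap.ker_eq_bot, eq_bot_iff]
    intro z hz
    obtain ⟨z, rfl⟩ := Submodule.Quotient.mk_surjective _ z
    rw [LinearMap.mem_ker, Submodule.mapQ_apply, Submodule.Quotient.mk_eq_zero] at hz
    exact (Submodule.mem_bot R).mpr ((Submodule.Quotient.mk_eq_zero _).mpr hz)
  · intro z
    obtain ⟨z, rfl⟩ := Submodule.Quotient.mk_surjective _ z
    constructor
    · intro hz
      exact ⟨Submodule.Quotient.mk ⟨z, (Submodule.Quotient.mk_eq_zero _).mp hz⟩, rfl⟩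
    · rintro ⟨w, hw⟩
      obtain ⟨w, rfl⟩ := Submodule.Quotient.mk_surjective _ w
      rw [← hw]
      exact (Submodule.Quotient.mk_eq_zero _).mpr w.2

/-- `M / f M` and `U / f U` have the same length when `M / U` has finite length -/
theorem length_quot_range_eq {R M : Type*} [CommRing R] [AddCommGroup M] [Module R M]
    (f : M →ₗ[R] M) (hf : Function.Injective f) (U : Submodule R M) (hU : U.map f ≤ U)
    (hfin : Module.length R (M ⧸ U) ≠ ⊤) :
    Module.length R (M ⧸ LinearMap.range f) =
      Module.length R (↥U ⧸ (U.map f).comap U.subtype) := by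
  have h1 := length_quot_split hU
  have h2 := length_quot_split (LinearMap.map_le_range : U.map f ≤ LinearMap.range f)
  let e := LinearEquiv.ofInjective f hf
  have he : U.map (e : M →ₗ[R] LinearMap.range f) =
      (U.map f).comap (LinearMap.range f).subtype := by
    ext ⟨z, hz⟩
    constructor
    · rintro ⟨w, hw, hwz⟩
      exact ⟨w, hw, congrArg Subtype.val hwz⟩
    · rintro ⟨w, hw, hwz⟩
      exact ⟨w, hw, Subtype.ext hwz⟩
  rw [← (Submodule.Quotient.equiv U _ e he).length_eq, add_comm] at h2
  rw [h1] at h2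
  exact (ENat.add_left_injective_of_ne_top hfin h2).symm

variable {B : Type u} [CommRing B] [IsNoetherianRing B]

theorem artinian_quot (hB : ringKrullDim B ≤ 1) {x : B} (hx : x ∈ nonZeroDivisors B) :
    IsArtinianRing (B ⧸ Ideal.span {x}) := by
  have h := (ringKrullDim_quotient_succ_le_of_nonZeroDivisor hx).trans hB
  have h0 : ringKrullDim (B ⧸ Ideal.span {x}) ≤ 0 :=
    ENat.WithBot.add_le_add_one_right_iff.mp (h.trans (zero_add (1 : WithBot ℕ∞)).ge)
  have : Ring.KrullDimLE 0 (B ⧸ Ideal.span {x}) := by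
    rw [Ring.krullDimLE_iff]; exact_mod_cast h0
  exact isArtinianRing_iff_krullDimLE_zero.mpr this

theorem length_quot_ne_top (hB : ringKrullDim B ≤ 1) {x : B} (hx : x ∈ nonZeroDivisors B) :
    Module.length B (B ⧸ Ideal.span {x}) ≠ ⊤ := by
  have := artinian_quot hB hx
  rw [Module.length_eq_of_surjective (R := B ⧸ Ideal.span {x}) (S := B)
    Ideal.Quotient.mk_surjective]
  exact Module.length_ne_top

/-- a homogeneous relation between `a, b` with a coefficient outside the maximal ideal `q` -/
theorem exists_relation (hB : ringKrullDim B ≤ 1) (q : Ideal B) [hq : q.IsMaximal] (a b : B)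
    (ha : a ∈ nonZeroDivisors B) :
    ∃ (n : ℕ) (c : ℕ → B), (∃ j ≤ n, c j ∉ q) ∧
      ∑ i ∈ Finset.range (n + 1), c i * (a ^ i * b ^ (n - i)) = 0 := by
  classical
  by_cases haq : a ∈ q
  swap
  · refine ⟨1, fun i => if i = 0 then -a else b, ⟨0, by omega, by simpa using haq⟩, ?_⟩
    simp [Finset.sum_range_succ]
    ring
  have hfin := length_quot_ne_top hB ha
  obtain ⟨e, he⟩ := ENat.ne_top_iff_exists.mp hfin
  let g : Fin (e + 1) → B := fun i => a ^ (i : ℕ) * b ^ (e - i)
  let N : Submodule B B := Submodule.span B (Set.range g)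
  let φ : (Fin (e + 1) → B) →ₗ[B] B := Fintype.linearCombination B g
  by_contra hcon
  push_neg at hcon
  let m : Ideal B := q
  have ham : a ∈ m := haq
  have hker : ∀ c : Fin (e + 1) → B, φ c ∈ m • N → ∀ i, c i ∈ m := by
    intro c hc i
    by_contra hi
    obtain ⟨d, hd, hde⟩ := (Submodule.mem_ideal_smul_span_iff_exists_sum m g _).mp hc
    have hrel : φ (c - ⇑d) = 0 := by
      rw [map_sub, sub_eq_zero, ← hde, Finsupp.sum_fintype _ _ (by simp)]
      simp [φ, Fintype.linearCombination_apply]
    have hu : c i - d i ∉ q := fun hnu =>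
      hi (by simpa using q.add_mem hnu (hd i))
    refine hcon e (fun l => if h : l < e + 1 then c ⟨l, h⟩ - d ⟨l, h⟩ else 0)
      ⟨i, Nat.lt_succ_iff.mp i.2, by simpa [i.2] using hu⟩ ?_
    refine Eq.trans ?_ hrel
    simp only [φ]
    rw [← Fin.sum_univ_eq_sum_range, Fintype.linearCombination_apply]
    refine Finset.sum_congr rfl fun l _ => ?_
    simp [g, l.2, Fin.eta]
  let A : Submodule B B := (Ideal.span {a} : Ideal B) • N
  have hA : A ≤ N := Submodule.smul_le_right
  have hsplit : ∀ {X Y : Submodule B B}, X ≤ Y → Module.length B (B ⧸ X) =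
      Module.length B (↥Y ⧸ X.comap Y.subtype) + Module.length B (B ⧸ Y) := by
    intro X Y hXY
    refine Module.length_eq_add_of_exact (Submodule.mapQ _ X Y.subtype le_rfl)
      (Submodule.factor hXY) ?_ (Submodule.factor_surjective hXY) ?_
    · rw [← LinearMap.ker_eq_bot, eq_bot_iff]
      intro z hz
      obtain ⟨z, rfl⟩ := Submodule.Quotient.mk_surjective _ z
      rw [LinearMap.mem_ker, Submodule.mapQ_apply, Submodule.Quotient.mk_eq_zero] at hz
      exact (Submodule.mem_bot B).mpr ((Submodule.Quotient.mk_eq_zero _).mpr hz)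
    · intro z
      obtain ⟨z, rfl⟩ := Submodule.Quotient.mk_surjective _ z
      constructor
      · intro hz
        exact ⟨Submodule.Quotient.mk ⟨z, (Submodule.Quotient.mk_eq_zero _).mp hz⟩, rfl⟩
      · rintro ⟨w, hw⟩
        obtain ⟨w, rfl⟩ := Submodule.Quotient.mk_surjective _ w
        rw [← hw]
        exact (Submodule.Quotient.mk_eq_zero _).mpr w.2
  have hAa : A ≤ (Ideal.span {a} : Ideal B) := Submodule.smul_le.mpr fun r hr z _ =>
    Ideal.mul_mem_right z _ hr
  let mu : (B ⧸ N) →ₗ[B] ↥(Ideal.span {a} : Ideal B) ⧸ A.comap (Ideal.span {a} : Ideal B).subtype :=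
    Submodule.mapQ N _ (LinearMap.codRestrict _ (LinearMap.lsmul B B a)
      (fun z => Ideal.mul_mem_right z _ (Ideal.mem_span_singleton_self a)))
      (fun z hz => Submodule.smul_mem_smul (Ideal.mem_span_singleton_self a) hz)
  have hmu : Function.Bijective mu := by
    constructor
    · rw [← LinearMap.ker_eq_bot, eq_bot_iff]
      intro z hz
      obtain ⟨z, rfl⟩ := Submodule.Quotient.mk_surjective _ z
      rw [LinearMap.mem_ker, Submodule.mapQ_apply, Submodule.Quotient.mk_eq_zero,
        Submodule.mem_comap] at hz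
      obtain ⟨w, hw, hwz⟩ := Ideal.mem_span_singleton_mul.mp hz
      have : w = z := (mem_nonZeroDivisors_iff_right.mp ha |> fun h => sub_eq_zero.mp (h _ (by
        rw [sub_mul]; exact sub_eq_zero.mpr (by rw [mul_comm w, mul_comm z]; exact hwz))))
      subst this
      exact (Submodule.mem_bot B).mpr ((Submodule.Quotient.mk_eq_zero _).mpr hw)
    · intro z
      obtain ⟨⟨z, hz⟩, rfl⟩ := Submodule.Quotient.mk_surjective _ z
      obtain ⟨w, rfl⟩ := Ideal.mem_span_singleton'.mp hz
      exact ⟨Submodule.Quotient.mk w, congrArg _ (Subtype.ext (mul_comm a w))⟩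
  have hNfin : Module.length B (B ⧸ N) ≠ ⊤ := by
    have hle : (Ideal.span {a ^ e} : Ideal B) ≤ N :=
      (Ideal.span_singleton_le_iff_mem _).mpr
        (Submodule.subset_span ⟨Fin.last e, by simp [g]⟩)
    refine ne_top_of_le_ne_top (length_quot_ne_top hB (pow_mem ha e)) ?_
    exact Module.length_le_of_surjective (Submodule.factor hle) (Submodule.factor_surjective hle)
  have h1 := hsplit hA
  have h2 := hsplit hAa
  rw [← (LinearEquiv.ofBijective mu hmu).length_eq] at h2
  have h3 : Module.length B (↥N ⧸ A.comap N.subtype) = (e : ℕ∞) := by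
    obtain ⟨q, hq⟩ := ENat.ne_top_iff_exists.mp hNfin
    rw [h1, ← hq] at h2
    have h2' : Module.length B (↥N ⧸ A.comap N.subtype) + (q : ℕ∞) = (e : ℕ∞) + q := by
      rw [h2, he, add_comm]
    exact ENat.add_right_injective_of_ne_top (ENat.natCast_ne_top q) (by simpa [add_comm] using h2')
  have hle2 : A.comap N.subtype ≤ (m • N).comap N.subtype := Submodule.comap_mono
    (Submodule.smul_mono_left ((Ideal.span_singleton_le_iff_mem _).mpr ham))
  have h4 := Module.length_le_of_surjective (Submodule.factor hle2) (Submodule.factor_surjective hle2)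
  let ψ : (Fin (e + 1) → B) →ₗ[B] ↥N ⧸ (m • N).comap N.subtype :=
    (Submodule.mkQ _) ∘ₗ φ.codRestrict N (fun c => by
      change φ c ∈ Submodule.span B (Set.range g)
      rw [← Fintype.range_linearCombination B g]; exact ⟨c, rfl⟩)
  have hψ : Function.Surjective ψ := by
    intro z
    obtain ⟨⟨z, hz⟩, rfl⟩ := Submodule.Quotient.mk_surjective _ z
    have hz' := hz
    simp only [N, ← Fintype.range_linearCombination B g] at hz'
    obtain ⟨c, rfl⟩ := hz'
    exact ⟨c, rfl⟩
  let ρ : (Fin (e + 1) → B) →ₗ[B] (Fin (e + 1) → B ⧸ q) :=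
    LinearMap.pi fun i => (Submodule.mkQ q) ∘ₗ LinearMap.proj i
  have hρ : LinearMap.ker ψ ≤ LinearMap.ker ρ := by
    intro c hc
    rw [LinearMap.mem_ker, LinearMap.comp_apply, Submodule.mkQ_apply, Submodule.Quotient.mk_eq_zero] at hc
    rw [LinearMap.mem_ker]
    funext i
    exact (Submodule.Quotient.mk_eq_zero _).mpr (hker c hc i)
  let θ : (↥N ⧸ (m • N).comap N.subtype) →ₗ[B] (Fin (e + 1) → B ⧸ q) :=
    (Submodule.liftQ _ ρ hρ) ∘ₗ (ψ.quotKerEquivOfSurjective hψ).symm.toLinearMap
  have hθ : Function.Surjective θ := by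
    intro v
    choose c hc using fun i => Submodule.Quotient.mk_surjective _ (v i)
    refine ⟨ψ.quotKerEquivOfSurjective hψ (Submodule.Quotient.mk c), ?_⟩
    simp only [θ, LinearMap.comp_apply, LinearEquiv.coe_coe, LinearEquiv.symm_apply_apply,
      Submodule.liftQ_apply]
    funext i
    exact hc i
  have h5 := Module.length_le_of_surjective θ hθ
  have hk : Module.length B (B ⧸ q) = 1 :=
    Module.length_eq_one_iff.mpr (isSimpleModule_iff_isCoatom.mpr hq.out)
  rw [Module.length_pi_of_fintype] at h5
  simp only [hk, Finset.sum_const, Finset.card_univ, Fintype.card_fin, nsmul_one] at h5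
  have h6 := (h5.trans h4).trans h3.le
  norm_cast at h6
  omega

/-- partial Horner sums of a relation are integral -/
theorem horner {R Q : Type u} [CommRing R] [IsNoetherianRing R] [CommRing Q] [Algebra R Q]
    (n : ℕ) (c : ℕ → R) (u : Q)
    (hrelQ : ∑ i ∈ Finset.range (n + 1), algebraMap R Q (c i) * u ^ i = 0) :
    ∃ E : ℕ → Q, E 0 = 0 ∧
      (∀ k, k < n → E (k + 1) = (E k + algebraMap R Q (c (n - k))) * u) ∧
      E n + algebraMap R Q (c 0) = 0 ∧ ∀ k, k ≤ n → IsIntegral R (E k) := by
  classical
  let al := algebraMap R Q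
  let E : ℕ → Q := fun k => ∑ i ∈ Finset.Ico (n + 1 - k) (n + 1), al (c i) * u ^ (i - (n - k))
  have hE0 : E 0 = 0 := by simp [E]
  have hrec : ∀ k, k < n → E (k + 1) = (E k + al (c (n - k))) * u := by
    intro k hk
    simp only [E]
    rw [show n + 1 - (k + 1) = n - k by omega, Finset.sum_eq_sum_Ico_succ_bot (by omega : n - k < n + 1),
      show n + 1 - k = n - k + 1 by omega, show n - k - (n - (k + 1)) = 1 by omega, add_mul, Finset.sum_mul,
      pow_one, add_comm]
    congr 1
    refine Finset.sum_congr rfl fun i hi => ?_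
    have := (Finset.mem_Ico.mp hi).1
    rw [show i - (n - (k + 1)) = i - (n - k) + 1 by omega, pow_succ, mul_assoc]
  have hEn : E n + al (c 0) = 0 := by
    rw [← hrelQ, ← Finset.sum_range_add_sum_Ico _ (show 1 ≤ n + 1 by omega), Finset.sum_range_one,
      pow_zero, mul_one, add_comm]
    simp only [E, Nat.sub_self, Nat.sub_zero, show n + 1 - n = 1 by omega]
    rfl
  let N : Submodule R Q := Submodule.span R (Set.range fun i : Fin (n + 1) => u ^ (i : ℕ))
  have hpow : ∀ (r : R) (i : ℕ), i ≤ n → al r * u ^ i ∈ N := fun r i hi => by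
    rw [show al r * u ^ i = r • u ^ i from (Algebra.smul_def r (u ^ i)).symm]
    exact N.smul_mem r (Submodule.subset_span ⟨⟨i, by omega⟩, rfl⟩)
  have hEN : ∀ k, k ≤ n → ∀ z ∈ N, E k * z ∈ N := by
    intro k hk z hz
    induction hz using Submodule.span_induction with
    | zero => simp
    | add x y _ _ hx hy => rw [mul_add]; exact N.add_mem hx hy
    | smul r x _ hx => rw [mul_smul_comm]; exact N.smul_mem r hx
    | mem x hx =>
      obtain ⟨⟨i, hi⟩, rfl⟩ := hx
      change E k * u ^ i ∈ N
      by_cases hik : i + k ≤ n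
      · simp only [E]
        rw [Finset.sum_mul]
        refine N.sum_mem fun l hl => ?_
        have := Finset.mem_Ico.mp hl
        rw [mul_assoc, ← pow_add]
        exact hpow _ _ (by omega)
      · have hsum : E k * u ^ i + ∑ l ∈ Finset.range (n + 1 - k), al (c l) * u ^ (l + (i - (n - k))) = 0 := by
          calc _ = (∑ l ∈ Finset.range (n + 1), al (c l) * u ^ l) * u ^ (i - (n - k)) := by
                rw [← Finset.sum_range_add_sum_Ico (fun l => al (c l) * u ^ l)
                  (show n + 1 - k ≤ n + 1 by omega), add_mul, add_comm]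
                simp only [E]
                congr 1 <;> repeat rw [Finset.sum_mul]
                all_goals
                · refine Finset.sum_congr rfl fun l hl => ?_
                  simp only [Finset.mem_Ico, Finset.mem_range] at hl
                  simp only [mul_assoc, ← pow_add]
                  try (congr 2; omega)
            _ = 0 := by rw [hrelQ, zero_mul]
        change E k * u ^ i ∈ N
        rw [eq_neg_of_add_eq_zero_left hsum]
        refine N.neg_mem (N.sum_mem fun l hl => ?_)
        have := Finset.mem_range.mp hl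
        exact hpow _ _ (by omega)
  have hint : ∀ k : Fin (n + 1), IsIntegral R (E k) := by
    intro k
    have h1 : (1 : Q) ∈ N := by
      rw [← map_one al, ← mul_one (al 1), ← pow_zero u]
      exact hpow _ 0 (Nat.zero_le n)
    let A' : Subalgebra R Q :=
      { carrier := {x | ∀ z ∈ N, x * z ∈ N}
        mul_mem' := fun {x y} hx hy z hz => by rw [mul_assoc]; exact hx _ (hy z hz)
        one_mem' := fun z hz => by rwa [one_mul]
        add_mem' := fun {x y} hx hy z hz => by rw [add_mul]; exact N.add_mem (hx z hz) (hy z hz)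
        zero_mem' := fun z _ => by rw [zero_mul]; exact N.zero_mem
        algebraMap_mem' := fun r z hz => by rw [← Algebra.smul_def]; exact N.smul_mem r hz }
    have hle : A'.toSubmodule ≤ N := fun x hx => by simpa using hx 1 h1
    have hNfg : N.FG := Submodule.fg_span (Set.finite_range _)
    have : IsNoetherian R N := isNoetherian_of_fg_of_noetherian N hNfg
    refine IsIntegral.of_mem_of_fg A' ?_ (E k) (hEN k (Nat.lt_succ_iff.mp k.2))
    exact Submodule.FG.of_le hNfg hle
  exact ⟨E, hE0, hrec, hEn, fun k hk => hint ⟨k, Nat.lt_succ_iff.mpr hk⟩⟩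

variable (A : Type u) [CommRing A] [IsNoetherianRing A] [IsLocalRing A]

omit [IsNoetherianRing B] in
theorem finite_isMaximal [Algebra A B] [Module.Finite A B] :
    {P : Ideal B | P.IsMaximal}.Finite := by
  let m' : Ideal B := (IsLocalRing.maximalIdeal A).map (algebraMap A B)
  have : IsArtinianRing (B ⧸ m') := by
    let : Algebra (IsLocalRing.ResidueField A) (B ⧸ m') :=
      Ideal.Quotient.algebraQuotientMapQuotient
    have : IsScalarTower A (IsLocalRing.ResidueField A) (B ⧸ m') :=
      IsScalarTower.of_algebraMap_eq fun _ => rfl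
    have : Module.Finite (IsLocalRing.ResidueField A) (B ⧸ m') := Module.Finite.of_restrictScalars_finite A _ _
    exact IsArtinianRing.of_finite (IsLocalRing.ResidueField A) _
  refine ((IsArtinianRing.setOf_isMaximal_finite (B ⧸ m')).image
    (Ideal.comap (Ideal.Quotient.mk m'))).subset ?_
  intro P hP
  have : P.IsMaximal := hP
  have hm : m' ≤ P := Ideal.map_le_iff_le_comap.mpr
    (IsLocalRing.eq_maximalIdeal (Ideal.isMaximal_comap_of_isIntegral_of_isMaximal P)).ge
  refine ⟨P.map (Ideal.Quotient.mk m'), ?_, ?_⟩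
  · exact Ideal.IsMaximal.map_of_surjective_of_ker_le Ideal.Quotient.mk_surjective (by rwa [Ideal.mk_ker]) 
  · rw [Ideal.comap_map_of_surjective _ Ideal.Quotient.mk_surjective, ← RingHom.ker_eq_comap_bot,
      Ideal.mk_ker, sup_eq_left.mpr hm]

theorem dim_le_one (hA : ringKrullDim A = 1) [Algebra A B] [Module.Finite A B]
    (hinj : Function.Injective (algebraMap A B)) : ringKrullDim B ≤ 1 :=
  (Groth.L03.RegularFiniteExt.ringKrullDim_eq_of_integral hinj ▸ hA).le

theorem length_quot_ne_top' (hA : ringKrullDim A = 1) [Algebra A B] [Module.Finite A B]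
    (hinj : Function.Injective (algebraMap A B)) {x : B} (hx : x ∈ nonZeroDivisors B) :
    Module.length A (B ⧸ Ideal.span {x}) ≠ ⊤ := by
  have := artinian_quot (dim_le_one A hA hinj) hx
  let I := Ideal.span {x}
  let J := I.under A
  have : Module.Finite (A ⧸ J) (B ⧸ I) := Module.Finite.of_restrictScalars_finite A _ _
  have : Algebra.IsIntegral (A ⧸ J) (B ⧸ I) := Algebra.IsIntegral.of_finite _ _
  have hJinj : Function.Injective (algebraMap (A ⧸ J) (B ⧸ I)) :=
    Ideal.quotientMap_injective
  have hd := Groth.L03.RegularFiniteExt.ringKrullDim_eq_of_integral hJinj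
  have : Ring.KrullDimLE 0 (A ⧸ J) := by
    rw [Ring.krullDimLE_iff, hd]
    exact Ring.krullDimLE_iff.mp (inferInstance : Ring.KrullDimLE 0 (B ⧸ I))
  have : IsArtinianRing (A ⧸ J) := isArtinianRing_iff_krullDimLE_zero.mpr this
  rw [Module.length_eq_of_surjective (R := A ⧸ J) (S := A) Ideal.Quotient.mk_surjective]
  exact Module.length_ne_top

/-- a finite birational extension in which `a, b` get a common factor -/
theorem exists_split (hA : ringKrullDim A = 1) [Algebra A B] [Module.Finite A B]
    (hinj : Function.Injective (algebraMap A B)) (a b : B) (ha : a ∈ nonZeroDivisors B)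
    (hb : b ∈ nonZeroDivisors B) :
    ∃ (C : Type u) (_ : CommRing C) (_ : Algebra B C) (_ : Algebra A C) (_ : IsScalarTower A B C),
      Module.Finite B C ∧ Function.Injective (algebraMap B C) ∧
      (∀ z ∈ nonZeroDivisors B, algebraMap B C z ∈ nonZeroDivisors C) ∧
      (∃ w ∈ nonZeroDivisors B, ∀ z : C, algebraMap B C w * z ∈ (algebraMap B C).range) ∧
      ∃ t a' b' : C, t ∈ nonZeroDivisors C ∧ a' ∈ nonZeroDivisors C ∧ b' ∈ nonZeroDivisors C ∧
        algebraMap B C a = t * a' ∧ algebraMap B C b = t * b' ∧ Ideal.span {a', b'} = ⊤ := by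
  classical
  have : Fintype {P : Ideal B | P.IsMaximal} := (finite_isMaximal A (B := B)).fintype
  have hdim := dim_le_one A hA hinj
  have hR : ∀ P : {P : Ideal B | P.IsMaximal}, ∃ (n : ℕ) (c : ℕ → B), (∃ j ≤ n, c j ∉ P.1) ∧
      ∑ i ∈ Finset.range (n + 1), c i * (a ^ i * b ^ (n - i)) = 0 := fun P =>
    haveI : P.1.IsMaximal := P.2
    exists_relation hdim P.1 a b ha
  choose n c hjc hrel using hR
  choose j hj hcj using hjc
  let Q := FractionRing B
  let al := algebraMap B Q
  have hal : Function.Injective al := IsFractionRing.injective B Q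
  have hbu : IsUnit (al b) := IsLocalization.map_units Q ⟨b, hb⟩
  let u : Q := al a * (↑hbu.unit⁻¹ : Q)
  have hub : u * al b = al a := by
    change al a * _ * al b = al a
    rw [mul_assoc, IsUnit.val_inv_mul, mul_one]
  have hrelQ : ∀ P, ∑ i ∈ Finset.range (n P + 1), al (c P i) * u ^ i = 0 := by
    intro P
    refine (hbu.pow (n P)).mul_left_cancel ?_
    rw [mul_zero, Finset.mul_sum, ← map_zero al, ← hrel P, map_sum]
    refine Finset.sum_congr rfl fun i hi => ?_
    have hin : i ≤ n P := Nat.lt_succ_iff.mp (Finset.mem_range.mp hi)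
    obtain ⟨l, hl⟩ := Nat.exists_eq_add_of_le hin
    rw [hl, map_mul, map_mul, map_pow, map_pow, Nat.add_sub_cancel_left, ← hub, mul_pow, pow_add]
    ring
  choose E hE0 hrec hEn hint using fun P => horner (n P) (c P) u (hrelQ P)
  let S : Subalgebra B Q :=
    Algebra.adjoin B (Set.range fun q : (Σ P, Fin (n P + 1)) => E q.1 q.2)
  have hSfg : S.toSubmodule.FG := fg_adjoin_of_finite (Set.finite_range _)
    (by rintro _ ⟨q, rfl⟩; exact hint q.1 q.2 (Nat.lt_succ_iff.mp q.2.2))
  have : Module.Finite B S := Module.Finite.iff_fg.mpr hSfg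
  have : Module.Finite A S := Module.Finite.trans B S
  have hinjS : Function.Injective (algebraMap B S) := fun x y h => hal (congrArg Subtype.val h)
  have hnzd : ∀ z ∈ nonZeroDivisors B, algebraMap B S z ∈ nonZeroDivisors S := by
    intro z hz
    rw [mem_nonZeroDivisors_iff_right]
    intro q hq
    apply Subtype.ext
    have := congrArg Subtype.val hq
    simp only [Subalgebra.coe_mul, Subalgebra.coe_algebraMap, Subalgebra.coe_zero] at this ⊢
    exact (IsLocalization.map_units Q (⟨z, hz⟩ : nonZeroDivisors B)).mul_left_eq_zero.mp this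
  have hden : ∃ w ∈ nonZeroDivisors B, ∀ z : S, algebraMap B S w * z ∈ (algebraMap B S).range := by
    obtain ⟨F, hF⟩ := hSfg
    obtain ⟨⟨w, hw⟩, hint'⟩ := IsLocalization.exist_integer_multiples_of_finset (nonZeroDivisors B) F
    refine ⟨w, hw, fun z => ?_⟩
    have hz : (z : Q) ∈ Submodule.span B (F : Set Q) := hF ▸ z.2
    suffices h : ∃ r : B, al r = al w * (z : Q) by
      obtain ⟨r, hr⟩ := h
      exact ⟨r, Subtype.ext hr⟩
    revert hz
    generalize (z : Q) = zq
    intro hz
    induction hz using Submodule.span_induction with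
    | mem x hx =>
      obtain ⟨r, hr⟩ := hint' x hx
      exact ⟨r, by rw [show al r = algebraMap B Q r from rfl, hr, Algebra.smul_def]⟩
    | zero => exact ⟨0, by simp⟩
    | add x y _ _ hx hy =>
      obtain ⟨r, hr⟩ := hx; obtain ⟨r', hr'⟩ := hy
      exact ⟨r + r', by rw [map_add, hr, hr', mul_add]⟩
    | smul s x _ hx =>
      obtain ⟨r, hr⟩ := hx
      exact ⟨s * r, by rw [map_mul, hr, Algebra.smul_def]; ring⟩
  let A0 : S := algebraMap B S a
  let B0 : S := algebraMap B S b
  have hA0 : A0 ∈ nonZeroDivisors S := hnzd a ha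
  have hB0 : B0 ∈ nonZeroDivisors S := hnzd b hb
  let J : Ideal S := Ideal.span {A0, B0}
  have hloc : ∀ P : Ideal S, P.IsMaximal → ∃ g ∈ ({A0, B0} : Set S), ∃ s ∉ P, ∀ x ∈ J, g ∣ s * x := by
    intro P hP
    have hJ : ∀ g s : S, g ∣ s * A0 → g ∣ s * B0 → ∀ x ∈ J, g ∣ s * x := by
      intro g s h1 h2 x hx
      obtain ⟨p, q, rfl⟩ := Ideal.mem_span_pair.mp hx
      rw [show s * (p * A0 + q * B0) = p * (s * A0) + q * (s * B0) by ring]
      exact dvd_add (dvd_mul_of_dvd_right h1 _) (dvd_mul_of_dvd_right h2 _)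
    have hpm : (P.comap (algebraMap B S)).IsMaximal :=
      Ideal.isMaximal_comap_of_isIntegral_of_isMaximal P
    let q : {P : Ideal B | P.IsMaximal} := ⟨_, hpm⟩
    let e : ℕ → S := fun k =>
      if h : k < n q + 1 then ⟨E q k, Algebra.subset_adjoin ⟨⟨q, ⟨k, h⟩⟩, rfl⟩⟩ else 0
    have he : ∀ k, k ≤ n q → ((e k : S) : Q) = E q k := fun k hk => by
      simp [e, Nat.lt_succ_iff.mpr hk, hk]
    have hrecS : ∀ k, k < n q →
        e (k + 1) * B0 = (e k + algebraMap B S (c q (n q - k))) * A0 := by
      intro k hk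
      apply Subtype.ext
      simp only [Subalgebra.coe_mul, Subalgebra.coe_add, he k hk.le, he (k + 1) hk, A0, B0,
        Subalgebra.coe_algebraMap]
      rw [hrec q k hk, mul_assoc, hub]
    have hcU : algebraMap B S (c q (j q)) ∉ P := hcj q
    by_cases hs : e (n q - j q) + algebraMap B S (c q (j q)) ∈ P
    · have hne : e (n q - j q) ∉ P := fun h => hcU (by simpa using P.sub_mem hs h)
      obtain ⟨k, hk⟩ : ∃ k, n q - j q = k + 1 := by
        refine Nat.exists_eq_add_one_of_ne_zero fun h0 => hne ?_
        have : e (n q - j q) = 0 := Subtype.ext (by rw [he _ (by have := hj q; omega), h0, hE0 q]; rfl)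
        rw [this]; exact P.zero_mem
      refine ⟨A0, by simp, _, hne, hJ _ _ (dvd_mul_left _ _) ?_⟩
      rw [hk, hrecS k (by have := hj q; omega)]
      exact dvd_mul_left _ _
    · rcases Nat.eq_zero_or_pos (j q) with hj0 | hjpos
      · exfalso
        refine hs ?_
        rw [hj0]
        have : e (n q - 0) + algebraMap B S (c q 0) = 0 := Subtype.ext (by
          simp only [Subalgebra.coe_add, he (n q - 0) (by have := hj q; omega), Subalgebra.coe_algebraMap]
          simpa using hEn q)
        rw [this]; exact P.zero_mem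
      · refine ⟨B0, by simp, _, hs, hJ _ _ ?_ (dvd_mul_left _ _)⟩
        have := hrecS (n q - j q) (by have := hj q; omega)
        rw [show n q - (n q - j q) = j q by have := hj q; omega] at this
        rw [← this]
        exact dvd_mul_left _ _
  have : IsNoetherianRing S := IsNoetherianRing.of_finite B S
  have : Fintype {P : Ideal S | P.IsMaximal} := (finite_isMaximal A (B := S)).fintype
  choose g hg s hs hsd using fun P : {P : Ideal S | P.IsMaximal} => hloc P P.2
  have hw : ∀ P : {P : Ideal S | P.IsMaximal}, ∃ w, w ∉ P.1 ∧ ∀ Q' : {P : Ideal S | P.IsMaximal}, Q' ≠ P → w ∈ Q'.1 := by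
    intro P
    have hpr := (show P.1.IsMaximal from P.2).isPrime
    have : ∀ Q' : {P : Ideal S | P.IsMaximal}, Q' ≠ P → ∃ w ∈ Q'.1, w ∉ P.1 := by
      intro Q' hne
      by_contra hc
      push_neg at hc
      exact hne (Subtype.ext ((show Q'.1.IsMaximal from Q'.2).eq_of_le hpr.ne_top hc))
    choose w hw hw' using this
    refine ⟨∏ Q' ∈ (Finset.univ.erase P).attach, w Q'.1 (Finset.ne_of_mem_erase Q'.2), fun h => ?_,
      fun Q' hne => ?_⟩
    · obtain ⟨Q', -, hQ'⟩ := (Ideal.IsPrime.prod_mem_iff (hp := hpr)).mp h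
      exact hw' _ _ hQ'
    · exact Q'.1.mem_of_dvd (Finset.dvd_prod_of_mem _ (Finset.mem_attach _
        ⟨Q', Finset.mem_erase.mpr ⟨hne, Finset.mem_univ _⟩⟩)) (hw Q' hne)
  choose w hwP hwQ using hw
  let tt : S := ∑ P, w P * g P
  have htJ : tt ∈ J := J.sum_mem fun P _ => J.mul_mem_left _ (Ideal.subset_span (hg P))
  have hdvd : ∀ x ∈ J, tt ∣ x := by
    let K : Ideal S :=
      { carrier := {r | ∀ x ∈ J, tt ∣ r * x}
        add_mem' := fun {r r'} h h' x hx => by rw [add_mul]; exact dvd_add (h x hx) (h' x hx)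
        zero_mem' := fun x _ => by simp
        smul_mem' := fun q r h x hx => by
          rw [smul_eq_mul, mul_assoc]; exact dvd_mul_of_dvd_right (h x hx) q }
    suffices K = ⊤ by
      intro x hx
      simpa using (this.symm ▸ Submodule.mem_top : (1 : S) ∈ K) x hx
    by_contra hK
    obtain ⟨P, hP, hKP⟩ := Ideal.exists_le_maximal K hK
    let P' : {P : Ideal S | P.IsMaximal} := ⟨P, hP⟩
    choose h hh using fun Q' => hsd P' (g Q') (Ideal.subset_span (hg Q'))
    have hts : s P' * tt = g P' * ∑ Q', w Q' * h Q' := by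
      simp only [tt, Finset.mul_sum]
      refine Finset.sum_congr rfl fun Q' _ => ?_
      linear_combination (w Q') * hh Q'
    have hcoef : s P' * (∑ Q', w Q' * h Q') ∉ P := by
      intro hmem
      have h1 := (hP.isPrime.mem_or_mem hmem).resolve_left (hs P')
      rw [← Finset.add_sum_erase _ _ (Finset.mem_univ P')] at h1
      have h2 : ∑ Q' ∈ Finset.univ.erase P', w Q' * h Q' ∈ P := P.sum_mem fun Q' hQ' =>
        P.mul_mem_right _ (hwQ Q' P' (fun he => by simp [he] at hQ'))
      have h3 : h P' ∈ P := (hP.isPrime.mem_or_mem ((P.add_mem_iff_left h2).mp h1)).resolve_left (hwP P')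
      -- g = 0 case impossible
      have h4 : g P' * (s P' - h P') = 0 := by linear_combination hh P'
      have hgn : g P' ∈ nonZeroDivisors S := by
        rcases hg P' with h' | h'
        · rw [h']; exact hA0
        · rw [Set.mem_singleton_iff.mp h']; exact hB0
      have h5 := (mem_nonZeroDivisors_iff_left.mp hgn _ h4)
      exact hs P' (by rw [sub_eq_zero] at h5; rw [h5]; exact h3)
    refine hcoef (hKP ?_)
    intro x hx
    obtain ⟨q, hq⟩ := hsd P' x hx
    refine ⟨s P' * q, ?_⟩
    linear_combination (∑ Q', w Q' * h Q') * hq - q * hts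
  obtain ⟨a', ha'⟩ := hdvd A0 (Ideal.subset_span (by simp))
  obtain ⟨b', hb'⟩ := hdvd B0 (Ideal.subset_span (by simp))
  obtain ⟨r1, r2, hr⟩ := Ideal.mem_span_pair.mp htJ
  have ht0 : tt ∈ nonZeroDivisors S := (mul_mem_nonZeroDivisors.mp (ha' ▸ hA0)).1
  refine ⟨S, inferInstance, inferInstance, inferInstance, inferInstance, inferInstance, hinjS,
    hnzd, hden, tt, a', b', ht0,
    (mul_mem_nonZeroDivisors.mp (ha' ▸ hA0)).2, (mul_mem_nonZeroDivisors.mp (hb' ▸ hB0)).2, ha', hb', ?_⟩
  rw [Ideal.eq_top_iff_one, Ideal.mem_span_pair]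
  refine ⟨r1, r2, ?_⟩
  have : tt * (r1 * a' + r2 * b' - 1) = 0 := by linear_combination hr - r1 * ha' - r2 * hb'
  exact sub_eq_zero.mp (mem_nonZeroDivisors_iff_left.mp ht0 _ this)

/-- the weight of a nonzerodivisor -/
def len (B : Type u) [CommRing B] [Algebra A B] (x : B) : ℕ :=
  (Module.length A (B ⧸ Ideal.span {x})).toNat

theorem len_mul (hA : ringKrullDim A = 1) [Algebra A B] [Module.Finite A B]
    (hinj : Function.Injective (algebraMap A B)) {x y : B} (hx : x ∈ nonZeroDivisors B)
    (hy : y ∈ nonZeroDivisors B) : len A B (x * y) = len A B x + len A B y := by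
  let f : B →ₗ[A] B := LinearMap.mulLeft A x
  have hf : Function.Injective f := fun p q h => (isRegular_iff_mem_nonZeroDivisors.mpr hx).left h
  let Y : Submodule A B := (Ideal.span {y} : Ideal B).restrictScalars A
  let XY : Submodule A B := (Ideal.span {x * y} : Ideal B).restrictScalars A
  let X : Submodule A B := (Ideal.span {x} : Ideal B).restrictScalars A
  have hle : XY ≤ X := Ideal.span_singleton_le_span_singleton.mpr (dvd_mul_right x y)
  have hrange : LinearMap.range f = X := by
    ext z
    simp [X, f, Ideal.mem_span_singleton', mul_comm x, eq_comm]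
  let e : B ≃ₗ[A] X := (LinearEquiv.ofInjective f hf).trans (LinearEquiv.ofEq _ _ hrange)
  have he : Y.map (e : B →ₗ[A] X) = XY.comap X.subtype := by
    ext ⟨z, hz⟩
    constructor
    · rintro ⟨w, hw, hwz⟩
      have hwz' : x * w = z := congrArg Subtype.val hwz
      obtain ⟨v, rfl⟩ := Ideal.mem_span_singleton'.mp hw
      exact Ideal.mem_span_singleton'.mpr ⟨v, (show v * (x * y) = x * (v * y) by ring).trans hwz'⟩
    · intro hxy
      obtain ⟨v, hv⟩ := Ideal.mem_span_singleton'.mp hxy
      refine ⟨v * y, Ideal.mem_span_singleton'.mpr ⟨v, rfl⟩, Subtype.ext ?_⟩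
      change x * (v * y) = z
      exact (show x * (v * y) = v * (x * y) by ring).trans hv
  have h := length_quot_split hle
  rw [← (Submodule.Quotient.equiv Y _ e he).length_eq] at h
  have eX := (Submodule.Quotient.restrictScalarsEquiv A (Ideal.span {x} : Ideal B)).length_eq
  have eY := (Submodule.Quotient.restrictScalarsEquiv A (Ideal.span {y} : Ideal B)).length_eq
  have eXY := (Submodule.Quotient.restrictScalarsEquiv A (Ideal.span {x * y} : Ideal B)).length_eq
  rw [eX, eY, eXY] at h
  unfold len
  rw [h, ENat.toNat_add (length_quot_ne_top' A hA hinj hy) (length_quot_ne_top' A hA hinj hx), add_comm]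

theorem len_pos (hA : ringKrullDim A = 1) [Algebra A B] [Module.Finite A B]
    (hinj : Function.Injective (algebraMap A B)) {x : B} (hx : x ∈ nonZeroDivisors B)
    (q : Ideal B) [q.IsPrime] (hxq : x ∈ q) : 0 < len A B x := by
  have : Nontrivial (B ⧸ Ideal.span {x}) := Ideal.Quotient.nontrivial_iff.mpr fun h =>
    Ideal.IsPrime.ne_top (I := q) inferInstance
      (eq_top_iff.mpr (h ▸ (Ideal.span_singleton_le_iff_mem q).mpr hxq))
  unfold len
  rcases Nat.eq_zero_or_pos (Module.length A (B ⧸ Ideal.span {x})).toNat with h | h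
  · exfalso
    rcases ENat.toNat_eq_zero.mp h with h0 | h0
    · exact Module.length_pos.ne' h0
    · exact length_quot_ne_top' A hA hinj hx h0
  · exact h

theorem len_map (hA : ringKrullDim A = 1) [Algebra A B] [Module.Finite A B]
    {C : Type u} [CommRing C] [IsNoetherianRing C] [Algebra B C] [Algebra A C] [IsScalarTower A B C]
    [Module.Finite A C] (hC : Function.Injective (algebraMap A C))
    (hBC : Function.Injective (algebraMap B C))
    (hnzd : ∀ z ∈ nonZeroDivisors B, algebraMap B C z ∈ nonZeroDivisors C)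
    {w : B} (hw : w ∈ nonZeroDivisors B)
    (hwC : ∀ z : C, algebraMap B C w * z ∈ (algebraMap B C).range)
    {x : B} (hx : x ∈ nonZeroDivisors B) : len A C (algebraMap B C x) = len A B x := by
  let f : C →ₗ[A] C := LinearMap.mulLeft A (algebraMap B C x)
  have hf : Function.Injective f := fun p q h =>
    (isRegular_iff_mem_nonZeroDivisors.mpr (hnzd x hx)).left h
  let ι : B →ₗ[A] C := (IsScalarTower.toAlgHom A B C).toLinearMap
  let U : Submodule A C := LinearMap.range ι
  have hU : U.map f ≤ U := by
    rintro _ ⟨_, ⟨v, rfl⟩, rfl⟩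
    exact ⟨x * v, map_mul (algebraMap B C) x v⟩
  have hfin : Module.length A (C ⧸ U) ≠ ⊤ := by
    have hle : ((Ideal.span {algebraMap B C w} : Ideal C).restrictScalars A) ≤ U := by
      intro z hz
      obtain ⟨v, rfl⟩ := Ideal.mem_span_singleton'.mp hz
      obtain ⟨r, hr⟩ := hwC v
      exact ⟨r, by rw [mul_comm]; exact hr⟩
    refine ne_top_of_le_ne_top (length_quot_ne_top' A hC (hnzd w hw) (hA := hA)) ?_
    rw [← (Submodule.Quotient.restrictScalarsEquiv A (Ideal.span {algebraMap B C w} : Ideal C)).length_eq]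
    exact Module.length_le_of_surjective (Submodule.factor hle) (Submodule.factor_surjective hle)
  have h := length_quot_range_eq f hf U hU hfin
  have hrange : LinearMap.range f = (Ideal.span {algebraMap B C x} : Ideal C).restrictScalars A := by
    ext z
    simp [f, Ideal.mem_span_singleton', mul_comm (algebraMap B C x), eq_comm]
  rw [hrange, (Submodule.Quotient.restrictScalarsEquiv A (Ideal.span {algebraMap B C x} : Ideal C)).length_eq] at h
  let e : B ≃ₗ[A] U := LinearEquiv.ofInjective ι hBC
  have he : ((Ideal.span {x} : Ideal B).restrictScalars A).map (e : B →ₗ[A] U) =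
      (U.map f).comap U.subtype := by
    ext ⟨z, hz⟩
    constructor
    · rintro ⟨v, hv, hvz⟩
      obtain ⟨r, rfl⟩ := Ideal.mem_span_singleton'.mp hv
      refine ⟨ι r, ⟨r, rfl⟩, ?_⟩
      rw [← hvz]
      change algebraMap B C x * algebraMap B C r = algebraMap B C (r * x)
      rw [map_mul, mul_comm]
    · rintro ⟨_, ⟨r, rfl⟩, hrz⟩
      refine ⟨r * x, Ideal.mem_span_singleton'.mpr ⟨r, rfl⟩, Subtype.ext ?_⟩
      change algebraMap B C (r * x) = z
      rw [map_mul, mul_comm]; exact hrz
  rw [← (Submodule.Quotient.equiv _ _ e he).length_eq,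
    (Submodule.Quotient.restrictScalarsEquiv A (Ideal.span {x} : Ideal B)).length_eq] at h
  unfold len
  rw [h]

theorem finExt_trans (hA : ringKrullDim A = 1) [Algebra A B]
    (hAB : CycAlg.IsFinExt A B (IsLocalRing.maximalIdeal A))
    {C : Type u} [CommRing C] [Algebra B C] [Algebra A C] [IsScalarTower A B C] [Module.Finite B C]
    (hBC : Function.Injective (algebraMap B C)) {w : B} (hw : w ∈ nonZeroDivisors B)
    (hwC : ∀ z : C, algebraMap B C w * z ∈ (algebraMap B C).range) :
    CycAlg.IsFinExt A C (IsLocalRing.maximalIdeal A) := by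
  obtain ⟨hinj, hfin, n, hn⟩ := hAB
  refine ⟨by rw [IsScalarTower.algebraMap_eq A B C]; exact hBC.comp hinj, Module.Finite.trans B C, ?_⟩
  have := artinian_quot (dim_le_one A hA hinj) hw
  have : Module.Finite A (B ⧸ Ideal.span {w}) := inferInstance
  have : Algebra.IsIntegral A (B ⧸ Ideal.span {w}) := Algebra.IsIntegral.of_finite _ _
  obtain ⟨p, hp⟩ := IsArtinianRing.isNilpotent_jacobson_bot (R := B ⧸ Ideal.span {w})
  have hle : (IsLocalRing.maximalIdeal A).map (algebraMap A (B ⧸ Ideal.span {w})) ≤
      Ideal.jacobson ⊥ := by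
    refine le_sInf fun M hM => Ideal.map_le_iff_le_comap.mpr ?_
    have := hM.2
    exact (IsLocalRing.eq_maximalIdeal (Ideal.isMaximal_comap_of_isIntegral_of_isMaximal M)).ge
  refine ⟨p + n, fun r hr z => ?_⟩
  rw [pow_add] at hr
  induction hr using Submodule.mul_induction_on' with
  | mem_mul_mem r hr s hs =>
    have h0 : algebraMap A (B ⧸ Ideal.span {w}) r = 0 := by
      have h1 : algebraMap A (B ⧸ Ideal.span {w}) r ∈
          (IsLocalRing.maximalIdeal A).map (algebraMap A (B ⧸ Ideal.span {w})) ^ p := by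
        rw [← Ideal.map_pow]; exact Ideal.mem_map_of_mem _ hr
      have h2 := Ideal.pow_right_mono hle p h1
      rw [hp] at h2
      exact h2
    rw [IsScalarTower.algebraMap_apply A B (B ⧸ Ideal.span {w}), Ideal.Quotient.algebraMap_eq,
      Ideal.Quotient.eq_zero_iff_mem, Ideal.mem_span_singleton'] at h0
    obtain ⟨v, hv⟩ := h0
    obtain ⟨y, hy⟩ := hwC (algebraMap B C v * z)
    obtain ⟨y', hy'⟩ := hn s hs y
    refine ⟨y', ?_⟩
    rw [IsScalarTower.algebraMap_apply A B C, hy', Algebra.smul_def, map_mul, hy, mul_smul]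
    simp only [Algebra.smul_def, IsScalarTower.algebraMap_apply A B C, ← hv, map_mul]
    ring
  | add r hr s hs ih ih' =>
    rw [add_smul]
    exact add_mem ih ih'

end Groth.L15.CommonFactor
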