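import Groth.Agent.L21.Smooth.EtaleRegular
import Groth.Agent.L01.NormalDomain
import Groth.Agent.L03.RegularNormal
import Mathlib.RingTheory.RingHom.LocallyStandardSmooth
import Mathlib.RingTheory.Smooth.Field
import Mathlib.RingTheory.Etale.Kaehler
import Mathlib.RingTheory.LocalRing.Module
import Mathlib.FieldTheory.Perfect
import Mathlib.Tactic.LinearCombination

/-!
Logarithmic differentials without poles outside given primes come from units.
-/

set_option autoImplicit false

universe u

open IsLocalRing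

namespace Groth.L15.DlogUnit

theorem isRegular {k B R : Type u} [Field k] [CommRing B] [Algebra k B] [Algebra.Smooth k B]
    (p : Ideal B) [p.IsPrime] [CommRing R] [Algebra B R] [IsLocalization.AtPrime R p] : IsRegularLocalRing R := by
  obtain ⟨s, hs, hst⟩ := RingHom.Smooth.locally_isStandardSmooth
    (RingHom.smooth_algebraMap.2 ‹Algebra.Smooth k B›)
  obtain ⟨t, hts, htp⟩ : ∃ t ∈ s, t ∉ p := by
    by_contra hc
    push Not at hc
    exact ‹p.IsPrime›.ne_top (top_le_iff.1 (hs ▸ Ideal.span_le.2 hc))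
  let Bt := Localization.Away t
  have hdisj : Disjoint (Submonoid.powers t : Set B) (p : Set B) := by
    rw [Set.disjoint_left]
    rintro x ⟨n, rfl⟩ hx
    exact htp (Ideal.IsPrime.mem_of_pow_mem ‹_› n hx)
  let q : Ideal Bt := p.map (algebraMap B Bt)
  haveI hq : q.IsPrime := IsLocalization.isPrime_of_isPrime_disjoint (Submonoid.powers t) Bt p ‹_› hdisj
  have hcomap : q.comap (algebraMap B Bt) = p :=
    IsLocalization.comap_map_of_isPrime_disjoint (Submonoid.powers t) Bt ‹_› hdisj
  haveI := Groth.L21.Smooth.regular_of_isStandardSmooth k _ (hst t hts) q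
  haveI : IsLocalization.AtPrime (Localization.AtPrime q) p := by
    have h := IsLocalization.isLocalization_isLocalization_atPrime_isLocalization (Submonoid.powers t)
      (Localization.AtPrime q) q
    simpa only [hcomap] using h
  exact IsRegularLocalRing.of_ringEquiv
    (IsLocalization.algEquiv p.primeCompl (Localization.AtPrime q) R).toRingEquiv

variable {k : Type u} [Field k]

theorem map_map {R S K : Type u} [CommRing R] [CommRing S] [CommRing K] [Algebra k R] [Algebra k S] [Algebra k K]
    [Algebra R S] [Algebra R K] [Algebra S K] [IsScalarTower k R S] [IsScalarTower k R K] [IsScalarTower k S K]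
    [IsScalarTower R S K] (η : Ω[R⁄k]) :
    KaehlerDifferential.map k k S K (KaehlerDifferential.map k k R S η) = KaehlerDifferential.map k k R K η := by
  have hη : η ∈ Submodule.span R (Set.range (KaehlerDifferential.D k R)) := by
    rw [KaehlerDifferential.span_range_derivation]; exact Submodule.mem_top
  induction hη using Submodule.span_induction with
  | mem x hx =>
    obtain ⟨y, rfl⟩ := hx
    simp only [KaehlerDifferential.map_D, ← IsScalarTower.algebraMap_apply]
  | zero => simp
  | add x y _ _ h1 h2 => simp [h1, h2]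
  | smul a x _ h =>
    rw [LinearMap.map_smul, LinearMap.map_smul, LinearMap.map_smul_of_tower, h]

/-- A uniformiser has no logarithmic differential without pole. -/
theorem eq_zero_of_dlog {S K : Type u} [CharZero k] [CommRing S] [IsDomain S] [IsLocalRing S] [Algebra k S]
    [Algebra.EssFiniteType k S] [Algebra.FormallySmooth k S] [Field K] [Algebra S K] [IsFractionRing S K]
    [Algebra k K] [IsScalarTower k S K] {ϖ : S} (h0 : ϖ ≠ 0) (hm : maximalIdeal S = Ideal.span {ϖ}) (n : ℤ)
    (ω : Ω[S⁄k])
    (h : (n : K) • ((algebraMap S K ϖ)⁻¹ • KaehlerDifferential.D k K (algebraMap S K ϖ)) =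
      KaehlerDifferential.map k k S K ω) : n = 0 := by
  by_contra hn
  haveI : Module.Free S Ω[S⁄k] := Module.free_of_flat_of_isLocalRing
  have hinj : (n : S) • KaehlerDifferential.D k S ϖ = ϖ • ω := by
    rw [← sub_eq_zero]
    have he : KaehlerDifferential.map k k S K ((n : S) • KaehlerDifferential.D k S ϖ - ϖ • ω) = 0 := by
      rw [map_sub, LinearMap.map_smul, LinearMap.map_smul, KaehlerDifferential.map_D, sub_eq_zero]
      rw [algebra_compatible_smul K (n : S), algebra_compatible_smul K ϖ, ← h, map_intCast, smul_smul, smul_smul]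
      congr 1
      have := (map_ne_zero_iff _ (IsFractionRing.injective S K)).2 h0
      field_simp
    obtain ⟨⟨c, hc⟩, hce⟩ := (IsLocalizedModule.eq_zero_iff (nonZeroDivisors S)
      (KaehlerDifferential.map k k S K)).1 he
    exact (smul_eq_zero.1 hce).resolve_left (nonZeroDivisors.ne_zero hc)
  let κ := ResidueField S
  haveI : Algebra.EssFiniteType k κ := Algebra.EssFiniteType.comp k S κ
  haveI : PerfectField k := PerfectField.ofCharZero
  haveI : Algebra.FormallySmooth k κ := Algebra.FormallySmooth.of_perfectField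
  have hf : Function.Surjective (algebraMap S κ) := residue_surjective
  obtain ⟨l, hl⟩ := (Algebra.FormallySmooth.iff_split_injection (R := k) (P := S) (A := κ) hf).1 inferInstance
  have hker : RingHom.ker (algebraMap S κ) = Ideal.span {ϖ} := (ker_residue (R := S)).trans hm
  have hϖ : ϖ ∈ RingHom.ker (algebraMap S κ) := hker ▸ Ideal.mem_span_singleton_self ϖ
  have htmul : KaehlerDifferential.kerCotangentToTensor k S κ (Ideal.toCotangent _ ⟨ϖ, hϖ⟩) = 0 := by
    rw [KaehlerDifferential.kerCotangentToTensor_toCotangent]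
    have h1 := congrArg (TensorProduct.mk S κ Ω[S⁄k] 1) hinj
    rw [LinearMap.map_smul, LinearMap.map_smul] at h1
    have h2 : ϖ • (TensorProduct.mk S κ Ω[S⁄k] 1) ω = 0 := by
      rw [TensorProduct.mk_apply, TensorProduct.smul_tmul', Algebra.smul_def, mul_one,
        RingHom.mem_ker.1 hϖ, TensorProduct.zero_tmul]
    rw [h2] at h1
    have hu : IsUnit (n : S) := by
      have : IsUnit ((n : k)) := (Int.cast_ne_zero.2 hn).isUnit
      simpa using this.map (algebraMap k S)
    exact (hu.smul_left_cancel).1 (h1.trans (smul_zero _).symm)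
  have h3 : Ideal.toCotangent _ ⟨ϖ, hϖ⟩ = 0 := by
    have h4 := congrArg (fun m => m (Ideal.toCotangent _ ⟨ϖ, hϖ⟩)) hl
    simp only [LinearMap.comp_apply, htmul, map_zero, LinearMap.id_apply] at h4
    exact h4.symm
  rw [Ideal.toCotangent_eq_zero] at h3
  have h5 : ϖ ∈ RingHom.ker (algebraMap S κ) ^ 2 := h3
  rw [hker, Ideal.span_singleton_pow] at h5
  obtain ⟨x, hx⟩ := Ideal.mem_span_singleton'.1 h5
  have hu : IsUnit ϖ := IsUnit.of_mul_eq_one x (mul_left_cancel₀ h0 (by linear_combination hx))
  exact (maximalIdeal.isMaximal S).ne_top (hm.trans (Ideal.span_singleton_eq_top.2 hu))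

theorem exists_strip {R : Type u} [CommRing R] [IsDomain R] [IsNoetherianRing R] {r : ℕ} (f : Fin r → R)
    (hf : ∀ i, Prime (f i)) {a : R} (ha : a ≠ 0) :
    ∃ (e : Fin r → ℕ) (a' : R), a = a' * ∏ i, f i ^ e i ∧ ∀ i, ¬ f i ∣ a' := by
  induction a using (wellFounded_dvdNotUnit (α := R)).induction with
  | h a ih =>
    by_cases hd : ∃ i, f i ∣ a
    · obtain ⟨i, b, rfl⟩ := hd
      have hb : b ≠ 0 := right_ne_zero_of_mul ha
      obtain ⟨e, a', rfl, ha'⟩ := ih b ⟨hb, f i, (hf i).not_unit, mul_comm _ _⟩ hb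
      refine ⟨e + Pi.single i 1, a', ?_, ha'⟩
      have hs : ∏ j, f j ^ (Pi.single i 1 : Fin r → ℕ) j = f i := by
        rw [Finset.prod_eq_single i (fun j _ hj => by simp [hj]) (by simp)]
        simp
      simp only [Pi.add_apply, pow_add, Finset.prod_mul_distrib, hs]
      ring
    · push Not at hd
      exact ⟨0, a, by simp, hd⟩

section Dlog

variable {K : Type u} [Field K] [Algebra k K]

/-- `dlog`. -/
noncomputable def L (x : K) : Ω[K⁄k] := x⁻¹ • KaehlerDifferential.D k K x

theorem L_mul {x y : K} (hx : x ≠ 0) (hy : y ≠ 0) : L (k := k) (x * y) = L x + L y := by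
  simp only [L, Derivation.leibniz, smul_add, smul_smul, mul_inv]
  rw [add_comm, show x⁻¹ * y⁻¹ * y = x⁻¹ by field_simp, show x⁻¹ * y⁻¹ * x = y⁻¹ by field_simp]

theorem L_one : L (k := k) (1 : K) = 0 := by simp [L]

theorem L_pow {x : K} (hx : x ≠ 0) (n : ℕ) : L (k := k) (x ^ n) = (n : K) • L x := by
  induction n with
  | zero => simp [L_one]
  | succ n ih => rw [pow_succ, L_mul (pow_ne_zero _ hx) hx, ih, Nat.cast_succ, add_smul, one_smul]

theorem L_prod {ι : Type*} (s : Finset ι) (x : ι → K) (hx : ∀ i, x i ≠ 0) :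
    L (k := k) (∏ i ∈ s, x i) = ∑ i ∈ s, L (x i) := by
  classical
  induction s using Finset.induction_on with
  | empty => simp [L_one]
  | insert i s hi ih => rw [Finset.prod_insert hi, Finset.sum_insert hi,
      L_mul (hx i) (Finset.prod_ne_zero_iff.2 fun j _ => hx j), ih]

theorem L_mem_range {S : Type u} [CommRing S] [Algebra k S] [Algebra S K] [IsScalarTower k S K] (u : Sˣ) :
    L (k := k) (algebraMap S K u) ∈ LinearMap.range (KaehlerDifferential.map k k S K) := by
  refine ⟨(↑u⁻¹ : S) • KaehlerDifferential.D k S u, ?_⟩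
  rw [LinearMap.map_smul, KaehlerDifferential.map_D, algebra_compatible_smul K, L, map_units_inv]

end Dlog

theorem main [CharZero k] {B R K : Type u} [CommRing B] [Algebra k B] [Algebra.Smooth k B]
    (p : Ideal B) [p.IsPrime] [CommRing R] [Algebra B R] [IsLocalization.AtPrime R p]
    [Algebra k R] [IsScalarTower k B R]
    [Field K] [Algebra R K] [IsFractionRing R K] [Algebra k K] [IsScalarTower k R K]
    {r : ℕ} (f : Fin r → R) (hf : ∀ i, Prime (f i))
    (g : Kˣ) (η : Ω[R⁄k]) (c : Fin r → R)
    (h : (g : K)⁻¹ • KaehlerDifferential.D k K (g : K) =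
      KaehlerDifferential.map k k R K η +
        ∑ i, (algebraMap R K (c i) * (algebraMap R K (f i))⁻¹) •
          KaehlerDifferential.D k K (algebraMap R K (f i))) :
    ∃ (v : Rˣ) (b : Fin r → ℤ),
      (g : K)⁻¹ • KaehlerDifferential.D k K (g : K) =
        (algebraMap R K (v : R))⁻¹ • KaehlerDifferential.D k K (algebraMap R K (v : R)) +
          ∑ i, ((b i : K) * (algebraMap R K (f i))⁻¹) •
            KaehlerDifferential.D k K (algebraMap R K (f i)) := by
  haveI : IsRegularLocalRing R := isRegular (k := k) p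
  haveI : IsDomain R := Groth.L01.isDomain_of_regular R
  haveI : IsIntegrallyClosed R := Groth.L03.RegularNormal.isIntegrallyClosed R
  haveI : Algebra.EssFiniteType B R := .of_isLocalization R p.primeCompl
  haveI : Algebra.EssFiniteType k R := Algebra.EssFiniteType.comp k B R
  haveI : Algebra.FormallySmooth B R := Algebra.FormallySmooth.of_isLocalization p.primeCompl
  haveI : Algebra.FormallySmooth k R := Algebra.FormallySmooth.comp k B R
  let φ := algebraMap R K
  have φ0 : ∀ {x : R}, x ≠ 0 → φ x ≠ 0 := fun {x} hx => (map_ne_zero_iff _ (IsFractionRing.injective R K)).2 hx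
  obtain ⟨a, d, hd, hg⟩ := IsFractionRing.div_surjective R (g : K)
  have hd0 : d ≠ 0 := nonZeroDivisors.ne_zero hd
  have ha0 : a ≠ 0 := by rintro rfl; simp at hg; exact g.ne_zero hg.symm
  obtain ⟨e, a', hae, ha'⟩ := exists_strip f hf ha0
  obtain ⟨e', d', hde, hd'⟩ := exists_strip f hf hd0
  have ha'0 : a' ≠ 0 := left_ne_zero_of_mul (hae ▸ ha0)
  have hd'0 : d' ≠ 0 := left_ne_zero_of_mul (hde ▸ hd0)
  let b : Fin r → ℤ := fun i => (e i : ℤ) - e' i
  have hLprod : ∀ (x : R) (m : Fin r → ℕ), x ≠ 0 → L (k := k) (φ (x * ∏ i, f i ^ m i)) =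
      L (φ x) + ∑ i, (m i : K) • L (φ (f i)) := fun x m hx => by
    rw [map_mul, map_prod, L_mul (φ0 hx) (Finset.prod_ne_zero_iff.2 fun i _ => φ0 (pow_ne_zero _ (hf i).ne_zero)),
      L_prod _ _ fun i => φ0 (pow_ne_zero _ (hf i).ne_zero)]
    simp only [map_pow, L_pow (φ0 (hf _).ne_zero)]
  have hLg : L (k := k) (g : K) = L (φ a') - L (φ d') + ∑ i, (b i : K) • L (φ (f i)) := by
    have h1 : L (k := k) (φ a) = L (g : K) + L (φ d) := by
      rw [← L_mul g.ne_zero (φ0 hd0), ← hg, div_mul_cancel₀ _ (φ0 hd0)]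
    rw [eq_sub_of_add_eq h1.symm, hae, hde, hLprod a' e ha'0, hLprod d' e' hd'0]
    simp only [b, Int.cast_sub, Int.cast_natCast, sub_smul, Finset.sum_sub_distrib]
    abel
  have hη : L (k := k) (φ a') - L (φ d') = KaehlerDifferential.map k k R K η +
      ∑ i, (φ (c i) - (b i : K)) • L (φ (f i)) := by
    have h' : L (k := k) (g : K) = KaehlerDifferential.map k k R K η + ∑ i, φ (c i) • L (φ (f i)) := by
      simp only [L, smul_smul]
      exact h
    rw [hLg] at h'
    rw [eq_sub_of_add_eq h']
    simp only [sub_smul, Finset.sum_sub_distrib]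
    abel
  have key : ∀ (x y : R) (ω : Ω[R⁄k]) (m : Fin r → R), x ≠ 0 → y ≠ 0 → (∀ i, ¬ f i ∣ y) →
      L (k := k) (φ x) - L (φ y) = KaehlerDifferential.map k k R K ω + ∑ i, φ (m i) • L (φ (f i)) →
      y ∣ x := by
    intro x y ω m hx hy hfy hxy
    by_contra hdvd
    rw [← Ideal.mem_span_singleton, ← Ideal.Quotient.eq_zero_iff_mem] at hdvd
    obtain ⟨q, hqa, hqle⟩ := exists_le_isAssociatedPrime_of_isNoetherianRing R _ hdvd
    haveI := hqa.isPrime
    haveI hdvr : IsDiscreteValuationRing (Localization.AtPrime q) :=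
      Groth.L01.isDVR_localization_of_mem_associatedPrimes hy hqa
    have hqh : q.height = 1 := Groth.L01.height_eq_one_of_mem_associatedPrimes hy hqa
    have hyq : y ∈ q := hqle (by
      rw [Submodule.mem_colon_singleton, Submodule.mem_bot, Algebra.smul_def, Ideal.Quotient.algebraMap_eq,
        Ideal.Quotient.eq_zero_iff_mem.2 (Ideal.mem_span_singleton_self y), zero_mul])
    have hfq : ∀ i, f i ∉ q := by
      intro i hi
      haveI := (Ideal.span_singleton_prime (hf i).ne_zero).2 (hf i)
      have hle : Ideal.span {f i} ≤ q := (Ideal.span_singleton_le_iff_mem q).2 hi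
      rcases hle.lt_or_eq with hlt | heq
      · have h1 := Ideal.height_strict_mono_of_isPrime hlt
        rw [hqh, ENat.lt_one_iff_eq_zero, Ideal.height_eq_zero_iff, IsDomain.minimalPrimes_eq_singleton_bot,
          Set.mem_singleton_iff, Ideal.span_singleton_eq_bot] at h1
        exact (hf i).ne_zero h1
      · exact hfy i (Ideal.mem_span_singleton.1 (heq ▸ hyq))
    let S := Localization.AtPrime q
    letI : Algebra S K := (IsLocalization.lift (M := q.primeCompl) (g := φ) (fun y : q.primeCompl =>
      (φ0 (fun h0 : (y : R) = 0 => y.2 (by rw [h0]; exact q.zero_mem))).isUnit)).toAlgebra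
    haveI : IsScalarTower R S K := IsScalarTower.of_algebraMap_eq fun z => (IsLocalization.lift_eq _ z).symm
    haveI : IsScalarTower k S K := IsScalarTower.of_algebraMap_eq fun z => by
      rw [IsScalarTower.algebraMap_apply k R K, IsScalarTower.algebraMap_apply k R S,
        ← IsScalarTower.algebraMap_apply R S K]
    haveI : IsFractionRing S K := IsFractionRing.isFractionRing_of_isDomain_of_isLocalization q.primeCompl S K
    haveI : Algebra.EssFiniteType R S := .of_isLocalization S q.primeCompl
    haveI : Algebra.EssFiniteType k S := Algebra.EssFiniteType.comp k R S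
    haveI : Algebra.FormallySmooth R S := Algebra.FormallySmooth.of_isLocalization q.primeCompl
    haveI : Algebra.FormallySmooth k S := Algebra.FormallySmooth.comp k R S
    obtain ⟨ϖ, hϖ⟩ := IsDiscreteValuationRing.exists_irreducible S
    have hinj : Function.Injective (algebraMap R S) :=
      IsLocalization.injective S q.primeCompl_le_nonZeroDivisors
    obtain ⟨i, ux, hux⟩ := IsDiscreteValuationRing.eq_unit_mul_pow_irreducible
      ((map_ne_zero_iff _ hinj).2 hx) hϖ
    obtain ⟨j, uy, huy⟩ := IsDiscreteValuationRing.eq_unit_mul_pow_irreducible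
      ((map_ne_zero_iff _ hinj).2 hy) hϖ
    have hij : i < j := by
      by_contra hle
      push Not at hle
      have hdvdS : algebraMap R S y ∣ algebraMap R S x := ⟨ux * (↑uy⁻¹ : S) * ϖ ^ (i - j), by
        rw [hux, huy, show (uy : S) * ϖ ^ j * (ux * (↑uy⁻¹ : S) * ϖ ^ (i - j)) =
          (↑uy * ↑uy⁻¹) * ux * (ϖ ^ j * ϖ ^ (i - j)) by ring, Units.mul_inv, one_mul, ← pow_add,
          Nat.add_sub_cancel' hle]⟩
      rw [← Ideal.mem_span_singleton, show Ideal.span {algebraMap R S y} =
        (Ideal.span {y}).map (algebraMap R S) by rw [Ideal.map_span, Set.image_singleton],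
        IsLocalization.algebraMap_mem_map_algebraMap_iff q.primeCompl S] at hdvdS
      obtain ⟨t, ht, htx⟩ := hdvdS
      refine ht (hqle ?_)
      rw [Submodule.mem_colon_singleton, Submodule.mem_bot, Algebra.smul_def, Ideal.Quotient.algebraMap_eq,
        ← map_mul]
      exact Ideal.Quotient.eq_zero_iff_mem.2 htx
    let ψ := algebraMap S K
    have hψϖ : ψ ϖ ≠ 0 := (map_ne_zero_iff _ (IsFractionRing.injective S K)).2 hϖ.ne_zero
    have hψu : ∀ u : Sˣ, ψ (u : S) ≠ 0 := fun u => (map_ne_zero_iff _ (IsFractionRing.injective S K)).2 u.ne_zero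
    have hLS : ∀ (z : R) (u : Sˣ) (n : ℕ), algebraMap R S z = u * ϖ ^ n →
        L (k := k) (φ z) = L (ψ u) + (n : K) • L (ψ ϖ) := fun z u n hz => by
      rw [show φ z = ψ (algebraMap R S z) from IsScalarTower.algebraMap_apply R S K z, hz, map_mul, map_pow,
        L_mul (hψu u) (pow_ne_zero _ hψϖ), L_pow hψϖ]
    let Im := LinearMap.range (KaehlerDifferential.map k k S K)
    have hmem : ((i : ℤ) - j : ℤ) • L (k := k) (ψ ϖ) ∈ Im := by
      have e1 : ((i : ℤ) - j : ℤ) • L (k := k) (ψ ϖ) =
          KaehlerDifferential.map k k R K ω + ∑ l, φ (m l) • L (φ (f l)) - L (ψ ux) + L (ψ uy) := by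
        rw [← hxy, hLS x ux i hux, hLS y uy j huy, sub_smul, natCast_zsmul, natCast_zsmul,
          Nat.cast_smul_eq_nsmul, Nat.cast_smul_eq_nsmul]
        abel
      rw [e1]
      refine Im.add_mem (Im.sub_mem (Im.add_mem ⟨_, map_map ω⟩ (Submodule.sum_mem _ fun l _ => ?_))
        (L_mem_range ux)) (L_mem_range uy)
      obtain ⟨u, hu⟩ := IsLocalization.map_units S (⟨f l, hfq l⟩ : q.primeCompl)
      rw [show φ (f l) = ψ (u : S) by rw [hu]; exact IsScalarTower.algebraMap_apply R S K (f l),
        show φ (m l) = ψ (algebraMap R S (m l)) from IsScalarTower.algebraMap_apply R S K (m l),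
        ← algebra_compatible_smul K]
      exact Im.smul_mem _ (L_mem_range u)
    obtain ⟨w, hw⟩ := hmem
    have hn := eq_zero_of_dlog (k := k) (K := K) hϖ.ne_zero hϖ.maximalIdeal_eq ((i : ℤ) - j) w (by
      rw [hw, ← Int.cast_smul_eq_zsmul K]
      rfl)
    omega
  have hb : ∀ i, φ (c i - (b i : R)) = φ (c i) - (b i : K) := fun i => by rw [map_sub, map_intCast]
  obtain ⟨t, ht⟩ := key a' d' η (fun i => c i - (b i : R)) ha'0 hd'0 hd' (by simp only [hb]; exact hη)
  obtain ⟨t', ht'⟩ := key d' a' (-η) (fun i => -(c i - (b i : R))) hd'0 ha'0 ha' (by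
    simp only [map_neg, hb, neg_smul, Finset.sum_neg_distrib]
    rw [← neg_sub (L (φ a')), hη, neg_add])
  have htu : t * t' = 1 := mul_left_cancel₀ hd'0 (by linear_combination -ht' - t' * ht)
  refine ⟨⟨t, t', htu, by rw [mul_comm, htu]⟩, b, ?_⟩
  have e : L (k := k) (φ a') - L (φ d') = L (φ t) := by
    rw [ht, map_mul, L_mul (φ0 hd'0) (φ0 (left_ne_zero_of_mul_eq_one htu))]
    abel
  rw [e] at hLg
  show L (k := k) (g : K) = L (φ t) + _
  rw [hLg]
  congr 1
  exact Finset.sum_congr rfl fun i _ => by rw [L, smul_smul]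

end Groth.L15.DlogUnit
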