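import Mathlib.AlgebraicGeometry.EllipticCurve.VariableChange
import Mathlib.RingTheory.Etale.StandardEtale
import Mathlib.FieldTheory.IsAlgClosed.AlgebraicClosure
import Mathlib.RingTheory.LocalRing.ResidueField.Ideal
import Mathlib.RingTheory.Spectrum.Prime.Topology
import Mathlib.Tactic.LinearCombination

/-!
Weierstrass curves with the same `j`, away from `0` and `1728`, are isomorphic etale locally.
-/

set_option autoImplicit false

universe u

open Polynomial WeierstrassCurve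

namespace Groth.L15.EllIso

variable {A : Type u} [CommRing A]

/-- Isomorphic on an etale neighbourhood of `p`. -/
def G (p : PrimeSpectrum A) (W W' : WeierstrassCurve A) : Prop :=
  ∃ (B : Type u) (_ : CommRing B) (_ : Algebra A B), Algebra.Etale A B ∧
    p ∈ Set.range (PrimeSpectrum.comap (algebraMap A B)) ∧
    ∃ C : VariableChange B, C • (W.map (algebraMap A B)) = W'.map (algebraMap A B)

variable {p : PrimeSpectrum A} {W W' : WeierstrassCurve A}

theorem G.of_eq (C : VariableChange A) (h : C • W = W') : G p W W' :=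
  ⟨A, inferInstance, Algebra.id A, inferInstance, ⟨p, rfl⟩, C.map (algebraMap A A),
    by rw [map_variableChange, h]⟩

theorem G.left (C : VariableChange A) (h : G p (C • W) W') : G p W W' := by
  obtain ⟨B, i₁, i₂, he, hp, C', hC'⟩ := h
  exact ⟨B, i₁, i₂, he, hp, C' * C.map (algebraMap A B),
    by rw [mul_smul, map_variableChange, hC']⟩

theorem G.right (C : VariableChange A) (h : G p W (C • W')) : G p W W' := by
  obtain ⟨B, i₁, i₂, he, hp, C', hC'⟩ := h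
  refine ⟨B, i₁, i₂, he, hp, (C.map (algebraMap A B))⁻¹ * C', ?_⟩
  rw [mul_smul, hC', ← map_variableChange, inv_smul_smul]

theorem G.descend {A' : Type u} [CommRing A'] [Algebra A A'] [Algebra.Etale A A'] {q : PrimeSpectrum A'}
    (hq : PrimeSpectrum.comap (algebraMap A A') q = p)
    (h : G q (W.map (algebraMap A A')) (W'.map (algebraMap A A'))) : G p W W' := by
  obtain ⟨B, _, _, he, ⟨r, hr⟩, C, hC⟩ := h
  letI : Algebra A B := Algebra.compHom B (algebraMap A A')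
  haveI : IsScalarTower A A' B := IsScalarTower.of_algebraMap_eq fun _ => rfl
  haveI := he
  refine ⟨B, inferInstance, inferInstance, Algebra.Etale.comp A A' B, ⟨r, ?_⟩, C, ?_⟩
  · rw [← hq, ← hr]
    rfl
  · exact hC

theorem exists_away {f : A} (hf : f ∉ p.asIdeal) :
    ∃ q : PrimeSpectrum (Localization.Away f),
      PrimeSpectrum.comap (algebraMap A (Localization.Away f)) q = p := by
  have : p ∈ Set.range (PrimeSpectrum.comap (algebraMap A (Localization.Away f))) := by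
    rw [PrimeSpectrum.localization_away_comap_range (Localization.Away f) f]
    exact hf
  exact this

/-- We may invert an element not in `p`. -/
theorem G.invert {f : A} (hf : f ∉ p.asIdeal)
    (h : ∀ (A' : Type u) [CommRing A'] [Algebra A A'] (q : PrimeSpectrum A'),
      PrimeSpectrum.comap (algebraMap A A') q = p → IsUnit (algebraMap A A' f) →
      G q (W.map (algebraMap A A')) (W'.map (algebraMap A A'))) : G p W W' := by
  obtain ⟨q, hq⟩ := exists_away hf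
  haveI : Algebra.Etale A (Localization.Away f) := Algebra.Etale.of_isLocalizationAway f
  exact G.descend hq (h _ q hq (IsLocalization.Away.algebraMap_isUnit f))

/-- We may adjoin a simple root of a monic quadratic. -/
theorem G.quad {b c : A} (hbc : b ^ 2 - 4 * c ∉ p.asIdeal)
    (h : ∀ (A' : Type u) [CommRing A'] [Algebra A A'] (q : PrimeSpectrum A') (x : A'),
      PrimeSpectrum.comap (algebraMap A A') q = p →
      x ^ 2 + algebraMap A A' b * x + algebraMap A A' c = 0 → IsUnit (2 * x + algebraMap A A' b) →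
      G q (W.map (algebraMap A A')) (W'.map (algebraMap A A'))) : G p W W' := by
  haveI : Nontrivial A := ⟨⟨0, 1, fun h01 => p.2.ne_top ((Ideal.eq_top_iff_one _).2 (h01 ▸ p.asIdeal.zero_mem))⟩⟩
  let f : A[X] := X ^ 2 + C b * X + C c
  let P : StandardEtalePair A := ⟨f, by simp only [f]; monicity!, derivative f, ⟨1, 0, 1, by ring⟩⟩
  let L := AlgebraicClosure p.asIdeal.ResidueField
  have hker : RingHom.ker (algebraMap A L) = p.asIdeal := by
    ext a
    rw [RingHom.mem_ker, IsScalarTower.algebraMap_apply A p.asIdeal.ResidueField L,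
      map_eq_zero, Ideal.algebraMap_residueField_eq_zero]
  have hdeg : (f.map (algebraMap A L)).degree ≠ 0 := by
    have : (f.map (algebraMap A L)).degree = 2 := by
      simp only [f, Polynomial.map_add, Polynomial.map_mul, Polynomial.map_pow, map_X, map_C]
      compute_degree!
    rw [this]; decide
  obtain ⟨x, hx⟩ := IsAlgClosed.exists_root _ hdeg
  have hx' : x ^ 2 + algebraMap A L b * x + algebraMap A L c = 0 := by
    simpa [f, IsRoot.def, Polynomial.eval_map] using hx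
  have hmap : P.HasMap x := by
    refine ⟨by simpa [P, f] using hx', ?_⟩
    have hd : algebraMap A L (b ^ 2 - 4 * c) ≠ 0 := by
      rw [Ne, ← RingHom.mem_ker, hker]; exact hbc
    rw [isUnit_iff_ne_zero]
    intro h0
    have h0' : 2 * x + algebraMap A L b = 0 := by
      simp [P, f] at h0
      linear_combination h0
    apply hd
    rw [map_sub, map_mul, map_pow, map_ofNat]
    linear_combination (2 * x + algebraMap A L b) * h0' - 4 * hx'
  let φ := P.lift x hmap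
  let q : PrimeSpectrum P.Ring := ⟨RingHom.ker φ.toRingHom, RingHom.ker_isPrime _⟩
  have hq : PrimeSpectrum.comap (algebraMap A P.Ring) q = p := by
    apply PrimeSpectrum.ext
    show Ideal.comap (algebraMap A P.Ring) (RingHom.ker φ.toRingHom) = p.asIdeal
    rw [RingHom.comap_ker, AlgHom.toRingHom_eq_coe, AlgHom.comp_algebraMap, hker]
  have e1 : aeval P.X f = P.X ^ 2 + algebraMap A P.Ring b * P.X + algebraMap A P.Ring c := by
    simp only [f, map_add, map_mul, map_pow, aeval_X, aeval_C]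
  have e2 : aeval P.X (derivative f) = 2 * P.X + algebraMap A P.Ring b := by
    simp only [f, derivative_add, derivative_mul, derivative_X_pow, derivative_C, derivative_X, zero_mul,
      zero_add, add_zero, mul_one, map_add, map_mul, map_pow, aeval_X, aeval_C, map_ofNat]
    simp only [Nat.cast_ofNat, show (2 : ℕ) - 1 = 1 from rfl, pow_one]
    rw [map_ofNat]
  exact G.descend hq (h P.Ring q P.X hq (e1 ▸ P.hasMap_X.1) (e2 ▸ P.hasMap_X.2))

theorem notMem_of_isUnit {x : A} (h : IsUnit x) (p : PrimeSpectrum A) : x ∉ p.asIdeal :=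
  fun hx => p.2.ne_top (Ideal.eq_top_of_isUnit_mem _ hx h)

theorem mem_map {A' : Type u} [CommRing A'] [Algebra A A'] {q : PrimeSpectrum A'}
    (hq : PrimeSpectrum.comap (algebraMap A A') q = p) (x : A) :
    algebraMap A A' x ∈ q.asIdeal ↔ x ∈ p.asIdeal := by
  rw [← hq]; rfl

theorem two_mul_add_one_notMem (h2 : (2 : A) ∈ p.asIdeal) (k : A) : 2 * k + 1 ∉ p.asIdeal := fun h =>
  p.2.ne_top ((Ideal.eq_top_iff_one _).2
    ((add_sub_cancel_left (2 * k) (1 : A)) ▸ p.asIdeal.sub_mem h (p.asIdeal.mul_mem_right k h2)))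

/-- The hypotheses on a pair of curves. -/
structure Rel (W W' : WeierstrassCurve A) : Prop where
  c₄ : IsUnit W.c₄
  c₆ : IsUnit W.c₆
  c₄' : IsUnit W'.c₄
  c₆' : IsUnit W'.c₆
  hΔ : W.Δ * W'.c₄ ^ 3 = W'.Δ * W.c₄ ^ 3

theorem Rel.map {A' : Type u} [CommRing A'] (h : Rel W W') (f : A →+* A') : Rel (W.map f) (W'.map f) := by
  constructor
  · rw [map_c₄]; exact h.c₄.map f
  · rw [map_c₆]; exact h.c₆.map f
  · rw [map_c₄]; exact h.c₄'.map f
  · rw [map_c₆]; exact h.c₆'.map f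
  · simp only [map_Δ, map_c₄, ← map_pow, ← map_mul, h.hΔ]

theorem Rel.left (h : Rel W W') (C : VariableChange A) : Rel (C • W) W' := by
  constructor
  · rw [variableChange_c₄]; exact (C.u⁻¹.isUnit.pow 4).mul h.c₄
  · rw [variableChange_c₆]; exact (C.u⁻¹.isUnit.pow 6).mul h.c₆
  · exact h.c₄'
  · exact h.c₆'
  · rw [variableChange_c₄, variableChange_Δ]
    linear_combination (↑C.u⁻¹ : A) ^ 12 * h.hΔ

theorem Rel.symm (h : Rel W W') : Rel W' W := ⟨h.c₄', h.c₆', h.c₄, h.c₆, h.hΔ.symm⟩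

theorem Rel.right (h : Rel W W') (C : VariableChange A) : Rel W (C • W') := (h.symm.left C).symm

theorem Rel.Δ_eq (h : Rel W W') (h₄ : W.c₄ = W'.c₄) : W.Δ = W'.Δ :=
  (h.c₄'.pow 3).mul_left_injective (by simpa only [h₄] using h.hΔ)

theorem Rel.c_sq (h : Rel W W') : W.c₆ ^ 2 * W'.c₄ ^ 3 = W'.c₆ ^ 2 * W.c₄ ^ 3 := by
  linear_combination (W.c_relation : _) * W'.c₄ ^ 3 - (W'.c_relation : _) * W.c₄ ^ 3 - 1728 * h.hΔ

/-- The square of the scaling factor. -/
theorem Rel.exists_lam (h : Rel W W') : ∃ l : A, IsUnit l ∧ l * (W'.c₆ * W.c₄) = W.c₆ * W'.c₄ ∧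
    W.c₄ = l ^ 2 * W'.c₄ ∧ W.c₆ = l ^ 3 * W'.c₆ := by
  obtain ⟨v, hv⟩ := (h.c₆'.mul h.c₄)
  refine ⟨W.c₆ * W'.c₄ * (↑v⁻¹ : A), (h.c₆.mul h.c₄').mul v⁻¹.isUnit, ?_, ?_, ?_⟩
  · rw [← hv]; simp
  · apply (v.isUnit.pow 2).mul_left_injective
    have hv1 : (↑v⁻¹ : A) * ↑v = 1 := v.inv_mul
    simp only
    calc W.c₄ * (v : A) ^ 2 = W.c₄ * (W'.c₆ * W.c₄) ^ 2 := by rw [hv]
      _ = (W.c₆ * W'.c₄) ^ 2 * W'.c₄ := by linear_combination (-1 : A) * h.c_sq
      _ = _ := by rw [show (W.c₆ * W'.c₄ * (↑v⁻¹ : A)) ^ 2 * W'.c₄ * (v : A) ^ 2 =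
          (W.c₆ * W'.c₄) ^ 2 * W'.c₄ * ((↑v⁻¹ : A) * ↑v) ^ 2 by ring, hv1]; ring
  · apply (v.isUnit.pow 3).mul_left_injective
    have hv1 : (↑v⁻¹ : A) * ↑v = 1 := v.inv_mul
    simp only
    calc W.c₆ * (v : A) ^ 3 = W.c₆ * (W'.c₆ * W.c₄) ^ 3 := by rw [hv]
      _ = (W.c₆ * W'.c₄) ^ 3 * W'.c₆ := by linear_combination (-1 : A) * W.c₆ * W'.c₆ * h.c_sq
      _ = _ := by rw [show (W.c₆ * W'.c₄ * (↑v⁻¹ : A)) ^ 3 * W'.c₆ * (v : A) ^ 3 =
          (W.c₆ * W'.c₄) ^ 3 * W'.c₆ * ((↑v⁻¹ : A) * ↑v) ^ 3 by ring, hv1]; ring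

theorem c_eq_of_sq {l : A} (h₄ : W.c₄ = l ^ 2 * W'.c₄) (h₆ : W.c₆ = l ^ 3 * W'.c₆) (C : VariableChange A)
    (hu : (C.u : A) ^ 2 = l) : (C • W).c₄ = W'.c₄ ∧ (C • W).c₆ = W'.c₆ := by
  have h1 : (↑C.u⁻¹ : A) * C.u = 1 := C.u.inv_mul
  rw [variableChange_c₄, variableChange_c₆, h₄, h₆, ← hu]
  constructor
  · rw [show (↑C.u⁻¹ : A) ^ 4 * (((C.u : A) ^ 2) ^ 2 * W'.c₄) = ((↑C.u⁻¹ : A) * C.u) ^ 4 * W'.c₄ by ring, h1]
    ring
  · rw [show (↑C.u⁻¹ : A) ^ 6 * (((C.u : A) ^ 2) ^ 3 * W'.c₆) = ((↑C.u⁻¹ : A) * C.u) ^ 6 * W'.c₆ by ring, h1]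
    ring

/-- `a₁ = a₃ = 0`, two and three invertible. -/
theorem oddEq_three (h2 : IsUnit (2 : A)) (h3 : IsUnit (3 : A)) (h1 : W.a₁ = 0) (h3' : W.a₃ = 0)
    (g1 : W'.a₁ = 0) (g3 : W'.a₃ = 0) (h4 : W.c₄ = W'.c₄) (h6 : W.c₆ = W'.c₆) : G p W W' := by
  obtain ⟨k, hk⟩ := h3.exists_left_inv
  let C : VariableChange A := ⟨1, (W'.a₂ - W.a₂) * k, 0, 0⟩
  have e4 := h4
  have e6 := h6
  rw [← variableChange_c₄_one C rfl W] at e4
  rw [← variableChange_c₆_one C rfl W] at e6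
  have a1 : (C • W).a₁ = 0 := by simp [C, variableChange_a₁, h1]
  have a3 : (C • W).a₃ = 0 := by simp [C, variableChange_a₃, h1, h3']
  have a2 : (C • W).a₂ = W'.a₂ := by
    simp only [C, variableChange_a₂, inv_one, Units.val_one, h1]
    linear_combination (W'.a₂ - W.a₂) * hk
  have u48 : IsUnit (48 : A) := by
    rw [show (48 : A) = 2 ^ 4 * 3 by norm_num]; exact (h2.pow 4).mul h3
  have u864 : IsUnit (864 : A) := by
    rw [show (864 : A) = 2 ^ 5 * 3 ^ 3 by norm_num]; exact (h2.pow 5).mul (h3.pow 3)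
  have a4 : (C • W).a₄ = W'.a₄ := by
    apply u48.mul_right_injective
    simp only [WeierstrassCurve.c₄, WeierstrassCurve.b₂, WeierstrassCurve.b₄, a1, a3, g1, g3, a2] at e4
    linear_combination (-1 : A) * e4
  have a6 : (C • W).a₆ = W'.a₆ := by
    apply u864.mul_right_injective
    simp only [WeierstrassCurve.c₆, WeierstrassCurve.b₂, WeierstrassCurve.b₄, WeierstrassCurve.b₆,
      a1, a3, g1, g3, a2, a4] at e6
    linear_combination (-1 : A) * e6
  exact G.of_eq C (WeierstrassCurve.ext (a1.trans g1.symm) a2 (a3.trans g3.symm) a4 a6)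
where
  variableChange_c₄_one (C : VariableChange A) (hC : C.u = 1) (W : WeierstrassCurve A) :
      (C • W).c₄ = W.c₄ := by rw [variableChange_c₄, hC]; simp
  variableChange_c₆_one (C : VariableChange A) (hC : C.u = 1) (W : WeierstrassCurve A) :
      (C • W).c₆ = W.c₆ := by rw [variableChange_c₆, hC]; simp

/-- `a₁ = a₃ = 0`, `a₂` and `a₄` equal, three in `p`. -/
theorem oddEq_end (h2 : IsUnit (2 : A)) (h3 : (3 : A) ∈ p.asIdeal) (h1 : W.a₁ = 0) (h3' : W.a₃ = 0)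
    (g1 : W'.a₁ = 0) (g3 : W'.a₃ = 0) (e2 : W.a₂ = W'.a₂) (e4 : W.a₄ = W'.a₄) (ha : W.a₂ ∉ p.asIdeal)
    (hΔ : W.Δ = W'.Δ) : G p W W' := by
  refine G.invert (f := -64 * W.a₂ ^ 3 - 432 * (W.a₆ + W'.a₆) + 288 * W.a₂ * W.a₄) ?_ ?_
  · intro h
    have h' := p.asIdeal.add_mem h
      (p.asIdeal.mul_mem_right (144 * (W.a₆ + W'.a₆) - 96 * W.a₂ * W.a₄) h3)
    rw [show -64 * W.a₂ ^ 3 - 432 * (W.a₆ + W'.a₆) + 288 * W.a₂ * W.a₄ +
      3 * (144 * (W.a₆ + W'.a₆) - 96 * W.a₂ * W.a₄) = -(2 ^ 6) * W.a₂ ^ 3 by ring] at h'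
    rcases p.2.mem_or_mem h' with h'' | h''
    · exact notMem_of_isUnit ((h2.pow 6).neg) p h''
    · exact ha (p.2.mem_of_pow_mem 3 h'')
  · intro A' _ _ q _ hU
    have hΔ' := congrArg (algebraMap A A') hΔ
    simp only [WeierstrassCurve.Δ, WeierstrassCurve.b₂, WeierstrassCurve.b₄, WeierstrassCurve.b₆,
      WeierstrassCurve.b₈, h1, h3', g1, g3, ← e2, ← e4, map_add, map_sub, map_mul, map_pow, map_neg,
      map_ofNat, map_zero] at hΔ'
    simp only [map_add, map_sub, map_mul, map_pow, map_neg, map_ofNat] at hU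
    refine G.of_eq 1 ?_
    rw [one_smul]
    refine WeierstrassCurve.ext ?_ ?_ ?_ ?_ ?_ <;> simp only [map_a₁, map_a₂, map_a₃, map_a₄, map_a₆]
    · rw [h1, g1]
    · rw [e2]
    · rw [h3', g3]
    · rw [e4]
    · apply hU.mul_right_injective
      linear_combination hΔ'

/-- `a₁ = a₃ = 0` and three in `p`. -/
theorem oddEq_three_mem (h2 : IsUnit (2 : A)) (h3 : (3 : A) ∈ p.asIdeal) (h1 : W.a₁ = 0) (h3' : W.a₃ = 0)
    (g1 : W'.a₁ = 0) (g3 : W'.a₃ = 0) (h : Rel W W') (e4 : W.c₄ = W'.c₄) (e6 : W.c₆ = W'.c₆) : G p W W' := by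
  have e40 := e4
  simp only [WeierstrassCurve.c₄, WeierstrassCurve.c₆, WeierstrassCurve.b₂, WeierstrassCurve.b₄,
    WeierstrassCurve.b₆, h1, h3', g1, g3] at e4 e6
  have hd : W.a₂ - W'.a₂ ∈ p.asIdeal := by
    have hm : (2 : A) ^ 6 * (W.a₂ - W'.a₂) ^ 3 ∈ p.asIdeal := by
      rw [show (2 : A) ^ 6 * (W.a₂ - W'.a₂) ^ 3 = 3 * (-64 * W.a₂ * W'.a₂ * (W.a₂ - W'.a₂) +
        96 * (W.a₂ * W.a₄ - W'.a₂ * W'.a₄) - 288 * (W.a₆ - W'.a₆)) by linear_combination (-1 : A) * e6]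
      exact p.asIdeal.mul_mem_right _ h3
    exact p.2.mem_of_pow_mem 3 ((p.2.mem_or_mem hm).resolve_left (notMem_of_isUnit (h2.pow 6) p))
  have ha : W.a₂ ∉ p.asIdeal := by
    intro ha
    refine notMem_of_isUnit h.c₄ p ?_
    simp only [WeierstrassCurve.c₄, WeierstrassCurve.b₂, WeierstrassCurve.b₄, h1, h3']
    rw [show ((0 : A) ^ 2 + 4 * W.a₂) ^ 2 - 24 * (2 * W.a₄ + 0 * 0) = W.a₂ * (16 * W.a₂) - 3 * (16 * W.a₄) by
      ring]
    exact p.asIdeal.sub_mem (p.asIdeal.mul_mem_right _ ha) (p.asIdeal.mul_mem_right _ h3)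
  refine G.invert (f := W.a₂ + W'.a₂) ?_ ?_
  · intro hs
    have h' := p.asIdeal.add_mem hd hs
    rw [show W.a₂ - W'.a₂ + (W.a₂ + W'.a₂) = 2 * W.a₂ by ring] at h'
    exact ha ((p.2.mem_or_mem h').resolve_left (notMem_of_isUnit h2 p))
  · intro A' _ _ q hq hs
    let φ := algebraMap A A'
    obtain ⟨k, hk⟩ := hs.exists_left_inv
    rw [map_add] at hk
    let C : VariableChange A' := ⟨1, (φ W'.a₄ - φ W.a₄) * k, 0, 0⟩
    have h3e : 3 * (φ W'.a₄ - φ W.a₄) = (φ W'.a₂ - φ W.a₂) * (φ W.a₂ + φ W'.a₂) := by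
      have u16 : IsUnit (16 : A') := by
        rw [show (16 : A') = φ 2 ^ 4 by rw [map_ofNat]; norm_num]; exact (h2.map φ).pow 4
      apply u16.mul_right_injective
      have := congrArg φ e4
      simp only [map_add, map_sub, map_mul, map_pow, map_ofNat, map_zero] at this
      linear_combination this
    have h3q : (3 : A') ∈ q.asIdeal := map_ofNat φ 3 ▸ (mem_map hq 3).2 h3
    refine G.left C (oddEq_end ?_ h3q ?_ ?_ ?_ ?_ ?_ ?_ ?_ ?_)
    · exact map_ofNat φ 2 ▸ h2.map φ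
    · simp [C, variableChange_a₁, h1]
    · simp [C, variableChange_a₃, h1, h3']
    · simp [g1]
    · simp [g3]
    · simp only [C, variableChange_a₂, inv_one, Units.val_one, map_a₁, map_a₂, h1, map_zero]
      linear_combination k * h3e + (φ W'.a₂ - φ W.a₂) * hk
    · simp only [C, variableChange_a₄, inv_one, Units.val_one, map_a₁, map_a₂, map_a₃, map_a₄, h1, h3', map_zero]
      linear_combination (φ W'.a₄ - φ W.a₄) * hk + (φ W'.a₄ - φ W.a₄) * k ^ 2 * h3e +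
        (φ W'.a₄ - φ W.a₄) * k * (φ W'.a₂ - φ W.a₂) * hk
    · have : (C • W.map φ).a₂ = φ W'.a₂ := by
        simp only [C, variableChange_a₂, inv_one, Units.val_one, map_a₁, map_a₂, h1, map_zero]
        linear_combination k * h3e + (φ W'.a₂ - φ W.a₂) * hk
      rw [this, mem_map hq]
      intro h'
      exact ha (by simpa using p.asIdeal.add_mem hd h')
    · have e4' : (W.map φ).c₄ = (W'.map φ).c₄ := by
        rw [map_c₄, map_c₄, e40]
      rw [variableChange_Δ, (h.map φ).Δ_eq e4']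
      simp [C, φ]

/-- `a₁ = a₃ = 0`, equal `c₄` and `c₆`. -/
theorem oddEq (h2 : IsUnit (2 : A)) (h1 : W.a₁ = 0) (h3' : W.a₃ = 0) (g1 : W'.a₁ = 0) (g3 : W'.a₃ = 0)
    (h : Rel W W') (e4 : W.c₄ = W'.c₄) (e6 : W.c₆ = W'.c₆) : G p W W' := by
  by_cases h3 : (3 : A) ∈ p.asIdeal
  · exact oddEq_three_mem h2 h3 h1 h3' g1 g3 h e4 e6
  · refine G.invert h3 fun A' _ _ q _ hu => ?_
    refine oddEq_three ?_ (by rwa [map_ofNat] at hu) (by simp [h1]) (by simp [h3']) (by simp [g1])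
      (by simp [g3]) (by simp [e4]) (by simp [e6])
    exact map_ofNat (algebraMap A A') 2 ▸ h2.map (algebraMap A A')

theorem odd (h2 : IsUnit (2 : A)) (h : Rel W W') : G p W W' := by
  obtain ⟨k, hk⟩ := h2.exists_left_inv
  let N : WeierstrassCurve A → VariableChange A := fun V => ⟨1, 0, -(k * V.a₁), -(k * V.a₃)⟩
  have hN1 : ∀ V, (N V • V).a₁ = 0 := fun V => by
    simp only [N, variableChange_a₁, inv_one, Units.val_one]
    linear_combination -V.a₁ * hk
  have hN3 : ∀ V, (N V • V).a₃ = 0 := fun V => by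
    simp only [N, variableChange_a₃, inv_one, Units.val_one]
    linear_combination -V.a₃ * hk
  refine G.left (N W) (G.right (N W') ?_)
  have h' := (h.left (N W)).right (N W')
  obtain ⟨l, hl, -, hl4, hl6⟩ := h'.exists_lam
  refine G.quad (b := 0) (c := -l) ?_ ?_
  · rw [show (0 : A) ^ 2 - 4 * -l = 2 ^ 2 * l by ring]
    exact notMem_of_isUnit ((h2.pow 2).mul hl) p
  · intro A' _ _ q x _ hx _
    let φ := algebraMap A A'
    have hx2 : x ^ 2 = φ l := by
      rw [map_zero, map_neg] at hx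
      linear_combination hx
    have hxu : IsUnit x := (isUnit_pow_iff two_ne_zero).1 (hx2 ▸ hl.map φ)
    let C : VariableChange A' := ⟨hxu.unit, 0, 0, 0⟩
    obtain ⟨c4, c6⟩ := c_eq_of_sq (W := (N W • W).map φ) (W' := (N W' • W').map φ) (l := φ l)
      (by simp only [map_c₄, ← map_pow, ← map_mul, ← hl4]) (by simp only [map_c₆, ← map_pow, ← map_mul, ← hl6])
      C hx2
    refine G.left C (oddEq ?_ ?_ ?_ ?_ ?_ ((h'.map φ).left C) c4 c6)
    · exact map_ofNat φ 2 ▸ h2.map φ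
    · simp [C, variableChange_a₁, hN1]
    · simp [C, variableChange_a₃, hN1, hN3]
    · simp [hN1]
    · simp [hN3]

/-- `a₁ = 1`, `a₃ = 0`, equal `a₄`, `a₆`, and `4 a₂` equal. -/
theorem even_last (h1 : W.a₁ = 1) (h3 : W.a₃ = 0) (g1 : W'.a₁ = 1) (g3 : W'.a₃ = 0)
    (e2 : 4 * (W.a₂ - W'.a₂) = 0) (e4 : W.a₄ = W'.a₄) (e6 : W.a₆ = W'.a₆) : G p W W' := by
  refine G.quad (b := 1) (c := -(W.a₂ - W'.a₂)) ?_ ?_
  · rw [show (1 : A) ^ 2 - 4 * -(W.a₂ - W'.a₂) = 1 by linear_combination e2]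
    exact notMem_of_isUnit isUnit_one p
  · intro A' _ _ q s _ hs _
    let φ := algebraMap A A'
    have e2' := congrArg φ e2
    simp only [map_mul, map_sub, map_ofNat, map_zero] at e2'
    rw [map_one, map_neg, map_sub] at hs
    have huu : (2 * s + 1) * (2 * s + 1) = 1 := by linear_combination 4 * hs + e2'
    refine G.of_eq ⟨⟨2 * s + 1, 2 * s + 1, huu, huu⟩, 0, s, 0⟩ ?_
    ext <;>
      simp only [variableChange_a₁, variableChange_a₂, variableChange_a₃, variableChange_a₄, variableChange_a₆,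
        Units.inv_mk, map_a₁, map_a₂, map_a₃, map_a₄, map_a₆, h1, h3, g1, g3, e4, e6, map_one, map_zero]
    · linear_combination huu
    · linear_combination (φ W.a₂ - s - s ^ 2) * huu - hs
    · ring
    · linear_combination φ W'.a₄ * ((2 * s + 1) * (2 * s + 1) + 1) * huu
    · linear_combination φ W'.a₆ * ((2 * s + 1) ^ 4 + (2 * s + 1) ^ 2 + 1) * huu

/-- `a₁ = 1`, `a₃ = 0`, equal `a₄`, `c₆` and `Δ`. -/
theorem even_end (h2 : (2 : A) ∈ p.asIdeal) (h1 : W.a₁ = 1) (h3 : W.a₃ = 0) (g1 : W'.a₁ = 1) (g3 : W'.a₃ = 0)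
    (e4 : W.a₄ = W'.a₄) (e6 : W.c₆ = W'.c₆) (eΔ : W.Δ = W'.Δ) : G p W W' := by
  let x := W.a₂
  let y := W'.a₂
  let P := -((1 + 4 * x) ^ 2 + (1 + 4 * x) * (1 + 4 * y) + (1 + 4 * y) ^ 2) + 72 * W.a₄
  let U := -(1 + 4 * x) ^ 3 - 432 * (W.a₆ + W'.a₆) + 72 * W.a₄ * (1 + 4 * x)
  let V := P * W'.a₆ + W.a₄ ^ 2 * ((1 + 4 * x) + (1 + 4 * y))
  simp only [WeierstrassCurve.c₆, WeierstrassCurve.Δ, WeierstrassCurve.b₂, WeierstrassCurve.b₄,
    WeierstrassCurve.b₆, WeierstrassCurve.b₈, h1, h3, g1, g3, ← e4] at e6 eΔ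
  have hP : 4 * (x - y) * P = 864 * (W.a₆ - W'.a₆) := by
    simp only [P, x, y]; linear_combination e6
  have hU : (W.a₆ - W'.a₆) * U + 4 * (x - y) * V = 0 := by
    simp only [U, V, P, x, y]; linear_combination eΔ
  have hUm : U ∉ p.asIdeal := by
    have : U = 2 * (-6 * x - 24 * x ^ 2 - 32 * x ^ 3 - 216 * (W.a₆ + W'.a₆) +
        36 * W.a₄ * (1 + 4 * x) - 1) + 1 := by simp only [U]; ring
    rw [this]
    exact two_mul_add_one_notMem h2 _
  have hPm : P * U + 864 * V ∉ p.asIdeal := by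
    let kU := -6 * x - 24 * x ^ 2 - 32 * x ^ 3 - 216 * (W.a₆ + W'.a₆) + 36 * W.a₄ * (1 + 4 * x)
    let kP := -(6 * x + 6 * y + 8 * x ^ 2 + 8 * x * y + 8 * y ^ 2) + 36 * W.a₄
    have : P * U + 864 * V = 2 * (2 * kP * kU - kP - 3 * kU + 432 * V + 1) + 1 := by
      simp only [U, P, kU, kP]; ring
    rw [this]
    exact two_mul_add_one_notMem h2 _
  refine G.invert (f := U * (P * U + 864 * V)) (fun h => (p.2.mem_or_mem h).elim hUm hPm) ?_
  intro A' _ _ q _ hu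
  let φ := algebraMap A A'
  obtain ⟨hu1, hu2⟩ : IsUnit (φ U) ∧ IsUnit (φ (P * U + 864 * V)) := by
    rw [map_mul] at hu; exact ⟨isUnit_of_mul_isUnit_left hu, isUnit_of_mul_isUnit_right hu⟩
  have hd : φ (4 * (x - y)) = 0 := by
    have : φ (4 * (x - y)) * φ (P * U + 864 * V) = 0 := by
      rw [← map_mul, show 4 * (x - y) * (P * U + 864 * V) = 0 by
        linear_combination U * hP + 864 * hU, map_zero]
    exact hu2.mul_left_eq_zero.1 this
  have hg : φ W.a₆ = φ W'.a₆ := by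
    have h0 := congrArg φ hU
    rw [map_add, map_mul, map_mul, hd, zero_mul, add_zero, map_zero, map_sub] at h0
    exact sub_eq_zero.1 (hu1.mul_left_eq_zero.1 h0)
  refine even_last ?_ ?_ ?_ ?_ ?_ ?_ ?_
  · simp [h1]
  · simp [h3]
  · simp [g1]
  · simp [g3]
  · simpa [map_ofNat, φ] using hd
  · simp [e4]
  · simpa [φ] using hg

/-- `a₁ = 1`, `a₃ = 0`, equal `c₄` and `c₆`. -/
theorem evenEq (h2 : (2 : A) ∈ p.asIdeal) (h1 : W.a₁ = 1) (h3 : W.a₃ = 0) (g1 : W'.a₁ = 1) (g3 : W'.a₃ = 0)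
    (h : Rel W W') (e4 : W.c₄ = W'.c₄) (e6 : W.c₆ = W'.c₆) : G p W W' := by
  have eΔ := h.Δ_eq e4
  let w := 1 + 4 * W.a₂
  let e := W.a₄ - W'.a₄
  refine G.quad (b := -w) (c := 12 * e) ?_ ?_
  · rw [show (-w) ^ 2 - 4 * (12 * e) = 2 * (4 * W.a₂ + 8 * W.a₂ ^ 2 - 24 * e) + 1 by simp only [w]; ring]
    exact two_mul_add_one_notMem h2 _
  · intro A' _ _ q z₀ hq hz₀ _
    let φ := algebraMap A A'
    obtain ⟨z, hz, hzq⟩ : ∃ z : A', z ^ 2 - φ w * z + φ (12 * e) = 0 ∧ z ∉ q.asIdeal := by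
      rw [map_neg] at hz₀
      by_cases hc : z₀ ∈ q.asIdeal
      · refine ⟨φ w - z₀, by linear_combination hz₀, fun hh => ?_⟩
        have := (mem_map hq w).1 (by simpa using q.asIdeal.add_mem hc hh)
        rw [show w = 2 * (2 * W.a₂) + 1 by simp only [w]; ring] at this
        exact two_mul_add_one_notMem h2 _ this
      · exact ⟨z₀, by linear_combination hz₀, hc⟩
    refine G.invert hzq fun A'' _ _ r hr hzu => ?_
    let ψ := algebraMap A' A''
    obtain ⟨k, hk⟩ := hzu.exists_left_inv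
    have h2q : (2 : A'') ∈ r.asIdeal := by
      have h2' : (2 : A') ∈ q.asIdeal := map_ofNat φ 2 ▸ (mem_map hq 2).2 h2
      exact map_ofNat ψ 2 ▸ (mem_map hr 2).2 h2'
    let t := ψ (φ e) * k
    have hz' := congrArg ψ hz
    simp only [map_add, map_sub, map_mul, map_pow, map_ofNat, map_zero] at hz'
    have ht : 12 * t ^ 2 - ψ (φ w) * t + ψ (φ e) = 0 := by
      simp only [t]
      linear_combination (ψ (φ e) * k ^ 2) * hz' + ψ (φ e) * (ψ (φ w) * k - ψ z * k - 1) * hk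
    let C : VariableChange A'' := ⟨1, -2 * t, 0, t⟩
    refine G.left C (even_end h2q ?_ ?_ ?_ ?_ ?_ ?_ ?_)
    · simp [C, variableChange_a₁, h1]
    · simp [C, variableChange_a₃, h1, h3]
    · simp [g1]
    · simp [g3]
    · simp only [C, variableChange_a₄, inv_one, Units.val_one, map_a₁, map_a₂, map_a₃, map_a₄, h1, h3,
        map_one, map_zero]
      simp only [w, e, map_add, map_sub, map_mul, map_one, map_ofNat] at ht
      linear_combination ht
    · rw [variableChange_c₆]; simp [C, e6]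
    · rw [variableChange_Δ]; simp [C, eΔ]

theorem even_norm (h2 : (2 : A) ∈ p.asIdeal) (h1 : W.a₁ = 1) (h3 : W.a₃ = 0) (g1 : W'.a₁ = 1) (g3 : W'.a₃ = 0)
    (h : Rel W W') : G p W W' := by
  obtain ⟨l, hl, hldef, hl4, hl6⟩ := h.exists_lam
  obtain ⟨v, hv⟩ := h.c₆'.mul h.c₄
  let κ : A → A → A := fun a a4 => a + 2 * a ^ 2 - 6 * a4
  let ν : A → A → A → A := fun a a4 a6 => -3 * a - 12 * a ^ 2 - 16 * a ^ 3 + 18 * a4 * (1 + 4 * a) - 216 * a6
  let k₁ := κ W.a₂ W.a₄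
  let k₂ := κ W'.a₂ W'.a₄
  let n₁ := ν W.a₂ W.a₄ W.a₆
  let n₂ := ν W'.a₂ W'.a₄ W'.a₆
  have c1 : W.c₄ = 1 + 8 * k₁ := by
    simp only [k₁, κ, WeierstrassCurve.c₄, WeierstrassCurve.b₂, WeierstrassCurve.b₄, h1, h3]; ring
  have c2 : W'.c₄ = 1 + 8 * k₂ := by
    simp only [k₂, κ, WeierstrassCurve.c₄, WeierstrassCurve.b₂, WeierstrassCurve.b₄, g1, g3]; ring
  have d1 : W.c₆ = -1 + 4 * n₁ := by
    simp only [n₁, ν, WeierstrassCurve.c₆, WeierstrassCurve.b₂, WeierstrassCurve.b₄, WeierstrassCurve.b₆, h1, h3]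
    ring
  have d2 : W'.c₆ = -1 + 4 * n₂ := by
    simp only [n₂, ν, WeierstrassCurve.c₆, WeierstrassCurve.b₂, WeierstrassCurve.b₄, WeierstrassCurve.b₆, g1, g3]
    ring
  let μ := (-2 * k₂ + n₁ + 8 * n₁ * k₂ + 2 * k₁ - n₂ - 8 * n₂ * k₁) * (↑v⁻¹ : A)
  have hl1 : l = 1 + 4 * μ := by
    apply v.isUnit.mul_left_injective
    show l * (v : A) = (1 + 4 * μ) * v
    have hv1 : (↑v⁻¹ : A) * ↑v = 1 := v.inv_mul
    have hv2 := hv
    rw [c1, d2] at hv2
    conv_lhs => rw [hv, hldef, d1, c2]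
    simp only [μ]
    linear_combination -hv2 - 4 * (-2 * k₂ + n₁ + 8 * n₁ * k₂ + 2 * k₁ - n₂ - 8 * n₂ * k₁) * hv1
  refine G.quad (b := 1) (c := -μ) ?_ ?_
  · rw [show (1 : A) ^ 2 - 4 * -μ = l by rw [hl1]; ring]
    exact notMem_of_isUnit hl p
  · intro A' _ _ q s hq hs hu
    let φ := algebraMap A A'
    rw [map_one] at hu hs
    rw [map_neg] at hs
    let C : VariableChange A' := ⟨hu.unit, 0, s, 0⟩
    have hC : (C.u : A') ^ 2 = φ l := by
      rw [hl1, map_add, map_one, map_mul, map_ofNat]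
      show (2 * s + 1) ^ 2 = _
      linear_combination 4 * hs
    obtain ⟨c4, c6⟩ := c_eq_of_sq (W := W.map φ) (W' := W'.map φ) (l := φ l)
      (by simp only [map_c₄, ← map_pow, ← map_mul, ← hl4]) (by simp only [map_c₆, ← map_pow, ← map_mul, ← hl6])
      C hC
    refine G.left C (evenEq (map_ofNat φ 2 ▸ (mem_map hq 2).2 h2) ?_ ?_ ?_ ?_ ((h.map φ).left C) c4 c6)
    · rw [variableChange_a₁, map_a₁, h1, map_one]
      show (↑hu.unit⁻¹ : A') * (1 + 2 * s) = 1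
      rw [show (↑hu.unit⁻¹ : A') * (1 + 2 * s) = ↑hu.unit⁻¹ * (2 * s + 1) by ring]
      exact hu.val_inv_mul
    · simp [C, variableChange_a₃, h3]
    · simp [g1]
    · simp [g3]

theorem a₁_notMem (h2 : (2 : A) ∈ p.asIdeal) (h4 : IsUnit W.c₄) : W.a₁ ∉ p.asIdeal := by
  intro ha
  refine notMem_of_isUnit h4 p ?_
  rw [show W.c₄ = W.a₁ * (W.a₁ * (W.a₁ ^ 2 + 8 * W.a₂)) + 2 * (8 * W.a₂ ^ 2 - 12 * W.b₄) by
    simp only [WeierstrassCurve.c₄, WeierstrassCurve.b₂]; ring]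
  exact p.asIdeal.add_mem (p.asIdeal.mul_mem_right _ ha) (p.asIdeal.mul_mem_right _ h2)

theorem even (h2 : (2 : A) ∈ p.asIdeal) (h : Rel W W') : G p W W' := by
  refine G.invert (f := W.a₁ * W'.a₁) (fun hm => (p.2.mem_or_mem hm).elim (a₁_notMem h2 h.c₄) (a₁_notMem h2 h.c₄')) ?_
  intro A' _ _ q hq hu
  let φ := algebraMap A A'
  rw [map_mul] at hu
  have u1 : IsUnit (φ W.a₁) := isUnit_of_mul_isUnit_left hu
  have u2 : IsUnit (φ W'.a₁) := isUnit_of_mul_isUnit_right hu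
  let C : VariableChange A' := ⟨u1.unit, -(φ W.a₃ * (↑u1.unit⁻¹ : A')), 0, 0⟩
  let C' : VariableChange A' := ⟨u2.unit, -(φ W'.a₃ * (↑u2.unit⁻¹ : A')), 0, 0⟩
  have i1 : (↑u1.unit⁻¹ : A') * φ W.a₁ = 1 := u1.val_inv_mul
  have i2 : (↑u2.unit⁻¹ : A') * φ W'.a₁ = 1 := u2.val_inv_mul
  refine G.left C (G.right C' (even_norm (map_ofNat φ 2 ▸ (mem_map hq 2).2 h2) ?_ ?_ ?_ ?_
    (((h.map φ).left C).right C')))
  · simp only [C, variableChange_a₁, map_a₁]; linear_combination i1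
  · simp only [C, variableChange_a₃, map_a₁, map_a₃]
    linear_combination -(↑u1.unit⁻¹ : A') ^ 3 * φ W.a₃ * i1
  · simp only [C', variableChange_a₁, map_a₁]; linear_combination i2
  · simp only [C', variableChange_a₃, map_a₁, map_a₃]
    linear_combination -(↑u2.unit⁻¹ : A') ^ 3 * φ W'.a₃ * i2

theorem main [W.IsElliptic] [W'.IsElliptic] (hj : W.j = W'.j) (h0 : IsUnit W.j) (h1728 : IsUnit (W.j - 1728))
    (p : PrimeSpectrum A) : G p W W' := by
  have key : ∀ (V : WeierstrassCurve A) [V.IsElliptic], V.j * V.Δ = V.c₄ ^ 3 := fun V _ => by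
    rw [WeierstrassCurve.j, ← WeierstrassCurve.coe_Δ', mul_right_comm, Units.inv_mul, one_mul]
  have hr : Rel W W' := by
    have k1 := key W
    have k2 := key W'
    rw [← hj] at k2
    have s1 : W.c₆ ^ 2 = (W.j - 1728) * W.Δ := by linear_combination W.c_relation - k1
    have s2 : W'.c₆ ^ 2 = (W.j - 1728) * W'.Δ := by linear_combination W'.c_relation - k2
    refine ⟨(isUnit_pow_iff (by norm_num : (3 : ℕ) ≠ 0)).1 (k1 ▸ h0.mul W.isUnit_Δ),
      (isUnit_pow_iff two_ne_zero).1 (s1 ▸ h1728.mul W.isUnit_Δ),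
      (isUnit_pow_iff (by norm_num : (3 : ℕ) ≠ 0)).1 (k2 ▸ h0.mul W'.isUnit_Δ),
      (isUnit_pow_iff two_ne_zero).1 (s2 ▸ h1728.mul W'.isUnit_Δ), ?_⟩
    linear_combination W'.Δ * k1 - W.Δ * k2
  by_cases h2 : (2 : A) ∈ p.asIdeal
  · exact even h2 hr
  · refine G.invert h2 fun A' _ _ q _ hu => odd (by rwa [map_ofNat] at hu) (hr.map _)

end Groth.L15.EllIso
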