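import Mathlib.AlgebraicGeometry.EllipticCurve.IsomOfJ
import Mathlib.FieldTheory.IsAlgClosed.AlgebraicClosure
import Mathlib.RingTheory.AdicCompletion.Basic
import Mathlib.RingTheory.Nakayama
import Mathlib.Tactic.LinearCombination
import Groth.Agent.L05.Hensel.Product

/-!
Weierstrass curves with unit discriminant over a complete local domain with algebraically closed
residue field are isomorphic as soon as their `j` agree.
-/

set_option autoImplicit false

universe u

open WeierstrassCurve IsLocalRing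

namespace Groth.L15.EllRigid

section Rigid

variable {k : Type*} [Field k] {B : Type*} [CommRing B] [Algebra k B]

theorem cancel {x : k} (hx : x ≠ 0) {y : B} (h : algebraMap k B x * y = 0) : y = 0 :=
  (IsUnit.mul_right_eq_zero ((IsUnit.mk0 x hx).map (algebraMap k B))).mp h

theorem pow_one_add {a : B} (ha : a * a = 0) (m : ℕ) : (1 + a) ^ m = 1 + (m : B) * a := by
  induction m with
  | zero => simp
  | succ m ih => rw [pow_succ, ih]; push_cast; linear_combination (m : B) * ha

theorem linear {a A X : B} (ha : a * a = 0) (hX : a * X = 0) {m : ℕ}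
    (h : (1 + a) ^ m * (A + X) = A) : X + (m : B) * a * A = 0 := by
  rw [pow_one_add ha] at h
  linear_combination h - (m : B) * hX

/-- An elliptic curve over a field has no infinitesimal automorphisms. -/
theorem rigid (W : WeierstrassCurve k) (hΔ : W.Δ ≠ 0) (D : VariableChange B) (n : Ideal B)
    (hn : ∀ x ∈ n, ∀ y ∈ n, x * y = 0) (hu : ((D.u⁻¹ : Bˣ) : B) - 1 ∈ n) (hr : D.r ∈ n)
    (hs : D.s ∈ n) (ht : D.t ∈ n)
    (h : D • W.map (algebraMap k B) = W.map (algebraMap k B)) :
    D = 1 := by
  set a := ((D.u⁻¹ : Bˣ) : B) - 1 with ha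
  have hua : ((D.u⁻¹ : Bˣ) : B) = 1 + a := by rw [ha]; ring
  set A1 := algebraMap k B W.a₁ with hA1
  set A2 := algebraMap k B W.a₂ with hA2
  set A3 := algebraMap k B W.a₃ with hA3
  set A4 := algebraMap k B W.a₄ with hA4
  set A6 := algebraMap k B W.a₆ with hA6
  set r := D.r with hrdef
  set s := D.s with hsdef
  set t := D.t with htdef
  have haa := hn a hu a hu
  have has := hn a hu s hs
  have har := hn a hu r hr
  have hat := hn a hu t ht
  have hrr := hn r hr r hr
  have hrs := hn r hr s hs
  have hrt := hn r hr t ht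
  have hss := hn s hs s hs
  have hst := hn s hs t ht
  have htt := hn t ht t ht
  have e1 := congrArg WeierstrassCurve.a₁ h
  have e2 := congrArg WeierstrassCurve.a₂ h
  have e3 := congrArg WeierstrassCurve.a₃ h
  have e4 := congrArg WeierstrassCurve.a₄ h
  have e6 := congrArg WeierstrassCurve.a₆ h
  simp only [variableChange_a₁, variableChange_a₂, variableChange_a₃, variableChange_a₄,
    variableChange_a₆, map_a₁, map_a₂, map_a₃, map_a₄, map_a₆, hua, ← hA1, ← hA2, ← hA3, ← hA4,
    ← hA6, ← hrdef, ← hsdef, ← htdef] at e1 e2 e3 e4 e6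
  have E1 : 2 * s + a * A1 = 0 := by
    have := linear (A := A1) (X := 2 * s) haa (by linear_combination 2 * has) (m := 1)
      (by rw [pow_one]; exact e1)
    push_cast at this
    linear_combination this
  have E2 : 3 * r - s * A1 + 2 * a * A2 = 0 := by
    have := linear (A := A2) (X := -(s * A1) + 3 * r - s ^ 2) haa
      (by linear_combination (-A1 - s) * has + 3 * har) (m := 2) (by linear_combination e2)
    push_cast at this
    linear_combination this + hss
  have E3 : r * A1 + 2 * t + 3 * a * A3 = 0 := by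
    have := linear (A := A3) (X := r * A1 + 2 * t) haa
      (by linear_combination A1 * har + 2 * hat) (m := 3) (by linear_combination e3)
    push_cast at this
    linear_combination this
  have E4 : -(s * A3) + 2 * r * A2 - t * A1 + 4 * a * A4 = 0 := by
    have := linear (A := A4)
      (X := -(s * A3) + 2 * r * A2 - (t + r * s) * A1 + 3 * r ^ 2 - 2 * s * t) haa
      (by linear_combination (-A3 - r * A1 - 2 * t) * has + (2 * A2 + 3 * r) * har - A1 * hat)
      (m := 4) (by linear_combination e4)
    push_cast at this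
    linear_combination this + A1 * hrs - 3 * hrr + 2 * hst
  have E6 : r * A4 - t * A3 + 6 * a * A6 = 0 := by
    have := linear (A := A6)
      (X := r * A4 + r ^ 2 * A2 + r ^ 3 - t * A3 - t ^ 2 - r * t * A1) haa
      (by linear_combination (A4 + r * A2 + r ^ 2 - t * A1) * har + (-A3 - t) * hat)
      (m := 6) (by linear_combination e6)
    push_cast at this
    linear_combination this + (-A2 - r) * hrr + htt + A1 * hrt
  suffices ha0 : a = 0 ∧ r = 0 ∧ s = 0 ∧ t = 0 by
    obtain ⟨h1, h2, h3, h4⟩ := ha0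
    have hu1 : D.u = 1 := by
      rw [← inv_eq_one, ← Units.val_eq_one, hua, h1, add_zero]
    rw [VariableChange.one_def]
    ext
    · simp [hu1]
    · exact h2
    · exact h3
    · exact h4
  by_cases h2 : (2 : k) = 0
  · have h2B : (2 : B) = 0 := by rw [← map_ofNat (algebraMap k B) 2, h2, map_zero]
    by_cases h1 : W.a₁ = 0
    · have hA1' : A1 = 0 := by rw [hA1, h1, map_zero]
      have h3 : W.a₃ ≠ 0 := by
        intro h3
        apply hΔ
        simp only [WeierstrassCurve.Δ, WeierstrassCurve.b₂, WeierstrassCurve.b₄,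
          WeierstrassCurve.b₆, WeierstrassCurve.b₈, h1, h3]
        linear_combination (-32 * W.a₂ ^ 3 * W.a₆ + 8 * W.a₂ ^ 2 * W.a₄ ^ 2 - 32 * W.a₄ ^ 3
          - 216 * W.a₆ ^ 2 + 144 * W.a₂ * W.a₄ * W.a₆) * h2
      have r0 : r = 0 := by linear_combination E2 + s * hA1' - (r + a * A2) * h2B
      have a0 : a = 0 := cancel h3 (by
        linear_combination E3 - A1 * r0 - (t + a * A3) * h2B)
      have s0 : s = 0 := cancel h3 (by
        linear_combination -E4 + (2 * A2) * r0 - t * hA1' + 4 * A4 * a0)
      have t0 : t = 0 := cancel h3 (by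
        linear_combination -E6 + A4 * r0 + 6 * A6 * a0)
      exact ⟨a0, r0, s0, t0⟩
    · have a0 : a = 0 := cancel h1 (by linear_combination E1 - s * h2B)
      have r0 : r = 0 := cancel h1 (by linear_combination E3 - t * h2B - 3 * A3 * a0)
      have s0 : s = 0 := cancel h1 (by linear_combination -E2 + 3 * r0 + 2 * A2 * a0)
      have t0 : t = 0 := cancel h1 (by
        linear_combination -E4 - A3 * s0 + 2 * A2 * r0 + 4 * A4 * a0)
      exact ⟨a0, r0, s0, t0⟩
  · set B2 := algebraMap k B W.b₂ with hB2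
    set B4 := algebraMap k B W.b₄ with hB4
    set B6 := algebraMap k B W.b₆ with hB6
    have F2 : 12 * r + 2 * a * B2 = 0 := by
      rw [hB2, WeierstrassCurve.b₂]
      simp only [map_add, map_mul, map_pow, map_ofNat]
      linear_combination 2 * A1 * E1 + 4 * E2
    have F4 : r * B2 + 4 * a * B4 = 0 := by
      rw [hB2, hB4, WeierstrassCurve.b₂, WeierstrassCurve.b₄]
      simp only [map_add, map_mul, map_pow, map_ofNat]
      linear_combination 2 * E4 + A3 * E1 + A1 * E3
    have F6 : 2 * r * B4 + 6 * a * B6 = 0 := by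
      rw [hB4, hB6, WeierstrassCurve.b₄, WeierstrassCurve.b₆]
      simp only [map_add, map_mul, map_pow, map_ofNat]
      linear_combination 2 * A3 * E3 + 4 * E6
    have hD : (4 : k) * W.Δ = -W.b₂ ^ 3 * W.b₆ + W.b₂ ^ 2 * W.b₄ ^ 2 - 32 * W.b₄ ^ 3
        - 108 * W.b₆ ^ 2 + 36 * W.b₂ * W.b₄ * W.b₆ := by
      rw [WeierstrassCurve.Δ]
      linear_combination -W.b₂ ^ 2 * W.b_relation
    have k2 : ∀ {y : B}, (2 : B) * y = 0 → y = 0 := fun h' =>
      cancel h2 (by rw [map_ofNat]; exact h')
    have hfin : a = 0 → r = 0 → a = 0 ∧ r = 0 ∧ s = 0 ∧ t = 0 := fun a0 r0 => by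
      refine ⟨a0, r0, k2 ?_, k2 ?_⟩
      · linear_combination E1 - A1 * a0
      · linear_combination E3 - A1 * r0 - 3 * A3 * a0
    by_cases h3 : (3 : k) = 0
    · have h3B : (3 : B) = 0 := by rw [← map_ofNat (algebraMap k B) 3, h3, map_zero]
      by_cases hb : W.b₂ = 0
      · have hb4 : W.b₄ ≠ 0 := by
          intro hb4
          apply hΔ
          have h4 : (4 : k) ≠ 0 := fun h4 => h2 (mul_self_eq_zero.mp (by linear_combination h4))
          refine (mul_eq_zero.mp ?_).resolve_left h4
          rw [hD, hb, hb4]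
          linear_combination -36 * W.b₆ ^ 2 * h3
        have hB2' : B2 = 0 := by rw [hB2, hb, map_zero]
        have r0 : r = 0 := cancel hb4 (k2 (by linear_combination F6 - 2 * a * B6 * h3B))
        have a0 : a = 0 := cancel hb4 (by
          linear_combination F4 - a * B4 * h3B - r * hB2')
        exact hfin a0 r0
      · have a0 : a = 0 := cancel hb (k2 (by linear_combination F2 - 4 * r * h3B))
        have r0 : r = 0 := cancel hb (by linear_combination F4 - 4 * B4 * a0)
        exact hfin a0 r0
    · have h12 : (12 : k) ≠ 0 := by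
        have : (12 : k) = 2 * 2 * 3 := by norm_num
        rw [this]; exact mul_ne_zero (mul_ne_zero h2 h2) h3
      have hD' : (4 : B) * algebraMap k B W.Δ = -B2 ^ 3 * B6 + B2 ^ 2 * B4 ^ 2 - 32 * B4 ^ 3
          - 108 * B6 ^ 2 + 36 * B2 * B4 * B6 := by
        have := congrArg (algebraMap k B) hD
        simpa only [map_add, map_sub, map_neg, map_mul, map_pow, map_ofNat] using this
      have h48 : (12 : k) * (4 * W.Δ) ≠ 0 := by
        have : (4 : k) = 2 * 2 := by norm_num
        rw [this]
        exact mul_ne_zero h12 (mul_ne_zero (mul_ne_zero h2 h2) hΔ)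
      have a0 : a = 0 := cancel h48 (by
        simp only [map_mul, map_ofNat]
        linear_combination 12 * a * hD' + (-3 * B2 ^ 2 * B6 + 2 * B2 * B4 ^ 2 + 36 * B4 * B6) * F2
          + (2 * B2 ^ 2 * B4 - 96 * B4 ^ 2 + 36 * B2 * B6) * F4
          + (-B2 ^ 3 - 216 * B6 + 36 * B2 * B4) * F6)
      have r0 : r = 0 := cancel h12 (by
        rw [map_ofNat]
        linear_combination F2 - 2 * B2 * a0)
      exact hfin a0 r0

end Rigid

section Integral

variable {R : Type*} [CommRing R] {L : Type*} [Field L] [Algebra R L]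

open Polynomial in
theorem isIntegral_of_root {x : L} {m : ℕ} (p : (integralClosure R L)[X]) (hp : p.degree ≤ m)
    (h : aeval x (X ^ (m + 1) + p) = 0) : IsIntegral R x :=
  isIntegral_trans (R := R) x ⟨X ^ (m + 1) + p, monic_X_pow_add (lt_of_le_of_lt hp (by exact_mod_cast Nat.lt_succ_self m)), h⟩

/-- Isomorphisms between curves with unit discriminant are integral. -/
theorem integral (W₁ W₂ : WeierstrassCurve R) (h₁ : IsUnit W₁.Δ) (h₂ : IsUnit W₂.Δ)
    (C : VariableChange L)
    (h : C • W₁.map (algebraMap R L) = W₂.map (algebraMap R L)) :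
    IsIntegral R (C.u : L) ∧ IsIntegral R ((C.u⁻¹ : Lˣ) : L) ∧ IsIntegral R C.r ∧
      IsIntegral R C.s ∧ IsIntegral R C.t := by
  set v := ((C.u⁻¹ : Lˣ) : L) with hv
  have huv : (C.u : L) * v = 1 := C.u.mul_inv
  have eD : v ^ 12 * algebraMap R L W₁.Δ = algebraMap R L W₂.Δ := by
    have := congrArg WeierstrassCurve.Δ h
    simpa only [variableChange_Δ, map_Δ, ← hv] using this
  obtain ⟨e₁, he₁⟩ := h₁.exists_left_inv
  obtain ⟨e₂, he₂⟩ := h₂.exists_left_inv
  have he₁' : algebraMap R L e₁ * algebraMap R L W₁.Δ = 1 := by rw [← map_mul, he₁, map_one]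
  have he₂' : algebraMap R L e₂ * algebraMap R L W₂.Δ = 1 := by rw [← map_mul, he₂, map_one]
  have iv : IsIntegral R v := by
    apply IsIntegral.of_pow (n := 12) (by norm_num)
    have : v ^ 12 = algebraMap R L (e₁ * W₂.Δ) := by
      rw [map_mul]; linear_combination algebraMap R L e₁ * eD - v ^ 12 * he₁'
    rw [this]; exact isIntegral_algebraMap
  have hu12 : (C.u : L) ^ 12 = algebraMap R L (e₂ * W₁.Δ) := by
    have hp : (C.u : L) ^ 12 * v ^ 12 = 1 := by rw [← mul_pow, huv, one_pow]
    rw [map_mul]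
    linear_combination -(C.u : L) ^ 12 * he₂' - (C.u : L) ^ 12 * algebraMap R L e₂ * eD
      + algebraMap R L e₂ * algebraMap R L W₁.Δ * hp
  have iu : IsIntegral R (C.u : L) := by
    apply IsIntegral.of_pow (n := 12) (by norm_num)
    rw [hu12]; exact isIntegral_algebraMap
  let o : R → integralClosure R L := fun c => ⟨algebraMap R L c, isIntegral_algebraMap⟩
  let U : integralClosure R L := ⟨(C.u : L), iu⟩
  have o_val : ∀ c, algebraMap (integralClosure R L) L (o c) = algebraMap R L c := fun c => rfl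
  have U_val : algebraMap (integralClosure R L) L U = (C.u : L) := rfl
  have e1 := congrArg WeierstrassCurve.a₁ h
  have e2 := congrArg WeierstrassCurve.a₂ h
  have e6 := congrArg WeierstrassCurve.a₆ h
  have e_6 := congrArg WeierstrassCurve.b₆ h
  have e_8 := congrArg WeierstrassCurve.b₈ h
  simp only [variableChange_a₁, variableChange_a₂, variableChange_a₆, variableChange_b₆,
    variableChange_b₈, map_a₁, map_a₂, map_a₃, map_a₄, map_a₆, map_b₂, map_b₄, map_b₆, map_b₈,
    ← hv] at e1 e2 e6 e_6 e_8
  have huv2 : (C.u : L) ^ 2 * v ^ 2 = 1 := by rw [← mul_pow, huv, one_pow]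
  have huv6 : (C.u : L) ^ 6 * v ^ 6 = 1 := by rw [← mul_pow, huv, one_pow]
  have huv8 : (C.u : L) ^ 8 * v ^ 8 = 1 := by rw [← mul_pow, huv, one_pow]
  have ir : IsIntegral R C.r := by
    refine isIntegral_of_root (m := 3) (Polynomial.C (-(o W₁.b₄)) * Polynomial.X ^ 2
      + Polynomial.C (o W₁.b₆ - U ^ 6 * o W₂.b₆ - 3 * o W₁.b₆) * Polynomial.X
      + Polynomial.C (-(o W₁.b₈ - U ^ 8 * o W₂.b₈))) (by compute_degree <;> norm_num) ?_
    simp only [map_add, map_sub, map_neg, map_mul, map_pow, map_ofNat, Polynomial.aeval_X,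
      Polynomial.aeval_C, o_val, U_val]
    linear_combination C.r * (C.u : L) ^ 6 * e_6
      - C.r * (algebraMap R L W₁.b₆ + 2 * C.r * algebraMap R L W₁.b₄
          + C.r ^ 2 * algebraMap R L W₁.b₂ + 4 * C.r ^ 3) * huv6
      - (C.u : L) ^ 8 * e_8
      + (algebraMap R L W₁.b₈ + 3 * C.r * algebraMap R L W₁.b₆
          + 3 * C.r ^ 2 * algebraMap R L W₁.b₄ + C.r ^ 3 * algebraMap R L W₁.b₂
          + 3 * C.r ^ 4) * huv8
  let rS : integralClosure R L := ⟨C.r, ir⟩
  have r_val : algebraMap (integralClosure R L) L rS = C.r := rfl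
  have is : IsIntegral R C.s := by
    refine isIntegral_of_root (m := 1) (Polynomial.C (o W₁.a₁) * Polynomial.X
      + Polynomial.C (-(3 * rS) - o W₁.a₂ + U ^ 2 * o W₂.a₂)) (by compute_degree <;> norm_num) ?_
    simp only [map_add, map_sub, map_neg, map_mul, map_pow, map_ofNat, Polynomial.aeval_X,
      Polynomial.aeval_C, o_val, U_val, r_val]
    linear_combination -(C.u : L) ^ 2 * e2
      + (algebraMap R L W₁.a₂ - C.s * algebraMap R L W₁.a₁ + 3 * C.r - C.s ^ 2) * huv2
  have it : IsIntegral R C.t := by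
    refine isIntegral_of_root (m := 1) (Polynomial.C (o W₁.a₃ + rS * o W₁.a₁) * Polynomial.X
      + Polynomial.C (U ^ 6 * o W₂.a₆ - o W₁.a₆ - rS * o W₁.a₄ - rS ^ 2 * o W₁.a₂ - rS ^ 3))
      (by compute_degree <;> norm_num) ?_
    simp only [map_add, map_sub, map_neg, map_mul, map_pow, map_ofNat, Polynomial.aeval_X,
      Polynomial.aeval_C, o_val, U_val, r_val]
    linear_combination -(C.u : L) ^ 6 * e6
      + (algebraMap R L W₁.a₆ + C.r * algebraMap R L W₁.a₄ + C.r ^ 2 * algebraMap R L W₁.a₂
          + C.r ^ 3 - C.t * algebraMap R L W₁.a₃ - C.t ^ 2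
          - C.r * C.t * algebraMap R L W₁.a₁) * huv6
  exact ⟨iu, iv, ir, is, it⟩

end Integral

section Main

variable {R : Type u} [CommRing R] [IsDomain R] [IsNoetherianRing R] [HenselianLocalRing R]
  [IsAlgClosed (ResidueField R)]

theorem isLocalRing_of_finite (S : Type u) [CommRing S] [IsDomain S] [Algebra R S]
    [Module.Finite R S] : IsLocalRing S := by
  obtain ⟨ι, _, e, he, hloc⟩ := Groth.L05.exists_idem_local_of_finite (A := R) S
  have h01 : ∀ i, e i = 0 ∨ e i = 1 := fun i => IsIdempotentElem.iff_eq_zero_or_one.mp (he.idem i)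
  obtain ⟨i, hi⟩ : ∃ i, e i = 1 := by
    by_contra hne
    push Not at hne
    have := he.complete
    rw [Finset.sum_eq_zero (fun i _ => (h01 i).resolve_right (hne i))] at this
    exact zero_ne_one this
  have hbot : Ideal.span ({1 - e i} : Set S) = ⊥ := by
    rw [hi, sub_self]; exact Ideal.span_singleton_eq_bot.mpr rfl
  haveI := hloc i
  exact ((Ideal.quotEquivOfEq hbot).trans (RingEquiv.quotientBot S)).isLocalRing

theorem surjective_algebraMap (S : Type u) [CommRing S] [IsDomain S] [Algebra R S]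
    [Module.Finite R S] (W₁ W₂ : WeierstrassCurve R) (h₂ : IsUnit W₂.Δ) (C : VariableChange S)
    (h : C • W₁.map (algebraMap R S) = W₂.map (algebraMap R S))
    (hgen : Algebra.adjoin R ({(C.u : S), ((C.u⁻¹ : Sˣ) : S), C.r, C.s, C.t} : Set S) = ⊤) :
    Function.Surjective (algebraMap R S) := by
  haveI := isLocalRing_of_finite (R := R) S
  haveI : IsNoetherianRing S := IsNoetherianRing.of_finite R S
  haveI : Algebra.IsIntegral R S := Algebra.IsIntegral.of_finite R S
  set n := maximalIdeal S with hn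
  have hcomap : n.comap (algebraMap R S) = maximalIdeal R :=
    eq_maximalIdeal (Ideal.isMaximal_comap_of_isIntegral_of_isMaximal n)
  let φn : ResidueField R →+* S ⧸ n :=
    Ideal.Quotient.lift (maximalIdeal R) ((Ideal.Quotient.mk n).comp (algebraMap R S))
      fun x hx => by
        rw [← hcomap] at hx
        exact Ideal.Quotient.eq_zero_iff_mem.mpr hx
  have hlift : ∀ x : S, ∃ c : R, x - algebraMap R S c ∈ n := by
    letI : Algebra (ResidueField R) (S ⧸ n) := φn.toAlgebra
    haveI : IsScalarTower R (ResidueField R) (S ⧸ n) := IsScalarTower.of_algebraMap_eq fun _ => rfl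
    haveI : Algebra.IsIntegral (ResidueField R) (S ⧸ n) := Algebra.IsIntegral.tower_top R
    haveI : IsDomain (S ⧸ n) := (Ideal.Quotient.isDomain_iff_prime n).mpr inferInstance
    intro x
    obtain ⟨c, hc⟩ := (IsAlgClosed.algebraMap_bijective_of_isIntegral
      (k := ResidueField R) (K := S ⧸ n)).2 (Ideal.Quotient.mk n x)
    obtain ⟨c, rfl⟩ := Ideal.Quotient.mk_surjective c
    exact ⟨c, Ideal.Quotient.eq.mp hc.symm⟩
  obtain ⟨cu, hcu⟩ := hlift C.u
  obtain ⟨cr, hcr⟩ := hlift C.r
  obtain ⟨cs, hcs⟩ := hlift C.s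
  obtain ⟨ct, hct⟩ := hlift C.t
  have hcu' : IsUnit cu := by
    by_contra hne
    have : cu ∈ n.comap (algebraMap R S) := by rw [hcomap]; exact hne
    exact (n.add_mem hcu this) (by rw [sub_add_cancel]; exact C.u.isUnit)
  let C₀ : VariableChange R := ⟨hcu'.unit, cr, cs, ct⟩
  have hn' : C.map (Ideal.Quotient.mk n) =
      (C₀.map (residue R)).map φn := by
    ext
    · show Ideal.Quotient.mk n (C.u : S) = Ideal.Quotient.mk n (algebraMap R S cu)
      exact Ideal.Quotient.eq.mpr hcu
    · exact Ideal.Quotient.eq.mpr hcr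
    · exact Ideal.Quotient.eq.mpr hcs
    · exact Ideal.Quotient.eq.mpr hct
  have hk : C₀.map (residue R) • W₁.map (residue R) = W₂.map (residue R) := by
    apply WeierstrassCurve.map_injective φn.injective
    have := congrArg (fun W : WeierstrassCurve S => W.map (Ideal.Quotient.mk n)) h
    simp only [← map_variableChange, map_map] at this ⊢
    rw [hn'] at this
    exact this
  set J : Ideal S := (maximalIdeal R).map (algebraMap R S) ⊔ n * n with hJ
  have hmn : (maximalIdeal R).map (algebraMap R S) ≤ n := by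
    rw [Ideal.map_le_iff_le_comap, hcomap]
  have hJn : J ≤ n := sup_le hmn Ideal.mul_le_left
  set B := S ⧸ J
  let q : S →+* B := Ideal.Quotient.mk J
  let φB : ResidueField R →+* B :=
    Ideal.Quotient.lift (maximalIdeal R) (q.comp (algebraMap R S))
      fun x hx => Ideal.Quotient.eq_zero_iff_mem.mpr (Ideal.mem_sup_left (Ideal.mem_map_of_mem _ hx))
  letI : Algebra (ResidueField R) B := φB.toAlgebra
  let f : B →+* S ⧸ n := Ideal.Quotient.factor hJn
  set CB := C.map q
  set C₀B := (C₀.map (residue R)).map φB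
  have hfix : (CB * C₀B⁻¹) • (W₂.map (residue R)).map φB = (W₂.map (residue R)).map φB := by
    have h1 : C₀B • (W₁.map (residue R)).map φB = (W₂.map (residue R)).map φB := by
      rw [map_variableChange, hk]
    have h2 : CB • (W₁.map (residue R)).map φB = (W₂.map (residue R)).map φB := by
      have := congrArg (fun W : WeierstrassCurve S => W.map q) h
      simp only [← map_variableChange, map_map] at this ⊢
      exact this
    rw [mul_smul, ← h1, inv_smul_smul, h1, h2]
  set D := CB * C₀B⁻¹ with hD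
  have hfD : D.map f = 1 := by
    have hCf : CB.map f = C₀B.map f := by
      have e1 : CB.map f = C.map (Ideal.Quotient.mk n) := by ext <;> rfl
      have e2 : C₀B.map f = (C₀.map (residue R)).map φn := by ext <;> rfl
      rw [e1, e2, hn']
    show VariableChange.mapHom f (CB * C₀B⁻¹) = 1
    rw [map_mul, map_inv]
    show CB.map f * (C₀B.map f)⁻¹ = 1
    rw [hCf, mul_inv_cancel]
  have hmem : ∀ x : B, f x = 0 → x ∈ n.map q := by
    intro x hx
    obtain ⟨y, rfl⟩ := Ideal.Quotient.mk_surjective x
    exact Ideal.mem_map_of_mem q (Ideal.Quotient.eq_zero_iff_mem.mp hx)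
  have hD1 : D = 1 := by
    refine rigid (W₂.map (residue R)) ?_ D (n.map q) ?_ ?_ ?_ ?_ ?_ hfix
    · rw [map_Δ]; exact (h₂.map (residue R)).ne_zero
    · intro x hx y hy
      have : x * y ∈ (n * n).map q := by rw [Ideal.map_mul]; exact Ideal.mul_mem_mul hx hy
      have h0 : (n * n).map q ≤ ⊥ := by
        rw [Ideal.map_le_iff_le_comap]
        exact fun z hz => Ideal.Quotient.eq_zero_iff_mem.mpr (Ideal.mem_sup_right hz)
      exact h0 this
    · apply hmem
      rw [map_sub, map_one]
      have := congrArg (fun E : VariableChange (S ⧸ n) => ((E.u⁻¹ : (S ⧸ n)ˣ) : S ⧸ n)) hfD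
      simp only [VariableChange.one_def, inv_one, Units.val_one] at this
      rw [sub_eq_zero]
      exact this
    · exact hmem _ (congrArg VariableChange.r hfD)
    · exact hmem _ (congrArg VariableChange.s hfD)
    · exact hmem _ (congrArg VariableChange.t hfD)
  have hCC : CB = C₀B := mul_inv_eq_one.mp hD1
  -- every element is congruent to a scalar modulo `J`
  let T : Subalgebra R S :=
    (Algebra.ofId R B).range.comap (Ideal.Quotient.mkₐ R J)
  have hT : T = ⊤ := by
    rw [← top_le_iff, ← hgen, Algebra.adjoin_le_iff]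
    intro x hx
    have key : ∀ c : R, q x = q (algebraMap R S c) → x ∈ T := fun c hc => ⟨c, hc.symm⟩
    simp only [Set.mem_insert_iff, Set.mem_singleton_iff] at hx
    rcases hx with rfl | rfl | rfl | rfl | rfl
    · exact key cu (congrArg (fun E : VariableChange B => (E.u : B)) hCC)
    · exact key ((hcu'.unit⁻¹ : Rˣ) : R)
        (congrArg (fun E : VariableChange B => ((E.u⁻¹ : Bˣ) : B)) hCC)
    · exact key cr (congrArg VariableChange.r hCC)
    · exact key cs (congrArg VariableChange.s hCC)
    · exact key ct (congrArg VariableChange.t hCC)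
  have hJall : ∀ x : S, ∃ c : R, x - algebraMap R S c ∈ J := by
    intro x
    have : x ∈ T := by rw [hT]; exact Algebra.mem_top
    obtain ⟨c, hc⟩ := this
    exact ⟨c, Ideal.Quotient.eq.mp hc.symm⟩
  have hnm : n ≤ (maximalIdeal R).map (algebraMap R S) := by
    refine Submodule.le_of_le_smul_of_le_jacobson_bot (IsNoetherian.noetherian n)
      (IsLocalRing.jacobson_eq_maximalIdeal (⊥ : Ideal S) bot_ne_top).ge ?_
    intro x hx
    obtain ⟨c, hc⟩ := hJall x
    have hcm : algebraMap R S c ∈ n := by
      have h' := n.sub_mem hx (hJn hc)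
      rwa [sub_sub_cancel] at h'
    have hc' : c ∈ maximalIdeal R := by rw [← hcomap]; exact hcm
    rw [smul_eq_mul, ← hJ]
    have := J.add_mem hc (Ideal.mem_sup_left (Ideal.mem_map_of_mem (algebraMap R S) hc'))
    rwa [sub_add_cancel] at this
  have hrange : (⊤ : Submodule R S) ≤ LinearMap.range (Algebra.linearMap R S) := by
    refine Submodule.le_of_le_smul_of_le_jacobson_bot Module.Finite.fg_top
      (IsLocalRing.jacobson_eq_maximalIdeal (⊥ : Ideal R) bot_ne_top).ge ?_
    intro x _
    obtain ⟨c, hc⟩ := hJall x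
    have hc2 : x - algebraMap R S c ∈ (maximalIdeal R).map (algebraMap R S) :=
      sup_le le_rfl (le_trans Ideal.mul_le_left hnm) hc
    rw [Ideal.smul_top_eq_map]
    exact Submodule.mem_sup.mpr ⟨algebraMap R S c, ⟨c, rfl⟩, x - algebraMap R S c, hc2,
      add_sub_cancel _ _⟩
  intro x
  obtain ⟨c, hc⟩ := hrange (Submodule.mem_top (x := x))
  exact ⟨c, hc⟩

theorem exists_variableChange (W₁ W₂ : WeierstrassCurve R) [W₁.IsElliptic] [W₂.IsElliptic]
    (hj : W₁.j = W₂.j) : ∃ C : VariableChange R, C • W₁ = W₂ := by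
  let L := AlgebraicClosure (FractionRing R)
  have hinj : Function.Injective (algebraMap R L) := by
    rw [IsScalarTower.algebraMap_eq R (FractionRing R) L]
    exact (algebraMap (FractionRing R) L).injective.comp (IsFractionRing.injective R (FractionRing R))
  obtain ⟨C, hC⟩ := exists_variableChange_of_j_eq (W₁.map (algebraMap R L))
    (W₂.map (algebraMap R L)) (by rw [map_j, map_j, hj])
  obtain ⟨iu, iv, ir, is, it⟩ := integral W₁ W₂ W₁.isUnit_Δ W₂.isUnit_Δ C hC
  let G : Set L := {(C.u : L), ((C.u⁻¹ : Lˣ) : L), C.r, C.s, C.t}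
  let S : Subalgebra R L := Algebra.adjoin R G
  haveI : Module.Finite R S := Module.Finite.iff_fg.mpr
    (fg_adjoin_of_finite (Set.toFinite G) (by
      intro x hx
      simp only [G, Set.mem_insert_iff, Set.mem_singleton_iff] at hx
      rcases hx with rfl | rfl | rfl | rfl | rfl <;> assumption))
  have hG : ∀ x ∈ G, x ∈ S := fun x hx => Algebra.subset_adjoin hx
  let uS : Sˣ := ⟨⟨(C.u : L), hG _ (by simp [G])⟩, ⟨((C.u⁻¹ : Lˣ) : L), hG _ (by simp [G])⟩,
    Subtype.ext C.u.mul_inv, Subtype.ext C.u.inv_mul⟩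
  let C' : VariableChange S := ⟨uS, ⟨C.r, hG _ (by simp [G])⟩, ⟨C.s, hG _ (by simp [G])⟩,
    ⟨C.t, hG _ (by simp [G])⟩⟩
  have hval : Function.Injective (algebraMap S L) := Subtype.val_injective
  have hC' : C' • W₁.map (algebraMap R S) = W₂.map (algebraMap R S) := by
    apply WeierstrassCurve.map_injective hval
    have e : C'.map (algebraMap S L) = C := by ext <;> rfl
    show (C' • W₁.map (algebraMap R S)).map (algebraMap S L) =
      (W₂.map (algebraMap R S)).map (algebraMap S L)
    rw [← map_variableChange, map_map, map_map, e, ← IsScalarTower.algebraMap_eq R S L]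
    exact hC
  have hgen : Algebra.adjoin R
      ({(C'.u : S), ((C'.u⁻¹ : Sˣ) : S), C'.r, C'.s, C'.t} : Set S) = ⊤ := by
    apply Subalgebra.map_injective (f := S.val) Subtype.val_injective
    rw [AlgHom.map_adjoin, Algebra.map_top, Subalgebra.range_val]
    simp only [Set.image_insert_eq, Set.image_singleton]
    rfl
  have hsurj := surjective_algebraMap S W₁ W₂ W₂.isUnit_Δ C' hC' hgen
  obtain ⟨cu, hcu⟩ := hsurj (C'.u : S)
  obtain ⟨cv, hcv⟩ := hsurj ((C'.u⁻¹ : Sˣ) : S)
  obtain ⟨cr, hcr⟩ := hsurj C'.r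
  obtain ⟨cs, hcs⟩ := hsurj C'.s
  obtain ⟨ct, hct⟩ := hsurj C'.t
  have hinjS : Function.Injective (algebraMap R S) := fun x y hxy =>
    hinj (congrArg Subtype.val hxy)
  have hmul : cu * cv = 1 := hinjS (by rw [map_mul, hcu, hcv, Units.mul_inv, map_one])
  let C₁ : VariableChange R := ⟨⟨cu, cv, hmul, by rw [mul_comm]; exact hmul⟩, cr, cs, ct⟩
  refine ⟨C₁, WeierstrassCurve.map_injective hinjS ?_⟩
  show (C₁ • W₁).map (algebraMap R S) = W₂.map (algebraMap R S)
  have e : C₁.map (algebraMap R S) = C' := by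
    ext
    · exact congrArg Subtype.val hcu
    · exact congrArg Subtype.val hcr
    · exact congrArg Subtype.val hcs
    · exact congrArg Subtype.val hct
  rw [← map_variableChange, e]
  exact hC'

end Main

end Groth.L15.EllRigid
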