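import Mathlib.RingTheory.Etale.Kaehler
import Mathlib.RingTheory.Kaehler.Polynomial
import Mathlib.RingTheory.Kaehler.JacobiZariski
import Mathlib.RingTheory.AlgebraicIndependent.TranscendenceBasis
import Mathlib.RingTheory.IntegralClosure.IsIntegralClosure.Basic
import Mathlib.RingTheory.RingHom.Etale
import Mathlib.RingTheory.Flat.Basic
import Mathlib.RingTheory.Unramified.Finite
import Mathlib.Algebra.BigOperators.Fin

/-!
An algebra étale over a polynomial ring over a field of characteristic `p` is finite étale over it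
for a suitable map.
-/

set_option autoImplicit false

universe u

open MvPolynomial
open scoped TensorProduct

namespace Groth.L15.EtaleNoether

theorem weight_injective {M B : ℕ} (d d' : Fin (M + 1) → ℕ) (hd : ∀ i, d i < B) (hd' : ∀ i, d' i < B)
    (h : d (Fin.last M) + ∑ i : Fin M, d i.castSucc * B ^ ((i : ℕ) + 1) =
      d' (Fin.last M) + ∑ i : Fin M, d' i.castSucc * B ^ ((i : ℕ) + 1)) : d = d' := by
  have key : ∀ (a : Fin (M + 1) → ℕ) (ha : ∀ i, a i < B),
      (finFunctionFinEquiv (Fin.cons (⟨a (Fin.last M), ha _⟩ : Fin B) (fun i : Fin M => (⟨a i.castSucc, ha _⟩ : Fin B)) : Fin (M + 1) → Fin B) : ℕ) =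
        a (Fin.last M) + ∑ i : Fin M, a i.castSucc * B ^ ((i : ℕ) + 1) := by
    intro a ha
    rw [finFunctionFinEquiv_apply, Fin.sum_univ_succ]
    simp
  have e := finFunctionFinEquiv.injective (Fin.ext ((key d hd).trans (h.trans (key d' hd').symm)))
  funext i
  induction i using Fin.lastCases with
  | last => simpa using congrFun e 0
  | cast i => simpa using congrFun e i.succ

theorem natDegree_prod_monic {S : Type u} [CommRing S] [Nontrivial S] {M : ℕ} (y : Fin M → S) (e : Fin M → ℕ)
    (he : ∀ i, 0 < e i) (d : Fin (M + 1) → ℕ) :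
    ((Polynomial.X : Polynomial S) ^ d (Fin.last M) *
        ∏ i : Fin M, (Polynomial.X ^ e i + Polynomial.C (y i)) ^ d i.castSucc).Monic ∧
      ((Polynomial.X : Polynomial S) ^ d (Fin.last M) *
        ∏ i : Fin M, (Polynomial.X ^ e i + Polynomial.C (y i)) ^ d i.castSucc).natDegree =
      d (Fin.last M) + ∑ i : Fin M, d i.castSucc * e i := by
  have hm : ∀ i, ((Polynomial.X : Polynomial S) ^ e i + Polynomial.C (y i)).Monic := fun i =>
    Polynomial.monic_X_pow_add_C _ (he i).ne'
  have hp : (∏ i : Fin M, ((Polynomial.X : Polynomial S) ^ e i + Polynomial.C (y i)) ^ d i.castSucc).Monic :=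
    Polynomial.monic_prod_of_monic _ _ fun i _ => (hm i).pow _
  refine ⟨(Polynomial.monic_X_pow _).mul hp, ?_⟩
  rw [(Polynomial.monic_X_pow _).natDegree_mul hp, Polynomial.natDegree_X_pow,
    Polynomial.natDegree_prod_of_monic _ _ fun i _ => (hm i).pow _]
  congr 1
  exact Finset.sum_congr rfl fun i _ => by rw [(hm i).natDegree_pow, Polynomial.natDegree_X_pow_add_C, mul_comm]

variable {k : Type u} [Field k] {C : Type u} [CommRing C] [Algebra k C]

theorem shift {p : ℕ} (hp : p.Prime) [CharP k p] {M : ℕ} (f : Fin (M + 1) → C)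
    (h : ¬ AlgebraicIndependent k f) [Algebra.IsIntegral (Algebra.adjoin k (Set.range f)) C] :
    ∃ a : Fin M → C, Algebra.IsIntegral
      (Algebra.adjoin k (Set.range fun i => f i.castSucc - a i ^ p)) C := by
  classical
  rw [algebraicIndependent_iff] at h
  simp only [not_forall] at h
  obtain ⟨F, hF, hF0⟩ := h
  obtain ⟨B, hBp, hB⟩ : ∃ B, p ∣ B ∧ F.totalDegree < B := ⟨p * (F.totalDegree + 1), dvd_mul_right _ _,
    Nat.lt_of_lt_of_le (Nat.lt_succ_self _) (Nat.le_mul_of_pos_left _ hp.pos)⟩
  obtain ⟨q, rfl⟩ := hBp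
  refine ⟨fun i => f (Fin.last M) ^ ((p * q) ^ (i : ℕ) * q), ?_⟩
  set S := Algebra.adjoin k (Set.range fun i : Fin M => f i.castSucc - (f (Fin.last M) ^ ((p * q) ^ (i : ℕ) * q)) ^ p)
  let y : Fin M → S := fun i => ⟨f i.castSucc - (f (Fin.last M) ^ ((p * q) ^ (i : ℕ) * q)) ^ p,
    Algebra.subset_adjoin ⟨i, rfl⟩⟩
  have hlast : IsIntegral S (f (Fin.last M)) := by
    cases subsingleton_or_nontrivial S with
    | inl hS =>
      refine ⟨1, Polynomial.monic_one, ?_⟩
      have h10 : (1 : C) = 0 := congrArg Subtype.val (Subsingleton.elim (1 : S) 0)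
      rw [Polynomial.eval₂_one, h10]
    | inr hS =>
    let e : Fin M → ℕ := fun i => (p * q) ^ ((i : ℕ) + 1)
    have he : ∀ i, 0 < e i := fun i => pow_pos (Nat.lt_of_le_of_lt (Nat.zero_le _) hB) _
    let sub : Fin (M + 1) → Polynomial S := Fin.lastCases Polynomial.X fun i => Polynomial.X ^ e i + Polynomial.C (y i)
    let Q : Polynomial S := aeval sub F
    let W : (Fin (M + 1) →₀ ℕ) → ℕ := fun d => d (Fin.last M) + ∑ i : Fin M, d i.castSucc * e i
    let R : (Fin (M + 1) →₀ ℕ) → Polynomial S := fun d => (Polynomial.X : Polynomial S) ^ d (Fin.last M) *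
        ∏ i : Fin M, (Polynomial.X ^ e i + Polynomial.C (y i)) ^ d i.castSucc
    have hQ : Q = ∑ d ∈ F.support, Polynomial.C (algebraMap k S (F.coeff d)) * R d := by
      show aeval sub F = _
      conv_lhs => rw [F.as_sum]
      rw [map_sum]
      refine Finset.sum_congr rfl fun d _ => ?_
      rw [aeval_monomial, Finsupp.prod_fintype _ _ (fun i => pow_zero _), Fin.prod_univ_castSucc, mul_comm (∏ _, _)]
      simp only [sub, Fin.lastCases_last, Fin.lastCases_castSucc]
      rfl
    have hsupp : F.support.Nonempty := MvPolynomial.support_nonempty.mpr hF0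
    obtain ⟨d₀, hd₀, hmax⟩ := Finset.exists_max_image F.support W hsupp
    have hlt : ∀ d ∈ F.support, ∀ i, d i < p * q := fun d hd i =>
      lt_of_le_of_lt (((monomial_le_degreeOf i hd).trans (degreeOf_le_totalDegree F i))) hB
    have hstrict : ∀ d ∈ F.support, d ≠ d₀ → W d < W d₀ := fun d hd hne =>
      lt_of_le_of_ne (hmax d hd) fun h => hne (DFunLike.coe_injective
        (weight_injective d d₀ (hlt d hd) (hlt d₀ hd₀) h))
    have hcoeff : Q.coeff (W d₀) = algebraMap k S (F.coeff d₀) := by
      rw [hQ, Polynomial.finsetSum_coeff, Finset.sum_eq_single d₀]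
      · obtain ⟨hm, hdeg⟩ := natDegree_prod_monic y e he d₀
        rw [Polynomial.coeff_C_mul, show W d₀ = (R d₀).natDegree from hdeg.symm, hm.coeff_natDegree, mul_one]
      · intro d hd hne
        obtain ⟨-, hdeg⟩ := natDegree_prod_monic y e he d
        rw [Polynomial.coeff_C_mul, Polynomial.coeff_eq_zero_of_natDegree_lt (hdeg.le.trans_lt (hstrict d hd hne)),
          mul_zero]
      · exact fun h => absurd hd₀ h
    have hdegQ : Q.natDegree ≤ W d₀ := by
      rw [hQ]
      refine Polynomial.natDegree_sum_le_of_forall_le _ _ fun d hd => (Polynomial.natDegree_C_mul_le _ _).trans ?_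
      rw [show (R d).natDegree = W d from (natDegree_prod_monic y e he d).2]
      exact hmax d hd
    refine ⟨Polynomial.C (algebraMap k S (F.coeff d₀)⁻¹) * Q, ?_, ?_⟩
    · refine Polynomial.monic_of_natDegree_le_of_coeff_eq_one (W d₀) ((Polynomial.natDegree_C_mul_le _ _).trans hdegQ) ?_
      rw [Polynomial.coeff_C_mul, hcoeff, ← map_mul, inv_mul_cancel₀ (mem_support_iff.mp hd₀), map_one]
    · rw [← Polynomial.aeval_def, map_mul]
      refine mul_eq_zero_of_right _ ?_
      show ((Polynomial.aeval (f (Fin.last M))).restrictScalars k) (aeval sub F) = 0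
      rw [← AlgHom.comp_apply, comp_aeval]
      convert hF using 2
      congr 1
      funext i
      induction i using Fin.lastCases with
      | last => simp [sub]
      | cast i =>
        simp only [sub, Fin.lastCases_castSucc, AlgHom.coe_restrictScalars', map_add, map_pow, Polynomial.aeval_X,
          Polynomial.aeval_C]
        show f (Fin.last M) ^ e i + (f i.castSucc - _) = _
        rw [← pow_mul, show (p * q) ^ (i : ℕ) * q * p = e i by simp [e, pow_succ]; ring]
        abel
  have hall : Algebra.adjoin k (Set.range f) ≤ (integralClosure S C).restrictScalars k := by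
    refine Algebra.adjoin_le ?_
    rintro _ ⟨i, rfl⟩
    induction i using Fin.lastCases with
    | last => exact hlast
    | cast i =>
      rw [← sub_add_cancel (f i.castSucc) ((f (Fin.last M) ^ ((p * q) ^ (i : ℕ) * q)) ^ p)]
      exact IsIntegral.add (isIntegral_algebraMap (x := y i)) ((hlast.pow _).pow _)
  refine ⟨fun c => ?_⟩
  refine isIntegral_trans (A := (integralClosure S C)) c ?_
  obtain ⟨P, hP, hP0⟩ := Algebra.IsIntegral.isIntegral (R := Algebra.adjoin k (Set.range f)) c
  let ι : Algebra.adjoin k (Set.range f) →+* integralClosure S C :=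
    { toFun := fun a => ⟨a.1, hall a.2⟩
      map_one' := rfl
      map_mul' := fun _ _ => rfl
      map_zero' := rfl
      map_add' := fun _ _ => rfl }
  exact ⟨P.map ι, hP.map ι, by rw [Polynomial.eval₂_map]; exact hP0⟩

theorem not_independent {n : ℕ} [Algebra (MvPolynomial (Fin n) k) C] [IsScalarTower k (MvPolynomial (Fin n) k) C]
    [Algebra.Etale (MvPolynomial (Fin n) k) C] {M : ℕ} (hM : n < M) (f : Fin M → C) :
    ¬ AlgebraicIndependent k f := by
  classical
  intro hf
  let K := FractionRing (MvPolynomial (Fin n) k)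
  haveI : Module.Finite K (K ⊗[MvPolynomial (Fin n) k] C) := Algebra.FormallyUnramified.finite_of_free K _
  have halg : ∀ c : C, IsAlgebraic (MvPolynomial (Fin n) k) c := fun c => by
    have h1 : IsAlgebraic K ((1 : K) ⊗ₜ[MvPolynomial (Fin n) k] c) := (Algebra.IsIntegral.isIntegral _).isAlgebraic
    have h2 := (IsFractionRing.isAlgebraic_iff (MvPolynomial (Fin n) k) K _).mpr h1
    exact (isAlgebraic_algHom_iff (Algebra.TensorProduct.includeRight : C →ₐ[MvPolynomial (Fin n) k] K ⊗[MvPolynomial (Fin n) k] C)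
      (Algebra.TensorProduct.includeRight_injective (IsFractionRing.injective _ K))).mp h2
  let S := (nonZeroDivisors (MvPolynomial (Fin M) k)).map (aeval f : MvPolynomial (Fin M) k →ₐ[k] C)
  have hS : (0 : C) ∉ S := by
    rintro ⟨x, hx, hx0⟩
    exact nonZeroDivisors.ne_zero hx ((algebraicIndependent_iff.mp hf) x hx0)
  obtain ⟨Q0, hQ0p, -, hQ0d⟩ := Ideal.exists_le_prime_disjoint (⊥ : Ideal C) S
    (Set.disjoint_left.mpr fun x hx hxS => hS (((Submodule.mem_bot C).mp hx) ▸ hxS))
  haveI := hQ0p
  obtain ⟨Q, hQ, hQle⟩ := Ideal.exists_minimalPrimes_le (bot_le : (⊥ : Ideal C) ≤ Q0)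
  haveI := hQ.1.1
  have hinjP : Function.Injective (algebraMap (MvPolynomial (Fin n) k) (C ⧸ Q)) := by
    rw [injective_iff_map_eq_zero]
    intro a ha
    rw [IsScalarTower.algebraMap_apply (MvPolynomial (Fin n) k) C (C ⧸ Q), Ideal.Quotient.algebraMap_eq,
      Ideal.Quotient.eq_zero_iff_mem] at ha
    by_contra ha0
    refine Set.disjoint_left.mp (Ideal.disjoint_nonZeroDivisors_of_mem_minimalPrimes hQ) ha ?_
    refine mem_nonZeroDivisors_iff_right.mpr fun c hc => ?_
    have hreg : IsSMulRegular C (algebraMap (MvPolynomial (Fin n) k) C a) :=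
      (IsRegular.of_ne_zero ha0).left.isSMulRegular.of_flat
    exact hreg.right_eq_zero_of_smul (by rwa [smul_eq_mul, mul_comm])
  let x : Fin n → C ⧸ Q := fun i => algebraMap (MvPolynomial (Fin n) k) (C ⧸ Q) (X i)
  have hax : (aeval x : MvPolynomial (Fin n) k →ₐ[k] C ⧸ Q) = IsScalarTower.toAlgHom k _ _ :=
    MvPolynomial.algHom_ext fun i => by simp [x]
  let r : MvPolynomial (Fin n) k →ₐ[k] Algebra.adjoin k (Set.range x) :=
    (aeval x).codRestrict _ fun a => by
      rw [Algebra.adjoin_range_eq_range_aeval]; exact ⟨a, rfl⟩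
  haveI : Algebra.IsAlgebraic (Algebra.adjoin k (Set.range x)) (C ⧸ Q) := by
    refine ⟨fun z => ?_⟩
    obtain ⟨c, rfl⟩ := Ideal.Quotient.mk_surjective z
    obtain ⟨P, hP0, hPc⟩ := halg c
    refine ⟨P.map r.toRingHom, ?_, ?_⟩
    · refine (Polynomial.map_ne_zero_iff ?_).mpr hP0
      intro a b hab
      exact hinjP (by simpa [r, hax] using congrArg Subtype.val hab)
    · have hcomp : (algebraMap (Algebra.adjoin k (Set.range x)) (C ⧸ Q)).comp r.toRingHom =
          algebraMap (MvPolynomial (Fin n) k) (C ⧸ Q) := RingHom.ext fun a => by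
        show aeval x a = _
        rw [hax]
        rfl
      rw [Polynomial.aeval_def, Polynomial.eval₂_map, hcomp]
      have := congrArg (Ideal.Quotient.mkₐ (MvPolynomial (Fin n) k) Q) hPc
      rw [← Polynomial.aeval_algHom_apply, map_zero] at this
      exact this
  have hind : AlgebraicIndependent k (fun i => Ideal.Quotient.mk Q (f i)) := by
    rw [algebraicIndependent_iff]
    intro F hF
    by_contra hF0
    have h1 : aeval f F ∈ Q := by
      rw [← Ideal.Quotient.eq_zero_iff_mem, ← Ideal.Quotient.mkₐ_eq_mk k, ← AlgHom.comp_apply, comp_aeval]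
      exact hF
    exact Set.disjoint_left.mp hQ0d (hQle h1) ⟨F, mem_nonZeroDivisors_of_ne_zero hF0, rfl⟩
  have h1 := hind.lift_cardinalMk_le_trdeg
  have h2 := Algebra.IsAlgebraic.trdeg_le_cardinalMk k (Set.range x)
  have h3 : Cardinal.mk (Set.range x) ≤ (n : Cardinal.{u}) := by
    have := Cardinal.mk_range_le_lift (f := x)
    simpa using this
  rw [Cardinal.mk_fin, Cardinal.lift_natCast, Cardinal.lift_uzero] at h1
  exact absurd ((h1.trans h2).trans h3) (by exact_mod_cast not_le.mpr hM)

theorem D_pow_p {p : ℕ} [CharP k p] (a : C) : KaehlerDifferential.D k C (a ^ p) = 0 := by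
  rw [Derivation.leibniz_pow, ← Nat.cast_smul_eq_nsmul C, ← map_natCast (algebraMap k C), CharP.cast_eq_zero,
    map_zero, zero_smul]

theorem exists_coords {p : ℕ} (hp : p.Prime) [CharP k p] {n : ℕ} [Algebra (MvPolynomial (Fin n) k) C]
    [IsScalarTower k (MvPolynomial (Fin n) k) C] [Algebra.Etale (MvPolynomial (Fin n) k) C] (x : Fin n → C) :
    ∀ (r : ℕ) (f : Fin (n + r) → C),
      (∀ i : Fin n, KaehlerDifferential.D k C (f (Fin.castAdd r i)) = KaehlerDifferential.D k C (x i)) →
      Algebra.IsIntegral (Algebra.adjoin k (Set.range f)) C →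
      ∃ g : Fin n → C, (∀ i, KaehlerDifferential.D k C (g i) = KaehlerDifferential.D k C (x i)) ∧
        Algebra.IsIntegral (Algebra.adjoin k (Set.range g)) C := by
  intro r
  induction r with
  | zero => exact fun f hf hint => ⟨f, hf, hint⟩
  | succ r ih =>
    intro f hf hint
    obtain ⟨a, ha⟩ := shift hp (M := n + r) f (not_independent (k := k) (n := n) (by omega) f)
    refine ih (fun i => f i.castSucc - a i ^ p) (fun i => ?_) ha
    rw [map_sub, D_pow_p, sub_zero]
    exact hf i

/-- The étale criterion by differentials. -/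
theorem etale_of_differentials {n : ℕ} [Algebra (MvPolynomial (Fin n) k) C] [IsScalarTower k (MvPolynomial (Fin n) k) C]
    [Algebra.Smooth k C] (b : Module.Basis (Fin n) C Ω[C⁄k])
    (hb : ∀ i, KaehlerDifferential.D k C (algebraMap (MvPolynomial (Fin n) k) C (X i)) = b i) :
    Algebra.Etale (MvPolynomial (Fin n) k) C := by
  let P := MvPolynomial (Fin n) k
  let b' := (KaehlerDifferential.mvPolynomialBasis k (Fin n)).baseChange C
  have he : ((b'.equiv b (Equiv.refl _)) : C ⊗[P] Ω[P⁄k] →ₗ[C] Ω[C⁄k]) = KaehlerDifferential.mapBaseChange k P C := by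
    refine b'.ext fun i => ?_
    rw [LinearEquiv.coe_coe, Module.Basis.equiv_apply, Equiv.refl_apply, ← hb]
    simp [b', P, KaehlerDifferential.mvPolynomialBasis_apply]
  have hbij : Function.Bijective (KaehlerDifferential.mapBaseChange k P C) := by
    rw [← he]; exact (b'.equiv b (Equiv.refl _)).bijective
  have h1 : Subsingleton Ω[C⁄P] := ⟨fun u v => by
    obtain ⟨u, rfl⟩ := KaehlerDifferential.map_surjective k P C u
    obtain ⟨v, rfl⟩ := KaehlerDifferential.map_surjective k P C v
    rw [← sub_eq_zero, ← map_sub]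
    exact (KaehlerDifferential.exact_mapBaseChange_map k P C _).mpr (hbij.2 _)⟩
  have h2 : Subsingleton (Algebra.H1Cotangent P C) := ⟨fun u v => by
    have key : ∀ w : Algebra.H1Cotangent P C, w = 0 := fun w => by
      have hδ : Algebra.H1Cotangent.δ k P C w = 0 := hbij.1 (by
        rw [map_zero]
        exact (Algebra.H1Cotangent.exact_δ_mapBaseChange k P C _).mpr ⟨w, rfl⟩)
      obtain ⟨w', rfl⟩ := (Algebra.H1Cotangent.exact_map_δ k P C w).mp hδ
      rw [Subsingleton.elim w' 0, map_zero]
    rw [key u, key v]⟩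
  haveI : Algebra.FormallyEtale P C := ⟨h1, h2⟩
  exact { finitePresentation := Algebra.FinitePresentation.of_restrict_scalars_finitePresentation k P C }

end Groth.L15.EtaleNoether
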