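import Mathlib.RingTheory.MvPolynomial.Homogeneous
import Mathlib.RingTheory.MvPolynomial.EulerIdentity
import Mathlib.Algebra.MvPolynomial.PDeriv
import Mathlib.Algebra.CharP.Invertible
import Mathlib.LinearAlgebra.Span.Basic

/-!
Tuples of forms killed by the Euler relation are combinations of weighted Gauss forms.
-/

set_option autoImplicit false

noncomputable section

universe u

namespace Groth.L15.EulerKer

open MvPolynomial

variable {k : Type u} [Field k] [CharZero k] {n : ℕ}

/-- Koszul tuple `P (x_j e_i - x_i e_j)`. -/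
def kos (P : MvPolynomial (Fin n) k) (i j : Fin n) : Fin n → MvPolynomial (Fin n) k :=
  fun l => (if l = i then P * X j else 0) - (if l = j then P * X i else 0)

theorem mem_span_of_euler (N : ℕ) (hN : 1 ≤ N) (f : Fin n → MvPolynomial (Fin n) k)
    (hf : ∀ i, (f i).IsHomogeneous (N - 1)) (hE : ∑ i, X i * f i = 0)
    (S : Submodule k (Fin n → MvPolynomial (Fin n) k))
    (hS : ∀ (u : Fin n →₀ ℕ) (i j : Fin n), u.degree + 2 = N → i ≠ j → kos (monomial u 1) i j ∈ S) : f ∈ S := by
  classical
  have hd : ∀ j : Fin n, f j + ∑ l, X l * pderiv j (f l) = 0 := fun j => by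
    have h := congrArg (pderiv j) hE
    rw [map_sum, map_zero] at h
    simp only [pderiv_mul, pderiv_X, Finset.sum_add_distrib] at h
    rw [Finset.sum_eq_single j (fun b _ hb => by simp [hb]) (by simp)] at h
    simpa using h
  let w : Fin n → Fin n → MvPolynomial (Fin n) k := fun i j => pderiv j (f i) - pderiv i (f j)
  have key : ∀ i, (2 * N : k) • f i = ∑ i₁, ∑ j₁, kos (w i₁ j₁) i₁ j₁ i := by
    intro i
    have e1 : ∑ l, X l * pderiv l (f i) = ((N - 1 : ℕ) : MvPolynomial (Fin n) k) * f i := by
      rw [(hf i).sum_X_mul_pderiv, nsmul_eq_mul]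
    have e2 := hd i

    simp only [kos, Finset.sum_sub_distrib]
    rw [Finset.sum_eq_single i (fun b _ hb => Finset.sum_eq_zero fun c _ => if_neg (Ne.symm hb)) (by simp)]
    conv_rhs => arg 2; rw [Finset.sum_comm]
    rw [Finset.sum_eq_single i (f := fun x => ∑ y, if i = x then w y x * X y else 0)
      (fun b _ hb => Finset.sum_eq_zero fun c _ => if_neg (Ne.symm hb)) (by simp)]
    simp only [if_true, w, sub_mul, Finset.sum_sub_distrib]
    have e3 : ∑ l, pderiv l (f i) * X l = ((N - 1 : ℕ) : MvPolynomial (Fin n) k) * f i := by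
      rw [← e1]; exact Finset.sum_congr rfl fun l _ => mul_comm _ _
    have e4 : ∑ l, pderiv i (f l) * X l = -f i := by
      rw [eq_neg_iff_add_eq_zero, add_comm, ← e2]
      exact congrArg _ (Finset.sum_congr rfl fun l _ => mul_comm _ _)
    rw [e3, e4, Nat.cast_sub hN, Nat.cast_one, Algebra.smul_def, map_mul, map_ofNat, map_natCast]
    ring
  have hsum : (2 * N : k) • f = ∑ i₁, ∑ j₁, kos (w i₁ j₁) i₁ j₁ := funext fun i => by
    simp only [Pi.smul_apply, Finset.sum_apply, key i]
  have h2N : (2 * N : k) ≠ 0 := mul_ne_zero two_ne_zero (Nat.cast_ne_zero.2 (by omega))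
  rw [show f = (2 * N : k)⁻¹ • ((2 * N : k) • f) from (inv_smul_smul₀ h2N f).symm, hsum]
  refine S.smul_mem _ (S.sum_mem fun i _ => S.sum_mem fun j _ => ?_)
  rcases eq_or_ne i j with rfl | hij
  · rw [show kos (w i i) i i = 0 from funext fun l => sub_self _]
    exact S.zero_mem
  have hw : ∀ u ∈ (w i j).support, u.degree + 2 = N := by
    intro u hu
    have hh : (w i j).IsHomogeneous (N - 1 - 1) := (hf i).pderiv.sub (hf j).pderiv
    have h1 : u.degree = N - 1 - 1 := by
      rw [Finsupp.degree_eq_weight_one]; exact hh (mem_support_iff.1 hu)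
    have h2 : N - 1 ≠ 0 := fun h0 => by
      have hz : ∀ l m, pderiv l (f m) = 0 := fun l m => by
        have := hf m
        rw [h0] at this
        rw [totalDegree_eq_zero_iff_eq_C.1 (Nat.le_zero.1 this.totalDegree_le), pderiv_C]
      have : w i j = 0 := by simp only [w, hz, sub_self]
      rw [this] at hu
      simp at hu
    omega
  rw [show kos (w i j) i j = ∑ u ∈ (w i j).support, (coeff u (w i j)) • kos (monomial u 1) i j from funext fun l => by
    conv_lhs => rw [kos, (w i j).as_sum]
    simp only [Finset.sum_apply, Pi.smul_apply, kos, smul_sub, smul_ite, smul_zero, Finset.sum_mul,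
      Finset.sum_sub_distrib, ← smul_mul_assoc, smul_monomial, smul_eq_mul, mul_one]
    split_ifs <;> simp]
  exact S.sum_mem fun u hu => S.smul_mem _ (hS u i j (hw u hu) hij)

theorem X_mul_pderiv_monomial (S : Fin n →₀ ℕ) (l : Fin n) :
    X l * pderiv l (monomial S (1 : k)) = (S l : k) • monomial S (1 : k) := by
  rw [pderiv_monomial, one_mul, smul_monomial, smul_eq_mul, mul_one, X, monomial_mul, one_mul]
  rcases eq_or_ne (S l) 0 with h | h
  · simp [h]
  · rw [add_tsub_cancel_of_le (Finsupp.single_le_iff.2 (Nat.one_le_iff_ne_zero.2 h))]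

theorem exists_degree_le : ∀ (r : ℕ) (u : Fin n →₀ ℕ), r ≤ u.degree → ∃ t : Fin n →₀ ℕ, t ≤ u ∧ t.degree = r
  | 0, u, _ => ⟨0, bot_le, by simp⟩
  | r + 1, u, h => by
    obtain ⟨t, htu, ht⟩ := exists_degree_le r u (by omega)
    obtain ⟨i, hi⟩ : ∃ i, t i < u i := by
      by_contra hc
      simp only [not_exists, not_lt] at hc
      have : t = u := le_antisymm htu hc
      subst this; omega
    refine ⟨t + Finsupp.single i 1, fun j => ?_, by rw [map_add, ht, Finsupp.degree_single]⟩
    rw [Finsupp.add_apply, Finsupp.single_apply]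
    split_ifs with hj
    · subst hj; omega
    · simpa using htu j

theorem kos_mem (e a b : ℕ) (he : 0 < e) (ha : 0 < a) (hab : a < b)
    (u : Fin n →₀ ℕ) (i j : Fin n) (hu : u.degree + 2 = (a + b) * e) (hij : i ≠ j) :
    kos (monomial u (1 : k)) i j ∈ Submodule.span k
      {g : Fin n → MvPolynomial (Fin n) k |
        ∃ σ τ : MvPolynomial (Fin n) k, σ.IsHomogeneous (a * e) ∧ τ.IsHomogeneous (b * e) ∧
          g = fun i => (b : k) • (τ * pderiv i σ) - (a : k) • (σ * pderiv i τ)} := by
  classical
  have hae : 1 ≤ a * e := Nat.one_le_iff_ne_zero.2 (Nat.mul_pos ha he).ne'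
  have hbe : 1 ≤ b * e := Nat.one_le_iff_ne_zero.2 (Nat.mul_pos (ha.trans hab) he).ne'
  rw [add_mul] at hu
  obtain ⟨t, htu, ht⟩ := exists_degree_le (a * e - 1) u (by omega)
  set r := u - t with hr
  have hur : t + r = u := add_tsub_cancel_of_le htu
  have hrd : r.degree = b * e - 1 := by
    have h := congrArg Finsupp.degree hur
    rw [map_add] at h
    omega
  let g : Fin n → Fin n → (Fin n → MvPolynomial (Fin n) k) := fun p q l =>
    (b : k) • (monomial (r + Finsupp.single q 1) 1 * pderiv l (monomial (t + Finsupp.single p 1) (1 : k))) -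
      (a : k) • (monomial (t + Finsupp.single p 1) 1 * pderiv l (monomial (r + Finsupp.single q 1) (1 : k)))
  have hg : ∀ p q, g p q ∈ Submodule.span k
      {g : Fin n → MvPolynomial (Fin n) k |
        ∃ σ τ : MvPolynomial (Fin n) k, σ.IsHomogeneous (a * e) ∧ τ.IsHomogeneous (b * e) ∧
          g = fun i => (b : k) • (τ * pderiv i σ) - (a : k) • (σ * pderiv i τ)} := fun p q =>
    Submodule.subset_span ⟨_, _, isHomogeneous_monomial _ (by rw [map_add, Finsupp.degree_single, ht]; omega),
      isHomogeneous_monomial _ (by rw [map_add, Finsupp.degree_single, hrd]; omega), rfl⟩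
  have hkey : g i j - g j i = ((a + b : ℕ) : k) • kos (monomial u (1 : k)) i j := by
    funext l
    refine mul_left_cancel₀ (X_ne_zero (R := k) l) ?_
    set M := monomial (u + Finsupp.single i 1 + Finsupp.single j 1) (1 : k) with hM
    have hgl : ∀ p q, t + Finsupp.single p 1 + (r + Finsupp.single q 1) = u + Finsupp.single i 1 + Finsupp.single j 1 →
        X l * g p q l = (((b : k) * (((t + Finsupp.single p 1 : Fin n →₀ ℕ) l : ℕ) : k)) - (a : k) * (((r + Finsupp.single q 1 : Fin n →₀ ℕ) l : ℕ) : k)) • M := by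
      intro p q hpq
      simp only [g, mul_sub, mul_smul_comm]
      rw [mul_left_comm, X_mul_pderiv_monomial, mul_left_comm, X_mul_pderiv_monomial]
      simp only [mul_smul_comm, smul_smul, monomial_mul, one_mul, sub_smul]
      rw [add_comm (r + Finsupp.single q 1), hpq]
    rw [Pi.sub_apply, mul_sub, hgl i j (by rw [← hur]; abel), hgl j i (by rw [← hur]; abel), Pi.smul_apply, mul_smul_comm]
    have hk : X l * kos (monomial u (1 : k)) i j l = (((Finsupp.single i (1 : ℕ) l : ℕ) : k) - ((Finsupp.single j (1 : ℕ) l : ℕ) : k)) • M := by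
      simp only [kos, mul_sub, mul_ite, mul_zero, Finsupp.single_apply, sub_smul, Nat.cast_ite, Nat.cast_one, Nat.cast_zero,
        ite_smul, one_smul, zero_smul, X, monomial_mul, mul_one, hM]
      refine congrArg₂ (· - ·) ?_ ?_
      · split_ifs with h h' h'
        · subst h; congr 1; abel
        · exact absurd h.symm h'
        · exact absurd h'.symm h
        · rfl
      · split_ifs with h h' h'
        · subst h; congr 1; abel
        · exact absurd h.symm h'
        · exact absurd h'.symm h
        · rfl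
    rw [hk, smul_smul, ← sub_smul]
    congr 1
    simp only [Finsupp.add_apply, Nat.cast_add]
    ring
  have hne : ((a + b : ℕ) : k) ≠ 0 := Nat.cast_ne_zero.2 (by omega)
  rw [← inv_smul_smul₀ hne (kos (monomial u (1 : k)) i j), ← hkey]
  exact Submodule.smul_mem _ _ (Submodule.sub_mem _ (hg i j) (hg j i))

end Groth.L15.EulerKer
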