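import Mathlib.RingTheory.Extension.Cotangent.Basic
import Mathlib.RingTheory.Smooth.Locus
import Mathlib.RingTheory.Smooth.Basic
import Mathlib.RingTheory.Nilpotent.Lemmas
import Mathlib.Algebra.Module.Projective
import Mathlib.LinearAlgebra.Dual.Lemmas

/-! # Square-zero extensions of generically smooth reduced algebras -/

set_option autoImplicit false
open scoped TensorProduct

universe u

namespace Groth.L15.ExtInj

variable {A B : Type u} [CommRing A] [CommRing B] [Algebra A B]

/-- at a prime where `B` is formally smooth, a conormal relation dies after localisation -/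
theorem smul_eq_zero_of_cotangentComplex (P : Algebra.Extension.{u} A B) (hsq : P.ker ^ 2 = ⊥)
    (p : Ideal B) [p.IsPrime] [Algebra.IsSmoothAt A p] (x : P.ker)
    (hx : P.cotangentComplex (Algebra.Extension.Cotangent.mk x) = 0) :
    ∃ b ∉ p, b • Algebra.Extension.Cotangent.mk x = 0 := by
  classical
  let E := P.Ring
  let 𝔓 : Ideal E := p.comap (algebraMap E B)
  let L := Localization.AtPrime 𝔓
  let I' : Ideal L := P.ker.map (algebraMap E L)
  have hI2 : I' * I' = ⊥ := by rw [← Ideal.map_mul, ← pow_two, hsq, Ideal.map_bot]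
  have hnil : IsNilpotent I' := ⟨2, by rw [pow_two]; exact hI2⟩
  -- `B → L ⧸ I'`
  let π₀ : E →ₐ[A] L ⧸ I' := (Ideal.Quotient.mkₐ A I').comp (IsScalarTower.toAlgHom A E L)
  let φ₀ : B →ₐ[A] L ⧸ I' := AlgHom.liftOfSurjective (IsScalarTower.toAlgHom A E B) P.algebraMap_surjective π₀
    (fun z hz => Ideal.Quotient.eq_zero_iff_mem.2 (Ideal.mem_map_of_mem _ hz))
  have hφ₀ : ∀ e : E, φ₀ (algebraMap E B e) = Ideal.Quotient.mk I' (algebraMap E L e) := fun e =>
    AlgHom.liftOfSurjective_apply (IsScalarTower.toAlgHom A E B) P.algebraMap_surjective π₀ _ e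
  have hunit : ∀ b : p.primeCompl, IsUnit (φ₀ b) := fun b => by
    obtain ⟨e, he⟩ := P.algebraMap_surjective (b : B)
    rw [← he, hφ₀]
    exact (IsLocalization.map_units L (⟨e, fun h => b.2 (he ▸ h)⟩ : 𝔓.primeCompl)).map _
  let φ : Localization.AtPrime p →ₐ[A] L ⧸ I' := IsLocalization.liftAlgHom (M := p.primeCompl) hunit
  let lf := Algebra.FormallySmooth.lift I' hnil φ
  let s : B →ₐ[A] L := lf.comp (IsScalarTower.toAlgHom A B _)
  have hs : ∀ e : E, algebraMap E L e - s (algebraMap E B e) ∈ I' := fun e => by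
    rw [← Ideal.Quotient.eq_zero_iff_mem, map_sub, sub_eq_zero, ← hφ₀]
    show _ = Ideal.Quotient.mk I' (lf _)
    rw [Algebra.FormallySmooth.mk_lift]
    exact (IsLocalization.lift_eq (g := φ₀.toRingHom) hunit _).symm
  -- the conormal module as a `B`-module through `s`
  letI : Module B I' := Module.compHom I' s.toRingHom
  have hcompat : ∀ (e : E) (z : I'), algebraMap E B e • z = e • z := fun e z => by
    apply Subtype.ext
    show s (algebraMap E B e) * (z : L) = e • (z : L)
    rw [Algebra.smul_def, eq_comm, ← sub_eq_zero, ← sub_mul]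
    have : (algebraMap E L e - s (algebraMap E B e)) * (z : L) ∈ I' * I' := Ideal.mul_mem_mul (hs e) z.2
    rwa [hI2] at this
  haveI : IsScalarTower E B I' := ⟨fun e b z => by
    rw [Algebra.smul_def, mul_smul, hcompat]⟩
  let δ : Derivation A E I' := Derivation.mk'
    { toFun := fun e => ⟨algebraMap E L e - s (algebraMap E B e), hs e⟩
      map_add' := fun a b => Subtype.ext (by simp [map_add]; abel)
      map_smul' := fun r a => Subtype.ext (by
        show algebraMap E L (r • a) - s (algebraMap E B (r • a)) = r • (algebraMap E L a - s (algebraMap E B a))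
        rw [smul_sub, ← IsScalarTower.toAlgHom_apply A E L, ← IsScalarTower.toAlgHom_apply A E B, map_smul, map_smul, map_smul]
        rfl) }
    (fun a b => Subtype.ext (by
      have h0 : (algebraMap E L a - s (algebraMap E B a)) * (algebraMap E L b - s (algebraMap E B b)) = 0 := by
        have := Ideal.mul_mem_mul (hs a) (hs b)
        rwa [hI2] at this
      show algebraMap E L (a * b) - s (algebraMap E B (a * b)) =
        a • (algebraMap E L b - s (algebraMap E B b)) + b • (algebraMap E L a - s (algebraMap E B a))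
      simp only [map_mul, Algebra.smul_def]
      linear_combination -h0))
  let Θ : B ⊗[E] Ω[E⁄A] →ₗ[B] I' := δ.liftKaehlerDifferential.liftBaseChange B
  have h1 : Θ (P.cotangentComplex (Algebra.Extension.Cotangent.mk x)) = ⟨algebraMap E L x, Ideal.mem_map_of_mem _ x.2⟩ := by
    rw [Algebra.Extension.cotangentComplex_mk]
    erw [LinearMap.liftBaseChange_tmul]
    rw [one_smul, Derivation.liftKaehlerDifferential_comp_D]
    apply Subtype.ext
    show algebraMap E L (x : E) - s (algebraMap E B (x : E)) = _
    rw [RingHom.mem_ker.1 x.2, map_zero, sub_zero]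
  rw [hx, map_zero] at h1
  obtain ⟨u, hu⟩ := (IsLocalization.map_eq_zero_iff 𝔓.primeCompl L (x : E)).1 (congr_arg Subtype.val h1).symm
  refine ⟨algebraMap E B u, u.2, ?_⟩
  rw [algebraMap_smul, ← map_smul, show (u : E) • x = 0 from Subtype.ext hu, map_zero]

theorem injective_cotangentComplex [IsReduced B]
    (hsm : ∀ p : PrimeSpectrum B, p.asIdeal ∈ minimalPrimes B → Algebra.IsSmoothAt A p.asIdeal)
    (P : Algebra.Extension.{u} A B) (hsq : P.ker ^ 2 = ⊥) [Module.Projective B P.Cotangent] :
    Function.Injective P.cotangentComplex := by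
  rw [injective_iff_map_eq_zero]
  intro c hc
  obtain ⟨x, rfl⟩ := Algebra.Extension.Cotangent.mk_surjective c
  by_contra hne
  obtain ⟨f, hf⟩ := Module.Projective.exists_dual_ne_zero B hne
  refine hf (IsReduced.eq_zero _ ?_)
  rw [← mem_nilradical, nilradical, Ideal.radical_eq_sInf, Submodule.mem_sInf]
  rintro q ⟨-, hq⟩
  obtain ⟨p, hp, hle⟩ := Ideal.exists_minimalPrimes_le (J := q) (bot_le (a := q))
  haveI : p.IsPrime := hp.1.1
  haveI : Algebra.IsSmoothAt A p := hsm ⟨p, inferInstance⟩ hp
  obtain ⟨b, hb, hbx⟩ := smul_eq_zero_of_cotangentComplex P hsq p x hc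
  have : b * f (Algebra.Extension.Cotangent.mk x) = 0 := by rw [← smul_eq_mul, ← map_smul, hbx, map_zero]
  exact hle ((hp.1.1.mem_or_mem (this ▸ p.zero_mem)).resolve_left hb)

end Groth.L15.ExtInj
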