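import Groth.Agent.L22.AffineDim
import Mathlib.RingTheory.AlgebraicIndependent.TranscendenceBasis
import Mathlib.RingTheory.Algebraic.Integral
import Mathlib.RingTheory.LocalRing.ResidueField.Fiber
import Mathlib.Topology.Spectral.ConstructibleTopology
import Mathlib.RingTheory.Spectrum.Prime.Topology
import Mathlib.RingTheory.TensorProduct.Finite
import Mathlib.RingTheory.FiniteStability

/-!
Stability of a bound on the dimension of the fibres of `Spec S → 𝔸¹_R` under `a ↦ a ^ n + b`, `n ≫ 0`: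
a finite certificate of algebraicity at one prime works on a constructible neighbourhood.
-/

set_option autoImplicit false
set_option linter.style.haveILetI false
universe u v

noncomputable section

open Polynomial TensorProduct Topology

namespace Groth.L15.FibreDimPerturb

/-- If the coefficients of `p` have degree `< n` and `q` has degree `n`, then `p.eval q = 0` only for `p = 0`. -/
theorem eval_ne_zero {T : Type u} [CommRing T] [IsDomain T] (q : T[X]) (n : ℕ) (hq : q.natDegree = n) :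
    ∀ p : T[X][X], p ≠ 0 → (∀ j, (p.coeff j).natDegree < n) → p.eval q ≠ 0 := by
  intro p
  induction h : p.natDegree using Nat.strong_induction_on generalizing p with
  | _ m ih =>
    intro hp hdeg hev
    rw [← X_mul_divX_add p, eval_add, eval_mul, eval_X, eval_C] at hev
    by_cases hd : p.divX = 0
    · rw [hd, eval_zero, mul_zero, zero_add] at hev
      exact hp (by rw [← X_mul_divX_add p, hd, mul_zero, zero_add, hev, map_zero])
    · have hlt : p.divX.natDegree < m := by
        have hm0 : p.natDegree ≠ 0 := fun h0 => hd (by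
          rw [Polynomial.eq_C_of_natDegree_eq_zero h0]; exact Polynomial.divX_C _)
        rw [Polynomial.natDegree_divX_eq_natDegree_tsub_one]
        omega
      have h1 := ih _ hlt p.divX rfl hd fun j => by rw [Polynomial.coeff_divX]; exact hdeg _
      have hn : n ≠ 0 := (Nat.zero_le _).trans_lt (hdeg 0) |>.ne'
      have hq0 : q ≠ 0 := fun h0 => hn (by rw [← hq, h0, natDegree_zero])
      have h2 := congrArg Polynomial.natDegree (eq_neg_of_add_eq_zero_left hev)
      rw [natDegree_neg, natDegree_mul hq0 h1] at h2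
      have := hdeg 0
      omega

variable {R S : Type u} [CommRing R] [CommRing S] [Algebra R S] {d : ℕ}

/-- Evaluation of a polynomial in `a` and `t`. -/
def ev (a : S) (t : Fin d → S) : (MvPolynomial (Fin d) R)[X] →ₐ[R] S :=
  Polynomial.aevalTower (MvPolynomial.aeval t) a

theorem exists_cert {K : Type u} [Field K] [Algebra R K] (χ : S →ₐ[R] K) (a : S) (t : Fin d → S) (s : S)
    (h : IsAlgebraic (Algebra.adjoin R (insert (χ a) (χ '' Set.range t))) (χ s)) :
    ∃ (F : (MvPolynomial (Fin d) R)[X][X]) (i : ℕ),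
      χ (ev a t (F.coeff i)) ≠ 0 ∧ χ (F.eval₂ (ev a t).toRingHom s) = 0 := by
  set g := χ.comp (ev a t) with hg
  have hle : Algebra.adjoin R (insert (χ a) (χ '' Set.range t)) ≤ g.range := by
    refine Algebra.adjoin_le ?_
    rintro _ (rfl | ⟨_, ⟨l, rfl⟩, rfl⟩)
    · exact ⟨X, by simp [hg, ev]⟩
    · exact ⟨C (MvPolynomial.X l), by simp [hg, ev]⟩
  obtain ⟨p, hp0, hp⟩ := h
  obtain ⟨F, hF⟩ : ∃ F : (MvPolynomial (Fin d) R)[X][X], F.map g.toRingHom = p.map (algebraMap _ K) := by
    refine (Polynomial.mem_lifts _).1 ((Polynomial.lifts_iff_coeff_lifts _).2 fun j => ?_)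
    rw [Polynomial.coeff_map]
    exact hle (p.coeff j).2
  obtain ⟨i, hi⟩ : ∃ i, p.coeff i ≠ 0 := ⟨p.natDegree, by simpa using Polynomial.leadingCoeff_ne_zero.2 hp0⟩
  refine ⟨F, i, ?_, ?_⟩
  · have := congrArg (Polynomial.coeff · i) hF
    simp only [Polynomial.coeff_map] at this
    intro h0
    exact hi (Subtype.val_injective (this.symm.trans h0))
  · rw [← AlgHom.coe_toRingHom χ, Polynomial.hom_eval₂, ← Polynomial.eval_map]
    show (F.map g.toRingHom).eval (χ s) = 0
    rw [hF, Polynomial.eval_map]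
    exact hp

theorem isAlgebraic_of_cert (T : Type u) [CommRing T] [IsDomain T] {L : Type u} [Field L] [Algebra R T] [Algebra R L]
    [Algebra T L] [IsScalarTower R T L] (χ : S →ₐ[R] L)
    (a b : S) (t : Fin d → S) (n : ℕ) (t' : Fin d → T) (u' : T)
    (ht : ∀ l, algebraMap T L (t' l) = χ (t l)) (hu : algebraMap T L u' = χ (a ^ n + b))
    (gens : Finset S) (hgens : Algebra.adjoin R (gens : Set S) = ⊤)
    (Fb : (MvPolynomial (Fin d) R)[X][X]) (ib : ℕ)
    (hb1 : χ (ev a t (Fb.coeff ib)) ≠ 0) (hb2 : χ (Fb.eval₂ (ev a t).toRingHom b) = 0)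
    (hn : ∀ j, (Fb.coeff j).natDegree < n)
    (hy : ∀ y ∈ gens, ∃ (F : (MvPolynomial (Fin d) R)[X][X]) (i : ℕ),
      χ (ev a t (F.coeff i)) ≠ 0 ∧ χ (F.eval₂ (ev a t).toRingHom y) = 0)
    (s : S) : IsAlgebraic T (χ s) := by
  set g' : MvPolynomial (Fin d) R →+* T := (MvPolynomial.aeval t' : MvPolynomial (Fin d) R →ₐ[R] T).toRingHom
  set α : T[X] →+* L := (Polynomial.aeval (χ a)).toRingHom
  have hcomp : α.comp (Polynomial.mapRingHom g') = χ.toRingHom.comp (ev a t).toRingHom := by
    refine Polynomial.ringHom_ext (fun r => ?_) (by simp [α, ev])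
    have h2 : (algebraMap T L).comp g' = χ.toRingHom.comp (MvPolynomial.aeval t).toRingHom := by
      refine MvPolynomial.ringHom_ext (fun r => ?_) fun l => ?_
      · simp [g', ← IsScalarTower.algebraMap_apply]
      · simp [g', ht]
    simpa [α, ev] using RingHom.congr_fun h2 r
  set p := Fb.map (Polynomial.mapRingHom g') with hp
  have hα : ∀ x, α ((Polynomial.mapRingHom g') x) = χ (ev a t x) := fun x => RingHom.congr_fun hcomp x
  have hp0 : p ≠ 0 := fun h => by
    have h1 := hα (Fb.coeff ib)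
    rw [← Polynomial.coeff_map, ← hp, h, Polynomial.coeff_zero, map_zero] at h1
    exact hb1 h1.symm
  set q : T[X] := C u' - X ^ n with hq
  have hqdeg : q.natDegree = n := by
    rw [hq, ← natDegree_neg, neg_sub, natDegree_sub_eq_left_of_natDegree_lt] <;> simp
    exact (Nat.zero_le _).trans_lt (hn 0)
  have hG0 : p.eval q ≠ 0 := eval_ne_zero q n hqdeg p hp0 fun j => by
    rw [hp, Polynomial.coeff_map]
    exact Polynomial.natDegree_map_le.trans_lt (hn j)
  have ha : IsAlgebraic T (χ a) := by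
    refine ⟨p.eval q, hG0, ?_⟩
    show α (p.eval q) = 0
    rw [hp, Polynomial.eval_map, Polynomial.hom_eval₂, hcomp]
    have : α q = χ b := by simp [α, hq, hu]
    rw [this, ← hb2, ← AlgHom.coe_toRingHom χ, Polynomial.hom_eval₂]
    rfl
  let C₀ := Subalgebra.algebraicClosure T L
  have hev : ∀ x, χ (ev a t x) ∈ C₀ := fun x => by
    rw [← hα x]
    exact (Algebra.adjoin_le (S := C₀) (s := {χ a}) (Set.singleton_subset_iff.2 ha)) (Polynomial.aeval_mem_adjoin_singleton T _)
  have hR : ∀ r : R, χ (algebraMap R S r) ∈ C₀ := fun r => by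
    rw [AlgHom.commutes, IsScalarTower.algebraMap_apply R T L]
    exact C₀.algebraMap_mem _
  have hS : Algebra.adjoin R (gens : Set S) ≤ (C₀.restrictScalars R).comap χ := by
    refine Algebra.adjoin_le fun y hy' => ?_
    obtain ⟨F, i, hi, hF⟩ := hy y hy'
    show IsAlgebraic T (χ y)
    let e : (MvPolynomial (Fin d) R)[X] →+* C₀ := (χ.toRingHom.comp (ev a t).toRingHom).codRestrict C₀ hev
    haveI : IsAlgebraic C₀ (χ y) := by
      refine ⟨F.map e, fun h => hi ?_, ?_⟩
      · exact congrArg Subtype.val ((Polynomial.coeff_map e i).symm.trans (by rw [h, Polynomial.coeff_zero]) : e (F.coeff i) = 0)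
      · show Polynomial.eval₂ (algebraMap C₀ L) (χ y) (F.map e) = 0
        rw [Polynomial.eval₂_map, ← hF, ← AlgHom.coe_toRingHom χ, Polynomial.hom_eval₂]
        rfl
    exact IsAlgebraic.restrictScalars T this
  exact hS (hgens ▸ Algebra.mem_top)

section Fibre

variable [Algebra.FiniteType R S] [Algebra R[X] S] [IsScalarTower R R[X] S]

instance finiteType_polynomial : Algebra.FiniteType R[X] S := Algebra.FiniteType.of_restrictScalars_finiteType R R[X] S

/-- A bound on the fibre dimension gives algebraicity over `d + 1` elements at every prime. -/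
theorem exists_algebraic (d : ℕ) (u : S) (hu : algebraMap R[X] S X = u) (Q : PrimeSpectrum S)
    (h : ringKrullDim ((PrimeSpectrum.comap (algebraMap R[X] S) Q).asIdeal.Fiber S) ≤ d) :
    ∃ t : Fin d → S, ∀ s : S, IsAlgebraic
      (Algebra.adjoin R (insert (IsScalarTower.toAlgHom R S Q.asIdeal.ResidueField u)
        (IsScalarTower.toAlgHom R S Q.asIdeal.ResidueField '' Set.range t)))
      (IsScalarTower.toAlgHom R S Q.asIdeal.ResidueField s) := by
  classical
  set P := PrimeSpectrum.comap (algebraMap R[X] S) Q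
  haveI : Q.asIdeal.LiesOver P.asIdeal := ⟨rfl⟩
  letI := Localization.AtPrime.algebraOfLiesOver P.asIdeal Q.asIdeal
  let k := P.asIdeal.ResidueField
  let K := Q.asIdeal.ResidueField
  let θ : k ⊗[R[X]] S →ₐ[k] K := Algebra.TensorProduct.lift (Algebra.ofId k K)
    (IsScalarTower.toAlgHom R[X] S K) fun _ _ => Commute.all _ _
  let D := θ.range
  haveI : Algebra.FiniteType k D := Algebra.FiniteType.of_surjective θ.rangeRestrict θ.rangeRestrict_surjective
  obtain ⟨m, -, -, -, hdim, htr⟩ := Groth.L22.AffineDim.exists_normalization k D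
  have hm : m ≤ d := by
    have h1 := (ringKrullDim_le_of_surjective θ.rangeRestrict.toRingHom θ.rangeRestrict_surjective).trans h
    exact_mod_cast hdim ▸ h1
  let σ : S → D := fun s => θ.rangeRestrict ((1 : k) ⊗ₜ s)
  have hσ : ∀ s, (σ s : K) = algebraMap S K s := fun s => by simp [σ, θ]
  have htop : Algebra.adjoin k (Set.range σ) = ⊤ := by
    rw [eq_top_iff]
    rintro x -
    obtain ⟨z, rfl⟩ := θ.rangeRestrict_surjective x
    induction z using TensorProduct.induction_on with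
    | zero => simp
    | add a b ha hb => rw [map_add]; exact add_mem ha hb
    | tmul c s =>
      rw [show c ⊗ₜ[R[X]] s = c • ((1 : k) ⊗ₜ[R[X]] s) by rw [smul_tmul', smul_eq_mul, mul_one], map_smul]
      exact Subalgebra.smul_mem _ (Algebra.subset_adjoin (Set.mem_range_self s)) _
  haveI : Algebra.IsAlgebraic (Algebra.adjoin k (Set.range σ)) D := by
    rw [htop]
    exact ⟨fun x => isAlgebraic_algebraMap (⟨x, Algebra.mem_top⟩ : (⊤ : Subalgebra k D))⟩
  haveI : FaithfulSMul k D := (faithfulSMul_iff_algebraMap_injective k D).2 (algebraMap k D).injective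
  obtain ⟨B, hB, hbasis⟩ := exists_isTranscendenceBasis_subset (R := k) (Set.range σ)
  have hcard := hbasis.cardinalMk_eq_trdeg
  rw [htr] at hcard
  haveI : Finite B := Cardinal.mk_lt_aleph0_iff.1 (hcard ▸ Cardinal.natCast_lt_aleph0)
  haveI := Fintype.ofFinite B
  obtain ⟨e⟩ : Nonempty (B ↪ Fin d) := Function.Embedding.nonempty_of_card_le (by
    rw [Fintype.card_fin]
    rw [Cardinal.mk_fintype] at hcard
    exact (Nat.cast_inj.1 hcard).le.trans hm)
  choose pre hpre using fun x : B => hB x.2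
  refine ⟨Function.extend e pre (fun _ => u), fun s => ?_⟩
  set t := Function.extend e pre (fun _ => u)
  set χ := IsScalarTower.toAlgHom R S K
  set T := Algebra.adjoin R (insert (χ u) (χ '' Set.range t))
  let C₀ := Subalgebra.algebraicClosure T K
  have hT : ∀ x, x ∈ T → x ∈ C₀ := fun x hx => isAlgebraic_algebraMap (⟨x, hx⟩ : T)
  have hX : ∀ p : R[X], algebraMap R[X] K p ∈ T := fun p => by
    rw [IsScalarTower.algebraMap_apply R[X] S K]
    induction p using Polynomial.induction_on' with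
    | add p q hp hq => rw [map_add, map_add]; exact add_mem hp hq
    | monomial j r =>
      rw [← Polynomial.C_mul_X_pow_eq_monomial, map_mul, map_pow, map_mul, map_pow, hu]
      refine mul_mem ?_ (pow_mem (Algebra.subset_adjoin (Set.mem_insert _ _)) j)
      rw [Polynomial.C_eq_algebraMap, ← IsScalarTower.algebraMap_apply, ← IsScalarTower.algebraMap_apply]
      exact T.algebraMap_mem r
  have hk : ∀ c : k, algebraMap k K c ∈ C₀ := fun c => by
    obtain ⟨x, y, -, rfl⟩ := IsFractionRing.div_surjective (R[X] ⧸ P.asIdeal) c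
    obtain ⟨x, rfl⟩ := Ideal.Quotient.mk_surjective x
    obtain ⟨y, rfl⟩ := Ideal.Quotient.mk_surjective y
    have hq : ∀ p : R[X], algebraMap k K (algebraMap (R[X] ⧸ P.asIdeal) k (Ideal.Quotient.mk _ p)) = algebraMap R[X] K p :=
      fun p => by
        rw [IsScalarTower.algebraMap_apply R[X] k K, IsScalarTower.algebraMap_apply R[X] (R[X] ⧸ P.asIdeal) k]
        rfl
    rw [map_div₀, hq, hq, div_eq_mul_inv]
    exact C₀.mul_mem (hT _ (hX x)) (IsAlgebraic.inv (hT _ (hX y)))
  let e' : Algebra.adjoin k (B : Set D) →+* C₀ :=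
    ((θ.range.val.comp (Algebra.adjoin k (B : Set D)).val).toRingHom).codRestrict C₀ fun z => by
      obtain ⟨z, hz⟩ := z
      show (z : K) ∈ C₀
      induction hz using Algebra.adjoin_induction with
      | mem z hz =>
        refine hT _ (Algebra.subset_adjoin (Set.mem_insert_of_mem _ ⟨pre ⟨z, hz⟩, ⟨e ⟨z, hz⟩, ?_⟩, ?_⟩))
        · exact e.injective.extend_apply _ _ _
        · show algebraMap S K (pre ⟨z, hz⟩) = _
          rw [← hσ, hpre]
      | algebraMap c => exact hk c
      | add a b _ _ ha hb => exact C₀.add_mem ha hb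
      | mul a b _ _ ha hb => exact C₀.mul_mem ha hb
  obtain ⟨p, hp0, hp⟩ : IsAlgebraic (Algebra.adjoin k (B : Set D)) (σ s) := by
    have hal := hbasis.isAlgebraic
    rw [Subtype.range_coe] at hal
    exact hal.isAlgebraic _
  have he' : Function.Injective e' := fun x y h => by
    have h1 : ((e' x : C₀) : K) = (e' y : C₀) := congrArg Subtype.val h
    exact Subtype.val_injective (Subtype.val_injective h1)
  haveI : IsAlgebraic C₀ (χ s) := by
    refine ⟨p.map e', (Polynomial.map_ne_zero_iff he').2 hp0, ?_⟩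
    show Polynomial.eval₂ (algebraMap C₀ K) (χ s) (p.map e') = 0
    rw [Polynomial.eval₂_map]
    have h1 := congrArg θ.range.val hp
    rw [map_zero, ← AlgHom.coe_toRingHom, Polynomial.aeval_def, Polynomial.hom_eval₂] at h1
    exact (congrArg (fun z => Polynomial.eval₂ _ z p) (hσ s).symm).trans h1
  exact IsAlgebraic.restrictScalars T this

/-- Certificates at all primes bound the fibre dimension for `a ^ n + b`. -/
theorem ringKrullDim_fiber_le (a b : S) (n : ℕ) (hu : algebraMap R[X] S X = a ^ n + b)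
    (gens : Finset S) (hgens : Algebra.adjoin R (gens : Set S) = ⊤)
    (h : ∀ Q : PrimeSpectrum S, ∃ (t : Fin d → S) (Fb : (MvPolynomial (Fin d) R)[X][X]) (ib : ℕ),
      ev a t (Fb.coeff ib) ∉ Q.asIdeal ∧ Fb.eval₂ (ev a t).toRingHom b ∈ Q.asIdeal ∧
        (∀ j, (Fb.coeff j).natDegree < n) ∧
        ∀ y ∈ gens, ∃ (F : (MvPolynomial (Fin d) R)[X][X]) (i : ℕ),
          ev a t (F.coeff i) ∉ Q.asIdeal ∧ F.eval₂ (ev a t).toRingHom y ∈ Q.asIdeal)
    (P : PrimeSpectrum R[X]) : ringKrullDim (P.asIdeal.Fiber S) ≤ d := by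
  classical
  let k := P.asIdeal.ResidueField
  refine iSup_le fun l => ?_
  let 𝔮 := l.head
  let D := P.asIdeal.Fiber S ⧸ 𝔮.asIdeal
  have hle : (l.length : WithBot ℕ∞) ≤ ringKrullDim D := by
    rw [ringKrullDim_quotient]
    exact le_iSup_of_le (⟨l.length, fun i => ⟨l i, (PrimeSpectrum.mem_zeroLocus _ _).2 (l.head_le i)⟩, fun i => l.step i⟩ :
      LTSeries (PrimeSpectrum.zeroLocus (𝔮.asIdeal : Set (P.asIdeal.Fiber S)))) le_rfl
  refine hle.trans ?_
  haveI : Algebra.FiniteType k D :=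
    Algebra.FiniteType.of_surjective (Ideal.Quotient.mkₐ k 𝔮.asIdeal) Ideal.Quotient.mk_surjective
  obtain ⟨m, -, -, -, hdim, htr⟩ := Groth.L22.AffineDim.exists_normalization k D
  rw [hdim]
  let L := FractionRing D
  let ι : S →ₐ[R[X]] L := (((IsScalarTower.toAlgHom k D L).comp (Ideal.Quotient.mkₐ k 𝔮.asIdeal)).restrictScalars R[X]).comp
    Algebra.TensorProduct.includeRight
  let χ : S →ₐ[R] L := ι.restrictScalars R
  have hχ : ∀ s, χ s = algebraMap D L (Ideal.Quotient.mk 𝔮.asIdeal ((1 : k) ⊗ₜ[R[X]] s)) := fun s => by simp [χ, ι]; rfl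
  obtain ⟨t, Fb, ib, h1, h2, h3, h4⟩ := h ⟨RingHom.ker χ, RingHom.ker_isPrime χ⟩
  let T := Algebra.adjoin k (χ '' Set.range t)
  have hmem : χ (a ^ n + b) ∈ T := by
    rw [← hu]
    show ι (algebraMap R[X] S X) ∈ T
    rw [AlgHom.commutes, IsScalarTower.algebraMap_apply R[X] k L]
    exact T.algebraMap_mem _
  have key : ∀ s, IsAlgebraic T (χ s) := fun s =>
    isAlgebraic_of_cert T χ a b t n (fun l => ⟨χ (t l), Algebra.subset_adjoin ⟨_, ⟨l, rfl⟩, rfl⟩⟩) ⟨_, hmem⟩
      (fun _ => rfl) rfl gens hgens Fb ib h1 h2 h3 h4 s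
  let C₀ := Subalgebra.algebraicClosure T L
  let π : P.asIdeal.Fiber S →ₐ[k] L := (IsScalarTower.toAlgHom k D L).comp (Ideal.Quotient.mkₐ k 𝔮.asIdeal)
  have hπ : ∀ z, π z ∈ C₀ := fun z => by
    induction z using TensorProduct.induction_on with
    | zero => rw [map_zero]; exact C₀.zero_mem
    | add x y hx hy => rw [map_add]; exact C₀.add_mem hx hy
    | tmul c s =>
      rw [show c ⊗ₜ[R[X]] s = c • ((1 : k) ⊗ₜ[R[X]] s) by rw [smul_tmul', smul_eq_mul, mul_one], map_smul,
        Algebra.smul_def, IsScalarTower.algebraMap_apply k T L]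
      exact C₀.mul_mem (C₀.algebraMap_mem _) ((hχ s) ▸ key s : π ((1 : k) ⊗ₜ[R[X]] s) ∈ C₀)
  have hD : ∀ z : D, algebraMap D L z ∈ C₀ := fun z => by
    obtain ⟨w, hw⟩ := Ideal.Quotient.mk_surjective (I := 𝔮.asIdeal) z
    rw [← hw]
    have h6 := hπ w
    simp only [π, AlgHom.coe_comp, Function.comp_apply, IsScalarTower.coe_toAlgHom', Ideal.Quotient.mkₐ_eq_mk] at h6
    exact h6
  haveI : Algebra.IsAlgebraic T L := ⟨fun z => by
    obtain ⟨x, y, -, rfl⟩ := IsFractionRing.div_surjective D z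
    rw [div_eq_mul_inv]
    exact C₀.mul_mem (hD x) (IsAlgebraic.inv (hD y))⟩
  have h5 : (m : Cardinal) ≤ d := calc
    (m : Cardinal) = Algebra.trdeg k D := htr.symm
    _ ≤ Algebra.trdeg k L := trdeg_le_of_injective (IsScalarTower.toAlgHom k D L) (IsFractionRing.injective D L)
    _ ≤ Cardinal.mk ↥(χ '' Set.range t) := Algebra.IsAlgebraic.trdeg_le_cardinalMk k _
    _ ≤ d := by
      rw [← Set.range_comp]
      have hc := Cardinal.mk_range_le_lift (f := (⇑χ ∘ t : Fin d → L))
      simpa using hc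
  exact Nat.mono_cast (α := WithBot ℕ∞) (Nat.cast_le.1 h5)

end Fibre

theorem exists_finite_subcover {ι : Type*} (U : ι → Set (PrimeSpectrum S))
    (hU : ∀ i, IsOpen[constructibleTopology (PrimeSpectrum S)] (U i)) (hc : ∀ Q, ∃ i, Q ∈ U i) :
    ∃ s : Finset ι, ∀ Q, ∃ i ∈ s, Q ∈ U i := by
  obtain ⟨s, hs⟩ := (isCompact_univ (X := WithConstructibleTopology (PrimeSpectrum S))).elim_finite_subcover
    (fun i => WithTopology.ofTopology ⁻¹' U i) (fun i => WithConstructibleTopology.isOpen_iff.2 (hU i))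
    (fun Q _ => Set.mem_iUnion.2 (hc Q.ofTopology))
  refine ⟨s, fun Q => ?_⟩
  obtain ⟨i, hi, hQ⟩ := Set.mem_iUnion₂.1 (hs (Set.mem_univ (WithTopology.toTopology _ Q)))
  exact ⟨i, hi, hQ⟩

theorem isOpen_mem_iff (x : S) (Q₀ : PrimeSpectrum S) :
    IsOpen[constructibleTopology (PrimeSpectrum S)] {Q : PrimeSpectrum S | x ∈ Q.asIdeal ↔ x ∈ Q₀.asIdeal} := by
  have hco : IsCompact ((PrimeSpectrum.basicOpen x : Set (PrimeSpectrum S))) := PrimeSpectrum.isCompact_basicOpen x
  by_cases h : x ∈ Q₀.asIdeal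
  · have : {Q : PrimeSpectrum S | x ∈ Q.asIdeal ↔ x ∈ Q₀.asIdeal} = (PrimeSpectrum.basicOpen x : Set (PrimeSpectrum S))ᶜ := by
      ext Q; simp [h]
    rw [this]
    exact IsCompact.isOpen_constructibleTopology_of_isClosed (by rwa [compl_compl]) (PrimeSpectrum.isOpen_basicOpen.isClosed_compl)
  · have : {Q : PrimeSpectrum S | x ∈ Q.asIdeal ↔ x ∈ Q₀.asIdeal} = (PrimeSpectrum.basicOpen x : Set (PrimeSpectrum S)) := by
      ext Q; simp [h]
    rw [this]
    exact hco.isOpen_constructibleTopology_of_isOpen PrimeSpectrum.isOpen_basicOpen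

theorem main [Algebra.FiniteType R S] (d : ℕ) (a b : S)
    (ha : ∀ P : PrimeSpectrum R[X], letI := (Polynomial.aeval (R := R) a).toRingHom.toAlgebra
      ringKrullDim (P.asIdeal.Fiber S) ≤ d) :
    ∃ n₀ : ℕ, ∀ n ≥ n₀, ∀ P : PrimeSpectrum R[X], letI := (Polynomial.aeval (R := R) (a ^ n + b)).toRingHom.toAlgebra
      ringKrullDim (P.asIdeal.Fiber S) ≤ d := by
  classical
  obtain ⟨gens, hgens⟩ := (Algebra.FiniteType.out : (⊤ : Subalgebra R S).FG)
  have key : ∀ Q : PrimeSpectrum S, ∃ (t : Fin d → S) (F : ↥(insert b gens) → (MvPolynomial (Fin d) R)[X][X])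
      (i : ↥(insert b gens) → ℕ), ∀ y, ev a t ((F y).coeff (i y)) ∉ Q.asIdeal ∧ (F y).eval₂ (ev a t).toRingHom y.1 ∈ Q.asIdeal := by
    intro Q
    letI := (Polynomial.aeval (R := R) a).toRingHom.toAlgebra
    haveI : IsScalarTower R R[X] S := IsScalarTower.of_algebraMap_eq fun r => ((Polynomial.aeval a).commutes r).symm
    obtain ⟨t, ht⟩ := exists_algebraic d a (Polynomial.aeval_X a) Q (ha _)
    choose F i h1 h2 using fun y : ↥(insert b gens) => exists_cert _ a t y.1 (ht y.1)
    exact ⟨t, F, i, fun y => ⟨fun h => h1 y (Ideal.algebraMap_residueField_eq_zero.2 h),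
      Ideal.algebraMap_residueField_eq_zero.1 (h2 y)⟩⟩
  choose t F i hF using key
  let U : PrimeSpectrum S → Set (PrimeSpectrum S) := fun Q₀ => ⋂ y : ↥(insert b gens),
    {Q : PrimeSpectrum S | ev a (t Q₀) ((F Q₀ y).coeff (i Q₀ y)) ∈ Q.asIdeal ↔ ev a (t Q₀) ((F Q₀ y).coeff (i Q₀ y)) ∈ Q₀.asIdeal} ∩
    {Q : PrimeSpectrum S | (F Q₀ y).eval₂ (ev a (t Q₀)).toRingHom y.1 ∈ Q.asIdeal ↔ (F Q₀ y).eval₂ (ev a (t Q₀)).toRingHom y.1 ∈ Q₀.asIdeal}
  obtain ⟨s, hs⟩ := exists_finite_subcover U (fun Q₀ => @isOpen_iInter_of_finite _ _ (constructibleTopology _) _ _ fun y =>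
      @IsOpen.inter _ (constructibleTopology _) _ _ (isOpen_mem_iff _ Q₀) (isOpen_mem_iff _ Q₀))
    fun Q => ⟨Q, Set.mem_iInter.2 fun y => ⟨Iff.rfl, Iff.rfl⟩⟩
  let yb : ↥(insert b gens) := ⟨b, Finset.mem_insert_self b gens⟩
  let D : PrimeSpectrum S → ℕ := fun Q₀ => (F Q₀ yb).support.sup fun j => ((F Q₀ yb).coeff j).natDegree
  refine ⟨s.sup D + 1, fun n hn P => ?_⟩
  letI := (Polynomial.aeval (R := R) (a ^ n + b)).toRingHom.toAlgebra
  haveI : IsScalarTower R R[X] S := IsScalarTower.of_algebraMap_eq fun r => ((Polynomial.aeval (a ^ n + b)).commutes r).symm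
  refine ringKrullDim_fiber_le a b n (Polynomial.aeval_X _) gens hgens (fun Q => ?_) P
  obtain ⟨Q₀, hQ₀, hQ⟩ := hs Q
  have hz : ∀ y, ev a (t Q₀) ((F Q₀ y).coeff (i Q₀ y)) ∉ Q.asIdeal ∧ (F Q₀ y).eval₂ (ev a (t Q₀)).toRingHom y.1 ∈ Q.asIdeal :=
    fun y => ⟨fun h => (hF Q₀ y).1 (((Set.mem_iInter.1 hQ) y).1.1 h), ((Set.mem_iInter.1 hQ) y).2.2 (hF Q₀ y).2⟩
  refine ⟨t Q₀, F Q₀ yb, i Q₀ yb, (hz yb).1, (hz yb).2, fun j => ?_, fun y hy =>
    ⟨_, _, hz ⟨y, Finset.mem_insert_of_mem hy⟩⟩⟩
  by_cases hj : j ∈ (F Q₀ yb).support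
  · exact Nat.lt_of_le_of_lt ((Finset.le_sup (f := fun j => ((F Q₀ yb).coeff j).natDegree) hj).trans (Finset.le_sup (f := D) hQ₀)) hn
  · rw [Polynomial.notMem_support_iff.1 hj, Polynomial.natDegree_zero]
    omega

end Groth.L15.FibreDimPerturb
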