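import Groth.Agent.L07.FibreRegular
import Groth.Agent.L20.FibreFT
import Mathlib.RingTheory.Ideal.AssociatedPrime.Basic
import Mathlib.RingTheory.LocalProperties.Submodule

/-!
An element regular on the fibres of a flat finitely presented module is regular on the module.
-/

set_option autoImplicit false

universe u

open scoped TensorProduct

namespace Groth.L15.FibreRegular

theorem main (A B M : Type u) [CommRing A] [CommRing B] [Algebra A B]
    [Algebra.FinitePresentation A B] [AddCommGroup M] [Module B M] [Module A M]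
    [IsScalarTower A B M] [Module.FinitePresentation B M] [Module.Flat A M]
    (hS1 : ∀ (p : Ideal A) [p.IsPrime],
      associatedPrimes (B ⊗[A] p.ResidueField) ((B ⊗[A] p.ResidueField) ⊗[B] M) ⊆
        (Module.annihilator (B ⊗[A] p.ResidueField) ((B ⊗[A] p.ResidueField) ⊗[B] M)).minimalPrimes)
    (a : B)
    (ha : ∀ (p : Ideal A) [p.IsPrime],
      ∀ P ∈ (Module.annihilator (B ⊗[A] p.ResidueField) ((B ⊗[A] p.ResidueField) ⊗[B] M)).minimalPrimes,
        a ⊗ₜ[A] (1 : p.ResidueField) ∉ P) :
    IsSMulRegular M a := by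
  intro x y hxy
  rw [← sub_eq_zero]
  have hxy' : a • (x - y) = 0 := by rw [smul_sub, sub_eq_zero]; exact hxy
  refine Module.eq_zero_of_localization_maximal (R := B) (fun P _ => LocalizedModule P.primeCompl M)
    (fun P _ => LocalizedModule.mkLinearMap P.primeCompl M) _ fun q hqm => ?_
  haveI : q.IsPrime := hqm.isPrime
  let z := LocalizedModule.mkLinearMap q.primeCompl M (x - y)
  have hz : a • z = 0 := by rw [← LinearMap.map_smul, hxy', map_zero]
  by_cases haq : a ∉ q
  · exact (IsLocalizedModule.smul_inj (LocalizedModule.mkLinearMap q.primeCompl M)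
      (⟨a, haq⟩ : q.primeCompl) z 0).1 (hz.trans (smul_zero _).symm)
  push Not at haq
  let p := q.comap (algebraMap A B)
  let K := p.ResidueField
  let C := B ⊗[A] K
  haveI : IsNoetherianRing C := by
    haveI : IsNoetherianRing (K ⊗[A] B) := Algebra.FiniteType.isNoetherianRing K _
    exact isNoetherianRing_of_ringEquiv (K ⊗[A] B) (Algebra.TensorProduct.comm A K B).toRingEquiv
  have hC : IsSMulRegular (C ⊗[B] M) (a ⊗ₜ[A] (1 : K) : C) := by
    intro u v huv
    by_contra hne
    have hzd : (a ⊗ₜ[A] (1 : K) : C) ∈ ⋃ P ∈ associatedPrimes C (C ⊗[B] M), (P : Set C) := by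
      rw [biUnion_associatedPrimes_eq_zero_divisors]
      exact ⟨u - v, sub_ne_zero.2 hne, by rw [smul_sub, sub_eq_zero]; exact huv⟩
    simp only [Set.mem_iUnion] at hzd
    obtain ⟨P, hP, haP⟩ := hzd
    exact ha p P (hS1 p hP) haP
  have hCa : IsSMulRegular (C ⊗[B] M) a := fun u v huv => hC (by
    show (algebraMap B C a) • u = (algebraMap B C a) • v
    rw [algebraMap_smul, algebraMap_smul]
    exact huv)
  let e : C ⊗[B] M ≃ₗ[B] M ⊗[A] K :=
    TensorProduct.comm B C M ≪≫ₗ TensorProduct.AlgebraTensorModule.cancelBaseChange A B B M K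
  have hMK : IsSMulRegular (M ⊗[A] K) a := (e.isSMulRegular_congr a).1 hCa
  have hloc : IsSMulRegular (LocalizedModule q.primeCompl (M ⊗[A] K)) a := by
    have h := hMK.of_isLocalizedModule (Localization q.primeCompl) q.primeCompl
      (LocalizedModule.mkLinearMap q.primeCompl (M ⊗[A] K))
    intro u v huv
    exact h (by
      show algebraMap B (Localization q.primeCompl) a • u = algebraMap B (Localization q.primeCompl) a • v
      rw [algebraMap_smul, algebraMap_smul]
      exact huv)
  have hreg := (Groth.L07.FibreRegular.isSMulRegular_and_flat M q a haq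
    (Groth.L20.FibreCrit.flat_localizedModule_of_flat (R := A) (S := B) (M := M) q.primeCompl) hloc).1
  exact hreg (hz.trans (smul_zero _).symm)

end Groth.L15.FibreRegular
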