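import Groth.Agent.L07.GenericFree
import Groth.Agent.L07.GrModel
import Mathlib.Algebra.Polynomial.Module.Basic
import Mathlib.RingTheory.Flat.Stability
import Mathlib.RingTheory.Flat.Localization
import Mathlib.RingTheory.Adjoin.FG
import Mathlib.Algebra.Module.LocalizedModule.Exact

/-!
Generic flatness of the cokernel of a linear map from a finite module over `A` to a finite module
over a finite type `A`-algebra.
-/

set_option autoImplicit false
set_option linter.style.haveILetI false

universe u

open Polynomial

namespace Groth.L15.GenFlatCoker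

variable {R : Type u} [CommRing R]

/-- Flatness after inverting `f`. -/
def FlatAt (f : R) (X : Type u) [AddCommGroup X] [Module R X] : Prop :=
  Module.Flat R (LocalizedModule (Submonoid.powers f) X)

theorem flatAt_of_freeAt [IsDomain R] {f : R} (hf : f ≠ 0) {X : Type u} [AddCommGroup X] [Module R X]
    (h : Groth.L07.GenFree.FreeAt f X) : FlatAt f X := by
  haveI := h.free hf (Localization.Away f) (LocalizedModule (Submonoid.powers f) X)
    (LocalizedModule.mkLinearMap (Submonoid.powers f) X)
  haveI : Module.Flat R (Localization.Away f) := IsLocalization.flat _ (Submonoid.powers f)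
  exact Module.Flat.trans R (Localization.Away f) _

theorem flatAt_of_retract {f : R} {X Y : Type u} [AddCommGroup X] [Module R X] [AddCommGroup Y] [Module R Y]
    (h : FlatAt f Y) (i : X →ₗ[R] Y) (p : Y →ₗ[R] X) (hpi : ∀ x, p (i x) = x) : FlatAt f X := by
  haveI : Module.Flat R (LocalizedModule (Submonoid.powers f) Y) := h
  refine Module.Flat.of_retract ((LocalizedModule.map (Submonoid.powers f) i).restrictScalars R)
    ((LocalizedModule.map (Submonoid.powers f) p).restrictScalars R) (LinearMap.ext fun z => ?_)
  induction z using LocalizedModule.induction_on with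
  | _ x s => simp [hpi]

theorem flatAt_of_exact {f : R} {X Y Z : Type u} [AddCommGroup X] [Module R X] [AddCommGroup Y] [Module R Y]
    [AddCommGroup Z] [Module R Z] (i : X →ₗ[R] Y) (p : Y →ₗ[R] Z) (hi : Function.Injective i)
    (hp : Function.Surjective p) (he : Function.Exact i p) (hX : FlatAt f X) (hZ : FlatAt f Z) : FlatAt f Y := by
  haveI : Module.Flat R (LocalizedModule (Submonoid.powers f) X) := hX
  haveI : Module.Flat R (LocalizedModule (Submonoid.powers f) Z) := hZ
  exact Groth.L07.FlatDescent.flat_of_shortExact ((LocalizedModule.map (Submonoid.powers f) i).restrictScalars R)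
    ((LocalizedModule.map (Submonoid.powers f) p).restrictScalars R)
    (LocalizedModule.map_injective _ i hi) (LocalizedModule.map_surjective _ p hp)
    (LocalizedModule.map_exact _ i p he)

/-- An increasing union of flat submodules is flat. -/
theorem flatAt_of_union {f : R} {X : Type u} [AddCommGroup X] [Module R X] (F : ℕ → Submodule R X)
    (hF : Monotone F) (htop : ∀ x, ∃ j, x ∈ F j) (h : ∀ j, FlatAt f (F j)) : FlatAt f X := by
  unfold FlatAt
  rw [Module.Flat.iff_lTensor_injective]
  intro I _
  rw [injective_iff_map_eq_zero]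
  intro z hz
  let ι : ∀ j, LocalizedModule (Submonoid.powers f) (F j) →ₗ[R] LocalizedModule (Submonoid.powers f) X :=
    fun j => (LocalizedModule.map (Submonoid.powers f) (F j).subtype).restrictScalars R
  have hex : ∃ j, z ∈ LinearMap.range ((ι j).rTensor I) := by
    have hmono : ∀ {j j'}, j ≤ j' →
        LinearMap.range ((ι j).rTensor I) ≤ LinearMap.range ((ι j').rTensor I) := by
      intro j j' hjj'
      have hcomp : ι j = (ι j').comp ((LocalizedModule.map (Submonoid.powers f)
          (Submodule.inclusion (hF hjj'))).restrictScalars R) := by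
        refine LinearMap.ext fun w => ?_
        induction w using LocalizedModule.induction_on with
        | _ x s => simp [ι]
      rw [hcomp, LinearMap.rTensor_comp]
      exact LinearMap.range_comp_le_range _ _
    induction z using TensorProduct.induction_on with
    | zero => exact ⟨0, zero_mem _⟩
    | tmul y a =>
      induction y using LocalizedModule.induction_on with
      | _ x s =>
        obtain ⟨j, hj⟩ := htop x
        exact ⟨j, (LocalizedModule.mk (⟨x, hj⟩ : F j) s) ⊗ₜ a, by simp [ι]⟩
    | add z₁ z₂ h₁ h₂ =>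
      have key : ∀ w, ∃ j, w ∈ LinearMap.range ((ι j).rTensor I) := fun w => by
        induction w using TensorProduct.induction_on with
        | zero => exact ⟨0, zero_mem _⟩
        | tmul y a =>
          induction y using LocalizedModule.induction_on with
          | _ x s =>
            obtain ⟨j, hj⟩ := htop x
            exact ⟨j, (LocalizedModule.mk (⟨x, hj⟩ : F j) s) ⊗ₜ a, by simp [ι]⟩
        | add a b ha hb =>
          obtain ⟨j, hj⟩ := ha
          obtain ⟨j', hj'⟩ := hb
          exact ⟨max j j', add_mem (hmono (le_max_left _ _) hj) (hmono (le_max_right _ _) hj')⟩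
      exact key _
  obtain ⟨j, w, rfl⟩ := hex
  haveI : Module.Flat R (LocalizedModule (Submonoid.powers f) (F j)) := h j
  have hinj : Function.Injective ((ι j).rTensor R) :=
    Module.Flat.rTensor_preserves_injective_linearMap _ (LocalizedModule.map_injective _ _ (F j).injective_subtype)
  have h1 : I.subtype.lTensor _ w = 0 := hinj (by
    rw [map_zero, ← LinearMap.comp_apply, LinearMap.rTensor_comp_lTensor, ← LinearMap.lTensor_comp_rTensor,
      LinearMap.comp_apply, hz])
  have h2 : w = 0 := Module.Flat.lTensor_preserves_injective_linearMap _ I.injective_subtype (h1.trans (map_zero _).symm)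
  rw [h2, map_zero]

section Pieces

variable {A B : Type u} [CommRing A] [CommRing B] [Algebra A B] {m : ℕ} (x : Fin m → B)
variable {N : Type u} [AddCommGroup N] [Module B N] [Module A N] [IsScalarTower A B N] {l : ℕ} (g : Fin l → N)

/-- The filtration by degree. -/
noncomputable def Nj : ℕ → Submodule A N
  | 0 => Submodule.span A (Set.range g)
  | j + 1 => Nj j ⊔ ⨆ i, (Nj j).map (Algebra.lsmul A A N (x i))

theorem Nj_mono : Monotone (Nj (A := A) x g) := monotone_nat_of_le_succ fun _ => le_sup_left

theorem smul_mem_Nj {j : ℕ} {n : N} (hn : n ∈ Nj (A := A) x g j) (i : Fin m) : x i • n ∈ Nj (A := A) x g (j + 1) :=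
  Submodule.mem_sup_right (Submodule.mem_iSup_of_mem i ⟨n, hn, rfl⟩)

theorem Nj_fg : ∀ j, (Nj (A := A) x g j).FG
  | 0 => Submodule.fg_span (Set.finite_range g)
  | j + 1 => (Nj_fg j).sup (Submodule.fg_iSup _ fun i => (Nj_fg j).map _)

theorem exists_mem_Nj (hx : Algebra.adjoin A (Set.range x) = ⊤) (hg : Submodule.span B (Set.range g) = ⊤)
    (n : N) : ∃ j, n ∈ Nj (A := A) x g j := by
  let U : Submodule A N := ⨆ j, Nj (A := A) x g j
  have hdir : ∀ n, n ∈ U ↔ ∃ j, n ∈ Nj (A := A) x g j := fun n =>
    Submodule.mem_iSup_of_directed _ (Nj_mono x g).directed_le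
  have hB : ∀ b : B, ∀ n ∈ U, b • n ∈ U := fun b => by
    have hb : b ∈ Algebra.adjoin A (Set.range x) := hx ▸ Algebra.mem_top
    induction hb using Algebra.adjoin_induction with
    | mem b hb =>
      obtain ⟨i, rfl⟩ := hb
      intro n hn
      obtain ⟨j, hj⟩ := (hdir n).mp hn
      exact (hdir _).mpr ⟨j + 1, smul_mem_Nj x g hj i⟩
    | algebraMap a => intro n hn; rw [algebraMap_smul]; exact U.smul_mem a hn
    | add a b _ _ ha hb => intro n hn; rw [add_smul]; exact add_mem (ha n hn) (hb n hn)
    | mul a b _ _ ha hb => intro n hn; rw [mul_smul]; exact ha _ (hb n hn)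
  have hn : n ∈ Submodule.span B (Set.range g) := hg ▸ Submodule.mem_top
  refine (hdir n).mp ?_
  induction hn using Submodule.span_induction with
  | mem y hy => exact (hdir y).mpr ⟨0, Submodule.subset_span hy⟩
  | zero => exact zero_mem U
  | add a b _ _ ha hb => exact add_mem ha hb
  | smul b y _ hy => exact hB b y hy

/-- The Rees algebra of the degree filtration. -/
noncomputable def ReesAlg : Subalgebra A B[X] :=
  Algebra.adjoin A (insert X (Set.range fun i => C (x i) * X))

/-- The parameter. -/
noncomputable def tt : ReesAlg (A := A) x := ⟨X, Algebra.subset_adjoin (Set.mem_insert _ _)⟩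

/-- The Rees module. -/
noncomputable def ReesMod : Submodule (ReesAlg (A := A) x) (PolynomialModule B N) :=
  Submodule.span _ (Set.range fun i => PolynomialModule.single B 0 (g i))

theorem CX_smul_single (b : B) (j : ℕ) (n : N) :
    (C b * X : B[X]) • PolynomialModule.single B j n = PolynomialModule.single B (j + 1) (b • n) := by
  rw [C_mul_X_eq_monomial, PolynomialModule.monomial_smul_single, add_comm]

theorem single_mem : ∀ (j : ℕ) (n : N), n ∈ Nj (A := A) x g j →
    PolynomialModule.single B j n ∈ ReesMod (A := A) x g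
  | 0, n, hn => by
    induction hn using Submodule.span_induction with
    | mem y hy =>
      obtain ⟨i, rfl⟩ := hy
      exact Submodule.subset_span ⟨i, rfl⟩
    | zero => rw [PolynomialModule.single_zero]; exact zero_mem _
    | add a b _ _ ha hb => rw [PolynomialModule.single_add]; exact add_mem ha hb
    | smul a y _ hy =>
      have := (ReesMod (A := A) x g).smul_mem (algebraMap A (ReesAlg (A := A) x) a) hy
      rw [algebraMap_smul] at this
      convert this using 1
      rw [← algebraMap_smul B a y, PolynomialModule.single_smul, algebraMap_smul]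
  | j + 1, n, hn => by
    have hX : ∀ y, y ∈ Nj (A := A) x g j →
        PolynomialModule.single B (j + 1) y ∈ ReesMod (A := A) x g := fun y hy => by
      have h := (ReesMod (A := A) x g).smul_mem (tt x) (single_mem j y hy)
      have hs : (tt (A := A) x) • PolynomialModule.single B j y = PolynomialModule.single B (j + 1) y := by
        rw [Subalgebra.smul_def, show ((tt (A := A) x : ReesAlg (A := A) x) : B[X]) = C 1 * X by simp [tt],
          CX_smul_single, one_smul]
      rwa [hs] at h
    obtain ⟨a, ha, b, hb, rfl⟩ := Submodule.mem_sup.mp hn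
    rw [PolynomialModule.single_add]
    refine add_mem (hX a ha) ?_
    clear hn
    induction hb using Submodule.iSup_induction' with
    | mem i y hy =>
      obtain ⟨w, hw, rfl⟩ := hy
      let s : ReesAlg (A := A) x := ⟨C (x i) * X, Algebra.subset_adjoin (Set.mem_insert_of_mem _ ⟨i, rfl⟩)⟩
      have h := (ReesMod (A := A) x g).smul_mem s (single_mem j w hw)
      rw [Subalgebra.smul_def, CX_smul_single] at h
      exact h
    | zero => rw [PolynomialModule.single_zero]; exact zero_mem _
    | add a b ha' hb' ha hb => rw [PolynomialModule.single_add]; exact add_mem ha hb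

theorem smul_coeff {q : B[X]} (hs : q ∈ ReesAlg (A := A) x) :
    ∀ y : PolynomialModule B N, (∀ j, y.coeff j ∈ Nj (A := A) x g j) →
      ∀ j, (q • y).coeff j ∈ Nj (A := A) x g j := by
  induction hs using Algebra.adjoin_induction with
  | mem p hp =>
    obtain ⟨b, rfl, hb⟩ : ∃ b, p = C b * X ∧ ∀ j, ∀ n ∈ Nj (A := A) x g j, b • n ∈ Nj (A := A) x g (j + 1) := by
      rcases hp with rfl | ⟨i, rfl⟩
      · exact ⟨1, by simp, fun j n hn => by rw [one_smul]; exact Nj_mono x g j.le_succ hn⟩
      · exact ⟨x i, rfl, fun j n hn => smul_mem_Nj x g hn i⟩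
    intro y hy j
    rw [C_mul_X_eq_monomial, PolynomialModule.monomial_smul_apply]
    rcases j with _ | j
    · rw [if_neg (by omega)]; exact zero_mem _
    · rw [if_pos (by omega), Nat.add_sub_cancel]; exact hb j _ (hy j)
  | algebraMap a =>
    intro y hy j
    rw [algebraMap_smul, show (a • y).coeff j = a • y.coeff j from rfl]
    exact Submodule.smul_mem _ a (hy j)
  | add p q _ _ hp hq =>
    intro y hy j
    rw [add_smul, PolynomialModule.coeff_add, Finsupp.add_apply]
    exact add_mem (hp _ hy j) (hq _ hy j)
  | mul p q _ _ hp hq =>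
    intro y hy
    rw [mul_smul]
    exact hp _ (hq _ hy)

theorem coeff_mem {v : PolynomialModule B N} (hv : v ∈ ReesMod (A := A) x g) :
    ∀ j, v.coeff j ∈ Nj (A := A) x g j := by
  induction hv using Submodule.span_induction with
  | mem y hy =>
    obtain ⟨i, rfl⟩ := hy
    intro j
    rcases j with _ | j
    · rw [PolynomialModule.coeff_single, Finsupp.single_eq_same]; exact Submodule.subset_span ⟨i, rfl⟩
    · rw [PolynomialModule.coeff_single, Finsupp.single_eq_of_ne (by omega)]; exact zero_mem _
  | zero => intro j; rw [PolynomialModule.coeff_zero]; exact zero_mem _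
  | add a b _ _ ha hb =>
    intro j
    rw [PolynomialModule.coeff_add, Finsupp.add_apply]
    exact add_mem (ha j) (hb j)
  | smul s y _ hy =>
    rw [Subalgebra.smul_def]
    exact smul_coeff x g s.2 y hy

noncomputable instance instAddCommGroupReesMod : AddCommGroup ↥(ReesMod (A := A) x g) := Submodule.addCommGroup _

noncomputable instance instHasQuotientReesMod :
    HasQuotient ↥(ReesMod (A := A) x g) (Submodule (ReesAlg (A := A) x) ↥(ReesMod (A := A) x g)) :=
  Submodule.hasQuotient

/-- The multiples of the parameter. -/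
noncomputable def tRange : Submodule (ReesAlg (A := A) x) ↥(ReesMod (A := A) x g) :=
  LinearMap.range (LinearMap.lsmul (ReesAlg (A := A) x) ↥(ReesMod (A := A) x g) (tt x))

/-- The associated graded module. -/
abbrev Gr : Type u := ↥(ReesMod (A := A) x g) ⧸ tRange (A := A) x g

/-- A graded piece. -/
abbrev Piece (j : ℕ) : Type u :=
  ↥(Nj (A := A) x g (j + 1)) ⧸ (Nj (A := A) x g j).comap (Nj (A := A) x g (j + 1)).subtype

theorem piece_retract (j : ℕ) : ∃ (i : Piece (A := A) x g j →ₗ[A] Gr (A := A) x g)
    (p : Gr (A := A) x g →ₗ[A] Piece (A := A) x g j), ∀ z, p (i z) = z := by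
  let i₀ : ↥(Nj (A := A) x g (j + 1)) →ₗ[A] ↥(ReesMod (A := A) x g) :=
    { toFun := fun n => ⟨PolynomialModule.single B (j + 1) n.1, single_mem x g _ _ n.2⟩
      map_add' := fun a b => Subtype.ext (PolynomialModule.single_add (j + 1) a.1 b.1)
      map_smul' := fun a b => Subtype.ext (by
        show PolynomialModule.single B (j + 1) (a • b.1) = a • PolynomialModule.single B (j + 1) b.1
        rw [← algebraMap_smul B a b.1, PolynomialModule.single_smul, algebraMap_smul]) }
  let p₀ : ↥(ReesMod (A := A) x g) →ₗ[A] ↥(Nj (A := A) x g (j + 1)) :=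
    { toFun := fun v => ⟨v.1.coeff (j + 1), coeff_mem x g v.2 _⟩
      map_add' := fun a b => Subtype.ext rfl
      map_smul' := fun a b => Subtype.ext rfl }
  let TR := (tRange (A := A) x g).restrictScalars A
  let i₁ : ↥(Nj (A := A) x g (j + 1)) →ₗ[A] Gr (A := A) x g := (Submodule.mkQ _).restrictScalars A ∘ₗ i₀
  have hi : (Nj (A := A) x g j).comap (Nj (A := A) x g (j + 1)).subtype ≤ LinearMap.ker i₁ := by
    intro n hn
    rw [LinearMap.mem_ker]
    refine (Submodule.Quotient.mk_eq_zero _).mpr ⟨⟨PolynomialModule.single B j n.1, single_mem x g j _ hn⟩,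
      Subtype.ext ?_⟩
    show (X : B[X]) • PolynomialModule.single B j n.1 = _
    rw [show (X : B[X]) = C 1 * X by simp, CX_smul_single, one_smul]
    rfl
  let p₁ : ↥(ReesMod (A := A) x g) →ₗ[A] Piece (A := A) x g j := Submodule.mkQ _ ∘ₗ p₀
  have hp : TR ≤ LinearMap.ker p₁ := by
    rintro _ ⟨w, rfl⟩
    rw [LinearMap.mem_ker]
    refine (Submodule.Quotient.mk_eq_zero _).mpr ?_
    show ((X : B[X]) • w.1).coeff (j + 1) ∈ Nj (A := A) x g j
    rw [show (X : B[X]) = monomial 1 (1 : B) from (monomial_one_one_eq_X).symm,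
      PolynomialModule.monomial_smul_apply, if_pos (by omega), Nat.add_sub_cancel, one_smul]
    exact coeff_mem x g w.2 j
  refine ⟨Submodule.liftQ _ i₁ hi,
    (Submodule.liftQ TR p₁ hp) ∘ₗ (Submodule.Quotient.restrictScalarsEquiv A _).symm.toLinearMap, fun z => ?_⟩
  obtain ⟨n, rfl⟩ := Submodule.mkQ_surjective _ z
  show Submodule.Quotient.mk (p₀ (i₀ n)) = Submodule.Quotient.mk n
  congr 1
  refine Subtype.ext ?_
  show (PolynomialModule.single B (j + 1) n.1).coeff (j + 1) = n.1
  rw [PolynomialModule.coeff_single, Finsupp.single_eq_same]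

end Pieces

/-- The cokernel of a map from a finite `A`-module to a finite module over a finite type `A`-algebra is
flat over a nonempty open of a Noetherian integral base. -/
theorem exists_flatAt [IsDomain R] [IsNoetherianRing R] {A B : Type u} [CommRing A] [CommRing B]
    [Algebra R A] [Algebra A B] [Algebra R B] [IsScalarTower R A B] [Algebra.FiniteType R A]
    [Algebra.FiniteType A B] {N : Type u} [AddCommGroup N] [Module B N] [Module A N] [Module R N]
    [IsScalarTower A B N] [IsScalarTower R A N] [Module.Finite B N] (W : Submodule A N) (hW : W.FG) :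
    ∃ f : R, f ≠ 0 ∧ FlatAt f (N ⧸ W) := by
  classical
  obtain ⟨s, hs⟩ := Algebra.FiniteType.out (R := A) (A := B)
  let x : Fin s.card → B := fun i => (s.equivFin.symm i : B)
  have hx : Algebra.adjoin A (Set.range x) = ⊤ := by
    rw [← hs]
    congr 1
    ext b
    exact ⟨fun ⟨i, hi⟩ => hi ▸ (s.equivFin.symm i).2, fun hb => ⟨s.equivFin ⟨b, hb⟩, by simp [x]⟩⟩
  obtain ⟨l, g, hg⟩ := Module.Finite.exists_fin (R := B) (M := N)
  obtain ⟨j₀, hj₀⟩ : ∃ j₀, W ≤ Nj (A := A) x g j₀ := by
    obtain ⟨t, ht⟩ := hW
    choose J hJ using fun n : N => exists_mem_Nj (A := A) x g hx hg n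
    refine ⟨t.sup J, ?_⟩
    rw [← ht, Submodule.span_le]
    exact fun n hn => Nj_mono x g (Finset.le_sup hn) (hJ n)
  haveI : Algebra.FiniteType A (ReesAlg (A := A) x) :=
    ⟨(Subalgebra.fg_top _).mpr (Subalgebra.fg_def.mpr ⟨_, (Set.finite_range _).insert _, rfl⟩)⟩
  haveI : Algebra.FiniteType R (ReesAlg (A := A) x) := Algebra.FiniteType.trans (S := A) inferInstance inferInstance
  haveI : IsScalarTower R B N := ⟨fun r b n => by
    rw [← algebraMap_smul A r (b • n), ← algebraMap_smul A r b, smul_assoc]⟩
  haveI : Module.Finite (ReesAlg (A := A) x) ↥(ReesMod (A := A) x g) :=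
    Module.Finite.of_fg (Submodule.fg_span (Set.finite_range _))
  haveI : IsScalarTower R A (PolynomialModule B N) :=
    ⟨fun r a v => PolynomialModule.ext (Finsupp.ext fun j => smul_assoc r a (v.coeff j))⟩
  haveI : IsScalarTower R (ReesAlg (A := A) x) (PolynomialModule B N) := ⟨fun r p v => by
    rw [← algebraMap_smul A r p, smul_assoc]
    exact algebraMap_smul A r (p • v)⟩
  obtain ⟨f₁, hf₁, hfree₁⟩ := Groth.L07.GenFree.exists_freeAt (R := R) (S := ReesAlg (A := A) x) (Gr (A := A) x g)
  let F₀ : Submodule A (N ⧸ W) := (Nj (A := A) x g j₀).map W.mkQ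
  haveI : Module.Finite A ↥F₀ := Module.Finite.of_fg ((Nj_fg x g j₀).map _)
  obtain ⟨f₂, hf₂, hfree₂⟩ := Groth.L07.GenFree.exists_freeAt (R := R) (S := A) ↥F₀
  have hf : f₁ * f₂ ≠ 0 := mul_ne_zero hf₁ hf₂
  have hG := flatAt_of_freeAt hf (hfree₁.mono (dvd_mul_right f₁ f₂))
  have h0 := flatAt_of_freeAt hf (hfree₂.mono (dvd_mul_left f₂ f₁))
  refine ⟨f₁ * f₂, hf, ?_⟩
  let F : ℕ → Submodule A (N ⧸ W) := fun j => (Nj (A := A) x g (j₀ + j)).map W.mkQ
  have hmono : Monotone F := fun a b h => Submodule.map_mono (Nj_mono x g (by omega))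
  have hFlat : ∀ j, FlatAt (f₁ * f₂) ↥(F j) := by
    intro j
    induction j with
    | zero => exact h0
    | succ j ih =>
      obtain ⟨i, p, hpi⟩ := piece_retract (A := A) x g (j₀ + j)
      have hP : FlatAt (f₁ * f₂) (Piece (A := A) x g (j₀ + j)) :=
        flatAt_of_retract hG (i.restrictScalars R) (p.restrictScalars R) hpi
      let α : ↥(Nj (A := A) x g (j₀ + j + 1)) →ₗ[A] ↥(F (j + 1)) :=
        (W.mkQ).submoduleMap (Nj (A := A) x g (j₀ + j + 1))
      have hα : Function.Surjective α := LinearMap.submoduleMap_surjective _ _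
      have hker : LinearMap.ker α ≤
          LinearMap.ker ((Nj (A := A) x g (j₀ + j)).comap (Nj (A := A) x g (j₀ + j + 1)).subtype).mkQ := by
        intro n hn
        rw [Submodule.ker_mkQ, Submodule.mem_comap]
        have : n.1 ∈ W := (Submodule.Quotient.mk_eq_zero W).mp (congrArg Subtype.val (LinearMap.mem_ker.mp hn))
        exact Nj_mono x g (Nat.le_add_right _ _) (hj₀ this)
      let ε : ↥(F (j + 1)) →ₗ[A] Piece (A := A) x g (j₀ + j) :=
        (LinearMap.ker α).liftQ _ hker ∘ₗ (α.quotKerEquivOfSurjective hα).symm.toLinearMap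
      have hε : ∀ n, ε (α n) = Submodule.Quotient.mk n := fun n => by
        simp only [ε, LinearMap.comp_apply, LinearEquiv.coe_coe,
          LinearMap.quotKerEquivOfSurjective_symm_apply, Submodule.liftQ_apply, Submodule.mkQ_apply]
      have hstep : F j ≤ F (j + 1) := hmono (Nat.le_succ j)
      refine flatAt_of_exact ((Submodule.inclusion hstep).restrictScalars R) (ε.restrictScalars R)
        (Submodule.inclusion_injective hstep) (fun z => ?_) (fun z => ?_) ih hP
      · obtain ⟨n, rfl⟩ := Submodule.mkQ_surjective _ z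
        exact ⟨α n, hε n⟩
      · obtain ⟨n, rfl⟩ := hα z
        show ε (α n) = 0 ↔ _
        rw [hε, Submodule.Quotient.mk_eq_zero, Submodule.mem_comap]
        constructor
        · intro hn
          exact ⟨⟨W.mkQ n.1, Submodule.mem_map_of_mem hn⟩, Subtype.ext rfl⟩
        · rintro ⟨⟨y, w, hw, rfl⟩, hy⟩
          have h1 : W.mkQ w = W.mkQ n.1 := congrArg Subtype.val hy
          rw [Submodule.mkQ_apply, Submodule.mkQ_apply, Submodule.Quotient.eq] at h1
          have h2 := Nj_mono x g (Nat.le_add_right j₀ j) (hj₀ h1)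
          have h3 := sub_mem hw h2
          rwa [sub_sub_cancel] at h3
  refine flatAt_of_union (fun j => (F j).restrictScalars R) (fun a b h => hmono h) (fun z => ?_)
    fun j => hFlat j
  obtain ⟨n, rfl⟩ := Submodule.mkQ_surjective W z
  obtain ⟨j, hj⟩ := exists_mem_Nj (A := A) x g hx hg n
  exact ⟨j, Submodule.mem_map_of_mem (Nj_mono x g (Nat.le_add_left j j₀) hj)⟩

end Groth.L15.GenFlatCoker
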