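import Groth.Agent.L02.CAlg.Tor.Vanish
import Groth.Agent.L05.Glue.Torsion
import Groth.Prelude.Def_DRing2
import Mathlib.RingTheory.Ideal.Quotient.Operations
import Mathlib.Algebra.Module.Torsion.Basic
import Mathlib.RingTheory.Ideal.Maps

/-! Tor vanishing for glueing pairs. -/

set_option autoImplicit false
universe u

open CategoryTheory CategoryTheory.Limits TensorProduct L02.CAlg.TorV

namespace Groth.L15.GlueTor

variable {R R' : Type u} [CommRing R] [CommRing R'] [Algebra R R'] {f : R}

theorem subsingleton_tor {N : Type u} [AddCommGroup N] [Module R N] (h : Van R R' N 0) :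
    Subsingleton (DRing.Tor R 1 R' N) :=
  ModuleCat.subsingleton_of_isZero ((isZero_tor_iff R' N 0).2 h)

variable (h : EtGlue.IsGlueingPair R R' f)
include h

/-- A torsion element vanishing in `R'` is zero. -/
theorem eq_zero_of_isTors {r : R} (hr : algebraMap R R' r = 0) (n : ℕ) (hn : f ^ n * r = 0) : r = 0 := by
  refine h.2.1 (Prod.ext ?_ ?_)
  · change algebraMap R R' r = algebraMap R R' 0
    rw [hr, map_zero]
  · change algebraMap R (Localization.Away f) r = algebraMap R (Localization.Away f) 0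
    rw [map_zero]
    refine (Groth.L05.Glue.isUnit_pow f n).mul_right_eq_zero.1 ?_
    rw [← map_mul, hn, map_zero]

/-- `f^n`-torsion of `R'` comes from `R`. -/
theorem exists_torsion {x : R'} (n : ℕ) (hx : algebraMap R R' (f ^ n) * x = 0) :
    ∃ r : R, algebraMap R R' r = x ∧ f ^ n * r = 0 := by
  obtain ⟨r, hr, hr0⟩ := h.2.2.1 x 0 (by
    rw [map_zero]
    refine (IsUnit.pow n ?_).mul_right_eq_zero.1
      (show algebraMap R' (Localization.Away (algebraMap R R' f)) (algebraMap R R' f) ^ n *
        algebraMap R' (Localization.Away (algebraMap R R' f)) x = 0 by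
          rw [← map_pow, ← map_mul, ← map_pow, hx, map_zero])
    exact IsLocalization.Away.algebraMap_isUnit _)
  obtain ⟨⟨_, m, rfl⟩, hm⟩ := (IsLocalization.map_eq_zero_iff (Submonoid.powers f) (Localization.Away f) r).1 hr0
  refine ⟨r, hr, eq_zero_of_isTors h ?_ m ?_⟩
  · rw [map_mul, hr, hx]
  · rw [← _root_.mul_assoc, _root_.mul_comm (f ^ m), _root_.mul_assoc]
    simp only at hm
    rw [hm, mul_zero]

/-- Torsion ideals stay ideals after base change. -/
theorem injective_lTensor_of_torsion (J : Ideal R) (hJ : ∀ j ∈ J, ∃ n : ℕ, f ^ n * j = 0) :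
    Function.Injective (J.subtype.lTensor R') := by
  rw [injective_iff_map_eq_zero]
  intro z hz
  have hb := Groth.L05.Glue.bijective_tmul_of_isTors (R' := R') h.1 (M := J)
    (fun j => by obtain ⟨n, hn⟩ := hJ j j.2; exact ⟨n, Subtype.ext hn⟩)
  obtain ⟨j, rfl⟩ := hb.2 z
  obtain ⟨n, hn⟩ := hJ j j.2
  simp only [LinearMap.lTensor_tmul] at hz
  have h0 : algebraMap R R' (j : R) = 0 := by
    have := congrArg (TensorProduct.rid R R') hz
    simpa [Algebra.smul_def] using this
  have hj : j = 0 := Subtype.ext (eq_zero_of_isTors h h0 n hn)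
  rw [hj]; exact tmul_zero _ _

theorem van_quot_torsion (J : Ideal R) (hJ : ∀ j ∈ J, ∃ n : ℕ, f ^ n * j = 0) :
    Van R R' (R ⧸ J) 0 :=
  Van.right_zero (f := J.subtype) (g := J.mkQ) Subtype.coe_injective (Submodule.mkQ_surjective J)
    (LinearMap.exact_subtype_mkQ J) (van_of_flat_right R 0) (injective_lTensor_of_torsion h J hJ)

theorem van_quot_pow (n : ℕ) : Van R R' (R ⧸ Ideal.span {f ^ n}) 0 := by
  let J : Ideal R := Ideal.span {f ^ n}
  refine Van.right_zero (f := J.subtype) (g := J.mkQ) Subtype.coe_injective (Submodule.mkQ_surjective J)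
    (LinearMap.exact_subtype_mkQ J) (van_of_flat_right R 0) ?_
  rw [injective_iff_map_eq_zero]
  intro z hz
  let g : J := ⟨f ^ n, Ideal.mem_span_singleton_self _⟩
  obtain ⟨x, rfl⟩ : ∃ x : R', x ⊗ₜ[R] g = z := by
    clear hz
    induction z using TensorProduct.induction_on with
    | zero => exact ⟨0, zero_tmul _ _⟩
    | tmul x j =>
      obtain ⟨c, hc⟩ := Ideal.mem_span_singleton'.1 j.2
      refine ⟨c • x, ?_⟩
      rw [smul_tmul]
      exact congrArg _ (Subtype.ext hc)
    | add a b ha hb =>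
      obtain ⟨x, rfl⟩ := ha
      obtain ⟨y, rfl⟩ := hb
      exact ⟨x + y, add_tmul _ _ _⟩
  rw [LinearMap.lTensor_tmul] at hz
  have h0 : algebraMap R R' (f ^ n) * x = 0 := by
    have := congrArg (TensorProduct.rid R R') hz
    simpa [Algebra.smul_def, g] using this
  obtain ⟨r, hr, hr0⟩ := exists_torsion h n h0
  rw [← hr, Algebra.algebraMap_eq_smul_one, smul_tmul,
    show r • g = 0 from Subtype.ext (by change r * f ^ n = 0; rw [_root_.mul_comm]; exact hr0), tmul_zero]

theorem van_span_pow (n : ℕ) : Van R R' ↥(Ideal.span ({f ^ n} : Set R)) 0 := by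
  let q : R →ₗ[R] R := LinearMap.toSpanSingleton R R (f ^ n)
  have hr : LinearMap.range q = Ideal.span {f ^ n} := (LinearMap.range_toSpanSingleton _)
  refine (van_quot_torsion h (LinearMap.ker q) fun j hj => ⟨n, ?_⟩).congr
    (q.quotKerEquivRange.trans (LinearEquiv.ofEq _ _ hr))
  have h' : j * f ^ n = 0 := hj
  rw [_root_.mul_comm]; exact h'

/-- `Tor_1(R', N) = 0` for `f`-power torsion `N`. -/
theorem van_of_torsion (N : Type u) [AddCommGroup N] [Module R N]
    (hN : ∀ x : N, Groth.L05.Glue.IsTors f x) : Van R R' N 0 := by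
  classical
  refine van_of_forall_exists (κ := ULift.{u} ℕ)
    (fun k => Submodule.torsionBy R N (f ^ k.down)) ?_ ?_ fun k => ?_
  · intro a b
    refine ⟨⟨max a.down b.down⟩, ?_, ?_⟩
    · exact Submodule.torsionBy_le_torsionBy_of_dvd _ _ (pow_dvd_pow f (le_max_left _ _))
    · exact Submodule.torsionBy_le_torsionBy_of_dvd _ _ (pow_dvd_pow f (le_max_right _ _))
  · intro x
    obtain ⟨n, hn⟩ := hN x
    exact ⟨⟨n⟩, (Submodule.mem_torsionBy_iff _ _).2 hn⟩
  · set S := Submodule.torsionBy R N (f ^ k.down)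
    set J : Ideal R := Ideal.span {f ^ k.down}
    have hS : J ≤ LinearMap.ker (LinearMap.lsmul R S) := by
      rw [Ideal.span_le, Set.singleton_subset_iff]
      exact LinearMap.ext fun s => Subtype.ext ((Submodule.mem_torsionBy_iff _ _).1 s.2)
    let φ : (S →₀ R ⧸ J) →ₗ[R] S :=
      Finsupp.lsum R fun s => (LinearMap.applyₗ s).comp (J.liftQ (LinearMap.lsmul R S) hS)
    have hφ : Function.Surjective φ := fun s => ⟨Finsupp.single s (Ideal.Quotient.mk J 1), by
      rw [Finsupp.lsum_single]
      exact one_smul R s⟩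
    have htF : ∀ z : S →₀ R ⧸ J, f ^ k.down • z = 0 := fun z => Finsupp.ext fun a => by
      obtain ⟨r, hr⟩ := Ideal.Quotient.mk_surjective (z a)
      rw [Finsupp.smul_apply, Finsupp.zero_apply, ← hr]
      exact Ideal.Quotient.eq_zero_iff_mem.2 (Ideal.mul_mem_right _ _ (Ideal.mem_span_singleton_self _))
    have hF := (van_quot_pow h k.down).finsupp (↥S)
    refine Van.right_zero (N' := ↥(LinearMap.ker φ)) (N := S →₀ R ⧸ J) (N'' := S) (f := (LinearMap.ker φ).subtype) (g := φ) Subtype.coe_injective hφ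
      (LinearMap.exact_subtype_ker_map φ) hF ?_
    rw [injective_iff_map_eq_zero]
    intro z hz
    obtain ⟨p, rfl⟩ := (Groth.L05.Glue.bijective_tmul_of_isTors (R' := R') h.1
      (M := LinearMap.ker φ) (fun z => ⟨k.down, Subtype.ext (htF z)⟩)).2 z
    rw [LinearMap.lTensor_tmul] at hz
    have hp : (p : S →₀ R ⧸ J) = 0 :=
      (Groth.L05.Glue.bijective_tmul_of_isTors (R' := R') h.1 (fun z => ⟨k.down, htF z⟩)).1
        (hz.trans (tmul_zero _ _).symm)
    rw [show p = 0 from Subtype.ext hp]; exact tmul_zero _ _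

end Groth.L15.GlueTor
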