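import Groth.Prelude.Def_Grpd
import Groth.Agent.L20.Chevalley.Reduction

/-!
# Invariant affine opens of a groupoid scheme from those of an integral restriction
-/

set_option autoImplicit false
set_option backward.isDefEq.respectTransparency.types false
set_option backward.isDefEq.respectTransparency false
set_option linter.style.haveILetI false

universe u

open CategoryTheory CategoryTheory.Limits AlgebraicGeometry

noncomputable section

namespace Groth.L15.GrpdAffine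

variable {S : Scheme.{u}} (G : Grpd.GroupoidScheme S)

/-- Composable arrows compose on the underlying spaces. -/
theorem exists_comp (a b : G.R) (h : G.s a = G.t b) : ∃ r : G.R, G.t r = G.t a ∧ G.s r = G.s b := by
  obtain ⟨p, rfl, rfl⟩ := Scheme.Pullback.exists_preimage_pullback a b h
  refine ⟨G.c p, ?_, ?_⟩
  · have e := G.comp_t (pullback.fst G.s G.t) (pullback.snd G.s G.t) pullback.condition
    rw [show pullback.lift (pullback.fst G.s G.t) (pullback.snd G.s G.t) pullback.condition = 𝟙 _ from by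
      apply pullback.hom_ext <;> simp, Category.id_comp] at e
    exact congrArg (fun φ => φ.base p) e
  · have e := G.comp_s (pullback.fst G.s G.t) (pullback.snd G.s G.t) pullback.condition
    rw [show pullback.lift (pullback.fst G.s G.t) (pullback.snd G.s G.t) pullback.condition = 𝟙 _ from by
      apply pullback.hom_ext <;> simp, Category.id_comp] at e
    exact congrArg (fun φ => φ.base p) e

theorem t_i (r : G.R) : G.t (G.i r) = G.s r := congrArg (fun φ => φ.base r) G.i_t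

theorem s_i (r : G.R) : G.s (G.i r) = G.t r := congrArg (fun φ => φ.base r) G.i_s

theorem s_e (x : G.U) : G.s (G.e x) = x := congrArg (fun φ => φ.base x) G.e_s

theorem t_e (x : G.U) : G.t (G.e x) = x := congrArg (fun φ => φ.base x) G.e_t

theorem exists_invariant_affine [IsIntegralHom G.s] [IsIntegralHom G.t] (U' : Scheme.{u}) (g : U' ⟶ G.U)
    [IsIntegralHom g] (horb : ∀ u : G.U, ∃ r : G.R, G.s r = u ∧ G.t r ∈ Set.range ⇑g) (u' : U')
    (W' : U'.Opens) (hW' : IsAffineOpen W') (hu' : u' ∈ W')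
    (hinv : (pullback.fst (pullback.snd g G.t ≫ G.s) g ≫ pullback.fst g G.t) ⁻¹ᵁ W' =
      (pullback.snd (pullback.snd g G.t ≫ G.s) g) ⁻¹ᵁ W') :
    ∃ W : G.U.Opens, IsAffineOpen W ∧ g u' ∈ W ∧ G.s ⁻¹ᵁ W = G.t ⁻¹ᵁ W := by
  let p₁ : pullback g G.t ⟶ U' := pullback.fst g G.t
  let σ : pullback g G.t ⟶ G.U := pullback.snd g G.t ≫ G.s
  haveI : IsIntegralHom (pullback.snd g G.t) := MorphismProperty.pullback_snd (P := @IsIntegralHom) _ _ ‹_›
  haveI : IsIntegralHom p₁ := MorphismProperty.pullback_fst (P := @IsIntegralHom) _ _ ‹IsIntegralHom G.t›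
  haveI hσ : IsIntegralHom σ := MorphismProperty.comp_mem @IsIntegralHom _ _ ‹_› ‹_›
  -- an arrow ending at `g u₀` gives a point of `V`
  have hpt : ∀ (u₀ : U') (r : G.R), G.t r = g u₀ →
      ∃ v : ↑(pullback g G.t), p₁ v = u₀ ∧ σ v = G.s r := fun u₀ r h => by
    obtain ⟨v, h₁, h₂⟩ := Scheme.Pullback.exists_preimage_pullback u₀ r h.symm
    exact ⟨v, h₁, by rw [show σ v = G.s (pullback.snd g G.t v) from rfl, h₂]⟩
  have hcond : ∀ v : ↑(pullback g G.t), G.t (pullback.snd g G.t v) = g (p₁ v) := fun v =>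
    (congrArg (fun φ : pullback g G.t ⟶ G.U => φ.base v) pullback.condition).symm
  have hinv' : ∀ (v : ↑(pullback g G.t)) (u₂ : U'), σ v = g u₂ → (p₁ v ∈ W' ↔ u₂ ∈ W') := fun v u₂ h => by
    obtain ⟨w, h₁, h₂⟩ := Scheme.Pullback.exists_preimage_pullback v u₂ h
    have e := iff_of_eq (congrArg (fun O : (pullback σ g).Opens => w ∈ O) hinv)
    rw [← h₁, ← h₂]
    exact e
  let Zs : Set G.U := σ '' (p₁ ⁻¹' (W' : Set U')ᶜ)
  have hclosed : IsClosed Zs := σ.isClosedMap _ (W'.isOpen.isClosed_compl.preimage p₁.continuous)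
  have ha : ∀ v : ↑(pullback g G.t), σ v ∈ Zs → p₁ v ∉ W' := fun v hv hW => by
    obtain ⟨v₀, hv₀, e⟩ := hv
    obtain ⟨a, hat, has⟩ := exists_comp G (pullback.snd g G.t v₀) (G.i (pullback.snd g G.t v))
      (by rw [t_i]; exact e)
    obtain ⟨v₁, hv₁, hv₁'⟩ := hpt (p₁ v₀) a (by rw [hat, hcond])
    rw [has, s_i, hcond] at hv₁'
    exact hv₀ (hv₁ ▸ (hinv' v₁ (p₁ v) hv₁').2 hW)
  have hc : ∀ r : G.R, G.s r ∈ Zs → G.t r ∈ Zs := fun r hr => by
    obtain ⟨v₀, hv₀, e⟩ := hr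
    obtain ⟨a, hat, has⟩ := exists_comp G (pullback.snd g G.t v₀) (G.i r) (by rw [t_i]; exact e)
    obtain ⟨v₁, hv₁, hv₁'⟩ := hpt (p₁ v₀) a (by rw [hat, hcond])
    exact ⟨v₁, by show p₁ v₁ ∈ (W' : Set U')ᶜ; rw [hv₁]; exact hv₀, by rw [hv₁', has, s_i]⟩
  let W : G.U.Opens := ⟨Zsᶜ, hclosed.isOpen_compl⟩
  have hpre : σ ⁻¹ᵁ W = p₁ ⁻¹ᵁ W' := by
    ext v
    show σ v ∉ Zs ↔ p₁ v ∈ W'
    exact ⟨fun h => by_contra fun h' => h ⟨v, h', rfl⟩, fun h h' => ha v h' h⟩
  refine ⟨W, ?_, ?_, ?_⟩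
  · haveI : IsAffine (σ ⁻¹ᵁ W).toScheme := by
      rw [hpre]
      exact hW'.preimage p₁
    haveI : IsIntegralHom (σ ∣_ W) := IsZariskiLocalAtTarget.restrict hσ W
    haveI : Surjective (σ ∣_ W) := ⟨fun x => by
      obtain ⟨r, hr, u₀, hu₀⟩ := horb x.1
      obtain ⟨v, -, hv⟩ := hpt u₀ r hu₀.symm
      have hxv : σ v = x.1 := hv.trans hr
      exact ⟨⟨v, show σ v ∈ W by rw [hxv]; exact x.2⟩, Subtype.ext (by rw [morphismRestrict_base]; exact hxv)⟩⟩
    exact Groth.L20.Chevalley.isAffine_of_surjective_universallyClosed (σ ∣_ W)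
  · intro h
    obtain ⟨v, hv₁, hv₂⟩ := hpt u' (G.e (g u')) (t_e G _)
    rw [s_e] at hv₂
    exact ha v (by rw [hv₂]; exact h) (by rw [hv₁]; exact hu')
  · ext r
    show G.s r ∉ Zs ↔ G.t r ∉ Zs
    refine not_congr ⟨hc r, fun h => ?_⟩
    have := hc (G.i r) (by rw [s_i]; exact h)
    rwa [t_i] at this

end Groth.L15.GrpdAffine
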