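import Groth.Agent.L15.HartogsMod
import Groth.Agent.L20.ModStalk
import Groth.Prelude.Def_Pi1
import Mathlib.RingTheory.Flat.Localization
import Mathlib.RingTheory.Flat.Stability
import Mathlib.Topology.Sheaves.Stalks

/-!
Sections of flat quasi-coherent modules on Noetherian normal schemes extend over closed subsets
of codimension at least two.
-/

set_option autoImplicit false
set_option linter.style.haveILetI false

universe u

open CategoryTheory CategoryTheory.Limits AlgebraicGeometry TopologicalSpace Opposite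

noncomputable section

namespace Groth.L15.HartogsQCoh

open Groth.L18.Frame (rs ro rs_rs ro_ro rs_smul)

lemma two_le_of_not_le_one {x : WithBot ℕ∞} (h : ¬ x ≤ 1) : 2 ≤ x := by
  cases x with
  | bot => exact absurd bot_le h
  | coe a =>
    have h1 : ¬ a ≤ 1 := fun hle => h (WithBot.coe_le_coe.mpr hle)
    exact WithBot.coe_le_coe.mpr (Order.add_one_le_of_lt (not_le.mp h1))

variable {S : Scheme.{u}} (A : S.Modules)

theorem bijective_app_of_affine {B C : S.Modules} (φ : B ⟶ C)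
    (h : ∀ V : S.Opens, IsAffineOpen V → Function.Bijective (φ.app V)) (V : S.Opens) :
    Function.Bijective (φ.app V) := by
  let F : TopCat.Sheaf Ab.{u} S := ⟨B.presheaf, B.isSheaf⟩
  let G : TopCat.Sheaf Ab.{u} S := ⟨C.presheaf, C.isSheaf⟩
  let α : F ⟶ G := ⟨φ.mapPresheaf⟩
  refine TopCat.Presheaf.app_bijective_of_stalkFunctor_map_bijective α V fun x hxV ↦ ⟨?_, ?_⟩
  · exact TopCat.Presheaf.stalkFunctor_map_injective_of_isBasis (α := α.1) S.isBasis_affineOpens
      (fun U hU ↦ (h U hU).1) x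
  · intro t
    obtain ⟨U, hxU, s, rfl⟩ := TopCat.Presheaf.exists_germ_eq G.1 t
    obtain ⟨_, ⟨W, hW, rfl⟩, hxW, hWU⟩ :=
      S.isBasis_affineOpens.exists_subset_of_mem_open (a := x) hxU U.isOpen
    obtain ⟨c, hc⟩ := (h W hW).2 (G.1.map (homOfLE hWU).op s)
    refine ⟨TopCat.Presheaf.germ F.1 W x hxW c, ?_⟩
    exact (TopCat.Presheaf.stalkFunctor_map_germ_apply W x hxW α.1 c).trans
      ((congrArg (TopCat.Presheaf.germ G.1 W x hxW) hc).trans
        (TopCat.Presheaf.germ_res_apply G.1 _ _ hxW s))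

variable [Coh.IsQCoh A]

theorem flat_sections (hA : FlatMod.IsFlat A) {V : S.Opens} (hV : IsAffineOpen V) :
    Module.Flat Γ(S, V) Γ(A, V) := by
  apply Module.flat_of_localized_maximal
  intro P hP
  let y : PrimeSpectrum Γ(S, V) := ⟨P, hP.isPrime⟩
  let x : S := hV.fromSpec y
  have hx : x ∈ V := by
    rw [← SetLike.mem_coe, ← hV.range_fromSpec]
    exact ⟨y, rfl⟩
  have hp : hV.primeIdealOf ⟨x, hx⟩ = y := by
    apply hV.fromSpec.isOpenEmbedding.injective
    exact hV.fromSpec_primeIdealOf ⟨x, hx⟩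
  letI := Groth.L20.ModStalk.stalkModule A hx
  haveI hloc := Groth.L20.ModStalk.isLocalizedModule_germ A hV hx
  letI := S.presheaf.algebra_section_stalk ⟨x, hx⟩
  haveI := hV.isLocalization_stalk ⟨x, hx⟩
  haveI : Module.Flat Γ(S, V) (S.presheaf.stalk x) :=
    IsLocalization.flat (S.presheaf.stalk x) (hV.primeIdealOf ⟨x, hx⟩).asIdeal.primeCompl
  haveI : Module.Flat (S.presheaf.stalk x) (A.presheaf.stalk x) := hA x
  haveI : IsScalarTower Γ(S, V) (S.presheaf.stalk x) (A.presheaf.stalk x) :=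
    IsScalarTower.of_algebraMap_smul fun _ _ => rfl
  haveI : Module.Flat Γ(S, V) (A.presheaf.stalk x) :=
    Module.Flat.trans Γ(S, V) (S.presheaf.stalk x) (A.presheaf.stalk x)
  have hQ : P.primeCompl = (hV.primeIdealOf ⟨x, hx⟩).asIdeal.primeCompl := by
    ext z; show z ∉ P ↔ z ∉ (hV.primeIdealOf ⟨x, hx⟩).asIdeal; rw [hp]
  rw [hQ]
  exact Module.Flat.of_linearEquiv
    (IsLocalizedModule.iso (hV.primeIdealOf ⟨x, hx⟩).asIdeal.primeCompl
      (Groth.L20.ModStalk.germₗ A hx))

theorem bijective_res [IsNoetherian S] (hS : Pi1.IsNormalScheme S) (hA : FlatMod.IsFlat A)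
    (U : S.Opens) (hU : ∀ s : S, ringKrullDim (S.presheaf.stalk s) ≤ 1 → s ∈ U)
    {V : S.Opens} (hV : IsAffineOpen V) {W : S.Opens} (hWV : W ≤ V) (hW : W = V ⊓ U) :
    Function.Bijective (rs A hWV) := by
  classical
  subst hW
  haveI : IsNoetherianRing Γ(S, V) := IsLocallyNoetherian.component_noetherian ⟨V, hV⟩
  haveI := flat_sections A hA hV
  have hcov : ∀ x : (V ⊓ U : S.Opens), ∃ f : Γ(S, V), S.basicOpen f ≤ V ⊓ U ∧ (x : S) ∈ S.basicOpen f :=
    fun x => hV.exists_basicOpen_le x x.2.1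
  choose g hgle hgmem using hcov
  obtain ⟨T, hT⟩ := (NoetherianSpace.isCompact ((V ⊓ U : S.Opens) : Set S)).elim_finite_subcover
    (fun x : (V ⊓ U : S.Opens) => ((S.basicOpen (g x) : S.Opens) : Set S))
    (fun x => (S.basicOpen (g x)).2) (fun x hx => Set.mem_iUnion.mpr ⟨⟨x, hx⟩, hgmem ⟨x, hx⟩⟩)
  let f : T → Γ(S, V) := fun i => g i.1
  have hsup : (V ⊓ U : S.Opens) ≤ ⨆ i, S.basicOpen (f i) := by
    intro x hx
    obtain ⟨i, hi, hxi⟩ := Set.mem_iUnion₂.mp (hT hx)
    exact Opens.mem_iSup.mpr ⟨⟨i, hi⟩, hxi⟩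
  have hcond : Groth.L15.HartogsMod.Cond f := by
    intro y hy
    have hxV : hV.fromSpec y ∈ V := by
      rw [← SetLike.mem_coe, ← hV.range_fromSpec]
      exact ⟨y, rfl⟩
    have hxU : hV.fromSpec y ∉ U := by
      intro hmem
      obtain ⟨i, hi⟩ := Opens.mem_iSup.mp (hsup ⟨hxV, hmem⟩)
      have h1 : y ∈ hV.fromSpec ⁻¹ᵁ S.basicOpen (f i) := hi
      rw [hV.fromSpec_preimage_basicOpen] at h1
      exact h1 (hy i)
    letI := S.presheaf.algebra_section_stalk ⟨hV.fromSpec y, hxV⟩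
    haveI : IsLocalization y.asIdeal.primeCompl (S.presheaf.stalk (hV.fromSpec y)) :=
      hV.isLocalization_stalk' y hxV
    let e : Localization.AtPrime y.asIdeal ≃+* S.presheaf.stalk (hV.fromSpec y) :=
      (IsLocalization.algEquiv y.asIdeal.primeCompl _ _).toRingEquiv
    obtain ⟨hd, hi⟩ := hS (hV.fromSpec y)
    refine ⟨⟨e.toMulEquiv.isDomain, ?_⟩, ?_⟩
    · exact IsIntegrallyClosed.of_equiv e.symm
    · rw [ringKrullDim_eq_of_ringEquiv e]
      exact two_le_of_not_le_one fun hle => hxU (hU _ hle)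
  let F : TopCat.Sheaf Ab.{u} S := ⟨A.presheaf, A.isSheaf⟩
  have hsep : ∀ s t : Γ(A, V ⊓ U), (∀ i : T, rs A (hgle i.1) s = rs A (hgle i.1) t) → s = t := by
    intro s t h
    exact F.eq_of_locally_eq' (fun i : T => S.basicOpen (f i)) (V ⊓ U)
      (fun i => homOfLE (hgle i.1)) hsup s t h
  constructor
  · intro a b hab
    rw [← sub_eq_zero]
    have h0 : ∀ i : T, ∃ n : ℕ, f i ^ n • (a - b) = 0 := by
      intro i
      refine Groth.L16.QCohSect.exists_pow_smul_eq_zero hV A (f i) (a - b) ?_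
      have h1 := congrArg (rs A (hgle i.1)) hab
      rw [rs_rs, rs_rs] at h1
      rw [show rs A (S.basicOpen_le (f i)) (a - b) =
        rs A (S.basicOpen_le (f i)) a - rs A (S.basicOpen_le (f i)) b from map_sub _ _ _, sub_eq_zero]
      exact h1
    choose n hn using h0
    refine Groth.L15.HartogsMod.eq_zero hcond (a - b) (∑ i, n i) fun i => ?_
    obtain ⟨k, hk⟩ := Nat.exists_eq_add_of_le
      (Finset.single_le_sum (fun j _ => Nat.zero_le (n j)) (Finset.mem_univ i))
    rw [hk, pow_add, mul_comm, mul_smul, hn i, smul_zero]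
  · intro t
    have h0 : ∀ i : T, ∃ (n : ℕ) (c : Γ(A, V)), rs A (S.basicOpen_le (f i)) c =
        ro (S.basicOpen_le (f i)) (f i ^ n) • rs A (hgle i.1) t :=
      fun i => Groth.L16.QCohSect.exists_pow_smul_eq_res hV A (f i) _
    choose n c hc using h0
    set N := ∑ i, n i with hN
    have hle : ∀ i, n i ≤ N := fun i =>
      Finset.single_le_sum (fun j _ => Nat.zero_le (n j)) (Finset.mem_univ i)
    obtain ⟨c₁, hc₁⟩ : ∃ c₁ : T → Γ(A, V), ∀ i, rs A (S.basicOpen_le (f i)) (c₁ i) =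
        ro (S.basicOpen_le (f i)) (f i ^ N) • rs A (hgle i.1) t := by
      refine ⟨fun i => f i ^ (N - n i) • c i, fun i => ?_⟩
      rw [rs_smul, hc, smul_smul]
      congr 1
      show ro _ _ * ro _ _ = ro _ _
      rw [← map_mul, ← pow_add, Nat.sub_add_cancel (hle i)]
    have h2 : ∀ i j : T, ∃ K : ℕ, (f i * f j) ^ K • (f j ^ N • c₁ i - f i ^ N • c₁ j) = 0 := by
      intro i j
      refine Groth.L16.QCohSect.exists_pow_smul_eq_zero hV A (f i * f j) _ ?_
      have li : S.basicOpen (f i * f j) ≤ S.basicOpen (f i) := by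
        rw [Scheme.basicOpen_mul]; exact inf_le_left
      have lj : S.basicOpen (f i * f j) ≤ S.basicOpen (f j) := by
        rw [Scheme.basicOpen_mul]; exact inf_le_right
      have hi := congrArg (rs A li) (hc₁ i)
      have hj := congrArg (rs A lj) (hc₁ j)
      rw [rs_rs, rs_smul, rs_rs, ro_ro] at hi hj
      rw [show rs A (S.basicOpen_le (f i * f j)) (f j ^ N • c₁ i - f i ^ N • c₁ j) =
        rs A (S.basicOpen_le (f i * f j)) (f j ^ N • c₁ i) -
          rs A (S.basicOpen_le (f i * f j)) (f i ^ N • c₁ j) from map_sub _ _ _,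
        rs_smul, rs_smul, hi, hj, smul_comm, sub_self]
    choose K hK using h2
    set L := ∑ q : T × T, K q.1 q.2 with hL
    let c₂ : T → Γ(A, V) := fun i => f i ^ L • c₁ i
    have hcomp : ∀ i j, f j ^ (N + L) • c₂ i = f i ^ (N + L) • c₂ j := by
      intro i j
      obtain ⟨k, hk⟩ := Nat.exists_eq_add_of_le
        (Finset.single_le_sum (f := fun q : T × T => K q.1 q.2) (fun q _ => Nat.zero_le _)
          (Finset.mem_univ (i, j)))
      have hk' : L = K i j + k := hk
      have hz : (f i * f j) ^ L • (f j ^ N • c₁ i - f i ^ N • c₁ j) = 0 := by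
        rw [hk', pow_add, mul_comm, mul_smul, hK, smul_zero]
      rw [smul_sub, sub_eq_zero, smul_smul, smul_smul] at hz
      show f j ^ (N + L) • f i ^ L • c₁ i = f i ^ (N + L) • f j ^ L • c₁ j
      rw [smul_smul, smul_smul]
      convert hz using 2 <;> ring
    obtain ⟨b, hb⟩ := Groth.L15.HartogsMod.exists_eq hcond c₂ (N + L) hcomp
    refine ⟨b, hsep _ _ fun i => ?_⟩
    have hu : IsUnit (ro (S.basicOpen_le (f i)) (f i ^ (N + L))) := by
      show IsUnit ((S.presheaf.map (homOfLE (S.basicOpen_le (f i))).op).hom (f i ^ (N + L)))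
      rw [map_pow]
      exact (RingedSpace.isUnit_res_basicOpen _ (f i)).pow _
    rw [rs_rs]
    apply hu.smul_left_cancel.mp
    have h3 := congrArg (rs A (S.basicOpen_le (f i))) (hb i)
    rw [rs_smul] at h3
    rw [h3]
    show rs A _ (f i ^ L • c₁ i) = _
    rw [rs_smul, hc₁, smul_smul]
    congr 1
    show ro _ _ * ro _ _ = ro _ _
    rw [← map_mul, ← pow_add, Nat.add_comm]

end Groth.L15.HartogsQCoh
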