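import Groth.Agent.S10915
import Groth.Agent.L06.HilbertSamuel
import Groth.Agent.L14.Fano.HilbBound
import Mathlib.RingTheory.MvPolynomial.Ideal
import Mathlib.RingTheory.KrullDimension.Polynomial

/-!
Growth of the Hilbert function of a homogeneous ideal of a polynomial ring over a field.
-/

set_option autoImplicit false

universe u

open MvPolynomial Groth.L06.HilbertSamuel

namespace Groth.L15.HilbGrowth

variable {k : Type u} [Field k] {n : ℕ}

local notation "P" => MvPolynomial (Fin (n + 1)) k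
local notation "𝒜" => CohB1.polyGrading n k
local notation "mX" => Ideal.span (Set.range (MvPolynomial.X : Fin (n + 1) → MvPolynomial (Fin (n + 1)) k))

/-- The image of the forms of degree `m` in the quotient. -/
noncomputable def piece (J : Ideal P) (m : ℕ) : Submodule k (P ⧸ J) :=
  Submodule.map (Ideal.Quotient.mkₐ k J).toLinearMap (𝒜 m)

/-- The Hilbert function of `P/J`. -/
noncomputable def hf (J : Ideal P) (m : ℕ) : ℕ := Module.finrank k (piece J m)

theorem finite_piece (J : Ideal P) (m : ℕ) : Module.Finite k (piece J m) :=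
  haveI := Groth.L14.Fano.finite_form (K := k) n m
  Module.Finite.map _ _

theorem hf_add_finrank (J : Ideal P) (m : ℕ) :
    hf J m + Module.finrank k ↥(Submodule.restrictScalars k J ⊓ 𝒜 m) = Module.finrank k ↥(𝒜 m) := by
  haveI := Groth.L14.Fano.finite_form (K := k) n m
  let f : 𝒜 m →ₗ[k] P ⧸ J := (Ideal.Quotient.mkₐ k J).toLinearMap ∘ₗ (𝒜 m).subtype
  have h := LinearMap.finrank_range_add_finrank_ker f
  have hr : LinearMap.range f = piece J m := by rw [LinearMap.range_comp, Submodule.range_subtype]; rfl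
  have hk : (LinearMap.ker f).map (𝒜 m).subtype = Submodule.restrictScalars k J ⊓ 𝒜 m := by
    ext x
    constructor
    · rintro ⟨y, hy, rfl⟩
      exact ⟨Ideal.Quotient.eq_zero_iff_mem.mp hy, y.2⟩
    · rintro ⟨hx, hx'⟩
      exact ⟨⟨x, hx'⟩, Ideal.Quotient.eq_zero_iff_mem.mpr hx, rfl⟩
  rw [hr] at h
  rw [← hk, Submodule.finrank_map_subtype_eq]
  exact h

theorem mem_span_X_pow {f : P} {m N : ℕ} (hf : f ∈ 𝒜 m) (hN : N ≤ m) : f ∈ mX ^ N := by
  refine (MvPolynomial.mem_pow_idealOfVars_iff N f).mpr fun x hx => ?_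
  have := MvPolynomial.IsHomogeneous.degree_eq_sum_deg_support (φ := f) (n := m) hf hx
  rw [Finsupp.degree_apply]
  omega

theorem eventually_zero {J : Ideal P} (hJ : J.IsHomogeneous 𝒜)
    (h : ringKrullDim (P ⧸ J) ≤ 0) : ∃ N, ∀ m, N ≤ m → hf J m = 0 := by
  obtain ⟨N, hN⟩ : ∃ N, mX ^ N ≤ J := by
    refine Ideal.exists_pow_le_of_le_radical_of_fg ?_ (IsNoetherian.noetherian _)
    rw [Ideal.radical_eq_sInf]
    refine le_sInf fun Q hQ => ?_
    haveI := hQ.2
    obtain ⟨p, hp, hple⟩ := Ideal.exists_minimalPrimes_le hQ.1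
    haveI := hp.1.1
    have hle := Groth.Agent.S10915.le_span_X (Groth.Agent.S10915.isHomogeneous_minimal hJ hp) hp.1.1.ne_top
    have hmax : p.IsMaximal := by
      haveI : Ring.KrullDimLE 0 (P ⧸ J) := (Ring.krullDimLE_iff).mpr h
      haveI : (p.map (Ideal.Quotient.mk J)).IsPrime :=
        Ideal.map_isPrime_of_surjective Ideal.Quotient.mk_surjective (by rw [Ideal.mk_ker]; exact hp.1.2)
      have hm : (p.map (Ideal.Quotient.mk J)).IsMaximal := Ideal.IsPrime.isMaximal'  inferInstance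
      have := Ideal.comap_isMaximal_of_surjective (Ideal.Quotient.mk J) Ideal.Quotient.mk_surjective
        (K := p.map (Ideal.Quotient.mk J))
      rwa [Ideal.comap_map_of_surjective _ Ideal.Quotient.mk_surjective, ← RingHom.ker_eq_comap_bot, Ideal.mk_ker,
        sup_eq_left.2 hp.1.2] at this
    exact (hmax.eq_of_le Groth.Agent.S10915.span_X_isMaximal.ne_top hle).ge.trans hple
  refine ⟨N, fun m hm => ?_⟩
  haveI := finite_piece J m
  refine Submodule.finrank_eq_zero.mpr ((Submodule.eq_bot_iff _).mpr ?_)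
  rintro _ ⟨f, hf', rfl⟩
  exact Ideal.Quotient.eq_zero_iff_mem.mpr (hN (mem_span_X_pow hf' hm))

/-- A form of positive degree avoiding finitely many incomparable non-irrelevant homogeneous primes. -/
theorem exists_form {ι : Type u} [Fintype ι] (p : ι → Ideal P) (hp : ∀ i, (p i).IsPrime)
    (hh : ∀ i, (p i).IsHomogeneous 𝒜) (hX : ∀ i, ¬ mX ≤ p i) (hinc : ∀ i j, p j ≤ p i → i = j) :
    ∃ d, 0 < d ∧ ∃ f ∈ 𝒜 d, ∀ i, f ∉ p i := by
  classical
  have hvar : ∀ i, ∃ l, MvPolynomial.X l ∉ p i := fun i => by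
    by_contra h
    simp only [not_exists, not_not] at h
    exact hX i (Ideal.span_le.2 (Set.range_subset_iff.2 h))
  have hsep : ∀ i j, ∃ (e : ℕ), ∃ a ∈ 𝒜 e, a ∉ p i ∧ (i ≠ j → a ∈ p j) := by
    intro i j
    by_cases hij : i = j
    · exact ⟨0, 1, SetLike.one_mem_graded 𝒜, fun h => (hp i).ne_top ((Ideal.eq_top_iff_one _).mpr h), fun h => absurd hij h⟩
    obtain ⟨a, haj, hai⟩ := SetLike.not_le_iff_exists.mp fun h => hij (hinc i j h)
    obtain ⟨e, he⟩ : ∃ e, ((DirectSum.decompose 𝒜 a e : 𝒜 e) : P) ∉ p i := by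
      by_contra h
      simp only [not_exists, not_not] at h
      refine hai ?_
      rw [← DirectSum.sum_support_decompose 𝒜 a]
      exact Ideal.sum_mem _ fun e _ => h e
    exact ⟨e, _, SetLike.coe_mem _, he, fun _ => hh j e haj⟩
  choose e a ha hai haj using hsep
  choose l hl using hvar
  let D : ι → ℕ := fun i => (∑ j, e i j) + 1
  let g : ι → P := fun i => (∏ j, a i j) * MvPolynomial.X (l i)
  have hg : ∀ i, g i ∈ 𝒜 (D i) := fun i =>
    SetLike.mul_mem_graded (SetLike.prod_mem_graded 𝒜 _ _ fun j _ => ha i j) (MvPolynomial.isHomogeneous_X k (l i))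
  refine ⟨∏ i, D i, Finset.prod_pos fun i _ => Nat.succ_pos _, ∑ i, g i ^ (∏ j ∈ Finset.univ.erase i, D j),
    Submodule.sum_mem _ fun i _ => ?_, fun i hi => ?_⟩
  · have := SetLike.pow_mem_graded (∏ j ∈ Finset.univ.erase i, D j) (hg i)
    rwa [smul_eq_mul, Finset.prod_erase_mul _ _ (Finset.mem_univ i)] at this
  · haveI := hp i
    rw [← Finset.add_sum_erase _ _ (Finset.mem_univ i), Ideal.add_mem_iff_left _ (Ideal.sum_mem _ fun j hj => ?_)] at hi
    · rcases (hp i).mem_or_mem ((hp i).mem_of_pow_mem _ hi) with h | h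
      · obtain ⟨j, -, hj⟩ := ((hp i).prod_mem_iff).mp h
        exact hai i j hj
      · exact hl i h
    · refine Ideal.pow_mem_of_mem _ (Ideal.mul_mem_right _ _ ?_) _ (Finset.prod_pos fun _ _ => Nat.succ_pos _)
      exact Ideal.mem_of_dvd _ (Finset.dvd_prod_of_mem _ (Finset.mem_univ i)) (haj j i (Finset.ne_of_mem_erase hj))

theorem exists_cut {J : Ideal P} (hJ : J.IsHomogeneous 𝒜) :
    ∃ d, 0 < d ∧ ∃ f ∈ 𝒜 d, ∀ e : ℕ, ringKrullDim (P ⧸ J) ≤ ((e + 1 : ℕ) : WithBot ℕ∞) →
      ringKrullDim (P ⧸ J ⊔ Ideal.span {f}) ≤ (e : WithBot ℕ∞) := by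
  classical
  haveI := (Ideal.finite_minimalPrimes_of_isNoetherianRing P J).to_subtype
  let ι := {p // p ∈ J.minimalPrimes ∧ ¬ mX ≤ p}
  haveI : Finite ι := Finite.of_injective (fun p : ι => (⟨p.1, p.2.1⟩ : J.minimalPrimes))
    (fun a b h => Subtype.ext (congrArg Subtype.val h :))
  haveI := Fintype.ofFinite ι
  obtain ⟨d, hd, f, hf', hfp⟩ := exists_form (fun p : ι => p.1) (fun p => p.2.1.1.1)
    (fun p => Groth.Agent.S10915.isHomogeneous_minimal hJ p.2.1) (fun p => p.2.2)
    (fun a b h => Subtype.ext (le_antisymm (a.2.1.2 b.2.1.1 h) h))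
  refine ⟨d, hd, f, hf', fun e he => ?_⟩
  rw [ringKrullDim_quotient] at he ⊢
  refine iSup_le fun c => ?_
  have h0 : J ⊔ Ideal.span {f} ≤ c.head.1.asIdeal := c.head.2
  haveI := c.head.1.2
  obtain ⟨p, hp, hple⟩ := Ideal.exists_minimalPrimes_le (le_sup_left.trans h0)
  by_cases hEq : p = c.head.1.asIdeal
  · have hall : mX ≤ p := by
      by_contra hno
      exact hfp ⟨p, hp, hno⟩ (hEq ▸ h0 (Submodule.mem_sup_right (Ideal.mem_span_singleton_self _)) : f ∈ p)
    have hmax : p.IsMaximal := by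
      rw [← le_antisymm hall (Groth.Agent.S10915.le_span_X (Groth.Agent.S10915.isHomogeneous_minimal hJ hp) hp.1.1.ne_top)]
      exact Groth.Agent.S10915.span_X_isMaximal
    have hlen : c.length = 0 := by
      by_contra hne
      have hlt : c 0 < c ⟨1, by omega⟩ := c.strictMono (by simp [Fin.lt_def])
      have hlt' : c.head.1.asIdeal < (c ⟨1, by omega⟩).1.asIdeal := hlt
      rw [← hEq] at hlt'
      exact (c ⟨1, by omega⟩).1.2.ne_top (hmax.1.2 _ hlt')
    rw [hlen]
    exact_mod_cast Nat.zero_le e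
  · let emb : PrimeSpectrum.zeroLocus ((J ⊔ Ideal.span {f} : Ideal P) : Set P) →
        PrimeSpectrum.zeroLocus (J : Set P) :=
      fun x => ⟨x.1, fun a ha => x.2 (le_sup_left (b := Ideal.span {f}) ha)⟩
    let c' := (c.map emb (fun a b h => h)).cons ⟨⟨p, hp.1.1⟩, hp.1.2⟩ (lt_of_le_of_ne hple fun he' => hEq he')
    have h1 : ((c'.length : ℕ) : WithBot ℕ∞) ≤ ((e + 1 : ℕ) : WithBot ℕ∞) := (Order.LTSeries.length_le_krullDim c').trans he
    have h2 : c'.length = c.length + 1 := by simp [c']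
    rw [h2] at h1
    have h3 : c.length + 1 ≤ e + 1 := by exact_mod_cast h1
    exact_mod_cast Nat.le_of_succ_le_succ h3

theorem hf_add_le {J : Ideal P} (hJ : J.IsHomogeneous 𝒜) {d : ℕ} {f : P} (hf' : f ∈ 𝒜 d) (m : ℕ) :
    hf J (m + d) ≤ hf J m + hf (J ⊔ Ideal.span {f}) (m + d) := by
  haveI := finite_piece J (m + d)
  haveI := finite_piece J m
  let q : (P ⧸ J) →ₗ[k] P ⧸ (J ⊔ Ideal.span {f}) :=
    (Ideal.Quotient.factorₐ k (le_sup_left : J ≤ J ⊔ Ideal.span {f})).toLinearMap
  let g := q ∘ₗ (piece J (m + d)).subtype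
  have h := LinearMap.finrank_range_add_finrank_ker g
  have hr : LinearMap.range g = piece (J ⊔ Ideal.span {f}) (m + d) := by
    rw [LinearMap.range_comp, Submodule.range_subtype, piece, ← Submodule.map_comp, piece]
    rfl
  have hk : (LinearMap.ker g).map (piece J (m + d)).subtype ≤
      (piece J m).map (LinearMap.mulLeft k (Ideal.Quotient.mk J f)) := by
    rintro _ ⟨⟨_, x, hx, rfl⟩, hxk, rfl⟩
    have hxJ : x ∈ J ⊔ Ideal.span {f} := Ideal.Quotient.eq_zero_iff_mem.mp hxk
    obtain ⟨j, hj, w, hw, hjw⟩ := Submodule.mem_sup.mp hxJ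
    obtain ⟨a, rfl⟩ := Ideal.mem_span_singleton'.mp hw
    have e1 := congrArg (fun z => ((DirectSum.decompose 𝒜 z (m + d) : 𝒜 (m + d)) : P)) hjw
    simp only [DirectSum.decompose_add, DirectSum.add_apply, Submodule.coe_add] at e1
    rw [mul_comm a f, DirectSum.coe_decompose_mul_of_left_mem_of_le 𝒜 hf' (Nat.le_add_left d m),
      DirectSum.decompose_of_mem_same 𝒜 hx, Nat.add_sub_cancel] at e1
    refine ⟨Ideal.Quotient.mk J ((DirectSum.decompose 𝒜 a m : 𝒜 m) : P), ⟨_, SetLike.coe_mem _, rfl⟩, ?_⟩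
    show Ideal.Quotient.mk J f * Ideal.Quotient.mk J _ = Ideal.Quotient.mk J x
    rw [← map_mul, ← e1, map_add, Ideal.Quotient.eq_zero_iff_mem.mpr (hJ (m + d) hj), zero_add]
  haveI : Module.Finite k ((piece J m).map (LinearMap.mulLeft k (Ideal.Quotient.mk J f))) := Module.Finite.map _ _
  have h2 := (Submodule.finrank_mono hk).trans (Submodule.finrank_map_le _ _)
  rw [Submodule.finrank_map_subtype_eq] at h2
  rw [hr] at h
  simp only [hf]
  omega

theorem growth_of_dim_le : ∀ (e : ℕ) (J : Ideal P), J.IsHomogeneous 𝒜 →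
    ringKrullDim (P ⧸ J) ≤ ((e + 1 : ℕ) : WithBot ℕ∞) → Growth e (hf J) := by
  intro e
  induction e with
  | zero =>
    intro J hJ hdim
    obtain ⟨d, hd, f, hf', hcut⟩ := exists_cut hJ
    obtain ⟨N, hN⟩ := eventually_zero (hJ.sup (Ideal.homogeneous_span _ _ (by
      intro x hx; rw [Set.mem_singleton_iff] at hx; subst hx; exact ⟨d, hf'⟩))) (by exact_mod_cast hcut 0 hdim)
    refine ⟨∑ i ∈ Finset.range (N + d), hf J i, 0, fun m _ => ?_⟩
    rw [pow_zero, mul_one]
    induction m using Nat.strong_induction_on with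
    | _ m ih =>
      by_cases hm : m < N + d
      · exact Finset.single_le_sum (fun i _ => Nat.zero_le (hf J i)) (Finset.mem_range.mpr hm)
      · obtain ⟨m', rfl⟩ : ∃ m', m = m' + d := ⟨m - d, by omega⟩
        have h := hf_add_le hJ hf' m'
        rw [hN (m' + d) (by omega)] at h
        exact h.trans (ih m' (by omega) (Nat.zero_le _))
  | succ e ih =>
    intro J hJ hdim
    obtain ⟨d, hd, f, hf', hcut⟩ := exists_cut hJ
    obtain ⟨C, N, hC⟩ := ih _ (hJ.sup (Ideal.homogeneous_span _ _ (by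
      intro x hx; rw [Set.mem_singleton_iff] at hx; subst hx; exact ⟨d, hf'⟩))) (hcut (e + 1) hdim)
    refine ⟨(∑ i ∈ Finset.range (N + d), hf J i) + C, 0, fun m _ => ?_⟩
    induction m using Nat.strong_induction_on with
    | _ m ihm =>
      by_cases hm : m < N + d
      · exact (Finset.single_le_sum (fun i _ => Nat.zero_le (hf J i)) (Finset.mem_range.mpr hm)).trans
          ((Nat.le_add_right _ C).trans (Nat.le_mul_of_pos_right _ (by positivity)))
      · obtain ⟨m', rfl⟩ : ∃ m', m = m' + d := ⟨m - d, by omega⟩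
        have h := (hf_add_le hJ hf' m').trans (add_le_add (ihm m' (by omega) (Nat.zero_le _)) (hC (m' + d) (by omega)))
        refine h.trans ?_
        have hCB : C ≤ (∑ i ∈ Finset.range (N + d), hf J i) + C := Nat.le_add_left _ _
        generalize (∑ i ∈ Finset.range (N + d), hf J i) + C = B at hCB ⊢
        have h1 : (m' + 1) ^ (e + 1) + (m' + d + 1) ^ e ≤ (m' + d + 1) ^ (e + 1) := by
          rw [pow_succ, pow_succ]
          have h2 : (m' + 1) ^ e ≤ (m' + d + 1) ^ e := Nat.pow_le_pow_left (by omega) e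
          calc (m' + 1) ^ e * (m' + 1) + (m' + d + 1) ^ e
              ≤ (m' + d + 1) ^ e * (m' + 1) + (m' + d + 1) ^ e := Nat.add_le_add_right (Nat.mul_le_mul_right _ h2) _
            _ = (m' + d + 1) ^ e * (m' + 2) := by ring
            _ ≤ (m' + d + 1) ^ e * (m' + d + 1) := Nat.mul_le_mul_left _ (by omega)
        calc B * (m' + 1) ^ (e + 1) + C * (m' + d + 1) ^ e
            ≤ B * (m' + 1) ^ (e + 1) + B * (m' + d + 1) ^ e := Nat.add_le_add_left (Nat.mul_le_mul_right _ hCB) _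
          _ = B * ((m' + 1) ^ (e + 1) + (m' + d + 1) ^ e) := (Nat.mul_add _ _ _).symm
          _ ≤ B * (m' + d + 1) ^ (e + 1) := Nat.mul_le_mul_left _ h1

end Groth.L15.HilbGrowth
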