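import Groth.Prelude.Def_W4c5stacksedinertiaGpd
import Mathlib.Data.Fintype.BigOperators
import Mathlib.Data.Nat.Factorial.Basic
import Mathlib.LinearAlgebra.Eigenspace.Basic
import Mathlib.Data.Fin.Tuple.Basic
import Mathlib.GroupTheory.Index
import Mathlib.Algebra.Group.Subgroup.Finite
import Mathlib.Data.ZMod.Basic
import Mathlib.Algebra.BigOperators.Fin
import Mathlib.Data.Fintype.Sum

/-! Inertia operators on finite groups. -/

set_option autoImplicit false

namespace Groth.L15.Inertia

open W4c5stacksedinertia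

universe u v

noncomputable local instance {G : Type u} [Group G] [Finite G] (r : ℕ) : Finite (CommTuple G r) :=
  inferInstanceAs (Finite { s : Fin r → G // Function.Injective s ∧ ∀ i j, Commute (s i) (s j) })

noncomputable local instance fintypeQuot {G : Type u} [Group G] [Finite G] (r : ℕ) :
    Fintype (Quotient (CommTuple.setoid G r)) :=
  haveI : Finite (Quotient (CommTuple.setoid G r)) := Finite.of_surjective (Quotient.mk (CommTuple.setoid G r))
    Quotient.mk_surjective
  Fintype.ofFinite _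

noncomputable local instance {G : Type u} [Group G] [Finite G] (r : ℕ) : Fintype (CommTuple.Orbit G r) :=
  fintypeQuot r

/-! ### classes -/

theorem nonempty_carrier_of (G : Type u) [Group G] [Finite G] : Nonempty ((FinGrp.of G).carrier ≃* G) :=
  ⟨@Equiv.mulEquiv _ _ (Nat.equivFinOfCardPos (α := G) Nat.card_pos.ne').symm _⟩

theorem Idx_of_congr {G : Type u} [Group G] [Finite G] {H : Type v} [Group H] [Finite H] (e : G ≃* H) :
    Idx.of G = Idx.of H := by
  obtain ⟨a⟩ := nonempty_carrier_of G
  obtain ⟨b⟩ := nonempty_carrier_of H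
  exact Quotient.sound ⟨(a.trans e).trans b.symm⟩

theorem cl_congr {G : Type u} [Group G] [Finite G] {H : Type v} [Group H] [Finite H] (e : G ≃* H) :
    cl G = cl H := by rw [cl, cl, Idx_of_congr e]

theorem nonempty_rep_of (G : Type u) [Group G] [Finite G] : Nonempty ((Idx.of G).rep ≃* G) := by
  obtain ⟨a⟩ := nonempty_carrier_of G
  obtain ⟨b⟩ := (Quotient.mk_out (s := FinGrp.setoid) (FinGrp.of G) :
    Nonempty ((Quotient.out (s := FinGrp.setoid) (Quotient.mk FinGrp.setoid (FinGrp.of G))).carrier ≃* _))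
  exact ⟨b.trans a⟩

theorem Idx_of_rep (i : Idx) : Idx.of i.rep = i := by
  obtain ⟨a⟩ := nonempty_carrier_of i.rep
  refine Eq.trans (Quotient.sound ?_) (Quotient.out_eq (s := FinGrp.setoid) i)
  exact ⟨a⟩

theorem card_of (G : Type u) [Group G] [Finite G] : (Idx.of G).card = Nat.card G := by
  obtain ⟨e⟩ := nonempty_rep_of G
  exact Nat.card_congr e.toEquiv

theorem centerCard_of (G : Type u) [Group G] [Finite G] : (Idx.of G).centerCard = Nat.card (Subgroup.center G) := by
  obtain ⟨e⟩ := nonempty_rep_of G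
  exact Nat.card_congr (Subgroup.centerCongr e).toEquiv

theorem cl_eq_single (i : Idx) : cl i.rep = Finsupp.single i 1 := by rw [cl, Idx_of_rep]

theorem inertiaR_single (r : ℕ) (i : Idx) : inertiaR r (Finsupp.single i 1) = inertiaROf r i.rep := by
  rw [inertiaR, Finsupp.linearCombination_single, one_smul]

/-! ### centralisers -/

variable {G : Type u} [Group G]

/-- The centraliser of a tuple. -/
abbrev Cent {r : ℕ} (s : Fin r → G) : Subgroup G := Subgroup.centralizer (Set.range s)

theorem mem_Cent {r : ℕ} {s : Fin r → G} {x : G} : x ∈ Cent s ↔ ∀ i, s i * x = x * s i := by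
  rw [Subgroup.mem_centralizer_iff, Set.forall_mem_range]

/-- Conjugate tuples have isomorphic centralisers. -/
def centConj {r : ℕ} {s t : Fin r → G} (g : G) (h : ∀ i, g * s i * g⁻¹ = t i) : Cent s ≃* Cent t where
  toFun x := ⟨g * x * g⁻¹, mem_Cent.2 fun i => by
    rw [← h i, show g * s i * g⁻¹ * (g * (x : G) * g⁻¹) = g * (s i * x) * g⁻¹ by group, mem_Cent.1 x.2 i]
    group⟩
  invFun y := ⟨g⁻¹ * y * g, mem_Cent.2 fun i => by
    have hs : s i = g⁻¹ * t i * g := by rw [← h i]; group
    rw [hs, show g⁻¹ * t i * g * (g⁻¹ * (y : G) * g) = g⁻¹ * (t i * y) * g by group, mem_Cent.1 y.2 i]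
    group⟩
  left_inv x := Subtype.ext (by simp [mul_assoc])
  right_inv y := Subtype.ext (by simp [mul_assoc])
  map_mul' x y := Subtype.ext (by simp [mul_assoc])

theorem cl_cent_congr [Finite G] {r : ℕ} {s t : CommTuple G r} (h : (CommTuple.setoid G r).r s t) :
    cl (Cent s.1) = cl (Cent t.1) := by
  obtain ⟨g, hg⟩ := h
  exact cl_congr (centConj g hg)

/-- The weight of an orbit. -/
noncomputable def wt [Finite G] {r : ℕ} (O : CommTuple.Orbit G r) : K :=
  Quotient.lift (s := CommTuple.setoid G r) (fun s => cl (Cent s.1)) (fun _ _ h => cl_cent_congr h) O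

theorem wt_eq [Finite G] {r : ℕ} (O : CommTuple.Orbit G r) :
    wt O = cl (Cent (Quotient.out (s := CommTuple.setoid G r) O).1) := by
  conv_lhs => rw [← Quotient.out_eq (s := CommTuple.setoid G r) O]
  rfl

theorem inertiaROf_eq [Finite G] (r : ℕ) : inertiaROf r G = ∑ O : CommTuple.Orbit G r, wt O := by
  rw [inertiaROf, finsum_eq_sum_of_fintype]
  exact Finset.sum_congr rfl fun O _ => (wt_eq O).symm

/-- Transport of tuples along an isomorphism. -/
def tupleMap {H : Type v} [Group H] (e : G ≃* H) {r : ℕ} (s : CommTuple G r) : CommTuple H r :=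
  ⟨fun i => e (s.1 i), e.injective.comp s.2.1, fun i j => (s.2.2 i j).map e⟩

/-- The centralisers correspond. -/
def centMap {H : Type v} [Group H] (e : G ≃* H) {r : ℕ} (s : CommTuple G r) : Cent s.1 ≃* Cent (tupleMap e s).1 where
  toFun x := ⟨e x, mem_Cent.2 fun i => by
    show e (s.1 i) * e x = e x * e (s.1 i)
    rw [← map_mul, ← map_mul, mem_Cent.1 x.2 i]⟩
  invFun y := ⟨e.symm y, mem_Cent.2 fun i => e.injective (by
    rw [map_mul, map_mul, e.apply_symm_apply]; exact mem_Cent.1 y.2 i)⟩
  left_inv x := Subtype.ext (e.symm_apply_apply _)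
  right_inv y := Subtype.ext (e.apply_symm_apply _)
  map_mul' x y := Subtype.ext (map_mul e _ _)

theorem inertiaROf_congr [Finite G] {H : Type v} [Group H] [Finite H] (e : G ≃* H) (r : ℕ) :
    inertiaROf r G = inertiaROf r H := by
  rw [inertiaROf_eq, inertiaROf_eq]
  refine Fintype.sum_bijective (Quotient.lift (s := CommTuple.setoid G r)
    (fun s => (Quotient.mk (CommTuple.setoid H r) (tupleMap e s) : CommTuple.Orbit H r)) ?_) ?_ _ _ ?_
  · rintro s t ⟨g, hg⟩
    exact Quotient.sound ⟨e g, fun i => by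
      show e g * e (s.1 i) * (e g)⁻¹ = e (t.1 i)
      rw [← map_inv, ← map_mul, ← map_mul, hg i]⟩
  · constructor
    · intro a b
      induction a using Quotient.ind
      induction b using Quotient.ind
      rename_i s t
      intro h
      obtain ⟨g, hg⟩ := Quotient.exact (s := CommTuple.setoid H r) h
      exact Quotient.sound ⟨e.symm g, fun i => e.injective (by
        rw [map_mul, map_mul, map_inv, e.apply_symm_apply]; exact hg i)⟩
    · intro b
      induction b using Quotient.ind
      rename_i t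
      exact ⟨Quotient.mk (CommTuple.setoid G r) (tupleMap e.symm t), congrArg (Quotient.mk _)
        (Subtype.ext (funext fun i => e.apply_symm_apply _))⟩
  · intro a
    induction a using Quotient.ind
    rename_i s
    exact cl_congr (centMap e s)

theorem inertiaR_cl [Finite G] (r : ℕ) : inertiaR r (cl G) = inertiaROf r G := by
  rw [cl, inertiaR_single]
  obtain ⟨e⟩ := nonempty_rep_of G
  exact inertiaROf_congr e r

theorem subsingleton_orbit_zero : Subsingleton (CommTuple.Orbit G 0) :=
  ⟨fun a b => by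
    induction a using Quotient.ind
    induction b using Quotient.ind
    exact Quotient.sound ⟨1, fun i => i.elim0⟩⟩

theorem inertiaR_zero : inertiaR 0 = LinearMap.id := by
  refine Finsupp.lhom_ext fun i b => ?_
  rw [← mul_one b, ← Finsupp.smul_single', map_smul, inertiaR_single, map_smul, LinearMap.id_apply,
    inertiaROf_eq]
  congr 1
  haveI : Subsingleton (Quotient (CommTuple.setoid i.rep 0)) := subsingleton_orbit_zero (G := i.rep)
  let s₀ : CommTuple i.rep 0 := ⟨Fin.elim0, fun a => a.elim0, fun a => a.elim0⟩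
  refine (Fintype.sum_subsingleton (ι := Quotient (CommTuple.setoid i.rep 0)) _
    (Quotient.mk (CommTuple.setoid i.rep 0) s₀)).trans ?_
  show cl (Cent s₀.1) = _
  have htop : Cent s₀.1 = ⊤ := top_le_iff.1 fun x _ => mem_Cent.2 fun j => j.elim0
  rw [← cl_eq_single i]
  exact cl_congr ((MulEquiv.subgroupCongr htop).trans Subgroup.topEquiv)

/-! ### the recursion -/

section rec'

variable {r : ℕ} (s : CommTuple G r) (g : Cent s.1)

/-- Append an element of the centraliser. -/
def ext (h : (g : G) ∉ Set.range s.1) : CommTuple G (r + 1) :=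
  ⟨Fin.snoc s.1 (g : G), Fin.snoc_injective_iff.2 ⟨s.2.1, h⟩, by
    intro i j
    induction i using Fin.lastCases with
    | last => induction j using Fin.lastCases with
      | last => exact Commute.refl _
      | cast j => rw [Fin.snoc_last, Fin.snoc_castSucc]; exact (mem_Cent.1 g.2 j).symm
    | cast i => induction j using Fin.lastCases with
      | last => rw [Fin.snoc_last, Fin.snoc_castSucc]; exact mem_Cent.1 g.2 i
      | cast j => rw [Fin.snoc_castSucc, Fin.snoc_castSucc]; exact s.2.2 i j⟩

/-- The iterated centraliser. -/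
def centEquivExt (t : CommTuple (Cent s.1) 1) (h : ((t.1 0 : Cent s.1) : G) ∉ Set.range s.1) :
    Cent t.1 ≃* Cent (ext s (t.1 0) h).1 where
  toFun x := ⟨((x : Cent s.1) : G), mem_Cent.2 fun i => by
    induction i using Fin.lastCases with
    | last =>
      show (ext s (t.1 0) h).1 (Fin.last r) * _ = _ * (ext s (t.1 0) h).1 (Fin.last r)
      simp only [ext, Fin.snoc_last]
      exact congrArg Subtype.val (mem_Cent.1 x.2 0)
    | cast i =>
      show (ext s (t.1 0) h).1 i.castSucc * _ = _ * (ext s (t.1 0) h).1 i.castSucc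
      simp only [ext, Fin.snoc_castSucc]
      exact mem_Cent.1 (x : Cent s.1).2 i⟩
  invFun y := ⟨⟨(y : G), mem_Cent.2 fun i => by
      have h' := mem_Cent.1 y.2 i.castSucc
      simpa [ext] using h'⟩, mem_Cent.2 fun i => Subtype.ext (by
      have h' := mem_Cent.1 y.2 (Fin.last r)
      rw [Subsingleton.elim i 0]
      simpa [ext] using h')⟩
  left_inv _ := rfl
  right_inv _ := rfl
  map_mul' _ _ := rfl

/-- The iterated centraliser at an entry of the tuple. -/
def centEquivSelf (t : CommTuple (Cent s.1) 1) (i : Fin r) (h : s.1 i = ((t.1 0 : Cent s.1) : G)) :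
    Cent t.1 ≃* Cent s.1 where
  toFun x := x
  invFun y := ⟨y, mem_Cent.2 fun j => Subtype.ext (by
    rw [Subsingleton.elim j 0]
    show ((t.1 0 : Cent s.1) : G) * y = y * ((t.1 0 : Cent s.1) : G)
    rw [← h]
    exact mem_Cent.1 y.2 i)⟩
  left_inv _ := rfl
  right_inv _ := rfl
  map_mul' _ _ := rfl

end rec'

theorem inertia_inertiaROf [Finite G] (r : ℕ) :
    inertia (inertiaROf r G) = inertiaROf (r + 1) G + (r : ℚ) • inertiaROf r G := by
  classical
  let st : CommTuple.Orbit G r → CommTuple G r := fun O => Quotient.out (s := CommTuple.setoid G r) O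
  let X := Σ O : CommTuple.Orbit G r, CommTuple.Orbit (Cent (st O).1) 1
  let ge : (x : X) → Cent (st x.1).1 := fun x => (Quotient.out (s := CommTuple.setoid _ 1) x.2).1 0
  let Φ : X → CommTuple.Orbit G (r + 1) ⊕ (CommTuple.Orbit G r × Fin r) := fun x =>
    if h : (ge x : G) ∈ Set.range (st x.1).1 then Sum.inr (x.1, h.choose)
    else Sum.inl (Quotient.mk (CommTuple.setoid G (r + 1)) (ext (st x.1) (ge x) h))
  have hsame : ∀ (O : CommTuple.Orbit G r) (a b : CommTuple.Orbit (Cent (st O).1) 1) (c : Cent (st O).1),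
      c * ge ⟨O, a⟩ * c⁻¹ = ge ⟨O, b⟩ → a = b := by
    intro O a b c hc
    rw [← Quotient.out_eq (s := CommTuple.setoid _ 1) a, ← Quotient.out_eq (s := CommTuple.setoid _ 1) b]
    exact Quotient.sound ⟨c, fun i => by rw [Subsingleton.elim i 0]; exact hc⟩
  have hΦ : Function.Bijective Φ := by
    constructor
    · rintro ⟨O, a⟩ ⟨O', b⟩ h
      by_cases h1 : (ge ⟨O, a⟩ : G) ∈ Set.range (st O).1 <;>
        by_cases h2 : (ge ⟨O', b⟩ : G) ∈ Set.range (st O').1
      · simp only [Φ, dif_pos h1, dif_pos h2, Sum.inr.injEq, Prod.mk.injEq] at h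
        obtain ⟨rfl, hi⟩ := h
        have e : ge ⟨O, a⟩ = ge ⟨O, b⟩ := Subtype.ext (by rw [← h1.choose_spec, ← h2.choose_spec, hi])
        rw [hsame O a b 1 (by rw [e]; group)]
      · have hl : Φ ⟨O, a⟩ = Sum.inr (O, h1.choose) := dif_pos h1
        have hr : Φ ⟨O', b⟩ = Sum.inl (Quotient.mk (CommTuple.setoid G (r + 1)) (ext (st O') (ge ⟨O', b⟩) h2)) :=
          dif_neg h2
        rw [hl, hr] at h
        exact nomatch h
      · have hl : Φ ⟨O, a⟩ = Sum.inl (Quotient.mk (CommTuple.setoid G (r + 1)) (ext (st O) (ge ⟨O, a⟩) h1)) :=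
          dif_neg h1
        have hr : Φ ⟨O', b⟩ = Sum.inr (O', h2.choose) := dif_pos h2
        rw [hl, hr] at h
        exact nomatch h
      · have hl : Φ ⟨O, a⟩ = Sum.inl (Quotient.mk (CommTuple.setoid G (r + 1)) (ext (st O) (ge ⟨O, a⟩) h1)) :=
          dif_neg h1
        have hr : Φ ⟨O', b⟩ = Sum.inl (Quotient.mk (CommTuple.setoid G (r + 1)) (ext (st O') (ge ⟨O', b⟩) h2)) :=
          dif_neg h2
        rw [hl, hr] at h
        obtain ⟨g, hg⟩ := Quotient.exact (s := CommTuple.setoid G (r + 1)) (Sum.inl.inj h)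
        have hs : ∀ i, g * (st O).1 i * g⁻¹ = (st O').1 i := fun i => by
          simpa [ext] using hg i.castSucc
        obtain rfl : O = O' := by
          rw [← Quotient.out_eq (s := CommTuple.setoid G r) O, ← Quotient.out_eq (s := CommTuple.setoid G r) O']
          exact Quotient.sound ⟨g, hs⟩
        have hg' : g ∈ Cent (st O).1 := mem_Cent.2 fun i => by
          conv_lhs => rw [← hs i]
          group
        rw [hsame O a b ⟨g, hg'⟩ (Subtype.ext (by simpa [ext] using hg (Fin.last r)))]
    · rintro (O | ⟨O, i⟩)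
      · induction O using Quotient.ind
        rename_i t
        let u : CommTuple G r := ⟨fun i => t.1 i.castSucc, t.2.1.comp (Fin.castSucc_injective r),
          fun i j => t.2.2 _ _⟩
        let O : CommTuple.Orbit G r := Quotient.mk (CommTuple.setoid G r) u
        obtain ⟨g, hg⟩ : (CommTuple.setoid G r).r u (st O) :=
          (CommTuple.setoid G r).iseqv.symm (Quotient.exact (Quotient.out_eq (s := CommTuple.setoid G r) O))
        have hmem : g * t.1 (Fin.last r) * g⁻¹ ∈ Cent (st O).1 := mem_Cent.2 fun i => by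
          rw [← hg i]
          show g * t.1 i.castSucc * g⁻¹ * (g * t.1 (Fin.last r) * g⁻¹) = _
          rw [show g * t.1 i.castSucc * g⁻¹ * (g * t.1 (Fin.last r) * g⁻¹) =
            g * (t.1 i.castSucc * t.1 (Fin.last r)) * g⁻¹ by group, (t.2.2 _ _).eq]
          group
          rfl
        let c1 : CommTuple (Cent (st O).1) 1 :=
          ⟨fun _ => ⟨_, hmem⟩, fun a b _ => Subsingleton.elim a b, fun _ _ => Commute.refl _⟩
        let a : CommTuple.Orbit (Cent (st O).1) 1 := Quotient.mk (CommTuple.setoid _ 1) c1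
        obtain ⟨c, hc⟩ : (CommTuple.setoid _ 1).r c1 (Quotient.out (s := CommTuple.setoid _ 1) a) :=
          (CommTuple.setoid _ 1).iseqv.symm (Quotient.exact (Quotient.out_eq (s := CommTuple.setoid _ 1) a))
        have hge : ((c : G) * g) * t.1 (Fin.last r) * ((c : G) * g)⁻¹ = (ge ⟨O, a⟩ : G) := by
          rw [← congrArg Subtype.val (hc 0)]
          show _ = (c : G) * (g * t.1 (Fin.last r) * g⁻¹) * (c : G)⁻¹
          group
        have hsi : ∀ i, ((c : G) * g) * t.1 i.castSucc * ((c : G) * g)⁻¹ = (st O).1 i := fun i => by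
          rw [show ((c : G) * g) * t.1 i.castSucc * ((c : G) * g)⁻¹ = (c : G) * (g * u.1 i * g⁻¹) * (c : G)⁻¹ by
            show _ = (c : G) * (g * t.1 i.castSucc * g⁻¹) * (c : G)⁻¹
            group, hg i, ← mem_Cent.1 c.2 i]
          group
        have hn : (ge ⟨O, a⟩ : G) ∉ Set.range (st O).1 := by
          rintro ⟨i, hi⟩
          rw [← hge, ← hsi i] at hi
          exact (Fin.castSucc_lt_last i).ne (t.2.1 (mul_left_cancel (mul_right_cancel hi)))
        refine ⟨⟨O, a⟩, ?_⟩
        simp only [Φ, dif_neg hn]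
        refine congrArg Sum.inl (Quotient.sound ((CommTuple.setoid G (r + 1)).iseqv.symm ⟨(c : G) * g, fun i => ?_⟩))
        induction i using Fin.lastCases with
        | last => simp only [ext, Fin.snoc_last]; exact hge
        | cast i => simp only [ext, Fin.snoc_castSucc]; exact hsi i
      · have hmem : (st O).1 i ∈ Cent (st O).1 := mem_Cent.2 fun j => ((st O).2.2 j i).eq
        let c1 : CommTuple (Cent (st O).1) 1 :=
          ⟨fun _ => ⟨_, hmem⟩, fun a b _ => Subsingleton.elim a b, fun _ _ => Commute.refl _⟩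
        let a : CommTuple.Orbit (Cent (st O).1) 1 := Quotient.mk (CommTuple.setoid _ 1) c1
        obtain ⟨c, hc⟩ : (CommTuple.setoid _ 1).r c1 (Quotient.out (s := CommTuple.setoid _ 1) a) :=
          (CommTuple.setoid _ 1).iseqv.symm (Quotient.exact (Quotient.out_eq (s := CommTuple.setoid _ 1) a))
        have hge : (ge ⟨O, a⟩ : G) = (st O).1 i := by
          rw [show ge ⟨O, a⟩ = c * c1.1 0 * c⁻¹ from (hc 0).symm]
          show (c : G) * (st O).1 i * (c : G)⁻¹ = (st O).1 i
          rw [← mem_Cent.1 c.2 i]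
          group
        have hp : (ge ⟨O, a⟩ : G) ∈ Set.range (st O).1 := ⟨i, hge.symm⟩
        refine ⟨⟨O, a⟩, ?_⟩
        simp only [Φ, dif_pos hp]
        exact congrArg (fun j => Sum.inr (O, j)) ((st O).2.1 (hp.choose_spec.trans hge))
  rw [inertiaROf_eq r, map_sum]
  have h1 : ∀ O : CommTuple.Orbit G r, inertia (wt O) = ∑ a : CommTuple.Orbit (Cent (st O).1) 1, wt a := fun O => by
    rw [wt_eq, inertiaR_cl, inertiaROf_eq]
  simp only [h1]
  rw [← Fintype.sum_sigma' (fun O a => wt (G := Cent (st O).1) a)]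
  rw [Fintype.sum_bijective Φ hΦ _
    (Sum.elim (fun O => wt O) (fun q : CommTuple.Orbit G r × Fin r => wt q.1)) ?_]
  · rw [Fintype.sum_sum_type, inertiaROf_eq (r + 1), Fintype.sum_prod_type]
    simp only [Sum.elim_inl, Sum.elim_inr, Finset.sum_const, Finset.card_univ, Fintype.card_fin, Finset.smul_sum,
      Nat.cast_smul_eq_nsmul]
  · rintro ⟨O, a⟩
    show wt a = Sum.elim _ _ (Φ ⟨O, a⟩)
    rw [wt_eq a]
    by_cases h : (ge ⟨O, a⟩ : G) ∈ Set.range (st O).1
    · simp only [Φ, dif_pos h, Sum.elim_inr]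
      rw [wt_eq O]
      exact cl_congr (centEquivSelf (st O) _ h.choose h.choose_spec)
    · simp only [Φ, dif_neg h, Sum.elim_inl]
      exact cl_congr (centEquivExt (st O) _ h)

theorem inertiaR_succ (r : ℕ) (v : K) : inertiaR (r + 1) v = inertia (inertiaR r v) - (r : ℚ) • inertiaR r v := by
  induction v using Finsupp.induction_linear with
  | zero => simp
  | add a b ha hb => simp only [map_add, smul_add, ha, hb]; abel
  | single i c =>
    rw [← mul_one c, ← Finsupp.smul_single']
    simp only [map_smul, inertiaR_single]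
    rw [inertia_inertiaROf, smul_comm, ← smul_sub, add_sub_cancel_right]

theorem inertiaR_apply_eigen {μ : ℚ} {v : K} (hv : inertia v = μ • v) :
    ∀ r : ℕ, inertiaR r v = (∏ i ∈ Finset.range r, (μ - (i : ℚ))) • v := by
  intro r
  induction r with
  | zero => rw [inertiaR_zero, Finset.range_zero, Finset.prod_empty, one_smul, LinearMap.id_apply]
  | succ r ih =>
    rw [inertiaR_succ, ih, map_smul, hv, Finset.prod_range_succ, smul_smul, smul_smul, ← sub_smul]
    ring_nf

theorem prod_range_sub_natCast (k r : ℕ) :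
    (∏ i ∈ Finset.range r, ((k : ℚ) - (i : ℚ))) = ((Nat.factorial r * Nat.choose k r : ℕ) : ℚ) := by
  rw [← Nat.descFactorial_eq_factorial_mul_choose]
  induction r with
  | zero => simp
  | succ r ih =>
    rw [Finset.prod_range_succ, ih, Nat.descFactorial_succ]
    rcases le_or_gt r k with h | h
    · rw [Nat.cast_mul, Nat.cast_sub h]; ring
    · simp [Nat.descFactorial_eq_zero_iff_lt.2 h]

theorem inertiaR_eigen_nat {k : ℕ} {v : K} (hv : inertia v = (k : ℚ) • v) (r : ℕ) :
    inertiaR r v = ((Nat.factorial r * Nat.choose k r : ℕ) : ℚ) • v := by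
  rw [inertiaR_apply_eigen hv r, prod_range_sub_natCast]

/-! ### triangularity -/

theorem central_or_bigger [Finite G] {r : ℕ} (s : CommTuple G r) :
    ((∀ i, s.1 i ∈ Subgroup.center G) ∧ Cent s.1 = ⊤) ∨
      (Nat.card (Cent s.1) < Nat.card G ∧ Nat.card (Subgroup.center G) < Nat.card (Subgroup.center (Cent s.1))) := by
  by_cases h : ∀ i, s.1 i ∈ Subgroup.center G
  · exact Or.inl ⟨h, top_le_iff.1 fun x _ => mem_Cent.2 fun i => ((Subgroup.mem_center_iff.1 (h i)) x).symm⟩
  push Not at h
  obtain ⟨i, hi⟩ := h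
  obtain ⟨x, hx⟩ : ∃ x, x * s.1 i ≠ s.1 i * x := by
    by_contra hh
    push Not at hh
    exact hi (Subgroup.mem_center_iff.2 hh)
  have hlt : Cent s.1 < ⊤ := lt_top_iff_ne_top.2 fun e =>
    hx (mem_Cent.1 (e ▸ Subgroup.mem_top x) i).symm
  haveI : Fintype G := Fintype.ofFinite G
  refine Or.inr ⟨?_, ?_⟩
  · exact lt_of_le_of_ne (Subgroup.card_le_card_group _) fun e => hlt.ne (Subgroup.eq_top_of_card_eq _ e)
  let f : Subgroup.center G → Subgroup.center (Cent s.1) := fun z =>
    ⟨⟨z, mem_Cent.2 fun j => (Subgroup.mem_center_iff.1 z.2) (s.1 j)⟩,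
      Subgroup.mem_center_iff.2 fun y => Subtype.ext ((Subgroup.mem_center_iff.1 z.2) (y : G))⟩
  haveI : Fintype (Subgroup.center G) := Fintype.ofFinite _
  haveI : Fintype (Subgroup.center (Cent s.1)) := Fintype.ofFinite _
  rw [Nat.card_eq_fintype_card, Nat.card_eq_fintype_card]
  refine Fintype.card_lt_of_injective_of_notMem f ?_ (b := ⟨⟨s.1 i, mem_Cent.2 fun j => (s.2.2 j i).eq⟩, ?_⟩) ?_
  · exact fun a b e => Subtype.ext (congrArg (fun w : Subgroup.center (Cent s.1) => ((w : Cent s.1) : G)) e)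
  · exact Subgroup.mem_center_iff.2 fun y => Subtype.ext (mem_Cent.1 y.2 i).symm
  · rintro ⟨z, hz⟩
    have h := congrArg (fun w : Subgroup.center (Cent s.1) => ((w : Cent s.1) : G)) hz
    exact hi (by rw [← show (z : G) = s.1 i from h]; exact z.2)

/-- The span of classes of smaller order and larger centre. -/
noncomputable def Kdown (n z : ℕ) : Submodule ℚ K :=
  Finsupp.supported ℚ ℚ {j : Idx | j.card < n ∧ z < j.centerCard}

theorem Kdown_le (n z m : ℕ) (h : m ≤ z + 1) : Kdown n z ≤ Kge m :=
  Finsupp.supported_mono fun _ hl => le_trans h hl.2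

theorem inertia_sub_mem (i : Idx) :
    inertia (Finsupp.single i 1) - (i.centerCard : ℚ) • Finsupp.single i 1 ∈ Kdown i.card i.centerCard := by
  classical
  rw [inertiaR_single, inertiaROf_eq, ← cl_eq_single]
  let G := i.rep
  let A := Finset.univ.filter fun O : CommTuple.Orbit G 1 =>
    (Quotient.out (s := CommTuple.setoid G 1) O).1 0 ∈ Subgroup.center G
  have hA : A.card = Nat.card (Subgroup.center G) := by
    haveI : Fintype (Subgroup.center G) := Fintype.ofFinite _
    rw [Nat.card_eq_fintype_card, ← Finset.card_univ]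
    refine Finset.card_bij (fun O hO => ⟨_, (Finset.mem_filter.1 hO).2⟩) (fun O hO => Finset.mem_univ _) ?_ ?_
    · intro a ha b hb e
      rw [← Quotient.out_eq (s := CommTuple.setoid G 1) a, ← Quotient.out_eq (s := CommTuple.setoid G 1) b]
      refine Quotient.sound ⟨1, fun j => ?_⟩
      rw [Subsingleton.elim j 0, one_mul, inv_one, mul_one]
      exact congrArg Subtype.val e
    · intro z _
      let t : CommTuple G 1 := ⟨fun _ => z, fun a b _ => Subsingleton.elim a b, fun _ _ => Commute.refl _⟩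
      obtain ⟨g, hg⟩ : (CommTuple.setoid G 1).r t (Quotient.out (Quotient.mk (CommTuple.setoid G 1) t)) :=
        (CommTuple.setoid G 1).iseqv.symm (Quotient.exact (Quotient.out_eq _))
      have e : (Quotient.out (Quotient.mk (CommTuple.setoid G 1) t)).1 0 = (z : G) := by
        rw [← hg 0]
        show g * z * g⁻¹ = z
        rw [(Subgroup.mem_center_iff.1 z.2) g, mul_inv_cancel_right]
      exact ⟨_, Finset.mem_filter.2 ⟨Finset.mem_univ _, by rw [e]; exact z.2⟩, Subtype.ext e⟩
  rw [← Finset.sum_filter_add_sum_filter_not Finset.univ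
    (fun O : CommTuple.Orbit G 1 => (Quotient.out (s := CommTuple.setoid G 1) O).1 0 ∈ Subgroup.center G)]
  rw [Finset.sum_congr (s₂ := A) rfl (g := fun _ => cl G) fun O hO => ?_, Finset.sum_const, hA,
    ← Nat.cast_smul_eq_nsmul ℚ, show Nat.card (Subgroup.center G) = i.centerCard from rfl, add_sub_cancel_left]
  · refine Submodule.sum_mem _ fun O hO => ?_
    rw [wt_eq, cl]
    refine Finsupp.single_mem_supported ℚ _ ?_
    rcases central_or_bigger (Quotient.out (s := CommTuple.setoid G 1) O) with ⟨h, -⟩ | ⟨h1, h2⟩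
    · exact absurd (h 0) (Finset.mem_filter.1 hO).2
    · exact ⟨by rw [card_of]; exact h1, by rw [centerCard_of]; exact h2⟩
  · rcases central_or_bigger (Quotient.out (s := CommTuple.setoid G 1) O) with ⟨-, h⟩ | ⟨-, h⟩
    · rw [wt_eq]
      exact cl_congr ((MulEquiv.subgroupCongr h).trans Subgroup.topEquiv)
    · exfalso
      have hall : ∀ j, (Quotient.out (s := CommTuple.setoid G 1) O).1 j ∈ Subgroup.center G := fun j => by
        rw [Subsingleton.elim j 0]; exact (Finset.mem_filter.1 hO).2
      have htop : Cent (Quotient.out (s := CommTuple.setoid G 1) O).1 = ⊤ :=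
        top_le_iff.1 fun x _ => mem_Cent.2 fun j => ((Subgroup.mem_center_iff.1 (hall j)) x).symm
      rw [Nat.card_congr (Subgroup.centerCongr ((MulEquiv.subgroupCongr htop).trans Subgroup.topEquiv)).toEquiv] at h
      exact lt_irrefl _ h

theorem one_le_centerCard (i : Idx) : 1 ≤ i.centerCard := Nat.card_pos

theorem card_centerCard_le (i : Idx) : i.centerCard ≤ i.card := Subgroup.card_le_card_group _

theorem supported_le_of_single (s : Set Idx) (P : Submodule ℚ K) (h : ∀ i ∈ s, Finsupp.single i 1 ∈ P) :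
    Finsupp.supported ℚ ℚ s ≤ P := by
  intro v hv
  rw [← Finsupp.sum_single v]
  refine Submodule.sum_mem _ fun i hi => ?_
  have := P.smul_mem (v i) (h i (hv hi))
  rwa [Finsupp.smul_single', mul_one] at this

theorem inertia_mem_Kle (n : ℕ) (v : K) (hv : v ∈ Kle n) : inertia v ∈ Kle n := by
  refine supported_le_of_single _ ((Kle n).comap inertia) (fun i hi => ?_) hv
  have h1 : inertia (Finsupp.single i 1) - (i.centerCard : ℚ) • Finsupp.single i 1 ∈ Kle n :=
    Finsupp.supported_mono (fun j hj => (Set.mem_ofPred.1 hj).1.le.trans hi) (inertia_sub_mem i)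
  have h2 : (i.centerCard : ℚ) • Finsupp.single i (1 : ℚ) ∈ Kle n :=
    Submodule.smul_mem _ _ (Finsupp.single_mem_supported ℚ _ hi)
  simpa using Submodule.add_mem _ h1 h2

theorem inertiaR_sub_mem (r : ℕ) (i : Idx) :
    inertiaR r (Finsupp.single i 1) - (∏ j ∈ Finset.range r, ((i.centerCard : ℚ) - (j : ℚ))) • Finsupp.single i 1 ∈
      Kge (i.centerCard + 1) := by
  have hstab : ∀ w ∈ Kge (i.centerCard + 1), inertia w ∈ Kge (i.centerCard + 1) := fun w hw => by
    refine supported_le_of_single _ ((Kge (i.centerCard + 1)).comap inertia) (fun j hj => ?_) hw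
    have h1 : inertia (Finsupp.single j 1) - (j.centerCard : ℚ) • Finsupp.single j 1 ∈ Kge (i.centerCard + 1) :=
      Kdown_le _ _ _ (Nat.le_succ_of_le hj) (inertia_sub_mem j)
    have h2 : (j.centerCard : ℚ) • Finsupp.single j (1 : ℚ) ∈ Kge (i.centerCard + 1) :=
      Submodule.smul_mem _ _ (Finsupp.single_mem_supported ℚ _ hj)
    simpa using Submodule.add_mem _ h1 h2
  induction r with
  | zero => simp [inertiaR_zero]
  | succ r ih =>
    rw [inertiaR_succ, Finset.prod_range_succ]
    set c := ∏ j ∈ Finset.range r, ((i.centerCard : ℚ) - (j : ℚ))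
    set x : K := Finsupp.single i (1 : ℚ)
    have h1 : inertia x - (i.centerCard : ℚ) • x ∈ Kge (i.centerCard + 1) :=
      Kdown_le _ _ _ le_rfl (inertia_sub_mem i)
    convert Submodule.add_mem _ (Submodule.sub_mem _ (hstab _ ih) (Submodule.smul_mem _ (r : ℚ) ih))
      (Submodule.smul_mem _ c h1) using 1
    simp only [map_sub, map_smul, smul_sub, smul_smul, mul_sub, sub_smul, mul_comm (r : ℚ)]
    abel

theorem inertiaR_sub_mem_Kge (r k : ℕ) (v : K) (hv : v ∈ Kge k) :
    inertiaR r v - ((Nat.factorial r * Nat.choose k r : ℕ) : ℚ) • v ∈ Kge (k + 1) := by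
  refine supported_le_of_single _ ((Kge (k + 1)).comap
    (inertiaR r - ((Nat.factorial r * Nat.choose k r : ℕ) : ℚ) • LinearMap.id)) (fun i hi => ?_) hv
  rw [Submodule.mem_comap, LinearMap.sub_apply, LinearMap.smul_apply, LinearMap.id_apply]
  have h1 := inertiaR_sub_mem r i
  rcases Nat.eq_or_lt_of_le (show k ≤ i.centerCard from hi) with h | h
  · rw [← h, prod_range_sub_natCast] at h1
    exact h1
  · have hx : Finsupp.single i (1 : ℚ) ∈ Kge (k + 1) := Finsupp.single_mem_supported ℚ _ h
    have h1' : inertiaR r (Finsupp.single i 1) -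
        (∏ j ∈ Finset.range r, ((i.centerCard : ℚ) - (j : ℚ))) • Finsupp.single i (1 : ℚ) ∈ Kge (k + 1) :=
      (Finsupp.supported_mono (M := ℚ) (R := ℚ) (s := {j : Idx | i.centerCard + 1 ≤ j.centerCard})
        (t := {j : Idx | k + 1 ≤ j.centerCard}) fun l hl => le_trans (Nat.succ_le_succ h.le) hl) h1
    convert Submodule.add_mem _ h1' (Submodule.smul_mem _
      ((∏ j ∈ Finset.range r, ((i.centerCard : ℚ) - (j : ℚ))) - ((Nat.factorial r * Nat.choose k r : ℕ) : ℚ)) hx) using 1
    rw [sub_smul]
    abel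

/-- Eigenvectors with eigenvalue at least `z`. -/
noncomputable def Ege (z : ℕ) : Submodule ℚ K :=
  ⨆ k ∈ {k : ℕ | z ≤ k}, Module.End.eigenspace inertia (k : ℚ)

theorem Ege_mono {z z' : ℕ} (h : z ≤ z') : Ege z' ≤ Ege z :=
  biSup_mono fun _ hk => le_trans h hk

theorem single_mem_Ege : ∀ n, ∀ i : Idx, i.card = n → Finsupp.single i (1 : ℚ) ∈ Ege i.centerCard := by
  intro n
  induction n using Nat.strong_induction_on with
  | _ n ih =>
    intro i hi
    set z := i.centerCard
    set x : K := Finsupp.single i (1 : ℚ)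
    have hw : inertia x - (z : ℚ) • x ∈ Ege (z + 1) := by
      refine supported_le_of_single _ (Ege (z + 1)) (fun j (hj : j.card < i.card ∧ z < j.centerCard) => ?_)
        (inertia_sub_mem i)
      exact Ege_mono hj.2 (ih j.card (hi ▸ hj.1) j rfl)
    have key : ∀ w ∈ Ege (z + 1), ∃ u ∈ Ege (z + 1), inertia u - (z : ℚ) • u = w := by
      intro w hw
      refine Submodule.iSup_induction _ (motive := fun w => ∃ u ∈ Ege (z + 1), inertia u - (z : ℚ) • u = w) hw ?_ ?_ ?_
      · intro k w hk
        by_cases hkz : z + 1 ≤ k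
        · rw [iSup_pos (show k ∈ {k : ℕ | z + 1 ≤ k} from hkz)] at hk
          have hne : (k : ℚ) - (z : ℚ) ≠ 0 := by
            rw [sub_ne_zero]; exact_mod_cast (by omega : k ≠ z)
          refine ⟨((k : ℚ) - z)⁻¹ • w, Submodule.smul_mem _ _ (Submodule.mem_iSup_of_mem k (Submodule.mem_iSup_of_mem hkz hk)), ?_⟩
          rw [map_smul, Module.End.mem_eigenspace_iff.1 hk, smul_comm (z : ℚ), ← smul_sub, ← sub_smul, smul_smul,
            inv_mul_cancel₀ hne, one_smul]
        · rw [iSup_neg (show ¬ k ∈ {k : ℕ | z + 1 ≤ k} from hkz), Submodule.mem_bot] at hk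
          exact ⟨0, zero_mem _, by simp [hk]⟩
      · exact ⟨0, zero_mem _, by simp⟩
      · rintro a b ⟨u, hu, rfl⟩ ⟨v, hv, rfl⟩
        exact ⟨u + v, add_mem hu hv, by rw [map_add, smul_add]; abel⟩
    obtain ⟨u, hu, he⟩ := key _ hw
    rw [← sub_add_cancel x u]
    refine add_mem (Submodule.mem_iSup_of_mem z (Submodule.mem_iSup_of_mem (show z ∈ {k : ℕ | z ≤ k} from le_refl z) (Module.End.mem_eigenspace_iff.2 ?_))) (Ege_mono (Nat.le_succ z) hu)
    rw [map_sub, smul_sub]
    rw [eq_comm, ← sub_eq_zero] at he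
    rw [← sub_eq_zero, ← he]
    abel

theorem Ege_one : Ege 1 = ⊤ := by
  rw [eq_top_iff]
  intro v _
  exact supported_le_of_single Set.univ (Ege 1) (fun i _ => Ege_mono (one_le_centerCard i) (single_mem_Ege _ i rfl))
    (Finsupp.mem_supported ℚ v |>.2 (Set.subset_univ _))

theorem iSup_eigen : (⨆ n : ℕ, Module.End.eigenspace inertia (n : ℚ)) = ⊤ :=
  top_le_iff.1 (Ege_one ▸ iSup₂_le fun k _ => le_iSup (fun n : ℕ => Module.End.eigenspace inertia (n : ℚ)) k)

theorem hasEigenvalue_iff (μ : ℚ) :
    Module.End.HasEigenvalue inertia μ ↔ ∃ n : ℕ, 0 < n ∧ μ = (n : ℚ) := by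
  constructor
  · intro h
    by_contra hc
    push Not at hc
    refine h ?_
    have h2 : Ege 1 ≤ ⨆ ν, ⨆ (_ : ν ≠ μ), Module.End.eigenspace inertia ν :=
      iSup₂_le fun k hk => le_iSup₂_of_le (k : ℚ) (fun e => hc k hk e.symm) le_rfl
    rw [Ege_one, top_le_iff] at h2
    have h3 := (Module.End.eigenspaces_iSupIndep inertia) μ
    rw [h2, disjoint_top] at h3
    exact h3
  · rintro ⟨n, hn, rfl⟩
    haveI : NeZero n := ⟨hn.ne'⟩
    haveI : Finite (Multiplicative (ZMod n)) := Finite.of_equiv _ Multiplicative.ofAdd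
    obtain ⟨i, hi⟩ : ∃ i, i = Idx.of (Multiplicative (ZMod n)) := ⟨_, rfl⟩
    have hz : i.centerCard = n ∧ i.card = n := by
      rw [hi, centerCard_of, card_of, CommGroup.center_eq_top, Subgroup.card_top]
      simp
      exact (Nat.card_congr Multiplicative.toAdd).trans (Nat.card_zmod n)
    have h0 := inertia_sub_mem i
    have hbot : Kdown i.card i.centerCard = ⊥ := by
      rw [hz.1, hz.2, Kdown, show {j : Idx | j.card < n ∧ n < j.centerCard} = ∅ from
        Set.eq_empty_of_forall_notMem fun j hj => by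
          have := card_centerCard_le j
          obtain ⟨h1, h2⟩ := Set.mem_ofPred.1 hj
          omega, Finsupp.supported_empty]
    rw [hbot, Submodule.mem_bot, hz.1, sub_eq_zero] at h0
    exact Module.End.hasEigenvalue_of_hasEigenvector (x := Finsupp.single i (1 : ℚ))
      (Module.End.hasEigenvector_iff.2 ⟨Module.End.mem_eigenspace_iff.2 h0, by simp⟩)

theorem eigenspace_le (k r : ℕ) :
    Module.End.eigenspace inertia (k : ℚ) ≤
      Module.End.eigenspace (inertiaR r) ((Nat.factorial r * Nat.choose k r : ℕ) : ℚ) :=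
  fun v hv => Module.End.mem_eigenspace_iff.2 (inertiaR_eigen_nat (Module.End.mem_eigenspace_iff.1 hv) r)

theorem exists_decomp (v : K) : ∃ (f : ℕ →₀ K),
    (∀ k, inertia (f k) = (k : ℚ) • f k) ∧ f.sum (fun _ x => x) = v := by
  have hv : v ∈ ⨆ n : ℕ, Module.End.eigenspace inertia (n : ℚ) := iSup_eigen ▸ trivial
  obtain ⟨f, hf, hs⟩ := (Submodule.mem_iSup_iff_exists_finsupp _ _).1 hv
  exact ⟨f, fun k => Module.End.mem_eigenspace_iff.1 (hf k), hs⟩

theorem ker_inertiaR (r : ℕ) :
    LinearMap.ker (inertiaR r) = ⨆ k ∈ Finset.range r, Module.End.eigenspace inertia (k : ℚ) := by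
  refine le_antisymm (fun v hv => ?_) (iSup₂_le fun k hk w hw => ?_)
  · obtain ⟨f, hf, rfl⟩ := exists_decomp v
    rw [LinearMap.mem_ker, Finsupp.sum, map_sum, Finset.sum_congr rfl fun k _ => inertiaR_eigen_nat (hf k) r] at hv
    have hzero := (iSupIndep_iff_finsetSum_eq_zero_imp_eq_zero _).1
      ((Module.End.eigenspaces_iSupIndep inertia).comp (Nat.cast_injective (R := ℚ))) f.support
      (fun k => ((Nat.factorial r * Nat.choose k r : ℕ) : ℚ) • f k)
      (fun k _ => Submodule.smul_mem _ _ (Module.End.mem_eigenspace_iff.2 (hf k))) hv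
    rw [Finsupp.sum]
    refine Submodule.sum_mem _ fun k hk => ?_
    rcases lt_or_ge k r with h | h
    · exact Submodule.mem_iSup_of_mem k (Submodule.mem_iSup_of_mem (Finset.mem_range.2 h) (Module.End.mem_eigenspace_iff.2 (hf k)))
    · rw [(smul_eq_zero.1 (hzero k hk)).resolve_left
        (by exact_mod_cast Nat.mul_ne_zero (Nat.factorial_ne_zero r) (Nat.choose_pos h).ne')]
      exact zero_mem _
  · rw [LinearMap.mem_ker, inertiaR_eigen_nat (Module.End.mem_eigenspace_iff.1 hw) r,
      Nat.choose_eq_zero_of_lt (Finset.mem_range.1 hk), mul_zero, Nat.cast_zero, zero_smul]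

theorem alternating_choose (j k : ℕ) :
    ∑ r ∈ Finset.range (j + 1), ((-1 : ℚ) ^ (r + k) * ((r.choose k : ℚ) * (j.choose r : ℚ))) =
      if j = k then 1 else 0 := by
  rcases lt_or_ge j k with h | h
  · rw [if_neg h.ne, Finset.sum_eq_zero]
    intro r hr
    rw [Nat.choose_eq_zero_of_lt (show r < k by have := Finset.mem_range.1 hr; omega)]
    simp
  · obtain ⟨d, rfl⟩ := Nat.exists_eq_add_of_le h
    have h1 : ∀ m ∈ Finset.range (d + 1),
        (-1 : ℚ) ^ (k + m + k) * (((k + m).choose k : ℚ) * ((k + d).choose (k + m) : ℚ)) =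
          ((k + d).choose k : ℚ) * ((-1) ^ m * (d.choose m : ℚ)) := by
      intro m hm
      have h2 := Nat.choose_mul (n := k + d) (k := k + m) (s := k) (Nat.le_add_right k m)
      rw [Nat.add_sub_cancel_left, Nat.add_sub_cancel_left] at h2
      rw [← Nat.cast_mul, Nat.mul_comm ((k + m).choose k), h2, Nat.cast_mul,
        show k + m + k = m + 2 * k by omega, pow_add, pow_mul, neg_one_sq, one_pow]
      ring
    rw [show k + d + 1 = k + (d + 1) by omega, Finset.sum_range_add,
      Finset.sum_eq_zero (s := Finset.range k) fun r hr => by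
        rw [Nat.choose_eq_zero_of_lt (Finset.mem_range.1 hr)]; simp,
      zero_add, Finset.sum_congr rfl h1, ← Finset.mul_sum]
    have h3 := congrArg (fun z : ℤ => (z : ℚ)) (Int.alternating_sum_range_choose (n := d))
    push_cast at h3
    rw [h3]
    rcases Nat.eq_zero_or_pos d with rfl | hd
    · simp
    · rw [if_neg hd.ne', if_neg (by omega), mul_zero]

theorem projections (v : K) :
    (∀ k : ℕ, (∑ᶠ r : ℕ, (((-1 : ℚ) ^ (r + k)) / (Nat.factorial r : ℚ) * (Nat.choose r k : ℚ)) •
        inertiaR r v) ∈ Module.End.eigenspace inertia (k : ℚ)) ∧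
    (∑ᶠ k : ℕ, ∑ᶠ r : ℕ, (((-1 : ℚ) ^ (r + k)) / (Nat.factorial r : ℚ) * (Nat.choose r k : ℚ)) •
        inertiaR r v) = v := by
  classical
  obtain ⟨f, hf, rfl⟩ := exists_decomp v
  set N := f.support.sup id + 1
  have hsupp : ∀ j ∈ f.support, j < N := fun j hj => Nat.lt_succ_of_le (Finset.le_sup (f := id) hj)
  have hR : ∀ r, inertiaR r (f.sum fun _ x => x) =
      ∑ j ∈ f.support, ((Nat.factorial r * Nat.choose j r : ℕ) : ℚ) • f j := fun r => by
    rw [Finsupp.sum, map_sum, Finset.sum_congr rfl fun j _ => inertiaR_eigen_nat (hf j) r]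
  have hP : ∀ k, (∑ᶠ r : ℕ, (((-1 : ℚ) ^ (r + k)) / (Nat.factorial r : ℚ) * (Nat.choose r k : ℚ)) •
      inertiaR r (f.sum fun _ x => x)) = f k := by
    intro k
    rw [finsum_eq_finsetSum_of_support_subset _ (s := Finset.range N) (fun r hr => ?_)]
    · simp only [hR, Finset.smul_sum, smul_smul]
      rw [Finset.sum_comm]
      simp only [← Finset.sum_smul]
      have hinner : ∀ j ∈ f.support,
          (∑ r ∈ Finset.range N, ((-1 : ℚ) ^ (r + k)) / (Nat.factorial r : ℚ) * (Nat.choose r k : ℚ) *
            ((Nat.factorial r * Nat.choose j r : ℕ) : ℚ)) = if j = k then 1 else 0 := by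
        intro j hj
        rw [← alternating_choose j k, ← Finset.sum_subset (Finset.range_subset_range.2 (hsupp j hj) :
          Finset.range (j + 1) ⊆ Finset.range N) fun r _ hr => by
            rw [Nat.choose_eq_zero_of_lt (show j < r by rw [Finset.mem_range] at hr; omega)]; simp]
        refine Finset.sum_congr rfl fun r _ => ?_
        have : (Nat.factorial r : ℚ) ≠ 0 := by exact_mod_cast Nat.factorial_ne_zero r
        push_cast
        field_simp
      rw [Finset.sum_congr rfl fun j hj => by rw [hinner j hj]]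
      simp
      exact fun h => h.symm
    · rw [Function.mem_support] at hr
      rw [Finset.mem_coe, Finset.mem_range]
      by_contra hle
      refine hr ?_
      rw [hR, Finset.sum_eq_zero fun j hj => ?_, smul_zero]
      rw [Nat.choose_eq_zero_of_lt (lt_of_lt_of_le (hsupp j hj) (not_lt.1 hle)), mul_zero, Nat.cast_zero, zero_smul]
  refine ⟨fun k => by rw [hP]; exact Module.End.mem_eigenspace_iff.2 (hf k), ?_⟩
  simp only [hP]
  rw [finsum_eq_finsetSum_of_support_subset _ (s := f.support) (fun k hk => by simpa using hk)]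
  rfl

end Groth.L15.Inertia
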