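import Groth.Agent.L04.LC.Basic
import Mathlib.RingTheory.Derivation.Basic
import Mathlib.Algebra.Module.Injective
import Mathlib.Algebra.Category.ModuleCat.EnoughInjectives

/-! A derivation of the ring acts on local cohomology. -/

universe u

open CategoryTheory Limits Abelian Groth.L04.LC

namespace Groth.L15.LCConn

variable {A : Type u} [CommRing A] (θ : Derivation ℤ A A)

/-- `D` is a `θ`-derivation of the module `M`. -/
def IsConn {M : Type u} [AddCommGroup M] [Module A M] (D : M →+ M) : Prop :=
  ∀ (a : A) (x : M), D (a • x) = θ a • x + a • D x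

/-- Twisted product, whose linear retractions are `θ`-derivations. -/
@[nolint unusedArguments]
def Jet (_θ : Derivation ℤ A A) (E : Type u) : Type u := E × E

variable (E : Type u) [AddCommGroup E] [Module A E]

noncomputable instance : AddCommGroup (Jet θ E) := inferInstanceAs (AddCommGroup (E × E))

/-- constructor. -/
def Jet.mk (x y : E) : Jet θ E := (x, y)

noncomputable instance : SMul A (Jet θ E) := ⟨fun a v => (a • v.1, a • v.2 - θ a • v.1)⟩

lemma Jet.smul_mk (a : A) (x y : E) : a • Jet.mk θ E x y = Jet.mk θ E (a • x) (a • y - θ a • x) := rfl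

lemma Jet.add_mk (x y x' y' : E) : Jet.mk θ E x y + Jet.mk θ E x' y' = Jet.mk θ E (x + x') (y + y') := rfl

noncomputable instance : Module A (Jet θ E) where
  one_smul v := by
    obtain ⟨x, y⟩ := v
    change Jet.mk θ E ((1 : A) • x) ((1 : A) • y - θ 1 • x) = Jet.mk θ E x y
    rw [one_smul, one_smul, Derivation.map_one_eq_zero, zero_smul, sub_zero]
  mul_smul a b v := by
    obtain ⟨x, y⟩ := v
    change Jet.mk θ E ((a * b) • x) ((a * b) • y - θ (a * b) • x) =
      Jet.mk θ E (a • b • x) (a • (b • y - θ b • x) - θ a • b • x)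
    congr 1
    · rw [mul_smul]
    · rw [Derivation.leibniz, smul_eq_mul, smul_eq_mul]; module
  smul_zero a := by
    change Jet.mk θ E (a • 0) (a • 0 - θ a • 0) = Jet.mk θ E 0 0
    simp
  smul_add a v w := by
    obtain ⟨x, y⟩ := v; obtain ⟨x', y'⟩ := w
    change Jet.mk θ E (a • (x + x')) (a • (y + y') - θ a • (x + x')) =
      Jet.mk θ E (a • x + a • x') ((a • y - θ a • x) + (a • y' - θ a • x'))
    congr 1 <;> module
  add_smul a b v := by
    obtain ⟨x, y⟩ := v
    change Jet.mk θ E ((a + b) • x) ((a + b) • y - θ (a + b) • x) =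
      Jet.mk θ E (a • x + b • x) ((a • y - θ a • x) + (b • y - θ b • x))
    rw [map_add]
    congr 1 <;> module
  zero_smul v := by
    obtain ⟨x, y⟩ := v
    change Jet.mk θ E ((0 : A) • x) ((0 : A) • y - θ 0 • x) = Jet.mk θ E 0 0
    simp

variable {E}

/-- A derivation on a submodule extends to an injective module containing it. -/
theorem exists_extend (hE : Module.Injective A E) {M : Type u} [AddCommGroup M] [Module A M]
    (D : M →+ M) (hD : IsConn θ D) (f : M →ₗ[A] E) (hf : Function.Injective f) :
    ∃ D' : E →+ E, IsConn θ D' ∧ ∀ x, D' (f x) = f (D x) := by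
  let inr : E →ₗ[A] Jet θ E :=
    { toFun := fun y => Jet.mk θ E 0 y
      map_add' := fun x y => by rw [Jet.add_mk, add_zero]
      map_smul' := fun a y => by rw [RingHom.id_apply, Jet.smul_mk, smul_zero, smul_zero, sub_zero] }
  obtain ⟨r, hr⟩ := hE.out (Q := E) inr (fun a b h => congrArg Prod.snd h) LinearMap.id
  let D₀ : E →+ E := AddMonoidHom.mk' (fun x => r (Jet.mk θ E x 0)) fun x y => by
    rw [← map_add, Jet.add_mk, add_zero]
  have hD₀ : IsConn θ D₀ := fun a x => by
    change r (Jet.mk θ E (a • x) 0) = θ a • x + a • r (Jet.mk θ E x 0)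
    have h : Jet.mk θ E (a • x) 0 = a • Jet.mk θ E x 0 + inr (θ a • x) := by
      change _ = a • Jet.mk θ E x 0 + Jet.mk θ E 0 (θ a • x)
      rw [Jet.smul_mk, Jet.add_mk, add_zero, smul_zero, zero_sub, neg_add_cancel]
    rw [h, map_add, map_smul, hr, LinearMap.id_apply, add_comm]
  let φ : M →ₗ[A] E :=
    { toFun := fun x => D₀ (f x) - f (D x)
      map_add' := fun x y => by simp only [map_add]; abel
      map_smul' := fun a x => by
        simp only [RingHom.id_apply, map_smul, hD₀ a, hD a, map_add, smul_sub]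
        abel }
  obtain ⟨ψ, hψ⟩ := hE.out f hf φ
  refine ⟨D₀ - ψ.toAddMonoidHom, fun a x => ?_, fun x => ?_⟩
  · change D₀ (a • x) - ψ (a • x) = θ a • x + a • (D₀ x - ψ x)
    rw [hD₀, map_smul, smul_sub]
    abel
  · change D₀ (f x) - ψ (f x) = f (D x)
    rw [hψ]
    change D₀ (f x) - (D₀ (f x) - f (D x)) = f (D x)
    abel

/-- Descent of a derivation along a surjection with stable kernel. -/
theorem exists_descend {M N : Type u} [AddCommGroup M] [Module A M] [AddCommGroup N] [Module A N]
    (D : M →+ M) (hD : IsConn θ D) (q : M →ₗ[A] N) (hq : Function.Surjective q)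
    (hker : ∀ x, q x = 0 → q (D x) = 0) :
    ∃ D' : N →+ N, IsConn θ D' ∧ ∀ x, D' (q x) = q (D x) := by
  have key : ∀ x, q (D (Function.surjInv hq (q x))) = q (D x) := fun x => by
    rw [← sub_eq_zero, ← map_sub, ← map_sub]
    exact hker _ (by rw [map_sub, Function.surjInv_eq hq, sub_self])
  refine ⟨AddMonoidHom.mk' (fun y => q (D (Function.surjInv hq y))) fun y z => ?_, fun a y => ?_,
    fun x => key x⟩
  · obtain ⟨x, rfl⟩ := hq y; obtain ⟨w, rfl⟩ := hq z
    rw [← map_add, key, key, key, map_add, map_add]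
  · obtain ⟨x, rfl⟩ := hq y
    change q (D (Function.surjInv hq (a • q x))) = _ + a • q (D (Function.surjInv hq (q x)))
    rw [← map_smul, key, key, hD, map_add, map_smul, map_smul]

variable (I : Ideal A)

lemma pow_smul_mem (n : ℕ) : ∀ a ∈ I ^ (n + 1), θ a ∈ I ^ n := by
  induction n with
  | zero => intro a _; simp
  | succ n ih =>
    intro a ha
    rw [pow_succ] at ha
    induction ha using Submodule.mul_induction_on' with
    | mem_mul_mem x hx y hy =>
      rw [Derivation.leibniz, smul_eq_mul, smul_eq_mul]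
      refine add_mem (Ideal.mul_mem_right _ _ hx) ?_
      rw [mul_comm, pow_succ]
      exact Ideal.mul_mem_mul (ih x hx) hy
    | add x _ y _ hx hy => rw [map_add]; exact add_mem hx hy

/-- The derivation on degree-zero local cohomology. -/
theorem exists_zero (M : ModuleCat.{u} A) (D : M →+ M) (hD : IsConn θ D) :
    ∃ D' : (localCohomology I 0).obj M →+ (localCohomology I 0).obj M,
      IsConn θ D' ∧ ∀ x, evalZero I M (D' x) = D (evalZero I M x) := by
  have hmem : ∀ x, D (evalZero I M x) ∈ LinearMap.range (evalZero I M) := by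
    intro x
    rw [range_evalZero]
    obtain ⟨n, hn⟩ := isPowerTorsion_H I 0 M x
    refine ⟨n + 1, fun a ha => ?_⟩
    have h1 : a • D (evalZero I M x) = D (a • evalZero I M x) - θ a • evalZero I M x := by
      rw [hD]; abel
    rw [h1, ← map_smul, hn a (Ideal.pow_le_pow_right n.le_succ ha), map_zero, map_zero, ← map_smul,
      hn _ (pow_smul_mem θ I n a ha), map_zero, sub_zero]
  choose D' hD' using hmem
  refine ⟨AddMonoidHom.mk' D' fun x y => evalZero_injective I M ?_, fun a x => evalZero_injective I M ?_, hD'⟩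
  · rw [map_add (evalZero I M), hD', hD', hD', map_add, map_add]
  · change evalZero I M (D' (a • x)) = evalZero I M (θ a • x + a • D' x)
    rw [hD', map_smul (evalZero I M), hD, map_add, map_smul, map_smul, hD']

/-- The derivation on local cohomology. -/
theorem exists_conn (i : ℕ) : ∀ (M : ModuleCat.{u} A) (D : M →+ M), IsConn θ D →
    ∃ D' : (localCohomology I i).obj M →+ (localCohomology I i).obj M, IsConn θ D' := by
  induction i with
  | zero => intro M D hD; obtain ⟨D', h, -⟩ := exists_zero θ I M D hD; exact ⟨D', h⟩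
  | succ i ih =>
    intro M D hD
    let S := ShortComplex.mk (Injective.ι M) (cokernel.π (Injective.ι M)) (cokernel.condition _)
    have hS : S.ShortExact :=
      { exact := ShortComplex.exact_of_g_is_cokernel _ (cokernelIsCokernel _) }
    haveI : Injective S.X₂ := inferInstanceAs (Injective (Injective.under M))
    haveI := Module.injective_module_of_injective_object A S.X₂
    obtain ⟨DE, hDE, hDEf⟩ := exists_extend θ (E := S.X₂) inferInstance D hD S.f.hom
      ((ModuleCat.mono_iff_injective _).1 hS.mono_f)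
    have hg : Function.Surjective S.g.hom := (ModuleCat.epi_iff_surjective _).1 hS.epi_g
    have hex : Function.Exact S.f.hom S.g.hom :=
      (ShortComplex.ShortExact.moduleCat_exact_iff_function_exact S).1 hS.exact
    obtain ⟨DQ, hDQ, hDQg⟩ := exists_descend θ DE hDE S.g.hom hg fun x hx => by
      obtain ⟨m, rfl⟩ := (hex x).1 hx
      rw [hDEf]
      exact hex.apply_apply_eq_zero _
    have hsurj : Function.Surjective (Hδ I hS i) := fun x => by
      haveI := subsingleton_H_succ_of_injective I i S.X₂
      exact (H_exact₁ I hS i x).1 (Subsingleton.elim _ _)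
    cases i with
    | zero =>
      obtain ⟨D₀, hD₀, hD₀e⟩ := exists_zero θ I S.X₃ DQ hDQ
      obtain ⟨DE₀, -, hDE₀e⟩ := exists_zero θ I S.X₂ DE hDE
      obtain ⟨D', hD', -⟩ := exists_descend θ D₀ hD₀ (Hδ I hS 0) hsurj fun x hx => by
        obtain ⟨y, rfl⟩ := (H_exact₃ I hS 0 x).1 hx
        refine (H_exact₃ I hS 0 _).2 ⟨DE₀ y, evalZero_injective I S.X₃ ?_⟩
        rw [hD₀e, evalZero_natural, evalZero_natural, hDE₀e, ← hDQg]
      exact ⟨D', hD'⟩
    | succ j =>
      obtain ⟨D₁, hD₁⟩ := ih S.X₃ DQ hDQ
      obtain ⟨D', hD', -⟩ := exists_descend θ D₁ hD₁ (Hδ I hS (j + 1)) hsurj fun x hx => by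
        haveI := subsingleton_H_succ_of_injective I j S.X₂
        obtain ⟨y, rfl⟩ := (H_exact₃ I hS (j + 1) x).1 hx
        rw [Subsingleton.elim y 0, map_zero, map_zero, map_zero]
      exact ⟨D', hD'⟩

end Groth.L15.LCConn
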