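import Groth.Agent.L08.CartierRed
import Groth.Prelude.Def_GLin
import Mathlib.RingTheory.Coalgebra.GroupLike
import Mathlib.LinearAlgebra.TensorProduct.Basis
import Mathlib.RingTheory.Spectrum.Prime.Topology
import Mathlib.RingTheory.Spectrum.Prime.Module
import Mathlib.LinearAlgebra.Dimension.Finite

/-!
Linearisations of the trivial line bundle are given by characters.
-/

set_option autoImplicit false
set_option linter.style.haveILetI false
universe u

noncomputable section

open TensorProduct

namespace Groth.L15.LinTriv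

variable {k : Type u} [Field k] [IsAlgClosed k] {R : Type u} [CommRing R] [Algebra k R] [Algebra.FiniteType k R]

theorem eq_zero_of_forall_point [IsReduced R] {r : R} (h : ∀ x : R →ₐ[k] k, x r = 0) : r = 0 :=
  Groth.L08.CartierRed.eq_zero_of_forall_closure_point fun g => by
    let e : k ≃ₐ[k] AlgebraicClosure k := AlgEquiv.ofBijective (Algebra.ofId k _)
      (IsAlgClosed.algebraMap_bijective_of_isIntegral (k := k) (K := AlgebraicClosure k))
    exact e.symm.injective ((h (e.symm.toAlgHom.comp g)).trans (map_zero _).symm)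

variable {A : Type u} [CommRing A] [Algebra k A]

/-- Restriction of `R ⊗ A` to the point `x`. -/
def res (x : R →ₐ[k] k) : R ⊗[k] A →ₐ[k] A :=
  (Algebra.TensorProduct.lid k A).toAlgHom.comp (Algebra.TensorProduct.map x (AlgHom.id k A))

@[simp] theorem res_tmul (x : R →ₐ[k] k) (r : R) (a : A) : res x (r ⊗ₜ[k] a) = x r • a := by simp [res]

theorem eq_zero_of_forall_res [IsReduced R] {z : R ⊗[k] A} (h : ∀ x : R →ₐ[k] k, res x z = 0) : z = 0 := by
  classical
  let b := Module.Free.chooseBasis k A
  let e := TensorProduct.equivFinsuppOfBasisRight (M := R) b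
  have key : ∀ (x : R →ₐ[k] k) (i) (z : R ⊗[k] A), x (e z i) = b.repr (res x z) i := fun x i z => by
    induction z using TensorProduct.induction_on with
    | zero => simp
    | add p q hp hq => simp [map_add, Finsupp.add_apply, hp, hq]
    | tmul r a => simp [e, mul_comm]
  refine e.injective (Finsupp.ext fun i => ?_)
  rw [map_zero, Finsupp.zero_apply]
  exact eq_zero_of_forall_point fun x => by rw [key x i z, h, map_zero, Finsupp.zero_apply]

theorem exists_point [Nontrivial R] [IsReduced R] : Nonempty (R →ₐ[k] k) := by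
  by_contra h
  exact one_ne_zero (eq_zero_of_forall_point (k := k) (r := (1 : R)) fun x => (h ⟨x⟩).elim)

theorem finite_range_res (z : R ⊗[k] A) :
    ∃ W : Submodule k A, Module.Finite k W ∧ ∀ x : R →ₐ[k] k, res x z ∈ W := by
  induction z using TensorProduct.induction_on with
  | zero => exact ⟨⊥, inferInstance, fun x => by simp⟩
  | tmul r a => exact ⟨Submodule.span k {a}, inferInstance, fun x => by
      rw [res_tmul]; exact Submodule.smul_mem _ _ (Submodule.mem_span_singleton_self a)⟩
  | add p q hp hq =>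
    obtain ⟨W, hW, hp⟩ := hp
    obtain ⟨W', hW', hq⟩ := hq
    exact ⟨W ⊔ W', inferInstance, fun x => by rw [map_add]; exact Submodule.add_mem_sup (hp x) (hq x)⟩

theorem eq_zero_or_one {R : Type u} [CommRing R] [ConnectedSpace (PrimeSpectrum R)] {e : R} (he : IsIdempotentElem e) :
    e = 0 ∨ e = 1 := by
  rcases isClopen_iff.1 (PrimeSpectrum.isClopen_basicOpen_of_mul_add e (1 - e) (by rw [mul_sub, mul_one, he.eq, sub_self])
    (add_sub_cancel _ _)) with h | h
  · left
    exact PrimeSpectrum.basicOpen_injOn_isIdempotentElem he IsIdempotentElem.zero (by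
      rw [PrimeSpectrum.basicOpen_zero]; exact TopologicalSpace.Opens.ext h)
  · right
    exact PrimeSpectrum.basicOpen_injOn_isIdempotentElem he IsIdempotentElem.one (by
      rw [PrimeSpectrum.basicOpen_one]; exact TopologicalSpace.Opens.ext h)

section Hopf

variable {A : Type u} [CommRing A] [HopfAlgebra k A]

/-- If all values are group-like, the function is constant, on a connected base. -/
theorem eq_tmul_of_isGroupLike [IsReduced R] [ConnectedSpace (PrimeSpectrum R)] (θ : R ⊗[k] A)
    (h : ∀ x : R →ₐ[k] k, IsGroupLikeElem k (res x θ)) : ∃ χ : A, IsGroupLikeElem k χ ∧ θ = 1 ⊗ₜ[k] χ := by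
  classical
  haveI : Nontrivial R := PrimeSpectrum.nonempty_iff_nontrivial.1 inferInstance
  obtain ⟨x₀⟩ := exists_point (k := k) (R := R)
  refine ⟨res x₀ θ, h x₀, sub_eq_zero.1 (eq_zero_of_forall_res fun x => ?_)⟩
  rw [map_sub, res_tmul, map_one, one_smul, sub_eq_zero]
  by_contra hne
  -- a linear form `φ` equal to `1` at the value at `x₀` and to `0` at all other values
  let S : Set A := {a | IsGroupLikeElem k a}
  have hli : LinearIndepOn k id S := linearIndepOn_isGroupLikeElem
  let b := Module.Basis.extend hli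
  have hsub : S ⊆ hli.extend (Set.subset_univ S) := hli.subset_extend _
  let φ : A →ₗ[k] k := b.coord ⟨res x₀ θ, hsub (h x₀)⟩
  let f : R := TensorProduct.rid k R (φ.lTensor R θ)
  have hf : ∀ y : R →ₐ[k] k, y f = φ (res y θ) := fun y => by
    show y (TensorProduct.rid k R (φ.lTensor R θ)) = φ (res y θ)
    clear_value φ
    generalize θ = z
    induction z using TensorProduct.induction_on with
    | zero => simp
    | add p q hp hq => simp [hp, hq]
    | tmul r a => simp [mul_comm]
  have hval : ∀ y : R →ₐ[k] k, φ (res y θ) = if res y θ = res x₀ θ then 1 else 0 := fun y => by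
    have hb : b ⟨res y θ, hsub (h y)⟩ = res y θ := Module.Basis.extend_apply_self hli _
    conv_lhs => rw [← hb]
    simp [φ, Finsupp.single_apply]
  have hidem : IsIdempotentElem f := sub_eq_zero.1 (eq_zero_of_forall_point (k := k) fun y => by
    rw [map_sub, map_mul, hf, hval]; split_ifs <;> simp)
  rcases eq_zero_or_one hidem with h0 | h1
  · have := (hf x₀).trans (hval x₀)
    simp [h0] at this
  · have := (hf x).trans (hval x)
    simp [h1, hne] at this

variable [HopfRep.Comod k A R] [GLin.IsCoactAlg k A R] (θ : R ⊗[k] A)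

theorem facts
    (hassoc : (TensorProduct.assoc k R A A).toLinearMap ∘ₗ
        ((LinearMap.mulRight k θ) ∘ₗ HopfRep.Comod.coact (k := k) (A := A) (V := R)).rTensor A ∘ₗ
          ((LinearMap.mulRight k θ) ∘ₗ HopfRep.Comod.coact (k := k) (A := A) (V := R)) =
      (CoalgebraStruct.comul (R := k) (A := A)).lTensor R ∘ₗ
        ((LinearMap.mulRight k θ) ∘ₗ HopfRep.Comod.coact (k := k) (A := A) (V := R)))
    (hcounit : (CoalgebraStruct.counit (R := k) (A := A)).lTensor R ∘ₗ
        ((LinearMap.mulRight k θ) ∘ₗ HopfRep.Comod.coact (k := k) (A := A) (V := R)) =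
      (TensorProduct.mk k R k).flip 1) :
    (CoalgebraStruct.counit (R := k) (A := A)).lTensor R θ = 1 ⊗ₜ[k] (1 : k) ∧ IsUnit θ ∧
      (TensorProduct.assoc k R A A) (((LinearMap.mulRight k θ) ∘ₗ HopfRep.Comod.coact (k := k) (A := A) (V := R)).rTensor A θ) =
        (CoalgebraStruct.comul (R := k) (A := A)).lTensor R θ := by
  set μ := (LinearMap.mulRight k θ) ∘ₗ HopfRep.Comod.coact (k := k) (A := A) (V := R) with hμ
  have h1 : μ 1 = θ := by
    rw [hμ, LinearMap.comp_apply, GLin.IsCoactAlg.coact_one (k := k) (A := A) (R := R)]; simp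
  have hc : (CoalgebraStruct.counit (R := k) (A := A)).lTensor R θ = 1 ⊗ₜ[k] (1 : k) := by
    have := LinearMap.congr_fun hcounit 1
    rw [LinearMap.comp_apply, h1] at this
    exact this
  have ha : (TensorProduct.assoc k R A A) (μ.rTensor A θ) = (CoalgebraStruct.comul (R := k) (A := A)).lTensor R θ := by
    have := LinearMap.congr_fun hassoc 1
    change (TensorProduct.assoc k R A A) (μ.rTensor A (μ 1)) =
      (CoalgebraStruct.comul (R := k) (A := A)).lTensor R (μ 1) at this
    rw [h1] at this
    exact this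
  refine ⟨hc, ?_, ha⟩
  -- apply `id ⊗ (mul ∘ (id ⊗ S))`
  let Φ : R ⊗[k] (A ⊗[k] A) →ₗ[k] R ⊗[k] A :=
    (LinearMap.mul' k A ∘ₗ (HopfAlgebraStruct.antipode k).lTensor A).lTensor R
  have hΦ : ∀ (z : R ⊗[k] A) (a : A), Φ (TensorProduct.assoc k R A A (z ⊗ₜ[k] a)) =
      z * ((1 : R) ⊗ₜ[k] HopfAlgebraStruct.antipode k a) := fun z a => by
    induction z using TensorProduct.induction_on with
    | zero => simp
    | add p q hp hq => simp [add_tmul, add_mul, hp, hq]
    | tmul r b => simp [Φ, Algebra.TensorProduct.tmul_mul_tmul]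
  let v : R ⊗[k] A →ₗ[k] R ⊗[k] A := TensorProduct.lift
    (((LinearMap.mul k (R ⊗[k] A)).compl₂ ((TensorProduct.mk k R A 1) ∘ₗ HopfAlgebraStruct.antipode k)).comp
      (HopfRep.Comod.coact (k := k) (A := A) (V := R)))
  have hl : ∀ z, Φ (TensorProduct.assoc k R A A (μ.rTensor A z)) = θ * v z := fun z => by
    induction z using TensorProduct.induction_on with
    | zero => simp
    | add p q hp hq => simp [mul_add, hp, hq]
    | tmul r a => rw [LinearMap.rTensor_tmul, hΦ]; simp [hμ, v]; ring
  refine IsUnit.of_mul_eq_one (v θ) ?_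
  rw [← hl, ha]
  show Φ ((CoalgebraStruct.comul (R := k) (A := A)).lTensor R θ) = 1
  rw [← LinearMap.comp_apply, ← LinearMap.lTensor_comp, LinearMap.comp_assoc,
    HopfAlgebra.mul_antipode_lTensor_comul, LinearMap.lTensor_comp, LinearMap.comp_apply, hc]
  simp [Algebra.TensorProduct.one_def]

end Hopf

end Groth.L15.LinTriv
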