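import Groth.Prelude.Def_Conn
import Groth.Prelude.Def_LogDiff
import Groth.Prelude.Def_W4swconnpcurvhiggsLogLam

/-!
The pieces and layers of a logarithmic integrable λ-connection.
-/

set_option autoImplicit false

noncomputable section

universe v u

open TensorProduct

namespace Groth.L15.LogLayer

variable {A : Type v} {B L E : Type u} [CommRing A] [CommRing B]
  [Algebra A B] [AddCommGroup L] [Module B L] [Module A L] [IsScalarTower A B L]
  [AddCommGroup E] [Module B E] [Module A E] [IsScalarTower A B E]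
  {n : ℕ}

/-- Coordinates adapted to a logarithmic connection. -/
structure Frame (lam : B) (ι : KaehlerDifferential A B →ₗ[B] L) (nabla : E →ₗ[A] E ⊗[B] L) where
  t : Fin n → B
  bΩ : Module.Basis (Fin n) B (KaehlerDifferential A B)
  ω : Module.Basis (Fin n) B L
  hbΩ : ∀ i, bΩ i = KaehlerDifferential.D A B (t i)
  hι : ∀ i, ι (KaehlerDifferential.D A B (t i)) = t i • ω i
  hc : Conn.IsLamConn (ι.compDer (KaehlerDifferential.D A B)) lam nabla
  comm : ∀ i j (e : E), LogConn.comp nabla ω i (LogConn.comp nabla ω j e) =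
    LogConn.comp nabla ω j (LogConn.comp nabla ω i e)

omit [IsScalarTower A B L] [Module A L] in
theorem comp_eq (nabla : E →ₗ[A] E ⊗[B] L) (ω : Module.Basis (Fin n) B L) (i : Fin n) (e : E) :
    LogConn.comp nabla ω i e = TensorProduct.rid B E (TensorProduct.map LinearMap.id (ω.coord i) (nabla e)) := rfl

omit [IsScalarTower A B L] [Module A L] in
theorem nabla_eq_sum (nabla : E →ₗ[A] E ⊗[B] L) (ω : Module.Basis (Fin n) B L) (e : E) :
    nabla e = ∑ i, LogConn.comp nabla ω i e ⊗ₜ[B] ω i := by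
  simp only [comp_eq]
  generalize nabla e = z
  induction z using TensorProduct.induction_on with
  | zero => simp
  | tmul m η =>
    simp only [TensorProduct.map_tmul, LinearMap.id_apply, TensorProduct.rid_tmul, TensorProduct.smul_tmul,
      Module.Basis.coord_apply, ← TensorProduct.tmul_sum, ω.sum_repr]
  | add z w hz hw => simp only [map_add, TensorProduct.add_tmul, Finset.sum_add_distrib, ← hz, ← hw]

omit [IsScalarTower A B L] [Module A L] in
theorem comp_change (nabla : E →ₗ[A] E ⊗[B] L) (ω ω' : Module.Basis (Fin n) B L) (i : Fin n) (e : E) :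
    LogConn.comp nabla ω' i e = ∑ j, ω'.coord i (ω j) • LogConn.comp nabla ω j e := by
  rw [comp_eq, nabla_eq_sum nabla ω e]
  simp only [map_sum, TensorProduct.map_tmul, LinearMap.id_apply, TensorProduct.rid_tmul]

theorem oneEquiv_symm_eq (x : L) :
    (exteriorPower.oneEquiv B L).symm x = exteriorPower.ιMulti B 1 (fun _ => x) :=
  (exteriorPower.oneEquiv B L).injective (by rw [LinearEquiv.apply_symm_apply, exteriorPower.oneEquiv_ιMulti])

theorem wedge_ιMulti (p : ℕ) (x : L) (v : Fin p → L) :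
    Conn.wedge p ((exteriorPower.oneEquiv B L).symm x) (exteriorPower.ιMulti B p v) =
      exteriorPower.ιMulti B (p + 1) (Fin.cons x v) := by
  refine Subtype.ext ?_
  rw [Conn.wedge_apply_coe, oneEquiv_symm_eq, exteriorPower.ιMulti_apply_coe, exteriorPower.ιMulti_apply_coe,
    exteriorPower.ιMulti_apply_coe, ExteriorAlgebra.ιMulti_succ_apply, ExteriorAlgebra.ιMulti_succ_apply]
  simp [Matrix.vecTail, Function.comp_def]

theorem nablas_tmul (nabla : E →ₗ[A] E ⊗[B] L) (ω : Module.Basis (Fin n) B L) (lam : B)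
    (d : ∀ p : ℕ, ↥(⋀[B]^p L) →ₗ[A] ↥(⋀[B]^(p + 1) L))
    (nablas : ∀ p : ℕ, E ⊗[B] ↥(⋀[B]^p L) →ₗ[A] E ⊗[B] ↥(⋀[B]^(p + 1) L))
    (hrule : Conn.IsCxRule nabla (fun p => lam • d p) nablas)
    (p : ℕ) (m : E) (v : Fin p → L) (hd0 : d p (exteriorPower.ιMulti B p v) = 0) :
    nablas p (m ⊗ₜ[B] exteriorPower.ιMulti B p v) =
      ∑ i, LogConn.comp nabla ω i m ⊗ₜ[B] exteriorPower.ιMulti B (p + 1) (Fin.cons (ω i) v) := by
  rw [hrule, LinearMap.smul_apply, hd0, smul_zero, tmul_zero, add_zero, nabla_eq_sum nabla ω m]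
  simp only [map_sum, LinearMap.sum_apply, Conn.toOne_tmul, Conn.twedge_tmul, wedge_ιMulti]

theorem comm_of_integrable (nabla : E →ₗ[A] E ⊗[B] L) (ω : Module.Basis (Fin n) B L) (lam : B)
    (d : ∀ p : ℕ, ↥(⋀[B]^p L) →ₗ[A] ↥(⋀[B]^(p + 1) L))
    (nablas : ∀ p : ℕ, E ⊗[B] ↥(⋀[B]^p L) →ₗ[A] E ⊗[B] ↥(⋀[B]^(p + 1) L))
    (hint : Conn.IsIntegrable nabla (fun p => lam • d p) nablas)
    (hd1 : ∀ i, d 1 (exteriorPower.ιMulti B 1 (fun _ => ω i)) = 0) (a b : Fin n) (e : E) :
    LogConn.comp nabla ω a (LogConn.comp nabla ω b e) = LogConn.comp nabla ω b (LogConn.comp nabla ω a e) := by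
  classical
  have h0 := hint.2 e
  have h1 : ∀ x : L, (exteriorPower.oneEquiv B L).symm x = exteriorPower.ιMulti B 1 (fun _ => x) := oneEquiv_symm_eq
  rw [nabla_eq_sum nabla ω e] at h0
  simp only [map_sum, Conn.toOne_tmul, h1] at h0
  rw [Finset.sum_congr rfl fun i _ => nablas_tmul nabla ω lam d nablas hint.1 1 _ _ (hd1 i)] at h0
  let θ : ↥(⋀[B]^(1 + 1) L) →ₗ[B] B :=
    exteriorPower.pairingDual B L 2 (exteriorPower.ιMulti B 2 ![ω.coord a, ω.coord b])
  have h2 := congrArg (fun z => TensorProduct.rid B E (TensorProduct.map LinearMap.id θ z)) h0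
  simp only [map_sum, TensorProduct.map_tmul, LinearMap.id_apply, TensorProduct.rid_tmul, map_zero, θ,
    exteriorPower.pairingDual_ιMulti_ιMulti, Matrix.det_fin_two, Matrix.of_apply, Fin.cons_zero,
    Module.Basis.coord_apply, Module.Basis.repr_self, Matrix.cons_val_zero, Matrix.cons_val_one] at h2
  simp only [show (1 : Fin 2) = Fin.succ 0 from rfl, Fin.cons_succ, Module.Basis.repr_self, Finsupp.single_apply,
    sub_smul, Finset.sum_sub_distrib, ite_mul, one_mul, zero_mul, ite_smul, zero_smul, Finset.sum_ite_eq',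
    Finset.sum_ite_eq, Finset.mem_univ, if_true, one_smul, mul_ite, mul_one, mul_zero] at h2
  simpa [sub_eq_zero] using h2

namespace Frame

variable {lam : B} {ι : KaehlerDifferential A B →ₗ[B] L} {nabla : E →ₗ[A] E ⊗[B] L}
  (F : Frame (n := n) lam ι nabla)

local notation "δ" => KaehlerDifferential.D A B

/-- The component. -/
abbrev c (i : Fin n) : E →ₗ[A] E := LogConn.comp nabla F.ω i

/-- The piece. -/
abbrev P (I : Finset (Fin n)) : Submodule A E := LogConn.piece nabla F.ω F.t I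

/-- The partial derivative. -/
def D (i : Fin n) (b : B) : B := F.bΩ.repr (δ b) i

theorem D_t (i j : Fin n) : F.D i (F.t j) = if i = j then 1 else 0 := by
  rw [D, ← F.hbΩ, Module.Basis.repr_self, Finsupp.single_apply]
  exact if_congr eq_comm rfl rfl

theorem D_prod (i : Fin n) (S : Finset (Fin n)) (hi : i ∉ S) : F.D i (∏ k ∈ S, F.t k) = 0 := by
  classical
  induction S using Finset.induction_on with
  | empty => simp [D]
  | @insert a S ha ih =>
    simp only [Finset.mem_insert, not_or] at hi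
    have h := ih hi.2
    simp only [D] at h ⊢
    rw [Finset.prod_insert ha, Derivation.leibniz, map_add, map_smul, map_smul, Finsupp.add_apply, Finsupp.smul_apply,
      Finsupp.smul_apply, h]
    have := F.D_t i a
    simp only [D, if_neg hi.1] at this
    simp [this]

theorem coord_ι (i : Fin n) (b : B) : F.ω.coord i (ι (δ b)) = F.D i b * F.t i := by
  conv_lhs => rw [← F.bΩ.sum_repr (δ b)]
  simp only [map_sum, map_smul, F.hbΩ, F.hι, smul_eq_mul, Module.Basis.coord_apply, Module.Basis.repr_self,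
    Finsupp.smul_apply, Finsupp.coe_finsetSum, Finset.sum_apply, Finsupp.single_apply, mul_ite, mul_one, mul_zero,
    Finset.sum_ite_eq', Finset.mem_univ, if_true, D]

theorem c_smul (i : Fin n) (b : B) (e : E) : F.c i (b • e) = b • F.c i e + (lam * F.D i b) • F.t i • e := by
  simp only [c, comp_eq, F.hc b e, map_add, map_smul, TensorProduct.map_tmul, LinearMap.id_apply,
    TensorProduct.rid_tmul]
  change _ + lam • F.ω.coord i (ι (δ b)) • e = _
  rw [show F.ω.coord i (ι (δ b)) = F.D i b * F.t i from F.coord_ι i b]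
  simp [smul_smul, mul_assoc]

theorem compProd_insert {i : Fin n} {J : Finset (Fin n)} (hi : i ∉ J) (e : E) :
    LogConn.compProd nabla F.ω (insert i J) e = F.c i (LogConn.compProd nabla F.ω J e) := by
  have : LeftCommutative (fun (i : Fin n) (φ : E →ₗ[A] E) => LogConn.comp nabla F.ω i ∘ₗ φ) :=
    ⟨fun a b φ => LinearMap.ext fun x => F.comm a b _⟩
  have hp : ((insert i J).sort (· ≤ ·)).Perm (i :: J.sort (· ≤ ·)) := by
    refine List.perm_of_nodup_nodup_toFinset_eq (Finset.sort_nodup _ _) ?_ ?_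
    · exact List.nodup_cons.2 ⟨by simpa using hi, Finset.sort_nodup _ _⟩
    · simp
  show (((insert i J).sort (· ≤ ·)).foldr _ LinearMap.id) e = _
  rw [hp.foldr_eq]
  rfl

theorem gen_mem {I J : Finset (Fin n)} (hJ : J ⊆ I) (e : E) :
    (∏ k ∈ I \ J, F.t k) • LogConn.compProd nabla F.ω J e ∈ F.P I :=
  Submodule.mem_iSup_of_mem J (Submodule.mem_iSup_of_mem (Finset.mem_powerset.2 hJ) ⟨e, rfl⟩)

theorem mem_empty (e : E) : e ∈ F.P ∅ := by
  simpa [LogConn.compProd] using F.gen_mem (I := ∅) (J := ∅) subset_rfl e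

theorem P_le {I : Finset (Fin n)} (S : Submodule A E)
    (h : ∀ J ⊆ I, ∀ e : E, (∏ k ∈ I \ J, F.t k) • LogConn.compProd nabla F.ω J e ∈ S) : F.P I ≤ S :=
  iSup₂_le fun J hJ => by
    rintro _ ⟨e, rfl⟩
    exact h J (Finset.mem_powerset.1 hJ) e

theorem c_gen {I J : Finset (Fin n)} {i : Fin n} (hi : i ∉ I) (hJ : J ⊆ I) (e : E) :
    F.c i ((∏ k ∈ I \ J, F.t k) • LogConn.compProd nabla F.ω J e) =
      (∏ k ∈ insert i I \ insert i J, F.t k) • LogConn.compProd nabla F.ω (insert i J) e := by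
  have hs : insert i I \ insert i J = I \ J := by
    ext k; simp only [Finset.mem_sdiff, Finset.mem_insert]
    constructor
    · rintro ⟨h1 | h1, h2⟩
      · exact absurd (Or.inl h1) h2
      · exact ⟨h1, fun h => h2 (Or.inr h)⟩
    · rintro ⟨h1, h2⟩
      exact ⟨Or.inr h1, fun h => h.elim (fun h => hi (h ▸ h1)) h2⟩
  rw [c_smul, F.D_prod i _ (fun h => hi (Finset.mem_sdiff.1 h).1), mul_zero, zero_smul, add_zero, hs,
    F.compProd_insert (fun h => hi (hJ h))]

theorem c_mem {I : Finset (Fin n)} {i : Fin n} (hi : i ∉ I) {x : E} (hx : x ∈ F.P I) : F.c i x ∈ F.P (insert i I) := by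
  refine F.P_le ((F.P (insert i I)).comap (F.c i)) (fun J hJ e => ?_) hx
  rw [Submodule.mem_comap, F.c_gen hi hJ]
  exact F.gen_mem (Finset.insert_subset_insert i hJ) e

theorem t_mem {I : Finset (Fin n)} {i : Fin n} (hi : i ∉ I) {x : E} (hx : x ∈ F.P I) :
    F.t i • x ∈ F.P (insert i I) := by
  refine F.P_le ((F.P (insert i I)).comap ((LinearMap.lsmul B E (F.t i)).restrictScalars A)) (fun J hJ e => ?_) hx
  show F.t i • ((∏ k ∈ I \ J, F.t k) • LogConn.compProd nabla F.ω J e) ∈ F.P (insert i I)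
  rw [smul_smul, ← Finset.prod_insert (fun h => hi (Finset.mem_sdiff.1 h).1),
    ← Finset.insert_sdiff_of_notMem _ (fun h => hi (hJ h))]
  exact F.gen_mem (hJ.trans (Finset.subset_insert i I)) e

theorem rec_le {I : Finset (Fin n)} {i : Fin n} (hi : i ∉ I) (S : Submodule A E)
    (h1 : ∀ z ∈ F.P I, F.c i z ∈ S) (h2 : ∀ z ∈ F.P I, F.t i • z ∈ S) : F.P (insert i I) ≤ S := by
  refine F.P_le S fun J hJ e => ?_
  by_cases hiJ : i ∈ J
  · have hJ' : J.erase i ⊆ I := fun k hk => by
      obtain ⟨h, h'⟩ := Finset.mem_erase.1 hk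
      exact (Finset.mem_insert.1 (hJ h')).resolve_left h
    have := h1 _ (F.gen_mem hJ' e)
    rwa [F.c_gen hi hJ', Finset.insert_erase hiJ] at this
  · have hJ' : J ⊆ I := fun k hk => (Finset.mem_insert.1 (hJ hk)).resolve_left (fun h => hiJ (h ▸ hk))
    have := h2 _ (F.gen_mem hJ' e)
    rwa [smul_smul, ← Finset.prod_insert (fun h => hi (Finset.mem_sdiff.1 h).1),
      ← Finset.insert_sdiff_of_notMem _ hiJ] at this

theorem smul_mem_and_c_mem_self (I : Finset (Fin n)) :
    (∀ b : B, ∀ x ∈ F.P I, b • x ∈ F.P I) ∧ ∀ j, ∀ x ∈ F.P I, F.c j x ∈ F.P I := by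
  classical
  induction I using Finset.induction_on with
  | empty => exact ⟨fun b x _ => F.mem_empty _, fun j x _ => F.mem_empty _⟩
  | @insert i I hi ih =>
    obtain ⟨hs, hcs⟩ := ih
    have hs' : ∀ b : B, ∀ x ∈ F.P (insert i I), b • x ∈ F.P (insert i I) := by
      intro b x hx
      refine F.rec_le hi ((F.P (insert i I)).comap ((LinearMap.lsmul B E b).restrictScalars A)) (fun z hz => ?_)
        (fun z hz => ?_) hx
      · show b • F.c i z ∈ F.P (insert i I)
        rw [show b • F.c i z = F.c i (b • z) - F.t i • ((lam * F.D i b) • z) by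
          rw [F.c_smul, smul_comm (F.t i), add_sub_cancel_right]]
        exact sub_mem (F.c_mem hi (hs _ _ hz)) (F.t_mem hi (hs _ _ hz))
      · show b • F.t i • z ∈ F.P (insert i I)
        rw [smul_comm]
        exact F.t_mem hi (hs _ _ hz)
    refine ⟨hs', fun j x hx => F.rec_le hi ((F.P (insert i I)).comap (F.c j)) (fun z hz => ?_) (fun z hz => ?_) hx⟩
    · show F.c j (F.c i z) ∈ F.P (insert i I)
      rw [F.comm]
      exact F.c_mem hi (hcs _ _ hz)
    · show F.c j (F.t i • z) ∈ F.P (insert i I)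
      rw [F.c_smul, D_t]
      refine add_mem (F.t_mem hi (hcs _ _ hz)) ?_
      split_ifs with h
      · subst h
        exact hs' _ _ (F.t_mem hi hz)
      · simp

theorem smul_mem {I : Finset (Fin n)} (b : B) {x : E} (hx : x ∈ F.P I) : b • x ∈ F.P I :=
  (F.smul_mem_and_c_mem_self I).1 b x hx

theorem c_mem_self {I : Finset (Fin n)} (j : Fin n) {x : E} (hx : x ∈ F.P I) : F.c j x ∈ F.P I :=
  (F.smul_mem_and_c_mem_self I).2 j x hx

theorem c_mem' {I : Finset (Fin n)} (i : Fin n) {x : E} (hx : x ∈ F.P I) : F.c i x ∈ F.P (insert i I) := by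
  by_cases hi : i ∈ I
  · rw [Finset.insert_eq_of_mem hi]; exact F.c_mem_self i hx
  · exact F.c_mem hi hx

theorem t_mem' {I : Finset (Fin n)} (i : Fin n) {x : E} (hx : x ∈ F.P I) : F.t i • x ∈ F.P (insert i I) := by
  by_cases hi : i ∈ I
  · rw [Finset.insert_eq_of_mem hi]; exact F.smul_mem _ hx
  · exact F.t_mem hi hx

theorem anti {I J : Finset (Fin n)} (h : I ⊆ J) : F.P J ≤ F.P I := by
  classical
  suffices ∀ S : Finset (Fin n), F.P (I ∪ S) ≤ F.P I by simpa [Finset.union_eq_right.2 h] using this J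
  intro S
  induction S using Finset.induction_on with
  | empty => simp
  | @insert a S _ ih =>
    rw [Finset.union_insert]
    by_cases ha : a ∈ I ∪ S
    · rwa [Finset.insert_eq_of_mem ha]
    · exact (F.rec_le ha (F.P (I ∪ S)) (fun z hz => F.c_mem_self a hz) fun z hz => F.smul_mem _ hz).trans ih

theorem prod_mem {I : Finset (Fin n)} (S : Finset (Fin n)) {x : E} (hx : x ∈ F.P I) :
    (∏ k ∈ S, F.t k) • x ∈ F.P (I ∪ S) := by
  classical
  induction S using Finset.induction_on with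
  | empty => simpa using hx
  | @insert a S ha ih => rw [Finset.prod_insert ha, mul_smul, Finset.union_insert]; exact F.t_mem' a ih

/-- The family of differences of two frames. -/
theorem piece_le (F' : Frame (n := n) lam ι nabla) (w : Fin n → B) (hw : ∀ i, F'.t i = w i * F.t i)
    (a : Fin n → Fin n → B) (ha : ∀ i j, F'.ω.coord i (F.ω j) = (if i = j then 1 else 0) + F'.t i * a i j)
    (I : Finset (Fin n)) : F'.P I ≤ F.P I := by
  classical
  induction I using Finset.induction_on with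
  | empty => exact fun x _ => F.mem_empty x
  | @insert i I hi ih =>
    refine F'.rec_le hi _ (fun z hz => ?_) (fun z hz => ?_)
    · show LogConn.comp nabla F'.ω i z ∈ F.P (insert i I)
      rw [comp_change nabla F.ω F'.ω i z]
      refine Submodule.sum_mem _ fun j _ => ?_
      rw [ha, add_smul, hw, mul_smul, mul_smul]
      refine add_mem ?_ (F.smul_mem _ ?_)
      · split_ifs with h
        · subst h; rw [one_smul]; exact F.c_mem hi (ih hz)
        · simp
      · exact F.t_mem hi (F.smul_mem _ (F.c_mem_self j (ih hz)))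
    · rw [hw, mul_smul]
      exact F.smul_mem _ (F.t_mem hi (ih hz))

end Frame

omit [Module A L] [IsScalarTower A B L] [Module A E] [IsScalarTower A B E] in
theorem sum_coordE (ω : Module.Basis (Fin n) B L) (p : ℕ) (x : E ⊗[B] ↥(⋀[B]^p L)) :
    x = ∑ K, LogConn.coordE ω p K x ⊗ₜ[B] ω.exteriorPower p K := by
  induction x using TensorProduct.induction_on with
  | zero => simp
  | tmul m η =>
    simp only [LogConn.coordE, LinearMap.comp_apply, LinearEquiv.coe_toLinearMap, TensorProduct.map_tmul,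
      LinearMap.id_apply, TensorProduct.rid_tmul, TensorProduct.smul_tmul, Module.Basis.coord_apply,
      ← TensorProduct.tmul_sum, Module.Basis.sum_repr]
  | add z w hz hw => simp only [map_add, TensorProduct.add_tmul, Finset.sum_add_distrib, ← hz, ← hw]

omit [Module A L] [IsScalarTower A B L] [Module A E] [IsScalarTower A B E] in
theorem coordE_tmul (ω : Module.Basis (Fin n) B L) (p : ℕ) (K : Set.powersetCard (Fin n) p) (m : E) (η : ↥(⋀[B]^p L)) :
    LogConn.coordE ω p K (m ⊗ₜ[B] η) = (ω.exteriorPower p).coord K η • m := by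
  simp [LogConn.coordE]

omit [Module A L] [IsScalarTower A B L] in
theorem coord_eq_zero_or (ω : Module.Basis (Fin n) B L) (p : ℕ) (K : Set.powersetCard (Fin n) p) (f : Fin p → Fin n) :
    (ω.exteriorPower p).coord K (exteriorPower.ιMulti B p fun k => ω (f k)) = 0 ∨
      (Function.Injective f ∧ Finset.univ.image f = (K : Finset (Fin n))) := by
  classical
  by_cases h : (K : Finset (Fin n)) ⊆ Finset.univ.image f
  · have hc : (Finset.univ.image f).card ≤ (K : Finset (Fin n)).card :=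
      Finset.card_image_le.trans (by rw [K.2, Finset.card_univ, Fintype.card_fin])
    have he := Finset.eq_of_subset_of_card_le h hc
    refine Or.inr ⟨?_, he.symm⟩
    have hcard : (Finset.univ.image f).card = (Finset.univ : Finset (Fin p)).card := by
      rw [← he, K.2, Finset.card_univ, Fintype.card_fin]
    exact fun a b hab => Finset.card_image_iff.1 hcard (Finset.mem_coe.2 (Finset.mem_univ a))
      (Finset.mem_coe.2 (Finset.mem_univ b)) hab
  · obtain ⟨i, hiK, hif⟩ := Finset.not_subset.1 h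
    left
    rw [exteriorPower.basis_coord, exteriorPower.ιMultiDual_apply_ιMulti]
    obtain ⟨j, hj⟩ := (Set.powersetCard.mem_range_ofFinEmbEquiv_symm_iff_mem K i).2 hiK
    refine Matrix.det_eq_zero_of_column_eq_zero j fun k => ?_
    rw [Matrix.of_apply, hj, Module.Basis.coord_apply, Module.Basis.repr_self]
    exact Finsupp.single_eq_of_ne (fun h' => hif (Finset.mem_image.2 ⟨k, Finset.mem_univ _, h'.symm⟩))

theorem image_emb (p : ℕ) (K : Set.powersetCard (Fin n) p) :
    Finset.univ.image (fun k => Set.powersetCard.ofFinEmbEquiv.symm K k) = (K : Finset (Fin n)) := by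
  ext i
  simp only [Finset.mem_image, Finset.mem_univ, true_and]
  exact Set.powersetCard.mem_range_ofFinEmbEquiv_symm_iff_mem K i

namespace Frame

variable {lam : B} {ι : KaehlerDifferential A B →ₗ[B] L} {nabla : E →ₗ[A] E ⊗[B] L}
  (F : Frame (n := n) lam ι nabla)

theorem nablas_mem (d : ∀ p : ℕ, ↥(⋀[B]^p L) →ₗ[A] ↥(⋀[B]^(p + 1) L))
    (nablas : ∀ p : ℕ, E ⊗[B] ↥(⋀[B]^p L) →ₗ[A] E ⊗[B] ↥(⋀[B]^(p + 1) L))
    (hrule : Conn.IsCxRule nabla (fun p => lam • d p) nablas)
    (hd : ∀ (p : ℕ) (v : Fin p → Fin n), d p (exteriorPower.ιMulti B p fun k => F.ω (v k)) = 0)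
    (p : ℕ) (x : E ⊗[B] ↥(⋀[B]^p L)) (hx : x ∈ LogConn.layer nabla F.ω F.t p) :
    nablas p x ∈ LogConn.layer nabla F.ω F.t (p + 1) := by
  classical
  simp only [LogConn.layer, Submodule.mem_iInf, Submodule.mem_comap, LinearMap.restrictScalars_apply] at hx ⊢
  intro K'
  rw [sum_coordE F.ω p x, map_sum, map_sum]
  refine Submodule.sum_mem _ fun K _ => ?_
  rw [exteriorPower.basis_apply, exteriorPower.ιMulti_family, Function.comp_def,
    nablas_tmul nabla F.ω lam d nablas hrule p _ _ (hd p _), map_sum]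
  refine Submodule.sum_mem _ fun i _ => ?_
  rw [coordE_tmul]
  have e : (Fin.cons (F.ω i) fun k => F.ω (Set.powersetCard.ofFinEmbEquiv.symm K k) : Fin (p + 1) → L) =
      fun k => F.ω ((Fin.cons i (fun k => Set.powersetCard.ofFinEmbEquiv.symm K k) : Fin (p + 1) → Fin n) k) :=
    funext fun k => by refine Fin.cases ?_ (fun k => ?_) k <;> simp
  rw [e]
  rcases coord_eq_zero_or F.ω (p + 1) K' (Fin.cons i fun k => Set.powersetCard.ofFinEmbEquiv.symm K k) with h | ⟨-, h⟩
  · rw [h, zero_smul]; exact zero_mem _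
  · refine F.smul_mem _ ?_
    have : insert i (K : Finset (Fin n)) = (K' : Finset (Fin n)) := by
      rw [← h, ← image_emb p K]
      ext j
      simp [Fin.exists_fin_succ, eq_comm]
    rw [← this]
    exact F.c_mem' i (hx K)

theorem layer_le (F' : Frame (n := n) lam ι nabla) (w : Fin n → B) (hw : ∀ i, F.t i = w i * F'.t i)
    (a a' : Fin n → Fin n → B) (ha : ∀ i j, F.ω.coord i (F'.ω j) = (if i = j then 1 else 0) + F.t i * a i j)
    (ha' : ∀ i j, F'.ω.coord i (F.ω j) = (if i = j then 1 else 0) + F'.t i * a' i j) (p : ℕ) :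
    LogConn.layer nabla F.ω F.t p ≤ LogConn.layer nabla F'.ω F'.t p := by
  classical
  intro x hx
  simp only [LogConn.layer, Submodule.mem_iInf, Submodule.mem_comap, LinearMap.restrictScalars_apply] at hx ⊢
  intro J
  rw [sum_coordE F.ω p x, map_sum]
  refine Submodule.sum_mem _ fun K _ => ?_
  rw [coordE_tmul, exteriorPower.basis_apply, exteriorPower.ιMulti_family, Function.comp_def]
  set v := fun k => Set.powersetCard.ofFinEmbEquiv.symm K k with hv
  have hy : LogConn.coordE F.ω p K x ∈ F'.P (K : Finset (Fin n)) :=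
    F'.piece_le F w hw a ha _ (hx K)
  have hexp : (exteriorPower.ιMulti B p fun k => F.ω (v k)) =
      ∑ f : Fin p → Fin n, (∏ k, F'.ω.coord (f k) (F.ω (v k))) • exteriorPower.ιMulti B p (fun k => F'.ω (f k)) := by
    conv_lhs =>
      rw [show (fun k => F.ω (v k)) = fun k => ∑ j, F'.ω.coord j (F.ω (v k)) • F'.ω j from
        funext fun k => (F'.ω.sum_repr (F.ω (v k))).symm]
    rw [← AlternatingMap.coe_multilinearMap, MultilinearMap.map_sum]
    exact Finset.sum_congr rfl fun f _ => MultilinearMap.map_smul_univ _ _ _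
  change (F'.ω.exteriorPower p).coord J (exteriorPower.ιMulti B p fun k => F.ω (v k)) • _ ∈ F'.P _
  rw [hexp, map_sum, Finset.sum_smul]
  refine Submodule.sum_mem _ fun f _ => ?_
  rw [map_smul, smul_eq_mul, mul_comm, mul_smul]
  rcases coord_eq_zero_or F'.ω p J f with h | ⟨hf, hJ⟩
  · rw [h, zero_smul]; exact zero_mem _
  refine F'.smul_mem _ ?_
  set S := Finset.univ.filter (fun k => f k ∉ (K : Finset (Fin n)))
  have hterm : ∀ k ∈ S, F'.ω.coord (f k) (F.ω (v k)) = F'.t (f k) * a' (f k) (v k) := fun k hk => by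
    rw [ha', if_neg, zero_add]
    intro h
    refine (Finset.mem_filter.1 hk).2 ?_
    rw [h, ← image_emb p K]
    exact Finset.mem_image.2 ⟨k, Finset.mem_univ _, rfl⟩
  rw [← Finset.prod_mul_prod_compl S, Finset.prod_congr rfl hterm, Finset.prod_mul_distrib, mul_assoc, mul_comm,
    mul_smul, ← Finset.prod_image (f := F'.t) (g := f) hf.injOn]
  refine F'.smul_mem _ (F'.anti ?_ (F'.prod_mem _ hy))
  rw [← hJ]
  intro j hj
  obtain ⟨k, -, rfl⟩ := Finset.mem_image.1 hj
  by_cases hk : f k ∈ (K : Finset (Fin n))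
  · exact Finset.mem_union_left _ hk
  · exact Finset.mem_union_right _ (Finset.mem_image_of_mem f (Finset.mem_filter.2 ⟨Finset.mem_univ _, hk⟩))

end Frame

theorem d_ιMulti_eq_zero (ι : KaehlerDifferential A B →ₗ[B] L) (ω : Fin n → L)
    (d : ∀ p : ℕ, ↥(⋀[B]^p L) →ₗ[A] ↥(⋀[B]^(p + 1) L))
    (hd : LogDiff.IsLogRule (KaehlerDifferential.D A B) ι ω d) (p : ℕ) (v : Fin p → Fin n) :
    d p (exteriorPower.ιMulti B p fun k => ω (v k)) = 0 := by
  have h := hd p 1 (fun k => ω (v k)) fun k => Or.inr ⟨v k, rfl⟩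
  rw [one_smul] at h
  rw [h, Derivation.map_one_eq_zero, map_zero]
  exact AlternatingMap.map_coord_zero _ 0 (by simp)

theorem nablas_mem_layer (lam : B) (t : Fin n → B) (bΩ : Module.Basis (Fin n) B (KaehlerDifferential A B))
    (hbΩ : ∀ i, bΩ i = KaehlerDifferential.D A B (t i))
    (ω : Module.Basis (Fin n) B L) (ι : KaehlerDifferential A B →ₗ[B] L)
    (hι : ∀ i, ι (KaehlerDifferential.D A B (t i)) = t i • ω i)
    (nabla : E →ₗ[A] E ⊗[B] L)
    (hc : Conn.IsLamConn (ι.compDer (KaehlerDifferential.D A B)) lam nabla)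
    (d : ∀ p : ℕ, ↥(⋀[B]^p L) →ₗ[A] ↥(⋀[B]^(p + 1) L))
    (hd : LogDiff.IsLogRule (KaehlerDifferential.D A B) ι (⇑ω) d)
    (nablas : ∀ p : ℕ, E ⊗[B] ↥(⋀[B]^p L) →ₗ[A] E ⊗[B] ↥(⋀[B]^(p + 1) L))
    (hint : Conn.IsIntegrable nabla (fun p => lam • d p) nablas)
    (p : ℕ) (x : E ⊗[B] ↥(⋀[B]^p L)) (hx : x ∈ LogConn.layer nabla ω t p) :
    nablas p x ∈ LogConn.layer nabla ω t (p + 1) :=
  Frame.nablas_mem ⟨t, bΩ, ω, hbΩ, hι, hc,
      comm_of_integrable nabla ω lam d nablas hint fun i => d_ιMulti_eq_zero ι ω d hd 1 fun _ => i⟩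
    d nablas hint.1 (d_ιMulti_eq_zero ι ω d hd) p x hx

theorem layer_eq (lam : B) (t : Fin n → B) (bΩ : Module.Basis (Fin n) B (KaehlerDifferential A B))
    (hbΩ : ∀ i, bΩ i = KaehlerDifferential.D A B (t i))
    (ω : Module.Basis (Fin n) B L) (ι : KaehlerDifferential A B →ₗ[B] L)
    (hι : ∀ i, ι (KaehlerDifferential.D A B (t i)) = t i • ω i)
    (nabla : E →ₗ[A] E ⊗[B] L)
    (hc : Conn.IsLamConn (ι.compDer (KaehlerDifferential.D A B)) lam nabla)
    (d : ∀ p : ℕ, ↥(⋀[B]^p L) →ₗ[A] ↥(⋀[B]^(p + 1) L))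
    (hd : LogDiff.IsLogRule (KaehlerDifferential.D A B) ι (⇑ω) d)
    (nablas : ∀ p : ℕ, E ⊗[B] ↥(⋀[B]^p L) →ₗ[A] E ⊗[B] ↥(⋀[B]^(p + 1) L))
    (hint : Conn.IsIntegrable nabla (fun p => lam • d p) nablas)
    (u : Fin n → Bˣ) (bΩ' : Module.Basis (Fin n) B (KaehlerDifferential A B))
    (hbΩ' : ∀ i, bΩ' i = KaehlerDifferential.D A B ((u i : B) * t i))
    (ω' : Module.Basis (Fin n) B L)
    (hω' : ∀ i, ω' i = ω i + ((u i)⁻¹ : Bˣ).val • ι (KaehlerDifferential.D A B (u i : B)))
    (p : ℕ) :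
    LogConn.layer nabla ω t p = LogConn.layer nabla ω' (fun i => (u i : B) * t i) p := by
  classical
  have hι' : ∀ i, ι (KaehlerDifferential.D A B ((u i : B) * t i)) = ((u i : B) * t i) • ω' i := fun i => by
    rw [Derivation.leibniz, map_add, map_smul, map_smul, hι, hω', smul_add, smul_smul, smul_smul]
    congr 1
    rw [mul_comm (u i : B), mul_assoc, Units.mul_inv, mul_one]
  have hd' : ∀ i, d 1 (exteriorPower.ιMulti B 1 fun _ => ω' i) = 0 := fun i => by
    have e1 : (exteriorPower.ιMulti B 1 fun _ => ω' i) = (exteriorPower.ιMulti B 1 fun _ => ω i) +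
        ((u i)⁻¹ : Bˣ).val • exteriorPower.ιMulti B 1 fun _ => ι (KaehlerDifferential.D A B (u i : B)) := by
      refine Subtype.ext ?_
      simp only [Submodule.coe_add, Submodule.coe_smul, exteriorPower.ιMulti_apply_coe, ExteriorAlgebra.ιMulti_succ_apply]
      simp [hω', map_add]
    rw [e1, map_add, d_ιMulti_eq_zero ι ω d hd 1 (fun _ => i), zero_add, hd 1 _ _ fun _ => Or.inl ⟨_, rfl⟩,
      Derivation.leibniz_of_mul_eq_one _ (Units.inv_mul (u i))]
    set z := ι (KaehlerDifferential.D A B (u i : B)) with hz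
    rw [map_smul, ← hz, show (Fin.cons ((-((u i)⁻¹ : Bˣ).val ^ 2) • z) fun _ : Fin 1 => z : Fin 2 → L) =
      Function.update (fun _ : Fin 2 => z) 0 ((-((u i)⁻¹ : Bˣ).val ^ 2) • z) from
      funext fun k => by refine Fin.cases ?_ (fun k => ?_) k <;> simp [Function.update],
      AlternatingMap.map_update_smul, Function.update_eq_self, AlternatingMap.map_eq_zero_of_eq _ (fun _ : Fin 2 => z) (i := 0) (j := 1) rfl
        (by decide), smul_zero]
  let F : Frame (n := n) lam ι nabla := ⟨t, bΩ, ω, hbΩ, hι, hc,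
    comm_of_integrable nabla ω lam d nablas hint fun i => d_ιMulti_eq_zero ι ω d hd 1 fun _ => i⟩
  let F' : Frame (n := n) lam ι nabla := ⟨fun i => (u i : B) * t i, bΩ', ω', hbΩ', hι', hc,
    comm_of_integrable nabla ω' lam d nablas hint hd'⟩
  have ha : ∀ i j, F.ω.coord i (F'.ω j) = (if i = j then 1 else 0) + F.t i * (((u j)⁻¹ : Bˣ).val * F.D i (u j : B)) := fun i j => by
    show F.ω.coord i (ω' j) = _
    rw [hω', map_add, map_smul, Frame.coord_ι, smul_eq_mul]
    show ω.coord i (ω j) + _ = _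
    rw [Module.Basis.coord_apply, Module.Basis.repr_self, Finsupp.single_apply, if_congr (eq_comm (a := j) (b := i)) rfl rfl]
    ring
  have ha' : ∀ i j, F'.ω.coord i (F.ω j) = (if i = j then 1 else 0) + F'.t i * (-(((u j)⁻¹ : Bˣ).val * F'.D i (u j : B))) := fun i j => by
    show F'.ω.coord i (ω j) = _
    rw [show ω j = ω' j - ((u j)⁻¹ : Bˣ).val • ι (KaehlerDifferential.D A B (u j : B)) by rw [hω', add_sub_cancel_right],
      map_sub, map_smul, Frame.coord_ι, smul_eq_mul]
    show ω'.coord i (ω' j) - _ = _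
    rw [Module.Basis.coord_apply, Module.Basis.repr_self, Finsupp.single_apply, if_congr (eq_comm (a := j) (b := i)) rfl rfl]
    ring
  apply le_antisymm
  · exact F.layer_le F' (fun i => ((u i)⁻¹ : Bˣ).val) (fun i => by
      show t i = _ * ((u i : B) * t i)
      rw [← mul_assoc, Units.inv_mul, one_mul]) _ _ ha ha' p
  · exact F'.layer_le F (fun i => (u i : B)) (fun i => rfl) _ _ ha' ha p

end Groth.L15.LogLayer
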