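import Groth.Agent.L15.BcAlong
import Mathlib.RingTheory.TensorProduct.Basic

/-!
Base change of universal normic pairs: the maps `p ⊗ x ↦ p ⊗ g x` over semiring test algebras.
-/

universe u

open scoped TensorProduct

namespace Groth.L15.BcAlong

section PushQ

variable {R : Type u} [CommRing R] {Q : Type u} [CommRing Q] [Algebra R Q]
  {X : Type u} [AddCommGroup X] [Module R X]
  {Y : Type u} [AddCommGroup Y] [Module R Y] [Module Q Y] [IsScalarTower R Q Y]

/-- `p ⊗ x ↦ p ⊗ g x` -/
noncomputable def pushQ (g : X →ₗ[R] Y) (P : Type u) [CommSemiring P] [Algebra R P] [Algebra Q P]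
    [IsScalarTower R Q P] : P ⊗[R] X →ₗ[R] P ⊗[Q] Y :=
  TensorProduct.lift
    (LinearMap.mk₂ R (fun p x => p ⊗ₜ[Q] g x) (fun p p' x => TensorProduct.add_tmul _ _ _)
      (fun r p x => TensorProduct.smul_tmul' r p (g x) |>.symm)
      (fun p x x' => by rw [map_add, TensorProduct.tmul_add])
      (fun r p x => by
        rw [map_smul, ← IsScalarTower.algebraMap_smul Q r (g x), TensorProduct.tmul_smul,
          IsScalarTower.algebraMap_smul]))

variable (g : X →ₗ[R] Y) (P : Type u) [CommSemiring P] [Algebra R P] [Algebra Q P]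
  [IsScalarTower R Q P]

@[simp] theorem pushQ_tmul (p : P) (x : X) : pushQ (Q := Q) g P (p ⊗ₜ x) = p ⊗ₜ[Q] g x := rfl

theorem pushQ_smul (p : P) (z : P ⊗[R] X) : pushQ (Q := Q) g P (p • z) = p • pushQ (Q := Q) g P z := by
  induction z using TensorProduct.induction_on with
  | zero => simp
  | tmul q x => simp [TensorProduct.smul_tmul']
  | add a b ha hb => simp only [smul_add, map_add, ha, hb]

theorem pushQ_natural (P' : Type u) [CommSemiring P'] [Algebra R P'] [Algebra Q P']
    [IsScalarTower R Q P'] (χ : P →ₐ[Q] P') (ψ : P →ₐ[R] P') (h : ∀ p, ψ p = χ p) (z : P ⊗[R] X) :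
    χ.toLinearMap.rTensor Y (pushQ (Q := Q) g P z) =
      pushQ (Q := Q) g P' (ψ.toLinearMap.rTensor X z) := by
  induction z using TensorProduct.induction_on with
  | zero => simp
  | tmul q x => simp [h]
  | add a b ha hb => simp only [map_add, ha, hb]

theorem pushQ_lTensor {X' : Type u} [AddCommGroup X'] [Module R X'] (h : X' →ₗ[R] X)
    (z : P ⊗[R] X') : pushQ (Q := Q) g P (h.lTensor P z) = pushQ (Q := Q) (g ∘ₗ h) P z := by
  induction z using TensorProduct.induction_on with
  | zero => simp
  | tmul q x => simp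
  | add a b ha hb => simp only [map_add, ha, hb]

theorem lTensor_pushQ {Y' : Type u} [AddCommGroup Y'] [Module R Y'] [Module Q Y']
    [IsScalarTower R Q Y'] (h : Y →ₗ[Q] Y') (z : P ⊗[R] X) :
    h.lTensor P (pushQ (Q := Q) g P z) = pushQ (Q := Q) (h.restrictScalars R ∘ₗ g) P z := by
  induction z using TensorProduct.induction_on with
  | zero => simp
  | tmul q x => simp
  | add a b ha hb => simp only [map_add, ha, hb]

end PushQ

section Ring

variable {R : Type u} [CommRing R] {Q : Type u} [CommRing Q] [Algebra R Q]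
  {X : Type u} [AddCommGroup X] [Module R X]
  {Y : Type u} [AddCommGroup Y] [Module R Y] [Module Q Y] [IsScalarTower R Q Y]

theorem bcAlong_eq_pushQ (g : X →ₗ[R] Y) (P : Type u) [CommRing P] [Algebra R P] [Algebra Q P]
    [IsScalarTower R Q P] (z : P ⊗[R] X) :
    PolLaw.bcAlong (Q := Q) g P z = pushQ (Q := Q) g P z := by
  induction z using TensorProduct.induction_on with
  | zero => simp
  | tmul q x => simp [bcAlong_tmul]
  | add a b ha hb => simp only [map_add, ha, hb]

theorem pushQ_bijective (g : X →ₗ[R] Y) (hg : IsBaseChange Q g) (P : Type u) [iP : CommSemiring P]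
    [Algebra R P] [Algebra Q P] [IsScalarTower R Q P] :
    Function.Bijective (pushQ (Q := Q) g P) := by
  letI : CommRing P := { Algebra.semiringToRing R, iP with }
  have h : (fun z => pushQ (Q := Q) g P z) = fun z => PolLaw.bcAlong (Q := Q) g P z :=
    funext fun z => (bcAlong_eq_pushQ g P z).symm
  change Function.Bijective (fun z => pushQ (Q := Q) g P z)
  rw [h]
  exact bcAlong_bijective g P hg

end Ring

section Canon

variable (R Q : Type u) [CommRing R] [CommRing Q] [Algebra R Q] (S : Type u) [CommSemiring S]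
  [Algebra R S]

attribute [local instance] Algebra.TensorProduct.rightAlgebra

/-- `Q`-linear extension of a map of test algebras -/
noncomputable def mapQ {S' : Type u} [CommSemiring S'] [Algebra R S'] (φ : S →ₐ[R] S') :
    S ⊗[R] Q →ₐ[Q] S' ⊗[R] Q :=
  { Algebra.TensorProduct.map φ (AlgHom.id R Q) with
    commutes' := fun q => by
      show Algebra.TensorProduct.map φ (AlgHom.id R Q) ((1 : S) ⊗ₜ[R] q) = (1 : S') ⊗ₜ[R] q
      simp }

theorem mapQ_apply {S' : Type u} [CommSemiring S'] [Algebra R S'] (φ : S →ₐ[R] S') (z : S ⊗[R] Q) :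
    mapQ R Q S φ z = Algebra.TensorProduct.map φ (AlgHom.id R Q) z := rfl

variable (Y : Type u) [AddCommGroup Y] [Module R Y] [Module Q Y] [IsScalarTower R Q Y]

/-- `s ⊗ y ↦ (s ⊗ 1) ⊗ y` -/
noncomputable def canQ : S ⊗[R] Y →ₗ[R] (S ⊗[R] Q) ⊗[Q] Y :=
  pushQ (LinearMap.id : Y →ₗ[R] Y) (S ⊗[R] Q) ∘ₗ
    (Algebra.TensorProduct.includeLeft : S →ₐ[R] S ⊗[R] Q).toLinearMap.rTensor Y

@[simp] theorem canQ_tmul (s : S) (y : Y) : canQ R Q S Y (s ⊗ₜ y) = (s ⊗ₜ[R] (1 : Q)) ⊗ₜ[Q] y := rfl

theorem canQ_bijective : Function.Bijective (canQ R Q S Y) := by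
  let Fy : Y → (S ⊗[R] Q →ₗ[R] S ⊗[R] Y) :=
    fun y => ((LinearMap.toSpanSingleton Q Y y).restrictScalars R).lTensor S
  have hadd : ∀ (p : S ⊗[R] Q) (y y' : Y), Fy (y + y') p = Fy y p + Fy y' p := by
    intro p y y'
    induction p using TensorProduct.induction_on with
    | zero => simp
    | tmul s q => simp [Fy, smul_add, TensorProduct.tmul_add]
    | add a b ha hb => simp only [map_add, ha, hb]; exact add_add_add_comm _ _ _ _
  have hzero : ∀ p : S ⊗[R] Q, Fy 0 p = 0 := by
    intro p
    induction p using TensorProduct.induction_on with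
    | zero => simp
    | tmul s q => simp [Fy]
    | add a b ha hb => simp only [map_add, ha, hb, add_zero]
  let F : S ⊗[R] Q →+ Y →+ S ⊗[R] Y :=
    { toFun := fun p => { toFun := fun y => Fy y p, map_zero' := hzero p, map_add' := hadd p }
      map_zero' := DFunLike.ext _ _ fun y => map_zero (Fy y)
      map_add' := fun p p' => DFunLike.ext _ _ fun y => map_add (Fy y) p p' }
  have hF : ∀ (q : Q) (p : S ⊗[R] Q) (y : Y), F (q • p) y = F p (q • y) := by
    intro q p y
    induction p using TensorProduct.induction_on with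
    | zero => simp
    | tmul s q' =>
      have : q • (s ⊗ₜ[R] q') = s ⊗ₜ[R] (q * q') := by
        rw [Algebra.smul_def]
        show ((1 : S) ⊗ₜ[R] q) * (s ⊗ₜ[R] q') = _
        simp
      rw [this]
      show s ⊗ₜ[R] ((q * q') • y) = s ⊗ₜ[R] (q' • q • y)
      rw [smul_smul, mul_comm]
    | add a b ha hb => simp only [smul_add, map_add, AddMonoidHom.add_apply, ha, hb]
  let G := TensorProduct.liftAddHom F hF
  refine Function.bijective_iff_has_inverse.mpr ⟨G, fun z => ?_, fun w => ?_⟩
  · induction z using TensorProduct.induction_on with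
    | zero => simp
    | tmul s y => simp [G, F, Fy]
    | add a b ha hb => simp only [map_add, ha, hb]
  · induction w using TensorProduct.induction_on with
    | zero => simp
    | tmul p y =>
      induction p using TensorProduct.induction_on with
      | zero => simp
      | tmul s q =>
        simp [G, F, Fy]
        rw [TensorProduct.smul_tmul']
        congr 1
        rw [Algebra.smul_def]
        show ((1 : S) ⊗ₜ[R] q) * (s ⊗ₜ[R] (1 : Q)) = _
        simp
      | add a b ha hb => rw [TensorProduct.add_tmul, map_add, map_add, ha, hb]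
    | add a b ha hb => simp only [map_add, ha, hb]

end Canon

section Normic

variable {R R' : Type u} [CommRing R] [CommRing R'] [Algebra R R']
  {M' N E : Type u} [AddCommGroup M'] [Module R M'] [Module R' M'] [IsScalarTower R R' M']
  [AddCommGroup N] [Module R N] [AddCommGroup E] [Module R E]

theorem isNormic_postcomp {ν : M' →ₚₗ[R] N} (hν : PolLaw.IsNormic R' ν) (g : N →ₗ[R] E) :
    PolLaw.IsNormic R' (PolLaw.postcomp g ν) := by
  intro P _ _ x m
  show g.lTensor P (ν.toFun' P _) = Algebra.norm P x • g.lTensor P (ν.toFun' P m)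
  rw [hν P x m]
  generalize ν.toFun' P m = z
  induction z using TensorProduct.induction_on with
  | zero => simp
  | tmul q y => simp [TensorProduct.smul_tmul']
  | add a b ha hb => simp only [smul_add, map_add, ha, hb]

end Normic

end Groth.L15.BcAlong
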