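import Mathlib.Algebra.Category.ModuleCat.Presheaf.Abelian
import Mathlib.Algebra.Category.ModuleCat.Presheaf.EpiMono
import Mathlib.Algebra.Category.ModuleCat.EnoughInjectives
import Mathlib.Algebra.Category.ModuleCat.Injective
import Mathlib.Algebra.Category.ModuleCat.Presheaf.Limits
import Mathlib.Algebra.Module.Pi
import Mathlib.CategoryTheory.Preadditive.Injective.Basic

/-! Presheaves of modules on a category of size the value universe have enough injectives. -/

set_option autoImplicit false

universe u v w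

open CategoryTheory Opposite

noncomputable section

namespace Groth.L15.PModInj

variable {C : Type (u + 1)} [Category.{u} C] {R : Cᵒᵖ ⥤ RingCat.{u}}

variable (E : ∀ X : Cᵒᵖ, ModuleCat.{u + 1} (R.obj X))

/-- The fibre at `Y`. -/
abbrev Fam (Y : Cᵒᵖ) : Type (u + 1) := ∀ p : Σ X : Cᵒᵖ, (Y ⟶ X), (ModuleCat.restrictScalars (R.map p.2).hom).obj (E p.1)

theorem smul_eq (Y : Cᵒᵖ) (r : R.obj Y) (a : Fam E Y) (p : Σ X : Cᵒᵖ, (Y ⟶ X)) :
    (r • a) p = (R.map p.2 r • (show E p.1 from a p) : E p.1) := rfl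

/-- The coinduced presheaf. -/
def coindAb : Cᵒᵖ ⥤ AddCommGrpCat.{u + 1} where
  obj Y := AddCommGrpCat.of (Fam E Y)
  map {Y Y'} f := AddCommGrpCat.ofHom
    (AddMonoidHom.mk' (fun a p => (show E p.1 from a ⟨p.1, f ≫ p.2⟩)) fun _ _ => rfl)
  map_id Y := by
    refine AddCommGrpCat.hom_ext (AddMonoidHom.ext fun a => funext fun p => ?_)
    obtain ⟨X, g⟩ := p
    show (show E X from a ⟨X, 𝟙 Y ≫ g⟩) = (show E X from a ⟨X, g⟩)
    rw [Category.id_comp]
  map_comp f f' := by
    refine AddCommGrpCat.hom_ext (AddMonoidHom.ext fun a => funext fun p => ?_)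
    obtain ⟨X, g⟩ := p
    show (show E X from a ⟨X, (f ≫ f') ≫ g⟩) = (show E X from a ⟨X, f ≫ f' ≫ g⟩)
    rw [Category.assoc]

instance coindModule (Y : Cᵒᵖ) : Module (R.obj Y) ((coindAb E).obj Y) :=
  inferInstanceAs (Module (R.obj Y) (Fam E Y))

/-- The coinduced presheaf of modules. -/
def coind : PresheafOfModules.{u + 1} R :=
  PresheafOfModules.ofPresheaf (coindAb E) fun Y Y' f r a => funext fun p => by
    show (R.map (f ≫ p.2) r • (show E p.1 from a ⟨p.1, f ≫ p.2⟩) : E p.1) =
      R.map p.2 (R.map f r) • (show E p.1 from a ⟨p.1, f ≫ p.2⟩)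
    rw [R.map_comp, RingCat.comp_apply]

variable {E} {M : PresheafOfModules.{u + 1} R}

/-- The map into the coinduced presheaf. -/
def toCoind (φ : ∀ X, M.obj X ⟶ E X) : M ⟶ coind E :=
  PresheafOfModules.homMk
    { app := fun Y => AddCommGrpCat.ofHom (AddMonoidHom.mk'
        (fun (m : M.obj Y) (p : Σ X : Cᵒᵖ, (Y ⟶ X)) => (φ p.1 (M.map p.2 m) : E p.1))
        fun a b => funext fun p => by
          show φ p.1 (M.map p.2 (a + b)) = φ p.1 (M.map p.2 a) + φ p.1 (M.map p.2 b)
          rw [map_add]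
          exact map_add (φ p.1).hom _ _)
      naturality := fun Y Y' f => by
        ext (m : M.obj Y)
        funext p
        show φ p.1 (M.map p.2 (M.map f m)) = φ p.1 (M.map (f ≫ p.2) m)
        rw [PresheafOfModules.map_comp_apply] }
    fun Y r m => funext fun p => by
      show φ p.1 (M.map p.2 (r • m)) = R.map p.2 r • φ p.1 (M.map p.2 m)
      rw [PresheafOfModules.map_smul]
      exact map_smul (φ p.1).hom _ _

theorem toCoind_app (φ : ∀ X, M.obj X ⟶ E X) (Y : Cᵒᵖ) (m : M.obj Y) (p : Σ X : Cᵒᵖ, (Y ⟶ X)) :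
    (show E p.1 from (show Fam E Y from (toCoind φ).app Y m) p) = φ p.1 (M.map p.2 m) := rfl

/-- The components of a map into the coinduced presheaf. -/
def compAt (g : M ⟶ coind E) (X : Cᵒᵖ) : M.obj X ⟶ E X :=
  ModuleCat.ofHom
    { toFun := fun m => (show E X from (show Fam E X from g.app X m) ⟨X, 𝟙 X⟩)
      map_add' := fun a b => by
        rw [map_add]
        rfl
      map_smul' := fun r m => by
        rw [map_smul]
        show (R.map (𝟙 X) r • (show E X from (show Fam E X from g.app X m) ⟨X, 𝟙 X⟩) : E X) = _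
        rw [R.map_id]
        rfl }

theorem toCoind_compAt (g : M ⟶ coind E) : toCoind (compAt g) = g := by
  refine PresheafOfModules.hom_ext fun Y => ModuleCat.hom_ext (LinearMap.ext fun m => funext fun p => ?_)
  obtain ⟨X, f⟩ := p
  show (show E X from (show Fam E X from g.app X (M.map f m)) ⟨X, 𝟙 X⟩) = _
  rw [PresheafOfModules.naturality_apply]
  show (show E X from (show Fam E Y from g.app Y m) ⟨X, f ≫ 𝟙 X⟩) = _
  rw [Category.comp_id]

theorem injective_coind (hE : ∀ X, Injective (E X)) : Injective (coind E) := ⟨by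
  intro A B g i _
  have hi : ∀ X, Mono (i.app X) := fun X =>
    (ModuleCat.mono_iff_injective _).2 (PresheafOfModules.injective_of_mono i X)
  let ψ : ∀ X, B.obj X ⟶ E X := fun X =>
    haveI := hE X
    haveI := hi X
    Injective.factorThru (compAt g X) (i.app X)
  refine ⟨toCoind ψ, ?_⟩
  conv_rhs => rw [← toCoind_compAt g]
  refine PresheafOfModules.hom_ext fun Y => ModuleCat.hom_ext (LinearMap.ext fun m => funext fun p => ?_)
  show ψ p.1 (B.map p.2 (i.app Y m)) = compAt g p.1 (A.map p.2 m)
  rw [← PresheafOfModules.naturality_apply]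
  haveI := hE p.1
  haveI := hi p.1
  exact congr($(Injective.comp_factorThru (compAt g p.1) (i.app p.1)) (A.map p.2 m))⟩

theorem enoughInjectives : EnoughInjectives (PresheafOfModules.{u + 1} R) := ⟨fun M => by
  let E : ∀ X, ModuleCat.{u + 1} (R.obj X) := fun X => Injective.under (M.obj X)
  let φ : ∀ X, M.obj X ⟶ E X := fun X => Injective.ι _
  refine ⟨{ J := coind E
            injective := injective_coind fun X => inferInstanceAs (Injective (Injective.under (M.obj X)))
            f := toCoind φ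
            mono := ?_ }⟩
  refine ⟨fun {N} a b hab => PresheafOfModules.hom_ext fun Y => ModuleCat.hom_ext (LinearMap.ext fun n => ?_)⟩
  have h := congrArg (fun (f : N ⟶ coind E) => (show E Y from (show Fam E Y from f.app Y n) ⟨Y, 𝟙 Y⟩)) hab
  have hh : φ Y (M.map (𝟙 Y) (a.app Y n)) = φ Y (M.map (𝟙 Y) (b.app Y n)) := h
  have := (ModuleCat.mono_iff_injective (φ Y)).1 inferInstance hh
  simpa using this⟩

end Groth.L15.PModInj
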