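import Groth.Prelude.Def_W4c2quivmodsheafKron
import Mathlib.LinearAlgebra.Matrix.ToLinearEquiv
import Mathlib.LinearAlgebra.Matrix.ToLin
import Mathlib.LinearAlgebra.Dimension.Free
import Mathlib.LinearAlgebra.FiniteDimensional.Lemmas
import Mathlib.Algebra.Polynomial.Roots
import Mathlib.FieldTheory.IsAlgClosed.Basic
import Mathlib.LinearAlgebra.Determinant

/-!
A semistable pencil of square matrices has an invertible member.
-/

set_option autoImplicit false

noncomputable section

universe u v w

open Polynomial

namespace Groth.L15.Pencil

theorem exists_bijective {K : Type u} [Field K] [Infinite K] {V : Type v} {W : Type w}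
    [AddCommGroup V] [Module K V] [FiniteDimensional K V]
    [AddCommGroup W] [Module K W] [FiniteDimensional K W]
    (f : Fin 2 → (V →ₗ[K] W)) {k : ℕ} (hV : Module.finrank K V = k) (hW : Module.finrank K W = k)
    (hf : KronMod.IsSemistable f) :
    ∃ z : Fin 2 → K, Function.Bijective ((∑ j, z j • f j : V →ₗ[K] W) : V → W) := by
  classical
  let bV := Module.finBasisOfFinrankEq K V hV
  let bW := Module.finBasisOfFinrankEq K W hW
  set A := LinearMap.toMatrix bV bW (f 0) with hA
  set B := LinearMap.toMatrix bV bW (f 1) with hB
  let M : Matrix (Fin k) (Fin k) K[X] := A.map C + (X : K[X]) • B.map C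
  by_cases hdet : M.det = 0
  swap
  · obtain ⟨t, ht⟩ : ∃ t, M.det.eval t ≠ 0 := by
      by_contra hc
      simp only [not_exists, not_not] at hc
      exact hdet (Polynomial.funext fun t => by simp [hc t])
    refine ⟨![1, t], ?_⟩
    have hz : (∑ j, (![1, t] : Fin 2 → K) j • f j : V →ₗ[K] W) = f 0 + t • f 1 := by
      simp [Fin.sum_univ_two]
    rw [hz]
    have hdt : (LinearMap.toMatrix bV bW (f 0 + t • f 1)).det = M.det.eval t := by
      rw [map_add, map_smul, ← hA, ← hB, ← Polynomial.coe_evalRingHom, RingHom.map_det]
      congr 1
      ext i j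
      simp [M, mul_comm t]
    exact (LinearEquiv.ofIsUnitDet (f := f 0 + t • f 1) (v := bV) (v' := bW) (isUnit_iff_ne_zero.2 (hdt ▸ ht))).bijective
  · exfalso
    obtain ⟨v, hv0, hv⟩ := Matrix.exists_mulVec_eq_zero_iff.2 hdet
    let c : ℕ → V := fun i => bV.equivFun.symm fun j => (v j).coeff i
    have hco : ∀ i (r : Fin k), (A.mulVec fun j => (v j).coeff (i + 1)) r + (B.mulVec fun j => (v j).coeff i) r = 0 ∧
        (A.mulVec fun j => (v j).coeff 0) r = 0 := by
      intro i r
      have h := congrFun hv r
      simp only [M, Matrix.mulVec, dotProduct, Matrix.add_apply, Matrix.smul_apply, Matrix.map_apply, smul_eq_mul,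
        Pi.zero_apply] at h
      constructor
      · have h1 := congrArg (fun q => q.coeff (i + 1)) h
        simpa [Matrix.mulVec, dotProduct, add_mul, mul_assoc, finsetSum_coeff, Finset.sum_add_distrib] using h1
      · have h1 := congrArg (fun q => q.coeff 0) h
        simpa [Matrix.mulVec, dotProduct, add_mul, mul_assoc, finsetSum_coeff, Finset.sum_add_distrib] using h1
    have happ : ∀ (g : V →ₗ[K] W) (x : Fin k → K),
        bW.equivFun (g (bV.equivFun.symm x)) = (LinearMap.toMatrix bV bW g).mulVec x := by
      intro g x
      have h := LinearMap.toMatrix_mulVec_repr bV bW g (bV.equivFun.symm x)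
      rw [← Module.Basis.equivFun_apply bV, LinearEquiv.apply_symm_apply] at h
      rw [h]
      rfl
    have h0 : f 0 (c 0) = 0 := bW.equivFun.injective (by
      rw [map_zero, happ, ← hA]; exact funext fun r => (hco 0 r).2)
    have hstep : ∀ i, f 0 (c (i + 1)) + f 1 (c i) = 0 := fun i => bW.equivFun.injective (by
      rw [map_zero, map_add, happ, happ, ← hA, ← hB]; exact funext fun r => (hco i r).1)
    let V' : Submodule K V := Submodule.span K (Set.range c)
    let W' : Submodule K W := V'.map (f 0)
    have hsub : KronMod.IsSubrep f V' W' := by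
      intro j
      fin_cases j
      · exact le_rfl
      · rw [Submodule.map_span_le]
        rintro _ ⟨i, rfl⟩
        refine Submodule.mem_map.2 ⟨-c (i + 1), Submodule.neg_mem _ (Submodule.subset_span ⟨_, rfl⟩), ?_⟩
        rw [map_neg, neg_eq_iff_add_eq_zero]
        exact hstep i
    have hex : ∃ i, c i ≠ 0 := by
      by_contra hc
      simp only [not_exists, not_not] at hc
      exact hv0 (funext fun j => Polynomial.ext fun i => by
        have h := congrArg bV.equivFun (hc i)
        simp only [c, LinearEquiv.apply_symm_apply, map_zero] at h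
        simpa using congrFun h j)
    have hker : f 0 (c (Nat.find hex)) = 0 := by
      rcases hn : Nat.find hex with _ | n
      · exact h0
      · have hcn : c n = 0 := by
          by_contra hc
          have := Nat.find_min' hex hc
          omega
        simpa [hcn] using hstep n
    have hlt : Module.finrank K W' < Module.finrank K V' := by
      have h1 := ((f 0).domRestrict V').finrank_range_add_finrank_ker
      rw [LinearMap.range_domRestrict] at h1
      have h2 : 0 < Module.finrank K (LinearMap.ker ((f 0).domRestrict V')) := by
        rw [Module.finrank_pos_iff_exists_ne_zero]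
        exact ⟨⟨⟨_, Submodule.subset_span ⟨Nat.find hex, rfl⟩⟩, hker⟩,
          fun hc => Nat.find_spec hex (congrArg (fun z => ((z.1 : V') : V)) hc)⟩
      show Module.finrank K (V'.map (f 0)) < _
      omega
    have hV'k : Module.finrank K V' ≤ k := hV ▸ Submodule.finrank_le V'
    have h := hf.2 V' W' hsub
      (fun hc => by rw [hc.1, finrank_bot] at hlt; omega)
      (fun hc => by rw [hc.2, finrank_top, hW] at hlt; omega)
    rw [hV, hW] at h
    have := Nat.le_of_mul_le_mul_left h (by omega)
    omega

end Groth.L15.Pencil
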