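import Groth.Prelude.Def_W4c5modbuncurvesppStab
import Mathlib.Data.Real.Archimedean
import Mathlib.Algebra.Order.Round
import Mathlib.Algebra.BigOperators.Ring.Finset
import Mathlib.Algebra.BigOperators.Field
import Mathlib.Algebra.Order.BigOperators.Group.Finset
import Mathlib.Tactic.Linarith
import Mathlib.Tactic.Ring
import Mathlib.Tactic.LinearCombination

/-!
Stability of sheaf data on dual graphs: elementary sets, and stable data on spanning trees.
-/

set_option autoImplicit false

noncomputable section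

universe u

open PhiStab LabGraph Finset

namespace Groth.L15.PhiStab

variable {V E : Type u} [Fintype V] [Fintype E] [DecidableEq V] [DecidableEq E] {ends : E → V × V}

/-- Contribution of an edge to the excess on `X`. -/
def wt (N : Finset E) (ends : E → V × V) (X : Finset V) (e : E) : ℝ :=
  (if e ∈ N then (if (ends e).1 ∈ X ∧ (ends e).2 ∈ X then 1 else 0) else 0) +
    (if ((ends e).1 ∈ X ∧ (ends e).2 ∉ X) ∨ ((ends e).1 ∉ X ∧ (ends e).2 ∈ X) then 1 else 0) / 2

/-- Excess of a datum on a vertex set. -/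
def exc (ends : E → V × V) (φ : V → ℝ) (m : V → ℤ) (N : Finset E) (X : Finset V) : ℝ :=
  (degOn ends m N X : ℝ) - (∑ v ∈ X, φ v) + (cut ends X : ℝ) / 2

theorem exc_eq (φ : V → ℝ) (m : V → ℤ) (N : Finset E) (X : Finset V) :
    exc ends φ m N X = (∑ v ∈ X, ((m v : ℝ) - φ v)) + ∑ e, wt N ends X e := by
  classical
  simp only [exc, degOn, cut, wt, Finset.sum_add_distrib, ← Finset.sum_div, Finset.sum_boole,
    ← Finset.sum_filter, Int.cast_add, Int.cast_sum, Int.cast_natCast, Finset.sum_sub_distrib]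
  have : N ∩ inner ends X = Finset.univ.filter (fun e => e ∈ N ∧ ((ends e).1 ∈ X ∧ (ends e).2 ∈ X)) := by
    ext e; simp [PhiStab.inner]
  rw [this, Finset.filter_filter]
  ring

theorem exc_union (φ : V → ℝ) (m : V → ℤ) (N : Finset E) {Y Z : Finset V} (hd : Disjoint Y Z)
    (hsep : ∀ e, ¬ (((ends e).1 ∈ Y ∧ (ends e).2 ∈ Z) ∨ ((ends e).1 ∈ Z ∧ (ends e).2 ∈ Y))) :
    exc ends φ m N (Y ∪ Z) = exc ends φ m N Y + exc ends φ m N Z := by
  classical
  rw [exc_eq, exc_eq, exc_eq, Finset.sum_union hd]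
  have hw : ∀ e, wt N ends (Y ∪ Z) e = wt N ends Y e + wt N ends Z e := fun e => by
    have h := hsep e
    have hd' := Finset.disjoint_left.1 hd
    have h1 := @hd' (ends e).1
    have h2 := @hd' (ends e).2
    by_cases a1 : (ends e).1 ∈ Y <;> by_cases a2 : (ends e).1 ∈ Z <;> by_cases b1 : (ends e).2 ∈ Y <;>
      by_cases b2 : (ends e).2 ∈ Z <;> simp_all [wt] <;> split_ifs <;> norm_num
  simp only [hw, Finset.sum_add_distrib]
  ring

theorem exc_add_compl (φ : V → ℝ) (m : V → ℤ) (N : Finset E) (hdeg : (∑ v, φ v) = (totDeg m N : ℝ)) (X : Finset V) :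
    exc ends φ m N X + exc ends φ m N Xᶜ =
      ∑ e, (if e ∉ N then (if ((ends e).1 ∈ X ∧ (ends e).2 ∉ X) ∨ ((ends e).1 ∉ X ∧ (ends e).2 ∈ X) then (1 : ℝ) else 0) else 0) := by
  classical
  have hs : (∑ v ∈ X, ((m v : ℝ) - φ v)) + (∑ v ∈ Xᶜ, ((m v : ℝ) - φ v)) + ∑ e, (if e ∈ N then (1 : ℝ) else 0) = 0 := by
    rw [Finset.sum_add_sum_compl, Finset.sum_sub_distrib, hdeg, totDeg]
    simp [Finset.sum_boole]
  rw [exc_eq, exc_eq]
  have hw : ∀ e, wt N ends X e + wt N ends Xᶜ e - (if e ∈ N then (1 : ℝ) else 0) =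
      if e ∉ N then (if ((ends e).1 ∈ X ∧ (ends e).2 ∉ X) ∨ ((ends e).1 ∉ X ∧ (ends e).2 ∈ X) then (1 : ℝ) else 0) else 0 := fun e => by
    by_cases a : (ends e).1 ∈ X <;> by_cases b : (ends e).2 ∈ X <;> by_cases c : e ∈ N <;>
      simp [wt, a, b, c] <;> norm_num
  rw [← Finset.sum_congr rfl fun e _ => hw e]
  simp only [Finset.sum_sub_distrib, Finset.sum_add_distrib] at hs ⊢
  linear_combination hs

/-- Every proper nonempty part of `X` is joined to the rest of `X` by an edge. -/
def SetConn (ends : E → V × V) (X : Finset V) : Prop :=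
  ∀ B : Finset V, B ⊆ X → B.Nonempty → B ≠ X →
    ∃ e, ((ends e).1 ∈ B ∧ (ends e).2 ∈ X \ B) ∨ ((ends e).1 ∈ X \ B ∧ (ends e).2 ∈ B)

omit [DecidableEq E] in
theorem setConn_univ (hconn : Connected ends) : SetConn ends Finset.univ := by
  intro B _ hne hB
  by_contra hc
  simp only [not_exists, Finset.mem_sdiff, Finset.mem_univ, true_and] at hc
  obtain ⟨b, hb⟩ := hne
  refine hB (Finset.eq_univ_of_forall fun v => ?_)
  induction hconn.2 b v with
  | refl => exact hb
  | @tail c d _ hcd ih =>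
    obtain ⟨e, he⟩ := hcd
    by_contra hd
    rcases he with he | he
    · exact hc e (Or.inl (by rw [he]; exact ⟨ih, hd⟩))
    · exact hc e (Or.inr (by rw [he]; exact ⟨hd, ih⟩))

theorem setConn_of_connected {X : Finset V} (h : Connected (indEnds ends X)) : SetConn ends X ∧ X.Nonempty := by
  obtain ⟨⟨x⟩, hall⟩ := h
  refine ⟨fun B hBX hne hB => ?_, x, x.2⟩
  by_contra hc
  simp only [not_exists] at hc
  obtain ⟨b, hb⟩ := hne
  refine hB (Finset.Subset.antisymm hBX fun v hv => ?_)
  suffices ∀ w : {v // v ∈ X}, Relation.ReflTransGen (Adj (indEnds ends X)) ⟨b, hBX hb⟩ w → (w : V) ∈ B from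
    this ⟨v, hv⟩ (hall _ _)
  intro w hw
  induction hw with
  | refl => exact hb
  | @tail c d _ hcd ih =>
    obtain ⟨e, he⟩ := hcd
    by_contra hd
    rcases he with he | he
    · have h1 : (ends e.1).1 = c := congrArg (fun q => (q.1 : V)) he
      have h2 : (ends e.1).2 = d := congrArg (fun q => (q.2 : V)) he
      exact hc e.1 (Or.inl ⟨h1 ▸ ih, Finset.mem_sdiff.2 ⟨h2 ▸ d.2, h2 ▸ hd⟩⟩)
    · have h1 : (ends e.1).1 = d := congrArg (fun q => (q.1 : V)) he
      have h2 : (ends e.1).2 = c := congrArg (fun q => (q.2 : V)) he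
      exact hc e.1 (Or.inr ⟨Finset.mem_sdiff.2 ⟨h1 ▸ d.2, h1 ▸ hd⟩, h2 ▸ ih⟩)

theorem connected_of_setConn {X : Finset V} (h : SetConn ends X) (hne : X.Nonempty) :
    Connected (indEnds ends X) := by
  classical
  refine ⟨⟨⟨hne.choose, hne.choose_spec⟩⟩, fun v w => ?_⟩
  by_contra hvw
  let B := X.filter (fun x => ∃ hx : x ∈ X, Relation.ReflTransGen (Adj (indEnds ends X)) v ⟨x, hx⟩)
  obtain ⟨e, he⟩ := h B (Finset.filter_subset _ _) ⟨v, Finset.mem_filter.2 ⟨v.2, v.2, .refl⟩⟩ fun hB => by
    have : (w : V) ∈ B := by rw [hB]; exact w.2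
    obtain ⟨_, hx⟩ := (Finset.mem_filter.1 this).2
    exact hvw hx
  have step : ∀ a c, (ends e = (a, c) ∨ ends e = (c, a)) → a ∈ B → c ∈ X → c ∈ B := by
    intro a c hac ha hc
    obtain ⟨hax, hpath⟩ := (Finset.mem_filter.1 ha).2
    refine Finset.mem_filter.2 ⟨hc, hc, hpath.tail ?_⟩
    have hin : e ∈ PhiStab.inner ends X := by
      rcases hac with h | h <;> simp [PhiStab.inner, h, hax, hc]
    refine ⟨⟨e, hin⟩, ?_⟩
    rcases hac with h | h
    · exact Or.inl (Prod.ext (Subtype.ext (congrArg Prod.fst h)) (Subtype.ext (congrArg Prod.snd h)))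
    · exact Or.inr (Prod.ext (Subtype.ext (congrArg Prod.fst h)) (Subtype.ext (congrArg Prod.snd h)))
  rcases he with ⟨h1, h2⟩ | ⟨h1, h2⟩
  · exact (Finset.mem_sdiff.1 h2).2 (step _ _ (Or.inl rfl) h1 (Finset.mem_sdiff.1 h2).1)
  · exact (Finset.mem_sdiff.1 h1).2 (step _ _ (Or.inr rfl) h2 (Finset.mem_sdiff.1 h1).1)

/-- A vertex set which is not connected splits into two parts with no edge between them. -/
theorem exists_split {X : Finset V} (hne : X.Nonempty) (h : ¬ Connected (indEnds ends X)) :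
    ∃ Y Z : Finset V, Y ∪ Z = X ∧ Disjoint Y Z ∧ Y.Nonempty ∧ Z.Nonempty ∧
      ∀ e, ¬ (((ends e).1 ∈ Y ∧ (ends e).2 ∈ Z) ∨ ((ends e).1 ∈ Z ∧ (ends e).2 ∈ Y)) := by
  have h' : ¬ SetConn ends X := fun hc => h (connected_of_setConn hc hne)
  simp only [SetConn, not_forall, exists_prop] at h'
  obtain ⟨B, hB, hBne, hBX, hno⟩ := h'
  refine ⟨B, X \ B, Finset.union_sdiff_of_subset hB, Finset.disjoint_sdiff, hBne, ?_, fun e he => hno ⟨e, he⟩⟩
  rw [Finset.sdiff_nonempty]
  exact fun hle => hBX (Finset.Subset.antisymm hB hle)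

theorem exc_mem_of_elementary (hconn : Connected ends) (φ : V → ℝ) (m : V → ℤ) (N : Finset E)
    (hdeg : (∑ v, φ v) = (totDeg m N : ℝ)) (P : ℝ → Prop) (hP : ∀ a b, P a → P b → P (a + b))
    (hel : ∀ X, IsElementary ends X → P (exc ends φ m N X)) :
    ∀ X : Finset V, X.Nonempty → X ≠ Finset.univ → P (exc ends φ m N X) := by
  classical
  have step1 : ∀ k, ∀ X : Finset V, Xᶜ.card = k → Connected (indEnds ends X) → X ≠ Finset.univ →
      P (exc ends φ m N X) := by
    intro k
    induction k using Nat.strong_induction_on with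
    | _ k ih =>
      intro X hk hX hXu
      by_cases hc : Connected (indEnds ends Xᶜ)
      · exact hel X ⟨hX, hc⟩
      obtain ⟨hXc, hXne⟩ := setConn_of_connected hX
      have hne : Xᶜ.Nonempty := Finset.nonempty_iff_ne_empty.2 fun h => hXu (by simpa using congrArg compl h)
      obtain ⟨Y, Z, hYZ, hd, hY, hZ, hsep⟩ := exists_split hne hc
      have key : ∀ Y Z : Finset V, Y ∪ Z = Xᶜ → Disjoint Y Z → Y.Nonempty → Z.Nonempty →
          (∀ e, ¬ (((ends e).1 ∈ Y ∧ (ends e).2 ∈ Z) ∨ ((ends e).1 ∈ Z ∧ (ends e).2 ∈ Y))) →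
          P (exc ends φ m N Yᶜ) := by
        intro Y Z hYZ hd hY hZ hsep
        have hsub : Y ⊂ Xᶜ := by
          obtain ⟨z, hz⟩ := hZ
          refine Finset.ssubset_iff_subset_ne.2 ⟨hYZ ▸ Finset.subset_union_left, fun h => ?_⟩
          exact Finset.disjoint_right.1 hd hz (h.symm ▸ (hYZ ▸ Finset.mem_union_right Y hz))
        have hmem : ∀ v, v ∉ X → v ∈ Y ∨ v ∈ Z := fun v hv => Finset.mem_union.1 (by rw [hYZ]; simpa using hv)
        refine ih Yᶜᶜ.card (by rw [compl_compl, ← hk]; exact Finset.card_lt_card hsub) _ rfl ?_ ?_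
        · refine connected_of_setConn (fun B hB hBne hBY => ?_) (hXne.mono fun x hx => ?_)
          · by_contra hno
            simp only [not_exists, Finset.mem_sdiff, Finset.mem_compl] at hno
            have hXdich : X ⊆ B ∨ Disjoint X B := by
              by_contra hh
              simp only [not_or] at hh
              obtain ⟨e, he⟩ := hXc (X ∩ B) Finset.inter_subset_left
                (Finset.nonempty_iff_ne_empty.2 fun h0 => hh.2 (Finset.disjoint_iff_inter_eq_empty.2 h0))
                fun h0 => hh.1 (Finset.inter_eq_left.1 h0)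
              have hYX : ∀ x ∈ X, x ∉ Y := fun x hx hy => by
                have : x ∈ Xᶜ := hYZ ▸ Finset.mem_union_left Z hy
                exact Finset.mem_compl.1 this hx
              simp only [Finset.mem_inter, Finset.mem_sdiff, not_and] at he
              rcases he with ⟨⟨h1, h2⟩, h3, h4⟩ | ⟨⟨h3, h4⟩, h1, h2⟩
              · exact hno e (Or.inl ⟨h2, hYX _ h3, h4 h3⟩)
              · exact hno e (Or.inr ⟨⟨hYX _ h3, h4 h3⟩, h2⟩)
            -- a part of `Z` with no edge leaving it contradicts connectedness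
            have part : ∀ C : Finset V, C ⊆ Z → C.Nonempty →
                (∀ e, ¬ (((ends e).1 ∈ C ∧ (ends e).2 ∉ Y ∧ (ends e).2 ∉ C) ∨
                  ((ends e).1 ∉ Y ∧ (ends e).1 ∉ C ∧ (ends e).2 ∈ C))) → False := by
              intro C hC hCne hCno
              obtain ⟨x, hx⟩ := hXne
              obtain ⟨e, he⟩ := setConn_univ hconn C (Finset.subset_univ _) hCne (fun h0 => by
                have hxc : x ∈ Xᶜ := hYZ ▸ Finset.mem_union_right Y (hC (h0 ▸ Finset.mem_univ x))
                exact Finset.mem_compl.1 hxc hx)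
              simp only [Finset.mem_sdiff, Finset.mem_univ, true_and] at he
              rcases he with ⟨h1, h2⟩ | ⟨h1, h2⟩
              · exact hCno e (Or.inl ⟨h1, fun hy => hsep e (Or.inr ⟨hC h1, hy⟩), h2⟩)
              · exact hCno e (Or.inr ⟨fun hy => hsep e (Or.inl ⟨hy, hC h2⟩), h1, h2⟩)
            rcases hXdich with hXB | hXB
            · refine part (Yᶜ \ B) (fun v hv => ?_) ?_ fun e he => ?_
              · simp only [Finset.mem_sdiff, Finset.mem_compl] at hv
                exact (hmem v fun hx => hv.2 (hXB hx)).resolve_left hv.1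
              · rw [Finset.sdiff_nonempty]; exact fun hle => hBY (Finset.Subset.antisymm hB hle)
              · simp only [Finset.mem_sdiff, Finset.mem_compl, not_and, not_not] at he
                rcases he with ⟨⟨h1, h2⟩, h3, h4⟩ | ⟨h3, h4, h1, h2⟩
                · exact hno e (Or.inr ⟨⟨h1, h2⟩, h4 h3⟩)
                · exact hno e (Or.inl ⟨h4 h3, h1, h2⟩)
            · refine part B (fun v hv => ?_) hBne fun e he => ?_
              · exact (hmem v fun hx => Finset.disjoint_left.1 hXB hx hv).resolve_left (Finset.mem_compl.1 (hB hv))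
              · rcases he with ⟨h1, h2, h3⟩ | ⟨h1, h2, h3⟩
                · exact hno e (Or.inl ⟨h1, h2, h3⟩)
                · exact hno e (Or.inr ⟨⟨h1, h2⟩, h3⟩)
          · refine Finset.mem_compl.2 fun hy => ?_
            have : x ∈ Xᶜ := hYZ ▸ Finset.mem_union_left Z hy
            exact Finset.mem_compl.1 this hx
        · intro h
          obtain ⟨y, hy⟩ := hY
          exact Finset.mem_compl.1 (h ▸ Finset.mem_univ y : y ∈ Yᶜ) hy
      have h1 := key Y Z hYZ hd hY hZ hsep
      have h2 := key Z Y (by rw [Finset.union_comm, hYZ]) hd.symm hZ hY fun e he => hsep e he.symm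
      have e0 := exc_add_compl (ends := ends) φ m N hdeg X
      have eY := exc_add_compl (ends := ends) φ m N hdeg Y
      have eZ := exc_add_compl (ends := ends) φ m N hdeg Z
      rw [← hYZ, exc_union φ m N hd hsep] at e0
      have hγ : ∀ e, (if e ∉ N then (if ((ends e).1 ∈ X ∧ (ends e).2 ∉ X) ∨ ((ends e).1 ∉ X ∧ (ends e).2 ∈ X) then (1 : ℝ) else 0) else 0) =
          (if e ∉ N then (if ((ends e).1 ∈ Y ∧ (ends e).2 ∉ Y) ∨ ((ends e).1 ∉ Y ∧ (ends e).2 ∈ Y) then (1 : ℝ) else 0) else 0) +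
          (if e ∉ N then (if ((ends e).1 ∈ Z ∧ (ends e).2 ∉ Z) ∨ ((ends e).1 ∉ Z ∧ (ends e).2 ∈ Z) then (1 : ℝ) else 0) else 0) := by
        intro e
        have h := hsep e
        have hd' := Finset.disjoint_left.1 hd
        have hX' : ∀ v, v ∈ X ↔ v ∉ Y ∧ v ∉ Z := fun v => by
          rw [← not_or, ← Finset.mem_union, hYZ, Finset.mem_compl, not_not]
        have a := @hd' (ends e).1
        have b := @hd' (ends e).2
        simp only [hX']
        by_cases c : e ∈ N
        · simp [c]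
        simp only [c, not_false_eq_true, if_true]
        by_cases a1 : (ends e).1 ∈ Y <;> by_cases a2 : (ends e).1 ∈ Z <;> by_cases b1 : (ends e).2 ∈ Y <;>
          by_cases b2 : (ends e).2 ∈ Z <;> simp [a1, a2, b1, b2] at h a b ⊢
      rw [Finset.sum_congr rfl fun e _ => hγ e, Finset.sum_add_distrib] at e0
      have he : exc ends φ m N X = exc ends φ m N Yᶜ + exc ends φ m N Zᶜ := by linarith
      exact he ▸ hP _ _ h1 h2
  intro X
  generalize hk : X.card = k
  induction k using Nat.strong_induction_on generalizing X with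
  | _ k ih =>
    intro hne hXu
    by_cases hc : Connected (indEnds ends X)
    · exact step1 _ X rfl hc hXu
    obtain ⟨Y, Z, hYZ, hd, hY, hZ, hsep⟩ := exists_split hne hc
    have hcard : Y.card + Z.card = k := by rw [← Finset.card_union_of_disjoint hd, hYZ, hk]
    have := hY.card_pos
    have := hZ.card_pos
    have hle : ∀ W : Finset V, W ⊆ X → W ≠ Finset.univ := fun W hW h => hXu (Finset.univ_subset_iff.1 (h ▸ hW))
    rw [← hYZ, exc_union φ m N hd hsep]
    exact hP _ _ (ih Y.card (by omega) Y rfl hY (hle Y (hYZ ▸ Finset.subset_union_left)))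
      (ih Z.card (by omega) Z rfl hZ (hle Z (hYZ ▸ Finset.subset_union_right)))

theorem exc_nonneg_of_elementary (hconn : Connected ends) (φ : V → ℝ) (m : V → ℤ) (N : Finset E)
    (hdeg : (∑ v, φ v) = (totDeg m N : ℝ))
    (hel : ∀ X, IsElementary ends X → 0 ≤ exc ends φ m N X) :
    ∀ X : Finset V, X.Nonempty → X ≠ Finset.univ → 0 ≤ exc ends φ m N X :=
  exc_mem_of_elementary hconn φ m N hdeg (0 ≤ ·) (fun _ _ => add_nonneg) hel

theorem isSemistable_and_isStable_iff (hconn : Connected ends) (φ : V → ℝ) (m : V → ℤ) (N : Finset E)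
    (hdeg : (∑ v, φ v) = (totDeg m N : ℝ)) :
    (IsSemistable ends φ m N ↔
      ∀ S : Finset V, IsElementary ends S → (∑ v ∈ S, φ v) - (cut ends S : ℝ) / 2 ≤ (degOn ends m N S : ℝ)) ∧
    (IsStable ends φ m N ↔
      ∀ S : Finset V, IsElementary ends S → (∑ v ∈ S, φ v) - (cut ends S : ℝ) / 2 < (degOn ends m N S : ℝ)) := by
  have hmem : ∀ S, IsElementary ends S → S.Nonempty ∧ S ≠ Finset.univ := fun S hS => by
    obtain ⟨-, h1⟩ := setConn_of_connected hS.1
    obtain ⟨-, ⟨y, hy⟩⟩ := setConn_of_connected hS.2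
    exact ⟨h1, fun h => Finset.mem_compl.1 hy (h ▸ Finset.mem_univ y)⟩
  refine ⟨⟨fun h S hS => h S (hmem S hS).1 (hmem S hS).2, fun h X hX hXu => ?_⟩,
    ⟨fun h S hS => h S (hmem S hS).1 (hmem S hS).2, fun h X hX hXu => ?_⟩⟩
  · have := exc_mem_of_elementary hconn φ m N hdeg (0 ≤ ·) (fun _ _ => add_nonneg) (fun S hS => by
      have := h S hS; simp only [exc]; linarith) X hX hXu
    simp only [exc] at this; linarith
  · have := exc_mem_of_elementary hconn φ m N hdeg (0 < ·) (fun _ _ => add_pos) (fun S hS => by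
      have := h S hS; simp only [exc]; linarith) X hX hXu
    simp only [exc] at this; linarith

/-- A rooted spanning tree of `A`. -/
def TreeOn (ends : E → V × V) (r : V) (S : Finset V) (r' : V) (A : Finset V) (par : V → V) (ed : V → E) (rk : V → ℕ) : Prop :=
  r ∈ A ∧ ∀ w ∈ A, w ≠ r → par w ∈ A ∧ (ends (ed w) = (w, par w) ∨ ends (ed w) = (par w, w)) ∧ rk (par w) < rk w ∧
    (w = r' ∨ (w ∈ S ↔ par w ∈ S))

theorem exists_grow {r r' : V} {S X : Finset V} (P : V → V → Prop)
    (hP : ∀ a c, P a c → (c = r' ∨ (c ∈ S ↔ a ∈ S))) :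
    ∀ (A : Finset V) (par : V → V) (ed : V → E) (rk : V → ℕ), A ⊆ X → TreeOn ends r S r' A par ed rk →
      (∀ B : Finset V, A ⊆ B → B ⊆ X → B ≠ X →
        ∃ e a c, (ends e = (a, c) ∨ ends e = (c, a)) ∧ a ∈ B ∧ c ∈ X ∧ c ∉ B ∧ P a c) →
      ∃ par ed rk, TreeOn ends r S r' X par ed rk := by
  classical
  intro A
  generalize hk : (X \ A).card = k
  induction k using Nat.strong_induction_on generalizing A with
  | _ k ih =>
    intro par ed rk hAX hT hstep
    by_cases hA : A = X
    · exact ⟨par, ed, rk, hA ▸ hT⟩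
    obtain ⟨e, a, c, hac, ha, hcX, hcA, hp⟩ := hstep A subset_rfl hAX hA
    have hlt : (X \ insert c A).card < k := by
      rw [← hk]
      refine Finset.card_lt_card (Finset.ssubset_iff_subset_ne.2 ⟨Finset.sdiff_subset_sdiff subset_rfl (Finset.subset_insert c A), fun h => ?_⟩)
      have : c ∈ X \ A := Finset.mem_sdiff.2 ⟨hcX, hcA⟩
      rw [← h] at this
      exact (Finset.mem_sdiff.1 this).2 (Finset.mem_insert_self c A)
    refine ih _ hlt (insert c A) rfl (Function.update par c a) (Function.update ed c e)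
      (Function.update rk c (rk a + 1)) (Finset.insert_subset hcX hAX) ⟨Finset.mem_insert_of_mem hT.1, ?_⟩
      fun B hB => hstep B ((Finset.subset_insert c A).trans hB)
    intro w hw hwr
    rcases eq_or_ne w c with rfl | hwc
    · have haw : a ≠ w := fun h => hcA (h ▸ ha)
      simp only [Function.update_self, Function.update_of_ne haw]
      exact ⟨Finset.mem_insert_of_mem ha, hac.symm, Nat.lt_succ_self _, hP a w hp⟩
    · obtain ⟨h1, h2, h3, h4⟩ := hT.2 w ((Finset.mem_insert.1 hw).resolve_left hwc) hwr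
      have hpc : par w ≠ c := fun h => hcA (h ▸ h1)
      simp only [Function.update_of_ne hwc, Function.update_of_ne hpc]
      exact ⟨Finset.mem_insert_of_mem h1, h2, h3, h4⟩

theorem exists_tree (hconn : Connected ends) {S : Finset V} (hS : IsElementary ends S) :
    ∃ r r' : V, r ∈ S ∧ r' ∉ S ∧ ∃ par ed rk, TreeOn ends r S r' Finset.univ par ed rk ∧ par r' ∈ S := by
  classical
  obtain ⟨hS1, r, hr⟩ := setConn_of_connected hS.1
  obtain ⟨hS2, hne2⟩ := setConn_of_connected hS.2
  obtain ⟨e₀, he₀⟩ := setConn_univ hconn S (Finset.subset_univ _) ⟨r, hr⟩ fun h => by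
    obtain ⟨y, hy⟩ := hne2
    exact Finset.mem_compl.1 hy (h ▸ Finset.mem_univ y)
  simp only [Finset.mem_sdiff, Finset.mem_univ, true_and] at he₀
  obtain ⟨a₀, r', hac₀, ha₀, hr'⟩ : ∃ a c, (ends e₀ = (a, c) ∨ ends e₀ = (c, a)) ∧ a ∈ S ∧ c ∉ S := by
    rcases he₀ with ⟨h1, h2⟩ | ⟨h1, h2⟩
    · exact ⟨_, _, Or.inl rfl, h1, h2⟩
    · exact ⟨_, _, Or.inr rfl, h2, h1⟩
  obtain ⟨par, ed, rk, hT⟩ := exists_grow (ends := ends) (r := r) (r' := r') (S := S) (X := S)
    (fun a c => a ∈ S ∧ c ∈ S) (fun a c h => Or.inr (iff_of_true h.2 h.1)) {r} id (fun _ => e₀) (fun _ => 0)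
    (Finset.singleton_subset_iff.2 hr) ⟨Finset.mem_singleton_self r, fun w hw hwr => absurd (Finset.mem_singleton.1 hw) hwr⟩
    fun B hB hBS hne => by
      obtain ⟨e, he⟩ := hS1 B hBS ⟨r, hB (Finset.mem_singleton_self r)⟩ hne
      rcases he with ⟨h1, h2⟩ | ⟨h1, h2⟩
      · exact ⟨e, _, _, Or.inl rfl, h1, (Finset.mem_sdiff.1 h2).1, (Finset.mem_sdiff.1 h2).2, hBS h1, (Finset.mem_sdiff.1 h2).1⟩
      · exact ⟨e, _, _, Or.inr rfl, h2, (Finset.mem_sdiff.1 h1).1, (Finset.mem_sdiff.1 h1).2, hBS h2, (Finset.mem_sdiff.1 h1).1⟩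
  -- the crossing edge, then the complement
  have hT' : TreeOn ends r S r' (insert r' S) (Function.update par r' a₀) (Function.update ed r' e₀)
      (Function.update rk r' (rk a₀ + 1)) := by
    refine ⟨Finset.mem_insert_of_mem hr, fun w hw hwr => ?_⟩
    rcases eq_or_ne w r' with rfl | hwc
    · have haw : a₀ ≠ w := fun h => hr' (h ▸ ha₀)
      simp only [Function.update_self, Function.update_of_ne haw]
      exact ⟨Finset.mem_insert_of_mem ha₀, hac₀.symm, Nat.lt_succ_self _, Or.inl trivial⟩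
    · obtain ⟨h1, h2, h3, h4⟩ := hT.2 w ((Finset.mem_insert.1 hw).resolve_left hwc) hwr
      have hpc : par w ≠ r' := fun h => hr' (h ▸ h1)
      simp only [Function.update_of_ne hwc, Function.update_of_ne hpc]
      exact ⟨Finset.mem_insert_of_mem h1, h2, h3, h4⟩
  -- growing never changes the parent of `r'`, record it through the invariant
  obtain ⟨par', ed', rk', hT''⟩ := exists_grow (ends := ends) (r := r) (r' := r') (S := S) (X := Finset.univ)
    (fun a c => a ∉ S ∧ c ∉ S) (fun a c h => Or.inr (iff_of_false h.2 h.1)) _ _ _ _ (Finset.subset_univ _) hT'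
    fun B hB _ hne => by
      have hBc : (B \ S).Nonempty := ⟨r', Finset.mem_sdiff.2 ⟨hB (Finset.mem_insert_self _ _), hr'⟩⟩
      obtain ⟨e, he⟩ := hS2 (B \ S) (fun v hv => Finset.mem_compl.2 (Finset.mem_sdiff.1 hv).2) hBc fun h => hne
        (Finset.eq_univ_of_forall fun v => by
          by_cases hv : v ∈ S
          · exact hB (Finset.mem_insert_of_mem hv)
          · exact (Finset.mem_sdiff.1 (h ▸ Finset.mem_compl.2 hv : v ∈ B \ S)).1)
      simp only [Finset.mem_sdiff, Finset.mem_compl, not_and, not_not] at he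
      rcases he with ⟨⟨h1, h2⟩, h3, h4⟩ | ⟨⟨h3, h4⟩, h1, h2⟩
      · exact ⟨e, _, _, Or.inl rfl, h1, Finset.mem_univ _, fun hb => h3 (h4 hb), h2, h3⟩
      · exact ⟨e, _, _, Or.inr rfl, h1, Finset.mem_univ _, fun hb => h3 (h4 hb), h2, h3⟩
  refine ⟨r, r', hr, hr', par', ed', rk', hT'', ?_⟩
  -- walk from `r'` to the root: some step enters `S`, and only the step at `r'` can
  by_contra hp
  suffices ∀ (k : ℕ) (v : V), rk' v = k → v ∉ S → rk' v ≤ rk' r' → False from this _ r' rfl hr' le_rfl
  intro k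
  induction k using Nat.strong_induction_on with
  | _ k ih =>
    intro v hk hv hle
    have hvr : v ≠ r := fun h => hv (h ▸ hr)
    obtain ⟨-, -, h3, h4⟩ := hT''.2 v (Finset.mem_univ v) hvr
    refine ih _ (hk ▸ h3) _ rfl ?_ (h3.le.trans hle)
    rcases h4 with rfl | h4
    · exact hp
    · exact fun h => hv (h4.2 h)

theorem exists_stable (hconn : Connected ends) (b : ℤ) (φ : V → ℝ) (hφ : (∑ v, φ v) = (b : ℝ))
    (hnd : Nondegenerate ends φ) {S : Finset V} (hS : IsElementary ends S) :
    ∃ (m : V → ℤ) (N : Finset E), totDeg m N = b ∧ IsStable ends φ m N ∧ exc ends φ m N S < 1 := by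
  classical
  obtain ⟨r, r', hr, hr', par, ed, rk, ⟨-, hT⟩, hpr'⟩ := exists_tree hconn hS
  have hT' : ∀ w, w ≠ r → (ends (ed w) = (w, par w) ∨ ends (ed w) = (par w, w)) ∧ rk (par w) < rk w ∧
      (w = r' ∨ (w ∈ S ↔ par w ∈ S)) := fun w hw => (hT w (Finset.mem_univ w) hw).2
  let W := Finset.univ.erase r
  have hinj : Set.InjOn ed W := by
    intro w hw w' hw' he
    simp only [W, Finset.coe_erase, Finset.coe_univ, Set.mem_sdiff, Set.mem_univ, Set.mem_singleton_iff, true_and] at hw hw'
    obtain ⟨h1, h2, -⟩ := hT' w hw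
    obtain ⟨h1', h2', -⟩ := hT' w' hw'
    rw [← he] at h1'
    by_contra hne
    have : w' = par w ∧ par w' = w := by
      rcases h1 with h | h <;> rcases h1' with h' | h' <;> rw [h] at h' <;> simp only [Prod.mk.injEq] at h'
      · exact absurd h'.1 hne
      · exact ⟨h'.2.symm, h'.1.symm⟩
      · exact ⟨h'.1.symm, h'.2.symm⟩
      · exact absurd h'.2 hne
    rw [this.2, this.1] at h2'
    omega
  let N : Finset E := (W.image ed)ᶜ
  let ψ : V → ℝ := fun v => φ v - (∑ e ∈ N, ((if (ends e).1 = v then (1 : ℝ) else 0) + (if (ends e).2 = v then 1 else 0))) / 2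
  let par₀ : V → V := fun v => if v = r then r else par v
  let anc : V → V → ℝ := fun x v => if ∃ k : ℕ, par₀^[k] x = v then 1 else 0
  have hlt : ∀ x, x ≠ r → ∀ k : ℕ, rk (par₀^[k] (par₀ x)) < rk x := by
    intro x hx k
    have hdec : ∀ y, rk (par₀ y) ≤ rk y := fun y => by
      by_cases hy : y = r
      · simp [par₀, hy]
      · simp only [par₀, if_neg hy]; exact (hT' y hy).2.1.le
    induction k with
    | zero => simp only [Function.iterate_zero_apply, par₀, if_neg hx]; exact (hT' x hx).2.1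
    | succ k ih => rw [Function.iterate_succ_apply']; exact (hdec _).trans_lt ih
  have hrec : ∀ x v, anc x v = (if x = v then 1 else 0) + (if x = r then 0 else anc (par x) v) := by
    intro x v
    by_cases hx : x = r
    · subst hx
      have : ∀ k : ℕ, par₀^[k] x = x := fun k => Function.iterate_fixed (by simp [par₀]) k
      simp [anc, this]
    · have hp : par₀ x = par x := if_neg hx
      rw [if_neg hx]
      by_cases hxv : x = v
      · subst hxv
        simp only [anc, if_true]
        rw [if_pos ⟨0, rfl⟩, if_neg, add_zero]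
        rintro ⟨k, hk⟩
        have := hlt x hx k
        rw [hp, hk] at this
        omega
      · simp only [if_neg hxv, zero_add, anc]
        refine if_congr ⟨?_, ?_⟩ rfl rfl
        · rintro ⟨_ | k, hk⟩
          · exact absurd hk hxv
          · exact ⟨k, by rwa [Function.iterate_succ_apply, hp] at hk⟩
        · rintro ⟨k, hk⟩
          exact ⟨k + 1, by rwa [Function.iterate_succ_apply, hp]⟩
  have hchild : ∀ x v, ∑ w ∈ W.filter (fun w => par w = v), anc x w = anc x v - (if x = v then 1 else 0) := by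
    intro x
    induction hk : rk x using Nat.strong_induction_on generalizing x with
    | _ k ih =>
      intro v
      by_cases hx : x = r
      · subst hx
        rw [Finset.sum_eq_zero fun w hw => by
          have := (Finset.mem_erase.1 (Finset.mem_filter.1 hw).1).1
          rw [hrec x w, if_neg (Ne.symm this), if_pos rfl, add_zero], hrec x v, if_pos rfl, add_zero, sub_self]
      · rw [Finset.sum_congr rfl fun w _ => hrec x w, Finset.sum_add_distrib, Finset.sum_ite_eq, hrec x v]
        simp only [if_neg hx]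
        rw [ih _ (hk ▸ (hT' x hx).2.1) (par x) rfl v]
        simp only [Finset.mem_filter, W, Finset.mem_erase, ne_eq, hx, not_false_eq_true, Finset.mem_univ, and_self, true_and]
        ring
  let Ψ : V → ℝ := fun v => ∑ x, ψ x * anc x v
  have hΨ : ∀ v, Ψ v - ∑ w ∈ W.filter (fun w => par w = v), Ψ w = ψ v := fun v => by
    simp only [Ψ]
    rw [Finset.sum_comm, ← Finset.sum_sub_distrib]
    simp only [← Finset.mul_sum, hchild, ← mul_sub, sub_sub_cancel, mul_ite, mul_one, mul_zero, Finset.sum_ite_eq',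
      Finset.mem_univ, if_true]
  have hΨr : Ψ r = ((b - N.card : ℤ) : ℝ) := by
    have h1 : ∀ x, anc x r = 1 := fun x => if_pos (by
      induction hk : rk x using Nat.strong_induction_on generalizing x with
      | _ k ih =>
        by_cases hx : x = r
        · exact ⟨0, hx⟩
        · obtain ⟨j, hj⟩ := ih _ (hk ▸ (hT' x hx).2.1) (par x) rfl
          exact ⟨j + 1, by rw [Function.iterate_succ_apply]; simpa [par₀, hx] using hj⟩)
    simp only [Ψ, h1, mul_one, ψ, Finset.sum_sub_distrib, ← Finset.sum_div, hφ]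
    rw [Finset.sum_comm]
    simp only [Finset.sum_add_distrib, Finset.sum_ite_eq, Finset.mem_univ, if_true, Finset.sum_const, nsmul_eq_mul,
      mul_one, Int.cast_sub, Int.cast_natCast]
    ring
  let n : V → ℤ := fun v => if v = r then b - N.card else round (Ψ v)
  let δ : V → ℝ := fun v => (n v : ℝ) - Ψ v
  have hδr : δ r = 0 := by simp [δ, n, hΨr]
  have hδ : ∀ v, |δ v| ≤ 1 / 2 := fun v => by
    by_cases hv : v = r
    · rw [hv, hδr, abs_zero]; norm_num
    · simp only [δ, n, if_neg hv]; rw [abs_sub_comm]; exact abs_sub_round _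
  let m : V → ℤ := fun v => n v - ∑ w ∈ W.filter (fun w => par w = v), n w
  have hm : totDeg m N = b := by
    simp only [totDeg, m, Finset.sum_sub_distrib]
    rw [Finset.sum_fiberwise W par n, ← Finset.add_sum_erase _ n (Finset.mem_univ r)]
    simp [W, n]
  have key : ∀ X : Finset V, exc ends φ m N X = ∑ w ∈ W,
      ((if w ∈ X then δ w else 0) - (if par w ∈ X then δ w else 0) +
        (if (w ∈ X ∧ par w ∉ X) ∨ (w ∉ X ∧ par w ∈ X) then (1 : ℝ) else 0) / 2) := by
    intro X
    rw [exc_eq]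
    have hg : ∀ v, (m v : ℝ) - φ v = δ v - ∑ w ∈ W.filter (fun w => par w = v), δ w -
        (∑ e ∈ N, ((if (ends e).1 = v then (1 : ℝ) else 0) + (if (ends e).2 = v then 1 else 0))) / 2 := fun v => by
      have := hΨ v
      simp only [ψ] at this
      simp only [m, δ, Int.cast_sub, Int.cast_sum, Finset.sum_sub_distrib]
      linear_combination this
    simp only [hg, Finset.sum_sub_distrib, ← Finset.sum_div]
    rw [Finset.sum_comm (s := X) (t := N), ← Finset.sum_add_sum_compl N (fun e => wt N ends X e)]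
    simp only [Finset.sum_add_distrib, Finset.sum_ite_eq, ← Finset.sum_div]
    have hN : ∑ e ∈ N, wt N ends X e = (∑ e ∈ N, (if (ends e).1 ∈ X then (1 : ℝ) else 0) + ∑ e ∈ N, (if (ends e).2 ∈ X then (1 : ℝ) else 0)) / 2 := by
      rw [← Finset.sum_add_distrib, Finset.sum_div]
      refine Finset.sum_congr rfl fun e he => ?_
      by_cases a : (ends e).1 ∈ X <;> by_cases c : (ends e).2 ∈ X <;> simp [wt, he, a, c]
    have hNc : ∑ e ∈ Nᶜ, wt N ends X e = (∑ w ∈ W, (if (w ∈ X ∧ par w ∉ X) ∨ (w ∉ X ∧ par w ∈ X) then (1 : ℝ) else 0)) / 2 := by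
      simp only [N, compl_compl]
      rw [Finset.sum_image hinj, Finset.sum_div]
      refine Finset.sum_congr rfl fun w hw => ?_
      have hwN : ed w ∉ (W.image ed)ᶜ := fun h => Finset.mem_compl.1 h (Finset.mem_image_of_mem ed hw)
      rcases (hT' w (Finset.mem_erase.1 hw).1).1 with h | h <;>
        by_cases a : w ∈ X <;> by_cases c : par w ∈ X <;> simp [wt, hwN, h, a, c]
    have hX1 : ∑ v ∈ X, δ v = ∑ w ∈ W, (if w ∈ X then δ w else 0) := by
      rw [← Finset.sum_filter, Finset.filter_mem_eq_inter, show W ∩ X = X.erase r by ext; simp [W, and_comm]]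
      by_cases hrX : r ∈ X
      · rw [← Finset.add_sum_erase _ _ hrX, hδr, zero_add]
      · rw [Finset.erase_eq_of_notMem hrX]
    have hX2 : ∑ v ∈ X, ∑ w ∈ W.filter (fun w => par w = v), δ w = ∑ w ∈ W, (if par w ∈ X then δ w else 0) := by
      simp only [Finset.sum_filter]
      rw [Finset.sum_comm]
      simp only [Finset.sum_ite_eq]
    rw [hN, hNc, hX1, hX2]
    simp only [Finset.sum_sub_distrib]
    ring
  have hterm : ∀ (X : Finset V) w, 0 ≤ (if w ∈ X then δ w else 0) - (if par w ∈ X then δ w else 0) +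
      (if (w ∈ X ∧ par w ∉ X) ∨ (w ∉ X ∧ par w ∈ X) then (1 : ℝ) else 0) / 2 := fun X w => by
    have := abs_le.1 (hδ w)
    by_cases a : w ∈ X <;> by_cases c : par w ∈ X <;> simp [a, c] <;> linarith
  have hdeg : (∑ v, φ v) = (totDeg m N : ℝ) := by rw [hφ, hm]
  have hstab := hnd m N hdeg fun X _ _ => by
    have h : 0 ≤ exc ends φ m N X := by rw [key X]; exact Finset.sum_nonneg fun w _ => hterm X w
    simp only [exc] at h
    linarith
  refine ⟨m, N, hm, hstab, ?_⟩
  have hr'W : r' ∈ W := Finset.mem_erase.2 ⟨fun h => hr' (h ▸ hr), Finset.mem_univ _⟩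
  have hsum : ∀ X : Finset V, (X = S ∨ X = Sᶜ) → exc ends φ m N X =
      (if r' ∈ X then δ r' else 0) - (if par r' ∈ X then δ r' else 0) + 1 / 2 := fun X hX => by
    rw [key, Finset.sum_eq_single r' (fun w hw hne => by
      have h := ((hT' w (Finset.mem_erase.1 hw).1).2.2).resolve_left hne
      have h' : w ∈ X ↔ par w ∈ X := by rcases hX with rfl | rfl <;> simp [h]
      by_cases a : w ∈ X <;> simp [a, h'.symm]) (fun h => absurd hr'W h)]
    rcases hX with rfl | rfl <;> simp [hr', hpr']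
  have hSc := hstab Sᶜ ⟨r', Finset.mem_compl.2 hr'⟩ (fun h => Finset.mem_compl.1 (h ▸ Finset.mem_univ r : r ∈ Sᶜ) hr)
  have h2 := hsum Sᶜ (Or.inr rfl)
  rw [hsum S (Or.inl rfl)]
  simp only [exc] at h2
  simp [hr', hpr'] at h2 ⊢
  linarith

theorem forall_iff (ends : E → V × V) (hconn : Connected ends) (b : ℤ) (φ₁ φ₂ : V → ℝ) (h₁ : (∑ v, φ₁ v) = (b : ℝ))
    (h₂ : (∑ v, φ₂ v) = (b : ℝ)) (hnd : Nondegenerate ends φ₁) :
    (∀ (m : V → ℤ) (N : Finset E), totDeg m N = b → IsStable ends φ₁ m N → IsSemistable ends φ₂ m N) ↔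
      InClosedPolytope ends φ₁ φ₂ := by
  have hmem : ∀ S, IsElementary ends S → S.Nonempty ∧ S ≠ Finset.univ := fun S hS => by
    obtain ⟨-, h1⟩ := setConn_of_connected hS.1
    obtain ⟨-, ⟨y, hy⟩⟩ := setConn_of_connected hS.2
    exact ⟨h1, fun h => Finset.mem_compl.1 hy (h ▸ Finset.mem_univ y)⟩
  constructor
  · intro h S hS d hd
    obtain ⟨m, N, hm, hst, hlt⟩ := exists_stable hconn b φ₁ h₁ hnd hS
    have hss := h m N hm hst S (hmem S hS).1 (hmem S hS).2
    simp only [exc] at hlt
    simp only [ell] at hd ⊢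
    have hle : degOn ends m N S ≤ d := by
      by_contra hc
      have : (d : ℝ) + 1 ≤ (degOn ends m N S : ℝ) := by exact_mod_cast Int.add_one_le_iff.2 (not_le.1 hc)
      linarith
    have : (degOn ends m N S : ℝ) ≤ d := by exact_mod_cast hle
    linarith
  · intro h m N hm hst X hX hXu
    have := exc_nonneg_of_elementary hconn φ₂ m N (by rw [h₂, hm]) (fun S hS => by
      have h1 := hst S (hmem S hS).1 (hmem S hS).2
      have h2 := h S hS (degOn ends m N S) (by simp only [ell]; linarith)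
      simpa [exc, ell] using h2) X hX hXu
    simp only [exc] at this
    linarith

end Groth.L15.PhiStab
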