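import Mathlib.RingTheory.PicardGroup
import Mathlib.RingTheory.Valuation.ValuationRing
import Mathlib.RingTheory.Polynomial.Content
import Mathlib.RingTheory.MvPolynomial.Homogeneous
import Mathlib.Algebra.MvPolynomial.Equiv
import Mathlib.Algebra.GCDMonoid.Finset
import Mathlib.Algebra.MvPolynomial.NoZeroDivisors

/-!
Invertible modules over polynomial rings on products of GCD domains.
-/

set_option autoImplicit false

noncomputable section

universe u v

namespace Groth.L15.PicPi

theorem isGCDMonoid_of_mulEquiv {α : Type u} {β : Type v} [CommMonoidWithZero α] [CommMonoidWithZero β]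
    [IsCancelMulZero β] (e : α ≃* β) [IsGCDMonoid α] : IsGCDMonoid β := by
  rw [isGCDMonoid_iff_exists_gcd]
  refine ⟨inferInstance, fun a b => ?_⟩
  obtain ⟨c, hc⟩ := (isGCDMonoid_iff_exists_gcd.1 ‹IsGCDMonoid α›).2 (e.symm a) (e.symm b)
  refine ⟨e c, fun d => ?_⟩
  rw [← map_dvd_iff e.symm (a := d) (b := a), ← map_dvd_iff e.symm (a := d) (b := b), hc, ← map_dvd_iff e,
    e.apply_symm_apply]

theorem isGCDMonoid_mvPolynomial (R : Type u) [CommRing R] [IsDomain R] [IsGCDMonoid R] :
    ∀ n : ℕ, IsGCDMonoid (MvPolynomial (Fin n) R)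
  | 0 => isGCDMonoid_of_mulEquiv (MvPolynomial.isEmptyAlgEquiv R (Fin 0)).symm.toMulEquiv
  | n + 1 =>
    have := isGCDMonoid_mvPolynomial R n
    isGCDMonoid_of_mulEquiv (MvPolynomial.finSuccEquiv R n).symm.toMulEquiv

theorem dvd_mul_gcd {B : Type u} [CommRing B] [NormalizedGCDMonoid B] {β : Type} (s : Finset β) (v : β → B) (d a : B)
    (h : ∀ b ∈ s, d ∣ a * v b) : d ∣ a * s.gcd v := by
  classical
  induction s using Finset.induction_on with
  | empty => simp
  | @insert x s hx ih =>
    rw [Finset.gcd_insert]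
    exact (dvd_gcd (h x (Finset.mem_insert_self x s)) (ih fun b hb => h b (Finset.mem_insert_of_mem hb))).trans
      (gcd_mul_left' a (v x) (s.gcd v)).dvd

theorem exists_outer {B : Type u} [CommRing B] [IsDomain B] [IsGCDMonoid B] {m : ℕ} (P : Fin m → Fin m → B)
    (hmin : ∀ a b c d, P a b * P c d = P a d * P c b) (htr : ∑ a, P a a = 1) :
    ∃ u v : Fin m → B, (∀ a b, P a b = u a * v b) ∧ ∑ a, u a * v a = 1 := by
  classical
  let _ : NormalizedGCDMonoid B := Classical.arbitrary _
  obtain ⟨c, -, hc⟩ := Finset.exists_ne_zero_of_sum_ne_zero (htr.trans_ne one_ne_zero)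
  obtain ⟨v, hv, hv1⟩ := Finset.extract_gcd (P c) (s := Finset.univ) ⟨c, Finset.mem_univ c⟩
  set g := Finset.univ.gcd (P c)
  have key : ∀ a b, P c c * P a b = (P a c * g) * v b := fun a b => by
    rw [mul_comm (P c c), hmin, hv b (Finset.mem_univ b)]; ring
  have hdvd : ∀ a, P c c ∣ P a c * g := fun a => by
    simpa [hv1] using dvd_mul_gcd Finset.univ v (P c c) (P a c * g) fun b _ => ⟨P a b, (key a b).symm⟩
  choose u hu using hdvd
  have hP : ∀ a b, P a b = u a * v b := fun a b => mul_left_cancel₀ hc (by rw [key, hu a, mul_assoc])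
  exact ⟨u, v, hP, by simp only [← hP, htr]⟩

section

variable {ι : Type u} {R : ι → Type u} [∀ i, CommRing (R i)] {n : ℕ}

/-- Evaluation of the coefficients at a factor. -/
def ev (i : ι) : MvPolynomial (Fin n) (∀ i, R i) →+* MvPolynomial (Fin n) (R i) :=
  MvPolynomial.map (Pi.evalRingHom R i)

theorem ev_injective (p q : MvPolynomial (Fin n) (∀ i, R i)) (h : ∀ i, ev i p = ev i q) : p = q :=
  MvPolynomial.ext _ _ fun s => funext fun i => by
    have := congrArg (MvPolynomial.coeff s) (h i)
    rwa [ev, MvPolynomial.coeff_map, MvPolynomial.coeff_map] at this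

theorem totalDegree_ev_le (i : ι) (p : MvPolynomial (Fin n) (∀ i, R i)) :
    (ev i p).totalDegree ≤ p.totalDegree :=
  Finset.sup_mono (MvPolynomial.support_map_subset _ _)

theorem exists_ev_eq (D : ℕ) (w : ∀ i, MvPolynomial (Fin n) (R i)) (hw : ∀ i, (w i).totalDegree ≤ D) :
    ∃ W : MvPolynomial (Fin n) (∀ i, R i), ∀ i, ev i W = w i := by
  classical
  let S : Finset (Fin n →₀ ℕ) :=
    (Finset.univ : Finset (Fin n → Fin (D + 1))).image fun g => Finsupp.equivFunOnFinite.symm fun j => (g j : ℕ)
  refine ⟨∑ s ∈ S, MvPolynomial.monomial s fun i => MvPolynomial.coeff s (w i), fun i =>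
    MvPolynomial.ext _ _ fun s => ?_⟩
  rw [ev, MvPolynomial.coeff_map, MvPolynomial.coeff_sum]
  simp only [MvPolynomial.coeff_monomial, Finset.sum_ite_eq']
  split_ifs with h
  · rfl
  · rw [map_zero]
    refine (MvPolynomial.notMem_support_iff.1 fun hs => h ?_).symm
    refine Finset.mem_image.2 ⟨fun j => ⟨s j, Nat.lt_succ_of_le ?_⟩, Finset.mem_univ _, ?_⟩
    · refine le_trans ?_ ((MvPolynomial.le_totalDegree hs).trans (hw i))
      rcases eq_or_ne (s j) 0 with h0 | h0
      · omega
      · exact Finset.single_le_sum (f := fun a => s a) (fun _ _ => Nat.zero_le _) (Finsupp.mem_support_iff.2 h0)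
    · ext j; simp

theorem pic_subsingleton [∀ i, IsDomain (R i)] [∀ i, IsGCDMonoid (R i)] (n : ℕ) :
    Subsingleton (CommRing.Pic (MvPolynomial (Fin n) (∀ i, R i))) := by
  classical
  refine CommRing.Pic.subsingleton_iff.2 fun N _ _ _ => ?_
  let A := MvPolynomial (Fin n) (∀ i, R i)
  obtain ⟨m, f, g, -, -, hfg⟩ := Module.Finite.exists_comp_eq_id_of_projective A N
  let x : Fin m → N := fun a => f (Pi.single a 1)
  let φ : Fin m → N →ₗ[A] A := fun a => LinearMap.proj a ∘ₗ g
  have hx : ∀ y : N, y = ∑ a, φ a y • x a := fun y => by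
    conv_lhs => rw [← LinearMap.id_apply (R := A) y, ← hfg, LinearMap.comp_apply]
    have : g y = ∑ a, φ a y • (Pi.single a 1 : Fin m → A) := by
      funext b
      simp [φ, Finset.sum_apply, Pi.single_apply]
    rw [this, map_sum]
    simp [x]
  have hsw : ∀ (ψ : N →ₗ[A] A) (y z : N), ψ y • z = ψ z • y := fun ψ y z => by
    simpa using congrArg ((TensorProduct.lid A N).toLinearMap ∘ₗ LinearMap.rTensor N ψ)
      (Module.Invertible.tmul_comm (R := A) (m₁ := y) (m₂ := z))
  let P : Fin m → Fin m → A := fun a b => φ a (x b)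
  have hmin : ∀ a b c d, P a b * P c d = P a d * P c b := fun a b c d => by
    have h := congrArg (φ a) (hsw (φ c) (x d) (x b))
    simp only [map_smul, smul_eq_mul] at h
    simp only [P]
    rw [mul_comm, h, mul_comm]
  have htr : ∑ a, P a a = 1 := eq_of_smul_eq_smul (α := N) fun y => by
    rw [one_smul, Finset.sum_smul, Finset.sum_congr rfl fun a _ => hsw (φ a) (x a) y]
    exact (hx y).symm
  have hB : ∀ i, IsGCDMonoid (MvPolynomial (Fin n) (R i)) := fun i => isGCDMonoid_mvPolynomial (R i) n
  choose u v huv hsum using fun i => exists_outer (fun a b => ev i (P a b))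
    (fun a b c d => by simp only [← map_mul, hmin a b c d]) (by simp only [← map_sum, htr, map_one])
  let D := Finset.univ.sup fun ab : Fin m × Fin m => (P ab.1 ab.2).totalDegree
  have hD : ∀ i a b, u i a ≠ 0 → v i b ≠ 0 → (u i a).totalDegree + (v i b).totalDegree ≤ D := fun i a b h1 h2 => by
    rw [← MvPolynomial.totalDegree_mul_of_isDomain h1 h2, ← huv i a b]
    exact (totalDegree_ev_le i _).trans (Finset.le_sup (f := fun ab : Fin m × Fin m => (P ab.1 ab.2).totalDegree)
      (Finset.mem_univ (a, b)))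
  have hne : ∀ i, ∃ c, u i c ≠ 0 ∧ v i c ≠ 0 := fun i => by
    obtain ⟨c, -, hc⟩ := Finset.exists_ne_zero_of_sum_ne_zero ((hsum i).trans_ne one_ne_zero)
    exact ⟨c, left_ne_zero_of_mul hc, right_ne_zero_of_mul hc⟩
  choose U hU using fun a => exists_ev_eq D (fun i => u i a) fun i => by
    obtain ⟨c, -, hc⟩ := hne i
    rcases eq_or_ne (u i a) 0 with h | h
    · simp [h]
    · have := hD i a c h hc; omega
  choose V hV using fun b => exists_ev_eq D (fun i => v i b) fun i => by
    obtain ⟨c, hc, -⟩ := hne i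
    rcases eq_or_ne (v i b) 0 with h | h
    · simp [h]
    · have := hD i c b hc h; omega
  have hPUV : ∀ a b, P a b = U a * V b := fun a b => ev_injective _ _ fun i => by
    rw [map_mul, hU, hV, ← huv]
  have hUV : ∑ a, U a * V a = 1 := ev_injective _ _ fun i => by
    rw [map_sum, map_one]
    simp only [map_mul, hU, hV, hsum i]
  let T : N →ₗ[A] A := ∑ a, V a • φ a
  have hT : T (∑ b, U b • x b) = 1 := by
    calc T (∑ b, U b • x b) = ∑ a, V a * ∑ b, U b * P a b := by
          simp only [T, P, LinearMap.sum_apply, LinearMap.smul_apply, map_sum, map_smul, smul_eq_mul, Finset.mul_sum]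
          rw [Finset.sum_comm]
          exact Finset.sum_congr rfl fun a _ => Finset.sum_congr rfl fun b _ => by ring
      _ = ∑ a, (U a * V a) * ∑ b, U b * V b := by
          refine Finset.sum_congr rfl fun a _ => ?_
          rw [Finset.mul_sum, Finset.mul_sum]
          refine Finset.sum_congr rfl fun b _ => ?_
          rw [hPUV]; ring
      _ = 1 := by rw [← Finset.sum_mul, hUV, mul_one]
  have hsurj : Function.Surjective T := fun r => ⟨r • ∑ b, U b • x b, by rw [map_smul, hT, smul_eq_mul, mul_one]⟩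
  exact Module.Free.of_equiv (LinearEquiv.ofBijective T (Module.Invertible.bijective_of_surjective hsurj)).symm

end

end Groth.L15.PicPi
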