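import Groth.Agent.L12.GrCI.Hilbert
import Groth.Agent.L12.GrCI.Regular
import Mathlib.RingTheory.Jacobson.Artinian
import Mathlib.RingTheory.KrullDimension.Polynomial
import Mathlib.RingTheory.Polynomial.UniqueFactorization

/-!
Affine count in the theorem of Bezout for plane curves with no common point on the line at infinity.
-/

set_option autoImplicit false

universe u

open MvPolynomial Groth.L12.GrCI

namespace Groth.L15.PlaneBezout

variable {k : Type u} [Field k]

/-- Setting the last variable to `1`. -/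
noncomputable def L1 : MvPolynomial (Fin 3) k →ₐ[k] MvPolynomial (Fin 2) k :=
  aeval (Fin.cons (X 0) (Fin.cons (X 1) (Fin.cons 1 Fin.elim0)) : Fin 3 → MvPolynomial (Fin 2) k)

/-- Setting the last variable to `0`. -/
noncomputable def L0 : MvPolynomial (Fin 3) k →ₐ[k] MvPolynomial (Fin 2) k :=
  aeval (Fin.cons (X 0) (Fin.cons (X 1) (Fin.cons 0 Fin.elim0)) : Fin 3 → MvPolynomial (Fin 2) k)

theorem L1_rename (p : MvPolynomial (Fin 2) k) : L1 (rename Fin.castSucc p) = p := by
  rw [L1, aeval_rename]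
  conv_rhs => rw [← aeval_X_left_apply p]
  congr 2
  ext i
  fin_cases i <;> rfl

theorem L1_X2 : L1 (X 2 : MvPolynomial (Fin 3) k) = 1 := by rw [L1, aeval_X]; rfl

/-- Homogenisation to degree `D`. -/
noncomputable def lift (D : ℕ) : MvPolynomial (Fin 2) k →ₗ[k] MvPolynomial (Fin 3) k :=
  ∑ j ∈ Finset.range (D + 1), (LinearMap.mulRight k ((X 2 : MvPolynomial (Fin 3) k) ^ (D - j))) ∘ₗ
    ((rename Fin.castSucc).toLinearMap ∘ₗ homogeneousComponent j)

theorem lift_apply (D : ℕ) (p : MvPolynomial (Fin 2) k) :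
    lift D p = ∑ j ∈ Finset.range (D + 1),
      rename Fin.castSucc (homogeneousComponent j p) * (X 2 : MvPolynomial (Fin 3) k) ^ (D - j) := by
  simp [lift]

theorem lift_homog (D : ℕ) (p : MvPolynomial (Fin 2) k) : (lift D p).IsHomogeneous D := by
  rw [lift_apply]
  refine IsHomogeneous.sum _ _ _ fun j hj => ?_
  have h := ((homogeneousComponent_isHomogeneous j p).rename_isHomogeneous (f := Fin.castSucc (n := 2))).mul
    ((isHomogeneous_X k (2 : Fin 3)).pow (D - j))
  rwa [one_mul, Nat.add_sub_cancel' (Nat.lt_succ_iff.mp (Finset.mem_range.mp hj))] at h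

theorem L1_lift {D : ℕ} {p : MvPolynomial (Fin 2) k} (h : p.totalDegree ≤ D) : L1 (lift D p) = p := by
  rw [lift_apply, map_sum]
  simp only [map_mul, L1_rename, map_pow, L1_X2, one_pow, mul_one]
  refine (Finset.sum_subset (Finset.range_subset_range.mpr (Nat.succ_le_succ h)) fun j _ hj => ?_).symm.trans
    (sum_homogeneousComponent p)
  rw [Finset.mem_range] at hj
  exact homogeneousComponent_eq_zero _ _ (by omega)

theorem lift_L1 {D : ℕ} {x : MvPolynomial (Fin 3) k} (hx : x.IsHomogeneous D) : lift D (L1 x) = x := by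
  have hmon : ∀ d : Fin 3 →₀ ℕ, d 0 + d 1 + d 2 = D → ∀ c : k, lift D (L1 (monomial d c)) = monomial d c := by
    intro d hd c
    have e : monomial d c = C c * (rename Fin.castSucc (X 0 ^ d 0 * X 1 ^ d 1)) * X 2 ^ d 2 := by
      rw [monomial_eq, Finsupp.prod_fintype _ _ (by simp), Fin.prod_univ_three]
      simp only [map_mul, map_pow, rename_X, mul_assoc]
      rfl
    rw [e]
    rw [map_mul L1, map_mul L1, L1_rename, map_pow L1, L1_X2, one_pow, mul_one, show L1 (C c) = C c from aeval_C _ c]
    have hh : (C c * (X 0 ^ d 0 * X 1 ^ d 1) : MvPolynomial (Fin 2) k).IsHomogeneous (d 0 + d 1) := by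
      have := (isHomogeneous_C (Fin 2) c).mul
        (((isHomogeneous_X k (0 : Fin 2)).pow (d 0)).mul ((isHomogeneous_X k (1 : Fin 2)).pow (d 1)))
      simpa using this
    rw [lift_apply, Finset.sum_eq_single (d 0 + d 1)]
    · rw [homogeneousComponent_of_mem hh, if_pos rfl, show D - (d 0 + d 1) = d 2 by omega, map_mul, rename_C, map_mul,
        map_pow, map_pow]
    · intro j _ hj
      rw [homogeneousComponent_of_mem hh, if_neg hj, map_zero, zero_mul]
    · intro h; exact absurd (Finset.mem_range.mpr (by omega)) h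
  rw [x.as_sum, map_sum, map_sum]
  refine Finset.sum_congr rfl fun d hd => hmon d ?_ _
  have := hx.degree_eq_sum_deg_support hd
  rw [this, Finset.sum_subset (Finset.subset_univ _) (fun i _ hi => Finsupp.notMem_support_iff.mp hi),
    Fin.sum_univ_three]

theorem finite_quot {n m : ℕ} {f g : MvPolynomial (Fin 3) k} (hf : f.IsHomogeneous n) (hg : g.IsHomogeneous m)
    (hn : 0 < n) (hm : 0 < m) (hT : IsRelPrime (L0 f) (L0 g)) :
    Module.Finite k (MvPolynomial (Fin 3) k ⧸ Ideal.span (Set.range ![f, g, X 2])) := by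
  classical
  have hc : ∀ (q : MvPolynomial (Fin 3) k) (e : ℕ), q.IsHomogeneous e → 0 < e → constantCoeff (L0 q) = 0 := by
    intro q e hq he
    have h0 : constantCoeff q = 0 := hq.coeff_eq_zero (by rw [map_zero]; exact he.ne)
    have e2 : (constantCoeff : MvPolynomial (Fin 2) k →+* k).comp (L0 : MvPolynomial (Fin 3) k →ₐ[k] _).toRingHom =
        constantCoeff := by
      ext i
      · simp [L0]
      · fin_cases i <;> simp [L0] <;> rfl
    rw [← h0]
    exact congrFun (congrArg DFunLike.coe e2) q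
  have hf0 : L0 f ≠ 0 := fun h => by
    have hu : IsUnit (L0 g) := hT (by rw [h]; exact dvd_zero _) dvd_rfl
    have := hu.map constantCoeff
    rw [hc g m hg hm] at this
    exact not_isUnit_zero this
  set I0 : Ideal (MvPolynomial (Fin 2) k) := Ideal.span {L0 f, L0 g}
  haveI : Ring.KrullDimLE 0 (MvPolynomial (Fin 2) k ⧸ I0) := by
    refine Ring.krullDimLE_zero_iff.mpr fun Q hQ => ?_
    haveI := hQ
    set P := Q.comap (Ideal.Quotient.mk I0) with hP
    haveI : P.IsPrime := Ideal.comap_isPrime _ _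
    have hI : ∀ x ∈ I0, x ∈ P := fun x hx => by
      rw [hP, Ideal.mem_comap, Ideal.Quotient.eq_zero_iff_mem.mpr hx]; exact Q.zero_mem
    obtain ⟨p, hp, hpdvd⟩ : ∃ p, p ∈ P ∧ Prime p ∧ p ∣ L0 f := by
      obtain ⟨w, hw⟩ := UniqueFactorizationMonoid.factors_prod hf0
      have hmem : (UniqueFactorizationMonoid.factors (L0 f)).prod ∈ P := by
        have : (UniqueFactorizationMonoid.factors (L0 f)).prod * w ∈ P :=
          hw.symm ▸ hI (L0 f) (Ideal.subset_span (by simp))
        exact (P.mul_unit_mem_iff_mem w.isUnit).mp this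
      obtain ⟨p, hp, hpP⟩ := (Ideal.IsPrime.multiset_prod_mem_iff_exists_mem inferInstance _).mp hmem
      exact ⟨p, hpP, UniqueFactorizationMonoid.prime_of_factor p hp, UniqueFactorizationMonoid.dvd_of_mem_factors hp⟩
    let p0 : PrimeSpectrum (MvPolynomial (Fin 2) k) := ⟨⊥, Ideal.isPrime_bot⟩
    let p1 : PrimeSpectrum (MvPolynomial (Fin 2) k) :=
      ⟨Ideal.span {p}, (Ideal.span_singleton_prime hpdvd.1.ne_zero).mpr hpdvd.1⟩
    let p2 : PrimeSpectrum (MvPolynomial (Fin 2) k) := ⟨P, inferInstance⟩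
    have h01 : p0 < p1 := by
      show (⊥ : Ideal (MvPolynomial (Fin 2) k)) < Ideal.span {p}
      exact bot_lt_iff_ne_bot.mpr (by simpa using hpdvd.1.ne_zero)
    have h12 : p1 < p2 := by
      show Ideal.span {p} < P
      refine lt_of_le_of_ne ((Ideal.span_singleton_le_iff_mem _).mpr hp) fun h => ?_
      have hgP : L0 g ∈ Ideal.span {p} := h ▸ hI _ (Ideal.subset_span (by simp))
      exact hpdvd.1.not_unit (hT hpdvd.2 (Ideal.mem_span_singleton.mp hgP))
    have hmax : P.IsMaximal := by
      by_contra hnot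
      obtain ⟨M, hM, hle⟩ := Ideal.exists_le_maximal P (Ideal.IsPrime.ne_top inferInstance)
      have h23 : p2 < ⟨M, hM.isPrime⟩ := lt_of_le_of_ne hle (fun h => hnot (by rwa [show P = M from congrArg PrimeSpectrum.asIdeal h]))
      let c : LTSeries (PrimeSpectrum (MvPolynomial (Fin 2) k)) :=
        (((RelSeries.singleton _ p0).snoc p1 h01).snoc p2 (by simpa using h12)).snoc ⟨M, hM.isPrime⟩ (by simpa using h23)
      have h := Order.LTSeries.length_le_krullDim c
      have hd : ringKrullDim (MvPolynomial (Fin 2) k) = (2 : ℕ) := by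
        rw [MvPolynomial.ringKrullDim_of_isNoetherianRing, ringKrullDim_eq_zero_of_field, zero_add]
        simp
      rw [show Order.krullDim (PrimeSpectrum (MvPolynomial (Fin 2) k)) = _ from hd] at h
      have hl : c.length = 3 := rfl
      rw [hl] at h
      norm_cast at h
    rw [← Ideal.map_comap_of_surjective _ Ideal.Quotient.mk_surjective Q]
    refine (Ideal.map_eq_top_or_isMaximal_of_surjective _ Ideal.Quotient.mk_surjective hmax).resolve_left fun h => hQ.ne_top ?_
    rwa [hP, Ideal.map_comap_of_surjective _ Ideal.Quotient.mk_surjective Q] at h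
  haveI : IsArtinianRing (MvPolynomial (Fin 2) k ⧸ I0) := isArtinianRing_iff_krullDimLE_zero.mpr inferInstance
  haveI : Module.Finite k (MvPolynomial (Fin 2) k ⧸ I0) := (Module.finite_iff_isArtinianRing k _).mpr inferInstance
  set I3 : Ideal (MvPolynomial (Fin 3) k) := Ideal.span (Set.range ![f, g, X 2]) with hI3
  have key : (Ideal.Quotient.mkₐ k I3).comp ((rename Fin.castSucc).comp L0) = Ideal.Quotient.mkₐ k I3 := by
    refine MvPolynomial.algHom_ext fun i => ?_
    fin_cases i
    · simp [L0]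
    · simp [L0]
    · simp only [AlgHom.comp_apply, L0, aeval_X]
      simp only [Fin.reduceFinMk, Matrix.cons_val, map_zero, Ideal.Quotient.mkₐ_eq_mk]
      exact (Ideal.Quotient.eq_zero_iff_mem.mpr (Ideal.subset_span (Set.mem_range_self (f := ![f, g, X 2]) 2))).symm
  let ψ : (MvPolynomial (Fin 2) k ⧸ I0) →ₐ[k] (MvPolynomial (Fin 3) k ⧸ I3) :=
    Ideal.Quotient.liftₐ I0 ((Ideal.Quotient.mkₐ k I3).comp (rename Fin.castSucc)) (by
      have : I0 ≤ RingHom.ker ((Ideal.Quotient.mkₐ k I3).comp (rename Fin.castSucc)) := by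
        refine Ideal.span_le.mpr ?_
        rintro x (rfl | rfl)
        · refine (DFunLike.congr_fun key f).trans ?_
          exact Ideal.Quotient.eq_zero_iff_mem.mpr (Ideal.subset_span ⟨0, rfl⟩)
        · refine (DFunLike.congr_fun key g).trans ?_
          exact Ideal.Quotient.eq_zero_iff_mem.mpr (Ideal.subset_span ⟨1, rfl⟩)
      exact fun x hx => this hx)
  refine Module.Finite.of_surjective ψ.toLinearMap fun y => ?_
  obtain ⟨x, rfl⟩ := Ideal.Quotient.mk_surjective y
  exact ⟨Ideal.Quotient.mk I0 (L0 x), DFunLike.congr_fun key x⟩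

theorem regular {n m : ℕ} {f g : MvPolynomial (Fin 3) k} (hf : f.IsHomogeneous n) (hg : g.IsHomogeneous m)
    (hn : 0 < n) (hm : 0 < m) (hT : IsRelPrime (L0 f) (L0 g)) :
    RingTheory.Sequence.IsWeaklyRegular (MvPolynomial (Fin 3) k) (List.ofFn ![f, g]) ∧
      ∀ y, X 2 * y ∈ Ideal.span (Set.range ![f, g]) → y ∈ Ideal.span (Set.range ![f, g]) := by
  have h := wreg_of_finite (δ := (1 : Fin 3 → ℕ)) (fun _ => Nat.one_pos) (g := ![f, g, X 2]) (ε := ![n, m, 1])
    (by intro i; fin_cases i <;> simp [hn, hm]) (by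
      intro i; fin_cases i
      · exact hf
      · exact hg
      · exact isHomogeneous_X k (2 : Fin 3)) (finite_quot hf hg hn hm hT)
  rw [wreg_ofFn_iff] at h ⊢
  refine ⟨fun i => ?_, fun y hy => ?_⟩
  · fin_cases i
    · intro y hy
      have := h 0 y
      simp only [List.ofFn_succ, List.ofFn_zero, Matrix.cons_val_zero] at this hy ⊢
      simpa using this (by simpa using hy)
    · intro y hy
      have := h 1 y
      simp only [List.ofFn_succ, List.ofFn_zero] at this hy ⊢
      simpa using this (by simpa using hy)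
  · have hl : Ideal.ofList ((List.ofFn ![f, g, X 2]).take ((2 : Fin 3) : ℕ)) = Ideal.span (Set.range ![f, g]) := by
      refine congrArg Ideal.span (Set.ext fun x => ?_)
      simp [List.ofFn_succ, eq_comm, or_comm]
    have := h 2 y
    rw [hl] at this
    exact this hy

theorem piece_finrank {n m : ℕ} {f g : MvPolynomial (Fin 3) k} (hf : f.IsHomogeneous n) (hg : g.IsHomogeneous m)
    (hn : 0 < n) (hm : 0 < m) (hT : IsRelPrime (L0 f) (L0 g)) {M : ℕ} (hM : n + m ≤ M) :
    Module.finrank k (piece (1 : Fin 3 → ℕ) (Ideal.span (Set.range ![f, g])) M) = n * m := by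
  have hδ : ∀ i, 0 < (1 : Fin 3 → ℕ) i := fun _ => Nat.one_pos
  have h1 := hilb_take hδ (g := ![f, g]) (ε := ![n, m]) (by
    intro i; fin_cases i
    · exact hf
    · exact hg) (regular hf hg hn hm hT).1
  have h2 := hilb_bot_mul (F := k) hδ
  simp only [Pi.one_apply, pow_one, Finset.prod_const, Finset.card_univ, Fintype.card_fin] at h2
  set G : Polynomial ℤ := (∑ j ∈ Finset.range n, (Polynomial.X : Polynomial ℤ) ^ j) *
    ∑ j ∈ Finset.range m, (Polynomial.X : Polynomial ℤ) ^ j with hG
  have h' : hilb (1 : Fin 3 → ℕ) (Ideal.span (Set.range ![f, g])) * (1 - PowerSeries.X) = (G : PowerSeries ℤ) := by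
    have hne : (1 - PowerSeries.X : PowerSeries ℤ) ^ 2 ≠ 0 := pow_ne_zero 2 fun h0 => by
      have := congrArg PowerSeries.constantCoeff h0
      simp at this
    refine mul_right_cancel₀ hne ?_
    have e3 : ((G : PowerSeries ℤ)) * (1 - PowerSeries.X) ^ 2 = (1 - PowerSeries.X ^ n) * (1 - PowerSeries.X ^ m) := by
      rw [hG, ← Polynomial.coeToPowerSeries.ringHom_apply, map_mul]
      simp only [map_sum, map_pow, Polynomial.coeToPowerSeries.ringHom_apply, Polynomial.coe_X]
      rw [← geom_sum_mul_neg (PowerSeries.X : PowerSeries ℤ) n, ← geom_sum_mul_neg (PowerSeries.X : PowerSeries ℤ) m]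
      ring
    rw [e3, h1, Fin.prod_univ_two, mul_assoc, ← pow_succ']
    simp only [Matrix.cons_val_zero, Matrix.cons_val_one]
    rw [mul_right_comm, h2, one_mul]
  have hsum : ∀ j, ∑ i ∈ Finset.range (j + 1), G.coeff i =
      (Module.finrank k (piece (1 : Fin 3 → ℕ) (Ideal.span (Set.range ![f, g])) j) : ℤ) := by
    intro j
    induction j with
    | zero =>
      have := congrArg (PowerSeries.coeff 0) h'
      simpa [hilb, Polynomial.coeff_coe] using this.symm
    | succ j ih =>
      have := congrArg (PowerSeries.coeff (j + 1)) h'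
      rw [mul_sub, mul_one, map_sub, PowerSeries.coeff_succ_mul_X, Polynomial.coeff_coe] at this
      simp only [hilb, PowerSeries.coeff_mk] at this
      rw [Finset.sum_range_succ, ih, ← this]
      ring
  have hdeg : G.natDegree ≤ M := by
    have hs : ∀ q : ℕ, (∑ j ∈ Finset.range q, (Polynomial.X : Polynomial ℤ) ^ j).natDegree ≤ q := fun q =>
      Polynomial.natDegree_sum_le_of_forall_le _ _ fun j hj => by
        rw [Polynomial.natDegree_X_pow]; exact (Finset.mem_range.mp hj).le
    exact (Polynomial.natDegree_mul_le).trans ((add_le_add (hs n) (hs m)).trans hM)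
  have h3 := hsum M
  rw [← show G.eval 1 = ∑ i ∈ Finset.range (M + 1), G.coeff i by
    rw [Polynomial.eval_eq_sum_range' (Nat.lt_succ_of_le hdeg)]; simp] at h3
  simp only [hG, Polynomial.eval_mul, Polynomial.eval_finsetSum, Polynomial.eval_pow, Polynomial.eval_X,
    one_pow, Finset.sum_const, Finset.card_range, nsmul_eq_mul, mul_one] at h3
  exact_mod_cast h3.symm

theorem finrank_affine {n m : ℕ} {f g : MvPolynomial (Fin 3) k} (hf : f.IsHomogeneous n) (hg : g.IsHomogeneous m)
    (hn : 0 < n) (hm : 0 < m) (hT : IsRelPrime (L0 f) (L0 g)) :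
    Module.finrank k (MvPolynomial (Fin 2) k ⧸ Ideal.span ({L1 f, L1 g} : Set (MvPolynomial (Fin 2) k))) = n * m := by
  classical
  obtain ⟨J, hJ⟩ : ∃ J, J = Ideal.span (Set.range ![f, g]) := ⟨_, rfl⟩
  obtain ⟨I1, hI1⟩ : ∃ I1, I1 = Ideal.span ({L1 f, L1 g} : Set (MvPolynomial (Fin 2) k)) := ⟨_, rfl⟩
  rw [← hI1]
  have hle : ∀ x ∈ J, L1 x ∈ I1 := by
    have : J ≤ I1.comap (L1 (k := k)) := by
      rw [hJ]
      refine Ideal.span_le.mpr ?_
      rintro _ ⟨i, rfl⟩
      fin_cases i
      · exact hI1 ▸ Ideal.subset_span (by simp)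
      · exact hI1 ▸ Ideal.subset_span (by simp)
    exact this
  let π : (MvPolynomial (Fin 3) k ⧸ J) →ₐ[k] MvPolynomial (Fin 2) k ⧸ I1 :=
    Ideal.Quotient.liftₐ J ((Ideal.Quotient.mkₐ k I1).comp L1) fun x hx => Ideal.Quotient.eq_zero_iff_mem.mpr (hle x hx)
  have hπ : ∀ x, π (Ideal.Quotient.mk J x) = Ideal.Quotient.mk I1 (L1 x) := fun x => rfl
  let im : ℕ → Submodule k (MvPolynomial (Fin 2) k ⧸ I1) := fun M =>
    (piece (1 : Fin 3 → ℕ) J M).map π.toLinearMap
  have hmono : ∀ M N, M ≤ N → im M ≤ im N := by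
    rintro M N hMN _ ⟨_, ⟨x, hx, rfl⟩, rfl⟩
    refine ⟨Ideal.Quotient.mk J (x * X 2 ^ (N - M)), mem_piece.mpr ⟨_, ?_, rfl⟩, ?_⟩
    · have := IsHomogeneous.mul hx ((isHomogeneous_X k (2 : Fin 3)).pow (N - M))
      rwa [one_mul, Nat.add_sub_cancel' hMN] at this
    · show π (Ideal.Quotient.mk J _) = π (Ideal.Quotient.mk J x)
      rw [hπ, hπ, map_mul, map_pow, L1_X2, one_pow, mul_one]
  have hker : ∀ M (x : MvPolynomial (Fin 3) k), x.IsHomogeneous M → L1 x ∈ I1 → x ∈ J := by
    intro M x hx hxI
    rw [hI1, Ideal.mem_span_pair] at hxI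
    obtain ⟨a, b, hab⟩ := hxI
    let N := M + a.totalDegree + b.totalDegree + n + m
    have e : X 2 ^ (N - M) * x = lift (N - n) a * f + lift (N - m) b * g := by
      have h1 : (X 2 ^ (N - M) * x).IsHomogeneous N := by
        have := ((isHomogeneous_X k (2 : Fin 3)).pow (N - M)).mul hx
        rwa [one_mul, Nat.sub_add_cancel (by omega)] at this
      have h2 : (lift (N - n) a * f + lift (N - m) b * g).IsHomogeneous N := by
        refine IsHomogeneous.add ?_ ?_
        · have := (lift_homog (N - n) a).mul hf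
          rwa [Nat.sub_add_cancel (by omega)] at this
        · have := (lift_homog (N - m) b).mul hg
          rwa [Nat.sub_add_cancel (by omega)] at this
      rw [← lift_L1 h1, ← lift_L1 h2]
      congr 1
      simp only [map_add, map_mul, map_pow, L1_X2, one_pow, one_mul]
      rw [L1_lift (by omega), L1_lift (by omega), hab]
    have hmem : X 2 ^ (N - M) * x ∈ J := by
      rw [e, hJ]
      exact Ideal.add_mem _ (Ideal.mul_mem_left _ _ (Ideal.subset_span ⟨0, rfl⟩))
        (Ideal.mul_mem_left _ _ (Ideal.subset_span ⟨1, rfl⟩))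
    clear e
    generalize N - M = j at hmem
    induction j with
    | zero => simpa using hmem
    | succ j ih =>
      refine ih ?_
      rw [pow_succ', mul_assoc] at hmem
      exact hJ ▸ (regular hf hg hn hm hT).2 _ (hJ ▸ hmem)
  have hrank : ∀ M, n + m ≤ M → Module.finrank k (im M) = n * m := by
    intro M hM
    rw [← piece_finrank hf hg hn hm hT hM, ← hJ]
    have hinj : Function.Injective (π.toLinearMap ∘ₗ (piece (1 : Fin 3 → ℕ) J M).subtype) := by
      rw [injective_iff_map_eq_zero]
      rintro ⟨_, x, hx, rfl⟩ h0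
      refine Subtype.ext (Ideal.Quotient.eq_zero_iff_mem.mpr (hker M x hx ?_))
      exact Ideal.Quotient.eq_zero_iff_mem.mp h0
    have := LinearMap.finrank_range_of_inj hinj
    rwa [LinearMap.range_comp, Submodule.range_subtype] at this
  have htop : im (n + m) = ⊤ := by
    rw [eq_top_iff]
    intro y _
    obtain ⟨p, rfl⟩ := Ideal.Quotient.mk_surjective y
    let N := n + m + p.totalDegree
    haveI := piece_fd (w := (1 : Fin 3 → ℕ)) (fun _ => Nat.one_pos) J N
    haveI : Module.Finite k (im N) := Module.Finite.map _ _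
    have e : im (n + m) = im N := Submodule.eq_of_le_of_finrank_eq (hmono _ _ (by omega))
      (by rw [hrank _ le_rfl, hrank _ (by omega)])
    rw [e]
    refine ⟨Ideal.Quotient.mk J (lift N p), mem_piece.mpr ⟨_, lift_homog N p, rfl⟩, ?_⟩
    show π (Ideal.Quotient.mk J _) = _
    rw [hπ, L1_lift (by omega)]
  have := hrank (n + m) le_rfl
  rwa [htop, finrank_top] at this

end Groth.L15.PlaneBezout
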