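import Mathlib.AlgebraicGeometry.PullbackCarrier
import Mathlib.AlgebraicGeometry.Morphisms.Integral
import Mathlib.AlgebraicGeometry.Morphisms.UniversallyClosed
import Mathlib.Topology.Separation.Basic
import Mathlib.RingTheory.IntegralClosure.IsIntegral.Basic

/-!
# Base change to a filtered union of split algebras is a product on points
-/

set_option autoImplicit false
set_option backward.isDefEq.respectTransparency.types false
set_option backward.isDefEq.respectTransparency false
universe u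

open CategoryTheory CategoryTheory.Limits AlgebraicGeometry

namespace Groth.L15.ProfiniteProd

variable {k A : Type u} [Field k] [CommRing A] [Algebra k A]
  (hA : ∀ s : Finset A, ∃ (B : Subalgebra k A) (n : ℕ),
    (↑s : Set A) ⊆ (B : Set A) ∧ Nonempty (B ≃ₐ[k] (Fin n → k)))

include hA in
theorem exists_split (x : A) :
    ∃ (n : ℕ) (φ : (Fin n → k) →ₐ[k] A) (c : Fin n → k), φ c = x := by
  classical
  obtain ⟨B, n, hB, ⟨e⟩⟩ := hA {x}
  refine ⟨n, B.val.comp e.symm.toAlgHom, e ⟨x, hB (by simp)⟩, ?_⟩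
  simp

include hA in
theorem exists_regular (x : A) : ∃ u : A, x * u * x = x := by
  obtain ⟨n, φ, c, rfl⟩ := exists_split hA x
  refine ⟨φ fun i => (c i)⁻¹, ?_⟩
  rw [← map_mul, ← map_mul]
  congr 1
  funext i
  simp only [Pi.mul_apply]
  rcases eq_or_ne (c i) 0 with h | h
  · simp [h]
  · field_simp

include hA in
theorem isIntegral_algebraMap : (algebraMap k A).IsIntegral := fun x => by
  obtain ⟨n, φ, c, rfl⟩ := exists_split hA x
  exact (IsIntegral.of_finite k c).map φ

include hA in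
theorem exists_sub_mem (P : Ideal A) [P.IsPrime] (x : A) : ∃ c : k, x - algebraMap k A c ∈ P := by
  classical
  obtain ⟨n, φ, c, rfl⟩ := exists_split hA x
  obtain ⟨j, hj⟩ : ∃ j : Fin n, φ (Pi.single j 1) ∉ P := by
    by_contra h
    push Not at h
    apply (inferInstance : P.IsPrime).ne_top
    rw [Ideal.eq_top_iff_one, ← map_one φ,
      show (1 : Fin n → k) = ∑ j, Pi.single j 1 from (Finset.univ_sum_single (1 : Fin n → k)).symm, map_sum]
    exact sum_mem fun j _ => h j
  refine ⟨c j, ((inferInstance : P.IsPrime).mem_or_mem (x := φ (Pi.single j 1)) ?_).resolve_left hj⟩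
  rw [← AlgHom.commutes φ, ← map_sub, ← map_mul]
  convert P.zero_mem
  rw [show (Pi.single j 1 * (c - algebraMap k (Fin n → k) (c j)) : Fin n → k) = 0 from ?_, map_zero]
  funext i
  rcases eq_or_ne i j with rfl | h
  · simp
  · simp [h]

include hA in
theorem isClopen_basicOpen (x : A) : IsClosed (PrimeSpectrum.basicOpen x : Set (PrimeSpectrum A)) := by
  obtain ⟨u, hu⟩ := exists_regular hA x
  have : (PrimeSpectrum.basicOpen x : Set (PrimeSpectrum A)) = PrimeSpectrum.zeroLocus {1 - x * u} := by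
    ext p
    simp only [PrimeSpectrum.basicOpen_eq_zeroLocus_compl, Set.mem_compl_iff, PrimeSpectrum.mem_zeroLocus,
      Set.singleton_subset_iff, SetLike.mem_coe]
    constructor
    · intro hx
      refine (p.isPrime.mem_or_mem (x := x) ?_).resolve_left hx
      rw [show x * (1 - x * u) = x - x * u * x by ring, hu, sub_self]
      exact zero_mem _
    · intro h hx
      apply p.isPrime.ne_top
      rw [Ideal.eq_top_iff_one]
      have := add_mem h (p.asIdeal.mul_mem_right u hx)
      rwa [sub_add_cancel] at this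
  rw [this]
  exact PrimeSpectrum.isClosed_zeroLocus _

include hA in
theorem t2 : T2Space (PrimeSpectrum A) := by
  refine ⟨fun a b hab => ?_⟩
  have : ∃ x : A, ¬ (x ∈ a.asIdeal ↔ x ∈ b.asIdeal) := by
    by_contra h
    push Not at h
    exact hab (PrimeSpectrum.ext (Ideal.ext h))
  obtain ⟨x, hx⟩ := this
  by_cases ha : x ∈ a.asIdeal
  · exact ⟨_, _, (isClopen_basicOpen hA x).isOpen_compl, PrimeSpectrum.isOpen_basicOpen,
      fun h => h ha, fun h => hx ⟨fun _ => h, fun _ => ha⟩, disjoint_compl_left⟩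
  · exact ⟨_, _, PrimeSpectrum.isOpen_basicOpen, (isClopen_basicOpen hA x).isOpen_compl,
      ha, fun h => hx ⟨fun h' => absurd h' ha, fun h' => absurd h' h⟩, disjoint_compl_right⟩

variable {X : Scheme.{u}} (f : X ⟶ Spec (CommRingCat.of k))

local notation "sA" => Spec.map (CommRingCat.ofHom (algebraMap k A))

include hA in
theorem point_unique (p q : ↑(pullback sA f)) (h1 : pullback.fst sA f p = pullback.fst sA f q)
    (h2 : pullback.snd sA f p = pullback.snd sA f q) : p = q := by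
  let P : PrimeSpectrum A := pullback.fst sA f p
  have hbij : Function.Bijective (algebraMap k (A ⧸ P.asIdeal)) := by
    refine ⟨(algebraMap k (A ⧸ P.asIdeal)).injective, fun y => ?_⟩
    obtain ⟨x, rfl⟩ := Ideal.Quotient.mk_surjective y
    obtain ⟨c, hc⟩ := exists_sub_mem hA P.asIdeal x
    exact ⟨c, (Ideal.Quotient.eq.mpr hc).symm⟩
  let α : A →+* k := (RingEquiv.ofBijective _ hbij).symm.toRingHom.comp (Ideal.Quotient.mk P.asIdeal)
  have hα : α.comp (algebraMap k A) = RingHom.id k := RingHom.ext fun c =>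
    (RingEquiv.ofBijective _ hbij).symm_apply_apply c
  let ι : Spec (CommRingCat.of k) ⟶ Spec (CommRingCat.of A) := Spec.map (CommRingCat.ofHom α)
  have hι : ∀ z, ι z = P := fun z => by
    apply PrimeSpectrum.ext
    change Ideal.comap α (z : PrimeSpectrum k).asIdeal = P.asIdeal
    have hz : (z : PrimeSpectrum k).asIdeal = ⊥ :=
      (Ideal.eq_bot_or_top _).resolve_right (z : PrimeSpectrum k).isPrime.ne_top
    rw [hz]
    ext x
    rw [Ideal.mem_comap, Ideal.mem_bot]
    change (RingEquiv.ofBijective _ hbij).symm (Ideal.Quotient.mk P.asIdeal x) = 0 ↔ _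
    rw [EmbeddingLike.map_eq_zero_iff, Ideal.Quotient.eq_zero_iff_mem]
  have hιs : 𝟙 (Spec (CommRingCat.of k)) ≫ 𝟙 _ = ι ≫ sA := by
    rw [Category.comp_id, ← Spec.map_comp, ← CommRingCat.ofHom_comp, hα]
    exact (Spec.map_id _).symm
  have hf : f ≫ 𝟙 _ = 𝟙 X ≫ f := by simp
  let m := pullback.map (𝟙 (Spec (CommRingCat.of k))) f sA f ι (𝟙 X) (𝟙 _) hιs hf
  have key : ∀ r : ↑(pullback sA f), pullback.fst sA f r = P → r ∈ Set.range m := fun r hr => by
    rw [Scheme.Pullback.range_map]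
    refine ⟨⟨Classical.arbitrary _, ?_⟩, ⟨pullback.snd sA f r, rfl⟩⟩
    rw [hι]
    exact hr.symm
  obtain ⟨p', hp'⟩ := key p rfl
  obtain ⟨q', hq'⟩ := key q h1.symm
  have hs : ∀ z, pullback.snd sA f (m z) = pullback.snd (𝟙 _) f z := fun z => by
    rw [← Scheme.Hom.comp_apply, pullback.lift_snd, Scheme.Hom.comp_apply]
    rfl
  rw [← hp', ← hq', hs, hs] at h2
  exact hp'.symm.trans ((congrArg m ((pullback.snd (𝟙 _) f).homeomorph.injective h2)).trans hq')

include hA in
theorem isHomeomorph_prod :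
    IsHomeomorph (fun p : ↑(pullback sA f) => (pullback.fst sA f p, pullback.snd sA f p)) := by
  haveI : IsIntegralHom sA := (IsIntegralHom.SpecMap_iff).mpr (isIntegral_algebraMap hA)
  haveI := t2 hA
  haveI : T2Space ↑(Spec (CommRingCat.of A)) := t2 hA
  have hcont := (pullback.fst sA f).continuous.prodMk (pullback.snd sA f).continuous
  refine ⟨hcont, fun W hW => ?_, fun p q h => point_unique hA f p q (congrArg Prod.fst h) (congrArg Prod.snd h),
    fun ⟨a, x⟩ => ?_⟩
  swap
  · obtain ⟨z, hz1, hz2⟩ := Scheme.Pullback.exists_preimage_pullback (f := sA) (g := f) a x (Subsingleton.elim _ _)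
    exact ⟨z, Prod.ext hz1 hz2⟩
  rw [isOpen_iff_forall_mem_open]
  rintro _ ⟨p, hp, rfl⟩
  set g := pullback.snd sA f with hg
  have hK : IsCompact (Wᶜ ∩ g ⁻¹' {g p}) :=
    ((g.isProperMap.isCompact_preimage isCompact_singleton)).inter_left hW.isClosed_compl
  have hK' : IsClosed (pullback.fst sA f '' (Wᶜ ∩ g ⁻¹' {g p})) :=
    (hK.image (pullback.fst sA f).continuous).isClosed
  have hnot : pullback.fst sA f p ∈ (pullback.fst sA f '' (Wᶜ ∩ g ⁻¹' {g p}))ᶜ := by
    rintro ⟨q, ⟨hqW, hqx⟩, hq⟩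
    exact hqW (point_unique hA f p q hq.symm (Eq.symm hqx) ▸ hp)
  obtain ⟨_, ⟨_, ⟨x, rfl⟩, rfl⟩, hxp, hxK⟩ :=
    PrimeSpectrum.isBasis_basic_opens.exists_subset_of_mem_open hnot hK'.isOpen_compl
  let C : Set ↑(Spec (CommRingCat.of A)) := (PrimeSpectrum.basicOpen x : Set (PrimeSpectrum A))
  have hF : IsClosed (g '' (Wᶜ ∩ pullback.fst sA f ⁻¹' C)) :=
    g.isClosedMap _ (hW.isClosed_compl.inter ((isClopen_basicOpen hA x).preimage (pullback.fst sA f).continuous))
  refine ⟨C ×ˢ (g '' (Wᶜ ∩ pullback.fst sA f ⁻¹' C))ᶜ, ?_,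
    (PrimeSpectrum.isOpen_basicOpen (a := x)).prod hF.isOpen_compl, hxp, ?_⟩
  · rintro ⟨c, y⟩ ⟨hc, hy⟩
    obtain ⟨z, hz1, hz2⟩ := Scheme.Pullback.exists_preimage_pullback (f := sA) (g := f) c y (Subsingleton.elim _ _)
    refine ⟨z, by_contra fun hz => hy ⟨z, ⟨hz, ?_⟩, hz2⟩, Prod.ext hz1 hz2⟩
    show pullback.fst sA f z ∈ C
    rw [hz1]
    exact hc
  · rintro ⟨q, ⟨hqW, hqC⟩, hq⟩
    exact hxK hqC ⟨q, ⟨hqW, hq⟩, rfl⟩

end Groth.L15.ProfiniteProd
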