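import Groth.Agent.L04.CMBasic
import Groth.Agent.L04.Depth2
import Groth.Agent.L02.CMMor.Local
import Mathlib.RingTheory.GradedAlgebra.HomogeneousLocalization
import Mathlib.RingTheory.Ideal.Height

/-!
Homogeneous localizations at primes of a Cohen–Macaulay graded ring.
-/

set_option autoImplicit false

universe u

open HomogeneousLocalization

namespace Groth.L15.ProjCM

variable {A : Type u} [CommRing A] (𝒜 : ℕ → AddSubgroup A) [GradedRing 𝒜]
variable (p : Ideal A) [p.IsPrime]

/-- The homogeneous elements outside `p`. -/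
def T : Submonoid A where
  carrier := {t | (∃ i, t ∈ 𝒜 i) ∧ t ∉ p}
  mul_mem' := by
    rintro a b ⟨⟨i, ha⟩, ha'⟩ ⟨⟨j, hb⟩, hb'⟩
    exact ⟨⟨i + j, SetLike.mul_mem_graded ha hb⟩, fun h => ((inferInstance : p.IsPrime).mem_or_mem h).elim ha' hb'⟩
  one_mem' := ⟨⟨0, SetLike.one_mem_graded 𝒜⟩, fun h => (inferInstance : p.IsPrime).ne_top ((Ideal.eq_top_iff_one _).mpr h)⟩

theorem T_le : T 𝒜 p ≤ p.primeCompl := fun _ h => h.2

theorem T_ne_zero (t : T 𝒜 p) : (t : A) ≠ 0 := fun h => t.2.2 (h ▸ p.zero_mem)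

/-- The degree of a denominator. -/
noncomputable def deg (t : T 𝒜 p) : ℕ := t.2.1.choose

theorem deg_mem (t : T 𝒜 p) : (t : A) ∈ 𝒜 (deg 𝒜 p t) := t.2.1.choose_spec

theorem deg_eq (t : T 𝒜 p) {i : ℕ} (h : (t : A) ∈ 𝒜 i) : deg 𝒜 p t = i :=
  DirectSum.degree_eq_of_mem_mem 𝒜 (deg_mem 𝒜 p t) h (T_ne_zero 𝒜 p t)

/-- The homogeneous component, as an element of the ring. -/
def comp (a : A) (i : ℕ) : A := (DirectSum.decompose 𝒜 a i : 𝒜 i)

theorem comp_mem (a : A) (i : ℕ) : comp 𝒜 a i ∈ 𝒜 i := SetLike.coe_mem _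

theorem comp_mul {a b : A} {i : ℕ} (hb : b ∈ 𝒜 i) (j : ℕ) : comp 𝒜 (b * a) (i + j) = b * comp 𝒜 a j :=
  DirectSum.coe_decompose_mul_add_of_left_mem 𝒜 hb

theorem frac_eq {a b : A} {t s : T 𝒜 p} {c : T 𝒜 p} (h : (c : A) * ((s : A) * a) = c * (t * b)) :
    (c : A) * ((s : A) * comp 𝒜 a (deg 𝒜 p t)) = c * (t * comp 𝒜 b (deg 𝒜 p s)) := by
  have h1 := comp_mul 𝒜 (a := a) (SetLike.mul_mem_graded (deg_mem 𝒜 p c) (deg_mem 𝒜 p s)) (deg 𝒜 p t)
  have h2 := comp_mul 𝒜 (a := b) (SetLike.mul_mem_graded (deg_mem 𝒜 p c) (deg_mem 𝒜 p t)) (deg 𝒜 p s)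
  rw [mul_assoc, mul_assoc, add_right_comm] at h1
  rw [mul_assoc, mul_assoc] at h2
  rw [← h1, ← h2, h, add_right_comm]

/-- The projection onto the degree zero part. -/
noncomputable def ret : Localization (T 𝒜 p) → HomogeneousLocalization 𝒜 (T 𝒜 p) := fun y =>
  Localization.liftOn y (fun a t => HomogeneousLocalization.mk
    ⟨deg 𝒜 p t, ⟨comp 𝒜 a (deg 𝒜 p t), comp_mem 𝒜 _ _⟩, ⟨t, deg_mem 𝒜 p t⟩, t.2⟩) (by
    intro a b t s h
    rw [Localization.r_iff_exists] at h
    obtain ⟨c, hc⟩ := h
    refine HomogeneousLocalization.val_injective _ ?_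
    rw [val_mk, val_mk, Localization.mk_eq_mk_iff, Localization.r_iff_exists]
    exact ⟨c, frac_eq 𝒜 p hc⟩)

theorem val_ret (a : A) (t : T 𝒜 p) :
    (ret 𝒜 p (Localization.mk a t)).val = Localization.mk (comp 𝒜 a (deg 𝒜 p t)) t := by
  rw [ret, Localization.liftOn_mk, val_mk]

theorem ret_add (x y : Localization (T 𝒜 p)) : ret 𝒜 p (x + y) = ret 𝒜 p x + ret 𝒜 p y := by
  induction x using Localization.induction_on with
  | _ x =>
    induction y using Localization.induction_on with
    | _ y =>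
      obtain ⟨a, t⟩ := x
      obtain ⟨b, s⟩ := y
      refine HomogeneousLocalization.val_injective _ ?_
      rw [val_add, Localization.add_mk, val_ret, val_ret, val_ret, Localization.add_mk]
      congr 1
      rw [deg_eq 𝒜 p (t * s) (SetLike.mul_mem_graded (deg_mem 𝒜 p t) (deg_mem 𝒜 p s)), comp,
        DirectSum.decompose_add, DirectSum.add_apply, AddMemClass.coe_add]
      show comp 𝒜 _ _ + comp 𝒜 _ _ = _
      rw [comp_mul 𝒜 (deg_mem 𝒜 p t) (deg 𝒜 p s), add_comm (deg 𝒜 p t) (deg 𝒜 p s),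
        comp_mul 𝒜 (deg_mem 𝒜 p s) (deg 𝒜 p t)]

theorem ret_mul (x : HomogeneousLocalization 𝒜 (T 𝒜 p)) (y : Localization (T 𝒜 p)) :
    ret 𝒜 p (x.val * y) = x * ret 𝒜 p y := by
  obtain ⟨q, rfl⟩ := HomogeneousLocalization.mk_surjective x
  induction y using Localization.induction_on with
  | _ y =>
    obtain ⟨a, t⟩ := y
    refine HomogeneousLocalization.val_injective _ ?_
    rw [val_mul, val_mk, Localization.mk_mul, val_ret, val_ret, Localization.mk_mul]
    congr 1
    rw [deg_eq 𝒜 p (⟨q.den, q.den_mem⟩ * t) (SetLike.mul_mem_graded q.den.2 (deg_mem 𝒜 p t)),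
      comp_mul 𝒜 q.num.2]

theorem ret_val (x : HomogeneousLocalization 𝒜 (T 𝒜 p)) : ret 𝒜 p x.val = x := by
  obtain ⟨q, rfl⟩ := HomogeneousLocalization.mk_surjective x
  refine HomogeneousLocalization.val_injective _ ?_
  rw [val_mk, val_ret, deg_eq 𝒜 p ⟨q.den, q.den_mem⟩ q.den.2, comp, DirectSum.decompose_of_mem_same 𝒜 q.num.2]

theorem comap_map (I : Ideal (HomogeneousLocalization 𝒜 (T 𝒜 p))) :
    (I.map (algebraMap _ (Localization (T 𝒜 p)))).comap (algebraMap _ _) = I := by
  refine le_antisymm (fun x hx => ?_) Ideal.le_comap_map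
  have key : ∀ z ∈ I.map (algebraMap _ (Localization (T 𝒜 p))), ret 𝒜 p z ∈ I := by
    intro z hz
    rw [Ideal.map, Ideal.span] at hz
    induction hz using Submodule.span_induction with
    | mem z hz =>
      obtain ⟨w, hw, rfl⟩ := hz
      rw [HomogeneousLocalization.algebraMap_apply, ret_val]
      exact hw
    | zero => rw [show (0 : Localization (T 𝒜 p)) = (0 : HomogeneousLocalization 𝒜 (T 𝒜 p)).val from val_zero.symm, ret_val]; exact I.zero_mem
    | add a b _ _ ha hb => rw [ret_add]; exact I.add_mem ha hb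
    | smul c a h ha =>
      -- every element of the extended ideal is a combination of elements of `I`
      clear ha
      induction h using Submodule.span_induction generalizing c with
      | mem a ha =>
        obtain ⟨w, hw, rfl⟩ := ha
        rw [smul_eq_mul, HomogeneousLocalization.algebraMap_apply, mul_comm, ret_mul]
        exact I.mul_mem_right _ hw
      | zero =>
        rw [smul_zero, show (0 : Localization (T 𝒜 p)) = (0 : HomogeneousLocalization 𝒜 (T 𝒜 p)).val from val_zero.symm, ret_val]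
        exact I.zero_mem
      | add a b _ _ ha hb => rw [smul_add, ret_add]; exact I.add_mem (ha c) (hb c)
      | smul d a _ ha => rw [smul_smul]; exact ha (c * d)
  have := key _ hx
  rwa [HomogeneousLocalization.algebraMap_apply, ret_val] at this

theorem isNoetherianRing [IsNoetherianRing A] : IsNoetherianRing (HomogeneousLocalization 𝒜 (T 𝒜 p)) := by
  haveI : IsNoetherianRing (Localization (T 𝒜 p)) := IsLocalization.isNoetherianRing (T 𝒜 p) _ inferInstance
  have hmono : StrictMono (Ideal.map (algebraMap (HomogeneousLocalization 𝒜 (T 𝒜 p)) (Localization (T 𝒜 p)))) :=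
    Monotone.strictMono_of_injective (fun _ _ h => Ideal.map_mono h) (Function.LeftInverse.injective (comap_map 𝒜 p))
  exact isNoetherianRing_iff.mpr (isNoetherian_iff'.mpr hmono.wellFoundedGT)

/-- The homogeneous localization at `T` is the one at the prime. -/
theorem mapId_bijective : Function.Bijective (HomogeneousLocalization.mapId 𝒜 (T_le 𝒜 p)) := by
  constructor
  · rw [injective_iff_map_eq_zero]
    intro x hx
    obtain ⟨q, rfl⟩ := HomogeneousLocalization.mk_surjective x
    have h := congrArg HomogeneousLocalization.val hx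
    rw [HomogeneousLocalization.map_mk, val_mk, val_zero, ← Localization.mk_zero 1,
      Localization.mk_eq_mk_iff, Localization.r_iff_exists] at h
    obtain ⟨c, hc⟩ := h
    simp only [OneMemClass.coe_one, one_mul, mul_zero, GradedRingHom.id_apply] at hc
    obtain ⟨j, hj⟩ : ∃ j, comp 𝒜 (c : A) j ∉ p := by
      classical
      by_contra h
      simp only [not_exists, not_not] at h
      refine c.2 ?_
      rw [← DirectSum.sum_support_decompose 𝒜 (c : A)]
      exact Ideal.sum_mem _ fun e _ => h e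
    refine HomogeneousLocalization.val_injective _ ?_
    rw [val_mk, val_zero, ← Localization.mk_zero 1, Localization.mk_eq_mk_iff, Localization.r_iff_exists]
    refine ⟨⟨comp 𝒜 (c : A) j, ⟨j, comp_mem 𝒜 _ _⟩, hj⟩, ?_⟩
    have h2 := DirectSum.coe_decompose_mul_add_of_right_mem 𝒜 (a := (c : A)) (i := j) q.num.2
    simp only [OneMemClass.coe_one, one_mul, mul_zero]
    show comp 𝒜 (c : A) j * (q.num : A) = 0
    rw [comp, ← h2, hc, DirectSum.decompose_zero, DirectSum.zero_apply, ZeroMemClass.coe_zero]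
  · intro x
    obtain ⟨q, rfl⟩ := HomogeneousLocalization.mk_surjective x
    exact ⟨HomogeneousLocalization.mk ⟨q.deg, q.num, q.den, ⟨⟨q.deg, q.den.2⟩, q.den_mem⟩⟩,
      HomogeneousLocalization.map_mk _ _ _⟩

theorem depth_ge [LocCoh.IsCohenMacaulayRing A] {f : A} {e : ℕ} (he : 0 < e) (hf : f ∈ 𝒜 e) (hfp : f ∉ p)
    (hp : p.IsHomogeneous 𝒜) [IsLocalRing (HomogeneousLocalization 𝒜 (T 𝒜 p))] :
    p.height ≤ LocCoh.depth (HomogeneousLocalization 𝒜 (T 𝒜 p)) (HomogeneousLocalization 𝒜 (T 𝒜 p)) := by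
  classical
  haveI : IsNoetherianRing (Localization (T 𝒜 p)) := IsLocalization.isNoetherianRing (T 𝒜 p) _ inferInstance
  let φ := algebraMap (HomogeneousLocalization 𝒜 (T 𝒜 p)) (Localization (T 𝒜 p))
  let m := IsLocalRing.maximalIdeal (HomogeneousLocalization 𝒜 (T 𝒜 p))
  have hQp : ∀ Q : Ideal (Localization (T 𝒜 p)), Q.IsPrime → m.map φ ≤ Q → p ≤ Q.comap (algebraMap A _) := by
    intro Q hQ hmQ a ha
    rw [← DirectSum.sum_support_decompose 𝒜 a]
    refine Ideal.sum_mem _ fun i _ => ?_
    have hai : comp 𝒜 a i ∈ p := hp i ha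
    let fe : T 𝒜 p := ⟨f ^ i, ⟨i * e, by simpa [smul_eq_mul] using SetLike.pow_mem_graded i hf⟩,
      fun h => hfp ((inferInstance : p.IsPrime).mem_of_pow_mem _ h)⟩
    let z : HomogeneousLocalization 𝒜 (T 𝒜 p) := HomogeneousLocalization.mk
      ⟨i * e, ⟨comp 𝒜 a i ^ e, by simpa [smul_eq_mul, mul_comm] using SetLike.pow_mem_graded e (comp_mem 𝒜 a i)⟩,
        ⟨fe, by simpa [smul_eq_mul] using SetLike.pow_mem_graded i hf⟩, fe.2⟩
    have hz : z ∈ m := by
      rw [IsLocalRing.mem_maximalIdeal, mem_nonunits_iff]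
      intro hu
      have hu' := hu.map φ
      obtain ⟨w, hw⟩ := hu'.exists_right_inv
      induction w using Localization.induction_on with
      | _ w =>
        obtain ⟨b, s⟩ := w
        rw [show φ z = Localization.mk (comp 𝒜 a i ^ e) fe from rfl, Localization.mk_mul, ← Localization.mk_one,
          Localization.mk_eq_mk_iff, Localization.r_iff_exists] at hw
        obtain ⟨c, hc⟩ := hw
        simp only [OneMemClass.coe_one, one_mul, mul_one] at hc
        have hmem : ((c * (fe * s) : T 𝒜 p) : A) ∈ p := by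
          rw [Submonoid.coe_mul, ← hc]
          exact Ideal.mul_mem_left _ _ (Ideal.mul_mem_right _ _ (Ideal.pow_mem_of_mem _ hai _ he))
        exact (c * (fe * s)).2.2 hmem
    have h1 : Localization.mk (comp 𝒜 a i ^ e) fe ∈ Q := hmQ (Ideal.mem_map_of_mem φ hz)
    have h2 := Ideal.mul_mem_right (algebraMap A (Localization (T 𝒜 p)) (fe : A)) Q h1
    rw [← Localization.mk_one_eq_algebraMap, Localization.mk_mul, mul_one] at h2
    refine hQ.mem_of_pow_mem e ?_
    rw [← map_pow, ← Localization.mk_one_eq_algebraMap]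
    convert h2 using 1
    rw [Localization.mk_eq_mk_iff, Localization.r_iff_exists]
    exact ⟨1, by simp [mul_comm]; rfl⟩
  -- the ring upstairs is Cohen–Macaulay at these primes
  have hdepth : p.height ≤ LocCoh.idealDepth (m.map φ) (Localization (T 𝒜 p)) := by
    rw [Groth.L04.idealDepth_eq_iInf_depth]
    refine le_iInf₂ fun Q hQ => ?_
    have hh : p.height ≤ Q.asIdeal.height := by
      rw [← IsLocalization.height_under (T 𝒜 p) Q.asIdeal]
      exact Ideal.height_mono (hQp _ Q.2 hQ)
    refine hh.trans ?_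
    rw [Groth.L04.depth_localizedModule_self]
    haveI : (Q.asIdeal.comap (algebraMap A (Localization (T 𝒜 p)))).IsPrime := Ideal.IsPrime.comap _
    haveI := LocCoh.IsCohenMacaulayRing.isCohenMacaulayLocalRing_localization
      (Q.asIdeal.comap (algebraMap A (Localization (T 𝒜 p))))
    have hcm := L02.CMMor.cm_of_ringEquiv
      (IsLocalization.localizationLocalizationAtPrimeIsoLocalization (T 𝒜 p) Q.asIdeal).toRingEquiv inferInstance
    have h := hcm.supportDim_eq_depth
    rw [Module.supportDim_self_eq_ringKrullDim, IsLocalization.AtPrime.ringKrullDim_eq_height Q.asIdeal] at h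
    exact (WithBot.coe_le_coe.mp h.le)
  have hlist : ∀ n : ℕ, (n : ℕ∞) ≤ p.height → ∃ rs : List (HomogeneousLocalization 𝒜 (T 𝒜 p)), rs.length = n ∧
      (∀ r ∈ rs, r ∈ m) ∧ RingTheory.Sequence.IsWeaklyRegular (Localization (T 𝒜 p)) (rs.map φ) := by
    intro n
    induction n with
    | zero => exact fun _ => ⟨[], rfl, by simp, RingTheory.Sequence.IsWeaklyRegular.nil _ _⟩
    | succ n ih =>
      intro hn
      obtain ⟨rs, hlen, hmem, hreg⟩ := ih ((Nat.cast_le.mpr n.le_succ).trans hn)
      obtain ⟨J, hJ⟩ : ∃ J, J = Ideal.ofList (rs.map φ) • (⊤ : Submodule (Localization (T 𝒜 p)) (Localization (T 𝒜 p))) :=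
        ⟨_, rfl⟩
      suffices h : ∃ r ∈ m, IsSMulRegular (Localization (T 𝒜 p) ⧸ J) (φ r) by
        obtain ⟨r, hr, hrr⟩ := h
        refine ⟨rs ++ [r], by simp [hlen], fun s hs => ?_, ?_⟩
        · rcases List.mem_append.mp hs with hs | hs
          · exact hmem s hs
          · exact List.mem_singleton.mp hs ▸ hr
        · rw [List.map_append, RingTheory.Sequence.isWeaklyRegular_append_iff]
          refine ⟨hreg, ?_⟩
          rw [List.map_singleton, RingTheory.Sequence.isWeaklyRegular_singleton_iff]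
          exact hJ ▸ hrr
      by_contra hno
      simp only [not_exists, not_and] at hno
      have hfin := associatedPrimes.finite (Localization (T 𝒜 p)) (Localization (T 𝒜 p) ⧸ J)
      have hsub : (m : Set _) ⊆ ⋃ P ∈ (hfin.toFinset : Set (Ideal (Localization (T 𝒜 p)))), ((P.comap φ : Ideal (HomogeneousLocalization 𝒜 (T 𝒜 p))) : Set (HomogeneousLocalization 𝒜 (T 𝒜 p))) := by
        intro r hr
        have hz := hno r hr
        rw [isSMulRegular_iff_right_eq_zero_of_smul] at hz
        simp only [not_forall] at hz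
        obtain ⟨v, hv, hv0⟩ := hz
        have : φ r ∈ ⋃ P ∈ associatedPrimes (Localization (T 𝒜 p)) (Localization (T 𝒜 p) ⧸ J), (P : Set _) := by
          rw [biUnion_associatedPrimes_eq_zero_divisors]; exact ⟨v, hv0, hv⟩
        simpa using this
      obtain ⟨P, hP, hmP⟩ := (Ideal.subset_union_prime (⊤ : Ideal (Localization (T 𝒜 p))) ⊤ fun P hP _ _ =>
        haveI := IsAssociatedPrime.isPrime (hfin.mem_toFinset.mp hP)
        Ideal.IsPrime.comap φ).mp hsub
      obtain ⟨-, v, hv⟩ := isAssociatedPrime_iff.mp (hfin.mem_toFinset.mp hP)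
      obtain ⟨v, rfl⟩ := Submodule.mkQ_surjective J v
      have hv0 : v ∉ J := fun h => (IsAssociatedPrime.isPrime (hfin.mem_toFinset.mp hP)).ne_top (by
        rw [hv, Submodule.mkQ_apply, (Submodule.Quotient.mk_eq_zero J).mpr h]
        simp)
      have heq := Groth.L04.idealDepth_map_eq_length
        (LinearMap.id : Localization (T 𝒜 p) →ₗ[HomogeneousLocalization 𝒜 (T 𝒜 p)] Localization (T 𝒜 p))
        hreg hmem (m := v) (fun a ha => ?_) (hJ ▸ hv0)
      · have := hdepth.trans heq.le
        rw [hlen] at this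
        exact absurd (Nat.cast_le.mp (hn.trans this)) (Nat.not_succ_le_self n)
      · have h1 : φ a ∈ P := hmP ha
        rw [hv, Submodule.mem_colon_singleton, Submodule.mem_bot, ← map_smul, Submodule.mkQ_apply,
          Submodule.Quotient.mk_eq_zero, hJ, ← Ideal.map_ofList] at h1
        simp only [smul_eq_mul, Ideal.mul_top] at h1
        rw [Ideal.smul_top_eq_map, Submodule.restrictScalars_mem, Algebra.smul_def]
        exact h1
  refine ENat.forall_natCast_le_iff_le.1 fun n hn => ?_
  obtain ⟨rs, rfl, hmem, hreg⟩ := hlist n hn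
  refine Groth.L04.length_le_idealDepth ?_ hmem
  refine ⟨fun i hi => isSMulRegular_iff_right_eq_zero_of_smul.mpr fun y hy => ?_⟩
  obtain ⟨y, rfl⟩ := Submodule.mkQ_surjective _ y
  rw [← map_smul, Submodule.mkQ_apply, Submodule.Quotient.mk_eq_zero, smul_eq_mul, smul_eq_mul, Ideal.mul_top] at hy
  rw [Submodule.mkQ_apply, Submodule.Quotient.mk_eq_zero, smul_eq_mul, Ideal.mul_top]
  have hr := hreg.regular_mod_prev i (by simpa using hi)
  rw [isSMulRegular_iff_right_eq_zero_of_smul] at hr
  have := hr (Submodule.mkQ _ (φ y)) (by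
    rw [← map_smul, Submodule.mkQ_apply, Submodule.Quotient.mk_eq_zero, List.getElem_map]
    simp only [smul_eq_mul, ← map_mul, Ideal.mul_top, ← List.map_take, ← Ideal.map_ofList]
    exact Ideal.mem_map_of_mem φ hy)
  rw [Submodule.mkQ_apply, Submodule.Quotient.mk_eq_zero, smul_eq_mul, Ideal.mul_top, ← List.map_take,
    ← Ideal.map_ofList, ← Ideal.mem_comap, comap_map] at this
  exact this

end Groth.L15.ProjCM
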