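import Groth.Agent.L15.ProjCM
import Mathlib.LinearAlgebra.Finsupp.LinearCombination
import Mathlib.RingTheory.Flat.Basic
import Mathlib.RingTheory.Localization.AtPrime.Basic

/-!
With homogeneous denominators of two consecutive degrees, the homogeneous localization at a prime
has the Laurent polynomials over its degree zero part as total ring: the total ring is free over it.
-/

set_option autoImplicit false

universe u

open HomogeneousLocalization

namespace Groth.L15.ProjFree

open Groth.L15.ProjCM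

variable {A : Type u} [CommRing A] (𝒜 : ℕ → AddSubgroup A) [GradedRing 𝒜]
variable (p : Ideal A) [p.IsPrime] (t s : T 𝒜 p) {d : ℕ}

/-- The unit `s / t`. -/
noncomputable def U : (Localization (T 𝒜 p))ˣ where
  val := Localization.mk (s : A) t
  inv := Localization.mk (t : A) s
  val_inv := by rw [Localization.mk_mul, ← Localization.mk_one, Localization.mk_eq_mk_iff, Localization.r_iff_exists]; exact ⟨1, by simp [mul_comm]⟩
  inv_val := by rw [Localization.mk_mul, ← Localization.mk_one, Localization.mk_eq_mk_iff, Localization.r_iff_exists]; exact ⟨1, by simp [mul_comm]⟩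

theorem U_pow (n : ℕ) : ((U 𝒜 p t s ^ (n : ℤ) : (Localization (T 𝒜 p))ˣ) : Localization (T 𝒜 p)) =
    Localization.mk ((s : A) ^ n) (t ^ n) := by
  rw [zpow_natCast, Units.val_pow_eq_pow_val, ← Localization.mk_pow]
  rfl

theorem U_pow_neg (n : ℕ) : ((U 𝒜 p t s ^ (-(n : ℤ)) : (Localization (T 𝒜 p))ˣ) : Localization (T 𝒜 p)) =
    Localization.mk ((t : A) ^ n) (s ^ n) := by
  rw [zpow_neg, zpow_natCast, ← inv_pow, Units.val_pow_eq_pow_val, ← Localization.mk_pow]
  rfl

/-- The projection as a linear map. -/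
noncomputable def retₗ : Localization (T 𝒜 p) →ₗ[HomogeneousLocalization 𝒜 (T 𝒜 p)] HomogeneousLocalization 𝒜 (T 𝒜 p) where
  toFun := ret 𝒜 p
  map_add' := ret_add 𝒜 p
  map_smul' z y := by
    rw [Algebra.smul_def, HomogeneousLocalization.algebraMap_apply, ret_mul]
    rfl

theorem ret_U_zero : ret 𝒜 p (((U 𝒜 p t s ^ (0 : ℤ) : (Localization (T 𝒜 p))ˣ)) : Localization (T 𝒜 p)) = 1 := by
  rw [zpow_zero, Units.val_one, ← val_one (𝒜 := 𝒜) (x := T 𝒜 p), ret_val]

theorem ret_U_ne (ht : (t : A) ∈ 𝒜 d) (hs : (s : A) ∈ 𝒜 (d + 1)) (i : ℤ) (hi : i ≠ 0) :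
    ret 𝒜 p (((U 𝒜 p t s ^ i : (Localization (T 𝒜 p))ˣ)) : Localization (T 𝒜 p)) = 0 := by
  refine HomogeneousLocalization.val_injective _ ?_
  rw [val_zero, ← Localization.mk_zero 1]
  obtain ⟨n, rfl | rfl⟩ := Int.eq_nat_or_neg i
  · rw [U_pow, val_ret, comp]
    have hd : deg 𝒜 p (t ^ n) = n * d := deg_eq 𝒜 p (t ^ n) (by simpa [smul_eq_mul] using SetLike.pow_mem_graded n ht)
    have hne : n * (d + 1) ≠ n * d := by
      have : n ≠ 0 := fun h => hi (by simp [h])
      rw [Nat.mul_succ]; omega
    rw [hd, DirectSum.decompose_of_mem_ne 𝒜 (by simpa [smul_eq_mul] using SetLike.pow_mem_graded n hs) hne,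
      Localization.mk_zero, Localization.mk_zero]
  · rw [U_pow_neg, val_ret, comp]
    have hd : deg 𝒜 p (s ^ n) = n * (d + 1) :=
      deg_eq 𝒜 p (s ^ n) (by simpa [smul_eq_mul] using SetLike.pow_mem_graded n hs)
    have hne : n * d ≠ n * (d + 1) := by
      have : n ≠ 0 := fun h => hi (by simp [h])
      rw [Nat.mul_succ]; omega
    rw [hd, DirectSum.decompose_of_mem_ne 𝒜 (by simpa [smul_eq_mul] using SetLike.pow_mem_graded n ht) hne,
      Localization.mk_zero, Localization.mk_zero]

/-- An element with numerator and denominator of the same degree. -/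
theorem mem_range_val (a : A) (b : T 𝒜 p) {j : ℕ} (ha : a ∈ 𝒜 j) (hb : (b : A) ∈ 𝒜 j) :
    ∃ z : HomogeneousLocalization 𝒜 (T 𝒜 p), z.val = Localization.mk a b :=
  ⟨HomogeneousLocalization.mk ⟨j, ⟨a, ha⟩, ⟨b, hb⟩, b.2⟩, rfl⟩

theorem free (ht : (t : A) ∈ 𝒜 d) (hs : (s : A) ∈ 𝒜 (d + 1)) :
    Module.Free (HomogeneousLocalization 𝒜 (T 𝒜 p)) (Localization (T 𝒜 p)) := by
  classical
  let v : ℤ → Localization (T 𝒜 p) := fun i => ((U 𝒜 p t s ^ i : (Localization (T 𝒜 p))ˣ) : Localization (T 𝒜 p))
  let Φ := Finsupp.linearCombination (HomogeneousLocalization 𝒜 (T 𝒜 p)) v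
  have hinj : Function.Injective Φ := by
    rw [injective_iff_map_eq_zero]
    intro c hc
    refine Finsupp.ext fun j => ?_
    have h1 : ret 𝒜 p (v (-j) * Φ c) = 0 := by rw [hc, mul_zero, ← val_zero (𝒜 := 𝒜) (x := T 𝒜 p), ret_val]
    have h2 : v (-j) * Φ c = ∑ i ∈ c.support, c i • v (-j + i) := by
      simp only [Φ, Finsupp.linearCombination_apply, Finsupp.sum, Finset.mul_sum]
      refine Finset.sum_congr rfl fun i _ => ?_
      rw [mul_smul_comm]
      simp only [v, zpow_add, Units.val_mul]
    rw [h2] at h1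
    change retₗ 𝒜 p _ = 0 at h1
    rw [map_sum, Finset.sum_eq_single j] at h1
    · rw [map_smul, neg_add_cancel] at h1
      change c j • ret 𝒜 p (v 0) = 0 at h1
      rw [ret_U_zero, smul_eq_mul, mul_one] at h1
      simpa using h1
    · intro i _ hij
      rw [map_smul]
      change c i • ret 𝒜 p (v (-j + i)) = 0
      rw [ret_U_ne 𝒜 p t s ht hs _ (by omega), smul_zero]
    · intro hj
      rw [Finsupp.notMem_support_iff.mp hj, zero_smul, map_zero]
  have hsurj : Function.Surjective Φ := by
    intro y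
    induction y using Localization.induction_on with
    | _ y =>
      obtain ⟨a, b⟩ := y
      rw [← LinearMap.mem_range]
      have hsum : Localization.mk a b = ∑ j ∈ (DirectSum.decompose 𝒜 a).support, Localization.mk (comp 𝒜 a j) b := by
        conv_lhs => rw [← DirectSum.sum_support_decompose 𝒜 a]
        exact Localization.mk_sum _ _ _
      rw [hsum]
      refine Submodule.sum_mem _ fun j _ => ?_
      obtain ⟨i, w, hw, hwi⟩ : ∃ (i : ℤ) (w : HomogeneousLocalization 𝒜 (T 𝒜 p)),
          w.val = Localization.mk (comp 𝒜 a j) b * v (-i) ∧ True := by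
        rcases le_total (deg 𝒜 p b) j with h | h
        · obtain ⟨n, rfl⟩ := Nat.exists_eq_add_of_le h
          refine ⟨n, ?_⟩
          simp only [v, U_pow_neg, Localization.mk_mul]
          obtain ⟨z, hz⟩ := mem_range_val 𝒜 p (comp 𝒜 a (deg 𝒜 p b + n) * (t : A) ^ n) (b * s ^ n)
            (SetLike.mul_mem_graded (comp_mem 𝒜 a _) (SetLike.pow_mem_graded n ht)) (by
              rw [Submonoid.coe_mul, SubmonoidClass.coe_pow]
              have := SetLike.mul_mem_graded (deg_mem 𝒜 p b) (SetLike.pow_mem_graded n hs)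
              convert this using 2
              simp only [smul_eq_mul]; ring)
          exact ⟨z, hz, trivial⟩
        · obtain ⟨n, hn⟩ := Nat.exists_eq_add_of_le h
          refine ⟨-(n : ℤ), ?_⟩
          simp only [v, neg_neg, U_pow, Localization.mk_mul]
          obtain ⟨z, hz⟩ := mem_range_val 𝒜 p (comp 𝒜 a j * (s : A) ^ n) (b * t ^ n)
            (SetLike.mul_mem_graded (comp_mem 𝒜 a j) (SetLike.pow_mem_graded n hs)) (by
              rw [Submonoid.coe_mul, SubmonoidClass.coe_pow]
              have := SetLike.mul_mem_graded (deg_mem 𝒜 p b) (SetLike.pow_mem_graded n ht)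
              convert this using 2
              simp only [smul_eq_mul, hn]; ring)
          exact ⟨z, hz, trivial⟩
      refine ⟨Finsupp.single i w, ?_⟩
      simp only [Φ, Finsupp.linearCombination_single]
      rw [Algebra.smul_def, HomogeneousLocalization.algebraMap_apply, hw, mul_assoc]
      simp only [v, ← Units.val_mul, zpow_neg, inv_mul_cancel, Units.val_one, mul_one]
  exact Module.Free.of_basis (Module.Basis.ofRepr (LinearEquiv.ofBijective Φ ⟨hinj, hsurj⟩).symm)

end Groth.L15.ProjFree
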