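import Groth.Agent.L15.SemiNorm
import Groth.Agent.L28.PtFun.Spec
import Groth.Agent.L01.CompletionReg
import Mathlib.RingTheory.AdicCompletion.LocalRing
import Mathlib.RingTheory.AdicCompletion.Algebra
import Mathlib.RingTheory.LocalProperties.Reduced

/-!
Pointwise functions on seminormal rings varying along complete discrete valuation rings.
-/

set_option autoImplicit false
universe u

open IsLocalRing

namespace Groth.L15.PtFunSemi

open Groth.L28.PtFun (Varies eq_of_values)

variable {A : Type u} [CommRing A]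

/-- the family `g` is algebraic along every map to a complete discrete valuation ring -/
def VariesC (g : ∀ p : PrimeSpectrum A, p.asIdeal.ResidueField) : Prop :=
  ∀ (R : Type u) [CommRing R] [IsDomain R] [IsDiscreteValuationRing R]
    [IsAdicComplete (IsLocalRing.maximalIdeal R) R] (φ : A →+* R),
    ∃ r : R, ∀ (Q : PrimeSpectrum R) (p : PrimeSpectrum A) (h : p.asIdeal = Q.asIdeal.comap φ),
      algebraMap R Q.asIdeal.ResidueField r = Ideal.ResidueField.map p.asIdeal Q.asIdeal φ h (g p)

lemma map_map {B D : Type u} [CommRing B] [CommRing D] (θ : A →+* B) (φ : B →+* D)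
    (p : Ideal A) [p.IsPrime] (P : Ideal B) [P.IsPrime] (Q : Ideal D) [Q.IsPrime]
    (h : p = P.comap θ) (h' : P = Q.comap φ) (h'' : p = Q.comap (φ.comp θ))
    (z : p.ResidueField) :
    Ideal.ResidueField.map P Q φ h' (Ideal.ResidueField.map p P θ h z) =
      Ideal.ResidueField.map p Q (φ.comp θ) h'' z := by
  refine RingHom.congr_fun (?_ : (Ideal.ResidueField.map P Q φ h').comp
    (Ideal.ResidueField.map p P θ h) = Ideal.ResidueField.map p Q (φ.comp θ) h'') z
  refine Ideal.ResidueField.ringHom_ext (RingHom.ext fun x => ?_)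
  simp only [RingHom.comp_apply, Ideal.ResidueField.map_algebraMap]

/-- Variation along complete discrete valuation rings implies variation along all of them. -/
theorem varies_of_variesC {g : ∀ p : PrimeSpectrum A, p.asIdeal.ResidueField} (hg : VariesC g) :
    Varies g := by
  intro R _ _ _ φ
  let m := maximalIdeal R
  let S := AdicCompletion m R
  haveI : IsNoetherianRing S := Groth.L01.AnalUnram.isNoetherianRing_completion R
  have hdim : ringKrullDim S = 1 := by
    rw [Groth.L01.CompletionReg.ringKrullDim_completion R]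
    exact IsDiscreteValuationRing.ringKrullDim_eq_one R
  obtain ⟨_, _⟩ := (Groth.L01.CompletionReg.dvr_iff_regular_dim_one S).mpr
    ⟨(Groth.L01.CompletionReg.isRegularLocalRing_iff_completion R).mp inferInstance, hdim⟩
  let ι : R →+* S := algebraMap R S
  obtain ⟨s, hs⟩ := hg S (ι.comp φ)
  have hker : ∀ (n : ℕ) (a : R), AdicCompletion.evalₐ m n (ι a) = 0 → a ∈ m ^ n := fun n a ha => by
    rw [AlgHom.commutes] at ha
    exact Ideal.Quotient.eq_zero_iff_mem.mp ha
  have hinj : Function.Injective ι := by
    rw [injective_iff_map_eq_zero]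
    intro a ha
    have hmem : a ∈ ⨅ n, m ^ n := by
      rw [Submodule.mem_iInf]
      exact fun n => hker n a (by rw [ha, map_zero])
    rwa [Ideal.iInf_pow_eq_bot_of_isLocalRing m (maximalIdeal.isMaximal R).ne_top, Ideal.mem_bot] at hmem
  -- the generic point
  let Q₀ : PrimeSpectrum R := ⟨⊥, Ideal.isPrime_bot⟩
  let S₀ : PrimeSpectrum S := ⟨⊥, Ideal.isPrime_bot⟩
  let p₀ : PrimeSpectrum A := ⟨Q₀.asIdeal.comap φ, Ideal.IsPrime.comap φ⟩
  have hQS : Q₀.asIdeal = S₀.asIdeal.comap ι := (Ideal.comap_bot_of_injective _ hinj).symm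
  obtain ⟨a', b', hb', hab⟩ := IsFractionRing.div_surjective (A := R ⧸ Q₀.asIdeal)
    (Ideal.ResidueField.map p₀.asIdeal Q₀.asIdeal φ rfl (g p₀))
  obtain ⟨a, rfl⟩ := Ideal.Quotient.mk_surjective a'
  obtain ⟨b, rfl⟩ := Ideal.Quotient.mk_surjective b'
  have hb0 : b ≠ 0 := fun h => nonZeroDivisors.ne_zero hb' (by rw [h, map_zero])
  have htower : ∀ c : R, algebraMap (R ⧸ Q₀.asIdeal) Q₀.asIdeal.ResidueField
      (Ideal.Quotient.mk Q₀.asIdeal c) = algebraMap R Q₀.asIdeal.ResidueField c := fun c =>
    (IsScalarTower.algebraMap_apply R (R ⧸ Q₀.asIdeal) Q₀.asIdeal.ResidueField c).symm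
  rw [htower, htower] at hab
  have hbne : algebraMap R Q₀.asIdeal.ResidueField b ≠ 0 := by
    rw [Ne, Ideal.algebraMap_residueField_eq_zero]
    exact fun h => hb0 (Ideal.mem_bot.mp h)
  rw [div_eq_iff hbne] at hab
  have hc0 : p₀.asIdeal = S₀.asIdeal.comap (ι.comp φ) := by
    show Q₀.asIdeal.comap φ = _
    rw [hQS, Ideal.comap_comap]
  have hbot : ∀ x y : S, algebraMap S S₀.asIdeal.ResidueField x = algebraMap S _ y → x = y :=
    fun x y hxy => sub_eq_zero.mp (Ideal.mem_bot.mp
      (Ideal.algebraMap_residueField_eq_zero.mp (by rw [map_sub, hxy, sub_self])))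
  have hS : ι a = s * ι b := by
    apply hbot
    have h1 := congrArg (Ideal.ResidueField.map Q₀.asIdeal S₀.asIdeal ι hQS) hab
    rw [map_mul, Ideal.ResidueField.map_algebraMap, Ideal.ResidueField.map_algebraMap,
      map_map φ ι p₀.asIdeal Q₀.asIdeal S₀.asIdeal rfl hQS hc0] at h1
    rw [map_mul, hs S₀ p₀ hc0]
    exact h1
  have hdvd : a ∈ Ideal.span {b} := by
    obtain ⟨ϖ, hϖ⟩ := IsDiscreteValuationRing.exists_irreducible R
    obtain ⟨n, hn⟩ := IsDiscreteValuationRing.ideal_eq_span_pow_irreducible
      (s := Ideal.span {b}) (by simpa using hb0) hϖ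
    have hm : m ^ n = Ideal.span {b} := by
      rw [hn, ← Ideal.span_singleton_pow, ← hϖ.maximalIdeal_eq]
    rw [← hm]
    apply hker
    rw [hS, map_mul, AlgHom.commutes]
    have : algebraMap R (R ⧸ m ^ n) b = 0 :=
      Ideal.Quotient.eq_zero_iff_mem.mpr (hm ▸ Ideal.mem_span_singleton_self b)
    rw [this, mul_zero]
  obtain ⟨r, rfl⟩ := Ideal.mem_span_singleton'.mp hdvd
  have hsr : s = ι r := by
    rw [map_mul] at hS
    exact (mul_right_cancel₀ ((map_ne_zero_iff ι hinj).mpr hb0) hS).symm
  refine ⟨r, fun Q p h => ?_⟩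
  obtain ⟨S', hS'⟩ : ∃ S' : PrimeSpectrum S, Q.asIdeal = S'.asIdeal.comap ι := by
    by_cases hQ : Q.asIdeal = ⊥
    · exact ⟨S₀, hQ.trans hQS⟩
    · refine ⟨⟨maximalIdeal S, inferInstance⟩, ?_⟩
      rw [IsLocalRing.eq_maximalIdeal (Ideal.IsPrime.isMaximal Q.isPrime hQ)]
      have h4 : IsLocalHom ι ↔ (maximalIdeal S).comap ι = maximalIdeal R :=
        (IsLocalRing.local_hom_TFAE ι).out 0 4
      exact (h4.mp inferInstance).symm
  apply (Ideal.ResidueField.map Q.asIdeal S'.asIdeal ι hS').injective
  have hc : p.asIdeal = S'.asIdeal.comap (ι.comp φ) := by rw [h, hS', Ideal.comap_comap]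
  rw [Ideal.ResidueField.map_algebraMap, map_map φ ι p.asIdeal Q.asIdeal S'.asIdeal h hS' hc,
    ← hs S' p hc, hsr]

open CategoryTheory AlgebraicGeometry W4c1hilbchowinc in
theorem variesC_of_variesAlongCompleteDVR {f : PtFun (Spec (CommRingCat.of A))}
    (hf : f.VariesAlongCompleteDVR) :
    VariesC (fun p : PrimeSpectrum A => Groth.L28.PtFun.toIdealRF p (f p)) := by
  intro R _ _ _ _ φ
  obtain ⟨s, hs⟩ := hf R (Spec.map (CommRingCat.ofHom φ))
  refine ⟨(Scheme.ΓSpecIso (CommRingCat.of R)).hom s, fun Q p h => ?_⟩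
  obtain rfl : p = (Spec.map (CommRingCat.ofHom φ)) Q := PrimeSpectrum.ext h
  have h1 : (Spec (CommRingCat.of R)).Γevaluation Q s =
      (Spec.map (CommRingCat.ofHom φ)).residueFieldMap Q (f ((Spec.map (CommRingCat.ofHom φ)) Q)) :=
    congrFun hs Q
  exact ((Groth.L28.PtFun.toIdealRF_evaluation Q s).symm.trans
    (congrArg (Groth.L28.PtFun.toIdealRF Q) h1)).trans (Groth.L28.PtFun.toIdealRF_naturality φ Q _)

variable (A)

lemma isFractionRing_integralClosure :
    IsFractionRing (integralClosure A (FractionRing A)) (FractionRing A) := by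
  set B := integralClosure A (FractionRing A)
  refine ⟨fun s => ?_, fun z => ?_, fun {x y} h => ⟨1, by simp [Subtype.ext h]⟩⟩
  · obtain ⟨⟨a, t⟩, hat⟩ := IsLocalization.surj (nonZeroDivisors A) ((s : B) : FractionRing A)
    have ha : a ∈ nonZeroDivisors A := by
      refine mem_nonZeroDivisors_iff_right.mpr fun x hx => ?_
      have h0 : algebraMap A B x * algebraMap A B (t : A) = 0 := by
        apply mul_right_mem_nonZeroDivisors_eq_zero_iff s.2 |>.mp
        apply Subtype.ext
        have h1 : algebraMap A (FractionRing A) x * algebraMap A (FractionRing A) a = 0 := by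
          rw [← map_mul, hx, map_zero]
        rw [← hat] at h1
        show algebraMap A (FractionRing A) x * algebraMap A (FractionRing A) t * ((s : B) : FractionRing A) = 0
        rw [mul_assoc, mul_comm (algebraMap A (FractionRing A) t)]
        exact h1
      rw [← map_mul] at h0
      have h2 : algebraMap A (FractionRing A) (x * t) = 0 := congrArg Subtype.val h0
      exact mem_nonZeroDivisors_iff_right.mp t.2 x
        ((map_eq_zero_iff _ (IsFractionRing.injective A (FractionRing A))).mp h2)
    have hu := IsLocalization.map_units (FractionRing A) ⟨a, ha⟩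
    rw [← hat] at hu
    exact isUnit_of_mul_isUnit_left hu
  · obtain ⟨⟨a, t⟩, hat⟩ := IsLocalization.surj (nonZeroDivisors A) z
    refine ⟨⟨algebraMap A B a, ⟨algebraMap A B t, mem_nonZeroDivisors_iff_right.mpr fun x hx => ?_⟩⟩, hat⟩
    apply Subtype.ext
    exact (IsLocalization.map_units (FractionRing A) t).mul_left_eq_zero.mp (congrArg Subtype.val hx)

lemma isIntegrallyClosed_integralClosure :
    IsIntegrallyClosed (integralClosure A (FractionRing A)) := by
  haveI := isFractionRing_integralClosure A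
  refine (isIntegrallyClosed_iff (FractionRing A)).mpr fun {x} hx => ?_
  exact ⟨⟨x, isIntegral_trans (R := A) x hx⟩, rfl⟩

variable {A}

/-- An element generating a subring of an integral extension, with residual values coming from
`g`, lies in the seminormal ring. -/
theorem mem_range_of_values [IsNoetherianRing A] (hA : HTop.IsSeminormalRing A) {T B : Type u}
    [CommRing T] [CommRing B] [IsReduced T] [Algebra A T] [Algebra A B] [Algebra T B]
    [IsScalarTower A T B] [Algebra.IsIntegral A B] [Algebra.IsIntegral A T]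
    (hAB : Function.Injective (algebraMap A B)) (hTB : Function.Injective (algebraMap T B))
    (y : T) (hy : Algebra.adjoin A ({y} : Set T) = ⊤)
    (g : ∀ p : PrimeSpectrum A, p.asIdeal.ResidueField)
    (hb : ∀ P : PrimeSpectrum B, algebraMap B P.asIdeal.ResidueField (algebraMap T B y) =
      Ideal.ResidueField.map (P.asIdeal.comap (algebraMap A B)) P.asIdeal (algebraMap A B) rfl
        (g ⟨P.asIdeal.comap (algebraMap A B), Ideal.IsPrime.comap _⟩)) :
    ∃ a : A, ∀ p : PrimeSpectrum A, algebraMap A p.asIdeal.ResidueField a = g p := by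
  haveI : Algebra.IsIntegral T B := Algebra.IsIntegral.tower_top A
  have hAT : Function.Injective (algebraMap A T) := fun x z h => hAB (by
    rw [IsScalarTower.algebraMap_apply A T B, IsScalarTower.algebraMap_apply A T B, h])
  -- `y` takes residual values
  have hres : ∀ p : PrimeSpectrum A, ∃ c s : A, s ∉ p.asIdeal ∧ ∀ Q : PrimeSpectrum T,
      Q.asIdeal.comap (algebraMap A T) = p.asIdeal →
        algebraMap A T s * y - algebraMap A T c ∈ Q.asIdeal := by
    intro p
    obtain ⟨c', s', hs', hcs⟩ := IsFractionRing.div_surjective (A := A ⧸ p.asIdeal) (g p)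
    obtain ⟨c, rfl⟩ := Ideal.Quotient.mk_surjective c'
    obtain ⟨s, rfl⟩ := Ideal.Quotient.mk_surjective s'
    have htower : ∀ x : A, algebraMap (A ⧸ p.asIdeal) p.asIdeal.ResidueField
        (Ideal.Quotient.mk p.asIdeal x) = algebraMap A p.asIdeal.ResidueField x := fun x =>
      (IsScalarTower.algebraMap_apply A (A ⧸ p.asIdeal) p.asIdeal.ResidueField x).symm
    rw [htower, htower] at hcs
    have hsp : s ∉ p.asIdeal := fun h =>
      nonZeroDivisors.ne_zero hs' (Ideal.Quotient.eq_zero_iff_mem.mpr h)
    refine ⟨c, s, hsp, fun Q hQ => ?_⟩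
    obtain ⟨P, -, hP, hPQ⟩ := Ideal.exists_ideal_over_prime_of_isIntegral Q.asIdeal (⊥ : Ideal B)
      (by
        rw [← RingHom.ker_eq_comap_bot, (RingHom.injective_iff_ker_eq_bot _).mp hTB]
        exact bot_le)
    rw [← hPQ, Ideal.mem_comap, map_sub, map_mul, ← IsScalarTower.algebraMap_apply,
      ← IsScalarTower.algebraMap_apply]
    rw [← Ideal.algebraMap_residueField_eq_zero, map_sub, map_mul, hb ⟨P, hP⟩]
    have hp : p.asIdeal = P.comap (algebraMap A B) := by
      rw [← hQ, ← hPQ, Ideal.comap_comap, IsScalarTower.algebraMap_eq A T B]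
    obtain rfl : p = ⟨P.comap (algebraMap A B), Ideal.IsPrime.comap _⟩ := PrimeSpectrum.ext hp
    rw [div_eq_iff (fun h => hsp (Ideal.algebraMap_residueField_eq_zero.mp h))] at hcs
    rw [← Ideal.ResidueField.map_algebraMap (P.comap (algebraMap A B)) P (algebraMap A B) rfl s,
      ← Ideal.ResidueField.map_algebraMap (P.comap (algebraMap A B)) P (algebraMap A B) rfl c,
      ← map_mul, hcs, mul_comm, sub_self]
  -- hence `Spec T → Spec A` is injective
  have hcomap : Function.Injective (PrimeSpectrum.comap (algebraMap A T)) := by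
    intro Q₁ Q₂ hQ
    set p := PrimeSpectrum.comap (algebraMap A T) Q₁
    have key : ∀ t ∈ Algebra.adjoin A ({y} : Set T), ∃ c s : A, s ∉ p.asIdeal ∧ ∀ Q : PrimeSpectrum T,
        Q.asIdeal.comap (algebraMap A T) = p.asIdeal →
          algebraMap A T s * t - algebraMap A T c ∈ Q.asIdeal := by
      intro t ht
      induction ht using Algebra.adjoin_induction with
      | mem x hx =>
        obtain rfl : x = y := hx
        exact hres p
      | algebraMap r =>
        refine ⟨r, 1, (Ideal.ne_top_iff_one _).mp p.isPrime.ne_top, fun Q _ => ?_⟩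
        rw [map_one, one_mul, sub_self]
        exact Q.asIdeal.zero_mem
      | add x z _ _ ihx ihz =>
        obtain ⟨c₁, s₁, hs₁, h₁⟩ := ihx
        obtain ⟨c₂, s₂, hs₂, h₂⟩ := ihz
        refine ⟨s₂ * c₁ + s₁ * c₂, s₁ * s₂,
          fun h => (p.isPrime.mem_or_mem h).elim hs₁ hs₂, fun Q hQ => ?_⟩
        have := Q.asIdeal.add_mem (Q.asIdeal.mul_mem_left (algebraMap A T s₂) (h₁ Q hQ))
          (Q.asIdeal.mul_mem_left (algebraMap A T s₁) (h₂ Q hQ))
        convert this using 1
        simp only [map_mul, map_add]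
        ring
      | mul x z _ _ ihx ihz =>
        obtain ⟨c₁, s₁, hs₁, h₁⟩ := ihx
        obtain ⟨c₂, s₂, hs₂, h₂⟩ := ihz
        refine ⟨c₁ * c₂, s₁ * s₂, fun h => (p.isPrime.mem_or_mem h).elim hs₁ hs₂, fun Q hQ => ?_⟩
        have := Q.asIdeal.add_mem
          (Q.asIdeal.mul_mem_left (algebraMap A T s₂ * z) (h₁ Q hQ))
          (Q.asIdeal.mul_mem_left (algebraMap A T c₁) (h₂ Q hQ))
        convert this using 1
        simp only [map_mul]
        ring
    have hiff : ∀ (Q : PrimeSpectrum T) (_ : Q.asIdeal.comap (algebraMap A T) = p.asIdeal)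
        (x : T) (c s : A), s ∉ p.asIdeal → algebraMap A T s * x - algebraMap A T c ∈ Q.asIdeal →
        (x ∈ Q.asIdeal ↔ c ∈ p.asIdeal) := by
      intro Q hQ x c s hs h
      rw [← hQ, Ideal.mem_comap] at hs ⊢
      constructor
      · intro hx
        have := sub_mem (Q.asIdeal.mul_mem_left (algebraMap A T s) hx) h
        rwa [sub_sub_cancel] at this
      · intro hc
        have := add_mem h hc
        rw [sub_add_cancel] at this
        exact (Q.isPrime.mem_or_mem this).resolve_left hs
    apply PrimeSpectrum.ext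
    ext t
    obtain ⟨c, s, hs, h⟩ := key t (hy ▸ Algebra.mem_top)
    rw [hiff Q₁ rfl t c s hs (h Q₁ rfl),
      hiff Q₂ (congrArg PrimeSpectrum.asIdeal hQ).symm t c s hs
        (h Q₂ (congrArg PrimeSpectrum.asIdeal hQ).symm)]
  obtain ⟨a, ha⟩ := Groth.L15.SemiNorm.mem_range_of_residual hA hAT hcomap y (fun Q => by
    obtain ⟨c, s, hs, h⟩ := hres (PrimeSpectrum.comap (algebraMap A T) Q)
    exact ⟨c, s, hs, h Q rfl⟩)
  refine ⟨a, fun p => ?_⟩
  obtain ⟨P, -, hP, hPp⟩ := Ideal.exists_ideal_over_prime_of_isIntegral p.asIdeal (⊥ : Ideal B)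
    (by rw [← RingHom.ker_eq_comap_bot, (RingHom.injective_iff_ker_eq_bot _).mp hAB]; exact bot_le)
  obtain rfl : p = ⟨P.comap (algebraMap A B), Ideal.IsPrime.comap _⟩ := PrimeSpectrum.ext hPp.symm
  apply (Ideal.ResidueField.map (P.comap (algebraMap A B)) P (algebraMap A B) rfl).injective
  rw [Ideal.ResidueField.map_algebraMap, ← hb ⟨P, hP⟩, ← ha, ← IsScalarTower.algebraMap_apply A T B]

/-- On a seminormal Noetherian ring with finite normalisation a family of residue values varying
along complete discrete valuation rings comes from the ring. -/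
theorem exists_of_isSeminormal [IsNoetherianRing A] (hA : HTop.IsSeminormalRing A)
    (hfin : Module.Finite A (integralClosure A (FractionRing A)))
    (g : ∀ p : PrimeSpectrum A, p.asIdeal.ResidueField) (hg : VariesC g) :
    ∃ a : A, ∀ p : PrimeSpectrum A, algebraMap A p.asIdeal.ResidueField a = g p := by
  haveI := Groth.L15.SemiNorm.isReduced_of_isSeminormal hA
  haveI : IsReduced (FractionRing A) :=
    isReduced_localizationPreserves (nonZeroDivisors A) _ inferInstance
  let B := integralClosure A (FractionRing A)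
  haveI : IsReduced B := isReduced_of_injective B.val Subtype.val_injective
  haveI : IsNoetherianRing B := IsNoetherianRing.of_finite A B
  haveI : IsIntegrallyClosed B := isIntegrallyClosed_integralClosure A
  obtain ⟨b, hb⟩ := Groth.L28.PtFun.exists_of_isIntegrallyClosed _
    ((varies_of_variesC hg).comp (algebraMap A B))
  let T := Algebra.adjoin A ({b} : Set B)
  haveI : IsReduced T := isReduced_of_injective T.val Subtype.val_injective
  haveI : Algebra.IsIntegral A B := Algebra.IsIntegral.of_finite A B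
  haveI : Algebra.IsIntegral A T := Algebra.IsIntegral.of_injective T.val Subtype.val_injective
  have hTB : Function.Injective (algebraMap T B) := fun x z h => Subtype.ext h
  refine mem_range_of_values (T := T) (B := B) hA
    (fun x z h => IsFractionRing.injective A (FractionRing A) (congrArg Subtype.val h)) hTB
    ⟨b, Algebra.self_mem_adjoin_singleton A b⟩ ?_ g hb
  apply Subalgebra.map_injective (f := T.val) Subtype.val_injective
  rw [AlgHom.map_adjoin, Algebra.map_top, Subalgebra.range_val, Set.image_singleton]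
  rfl

end Groth.L15.PtFunSemi
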