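import Groth.Prelude.Def_ega3
import Groth.Prelude.Def_Pi1
import Groth.Agent.L19.NormalSections
import Groth.Agent.L22.FibreDim
import Mathlib.AlgebraicGeometry.Morphisms.Proper
import Mathlib.AlgebraicGeometry.Morphisms.Separated
import Mathlib.RingTheory.Localization.Integral

/-!
# When a proper dominant morphism of integral schemes is an isomorphism on functions
-/

set_option autoImplicit false
set_option backward.isDefEq.respectTransparency.types false
set_option backward.isDefEq.respectTransparency false
set_option linter.style.haveILetI false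
universe u

open CategoryTheory CategoryTheory.Limits AlgebraicGeometry TopologicalSpace Opposite

namespace Groth.L15.PushFun

variable {X Y : Scheme.{u}} [IsIntegral X] [IsIntegral Y] (f : X ⟶ Y) [Surjective f]

theorem map_generic : f (genericPoint X) = genericPoint Y :=
  ((genericPoint_spec X).image f.continuous).eq (by
    rw [Set.image_univ, f.surjective.range_eq, closure_univ]; exact genericPoint_spec _)

theorem mem_generic {U : Y.Opens} [Nonempty U] : genericPoint Y ∈ U :=
  ((genericPoint_spec Y).mem_open_set_iff U.isOpen).mpr (by simpa using ‹Nonempty U›)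

theorem mem_preimage {U : Y.Opens} (hη : genericPoint Y ∈ U) : genericPoint X ∈ f ⁻¹ᵁ U :=
  show f (genericPoint X) ∈ U from (map_generic f).symm ▸ hη

variable (h : f.base (genericPoint X) ⤳ genericPoint Y)

omit [Surjective f] in
theorem j_germ (U : Y.Opens) (hη : genericPoint Y ∈ U) (hξ : genericPoint X ∈ f ⁻¹ᵁ U) (s : Γ(Y, U)) :
    CohIII.stalkToFunctionField f (genericPoint Y) h (Y.presheaf.germ U (genericPoint Y) hη s) =
      X.presheaf.germ (f ⁻¹ᵁ U) (genericPoint X) hξ (f.app U s) := by
  change (f.stalkMap (genericPoint X)) (Y.presheaf.stalkSpecializes h _) = _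
  rw [TopCat.Presheaf.germ_stalkSpecializes_apply]
  exact Scheme.Hom.germ_stalkMap_apply f U (genericPoint X) hξ s

theorem j_injective : Function.Injective (CohIII.stalkToFunctionField f (genericPoint Y) h) :=
  (show Y.functionField →+* X.functionField from CohIII.stalkToFunctionField f (genericPoint Y) h).injective

include h in
theorem app_injective (U : Y.Opens) [Nonempty U] : Function.Injective (f.app U) := fun a b hab => by
  apply germ_injective_of_isIntegral Y (genericPoint Y) (mem_generic (U := U))
  apply j_injective f h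
  rw [j_germ f h U _ (mem_preimage f mem_generic), j_germ f h U _ (mem_preimage f mem_generic), hab]

/-- Sections over the inverse image of an affine open are integral over the sections of the open. -/
theorem isIntegral_app [UniversallyClosed f] {V : Y.Opens} (hV : IsAffineOpen V) :
    (f.app V).hom.IsIntegral := by
  haveI : IsAffine V.toScheme := hV
  haveI : UniversallyClosed (f ∣_ V) :=
    MorphismProperty.of_isPullback (P := @UniversallyClosed) (isPullback_morphismRestrict f V).flip ‹_›
  have h2 := isIntegral_appTop_of_universallyClosed (f ∣_ V)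
  rw [morphismRestrict_appTop] at h2
  have h3 : (f.app (V.ι ''ᵁ ⊤)).hom.IsIntegral := by
    rw [CommRingCat.hom_comp] at h2
    exact ((RingHom.isIntegral_respectsIso).cancel_right_isIso (f.app (V.ι ''ᵁ ⊤)) _).mp h2
  rwa [Scheme.Opens.ι_image_top] at h3

include h in
/-- If the base function field is integrally closed in the source one, functions agree. -/
theorem isIso_app [UniversallyClosed f] (hY : Pi1.IsNormalScheme Y)
    (hcl : ∀ x : X.functionField, (CohIII.stalkToFunctionField f (genericPoint Y) h).IsIntegralElem x →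
      x ∈ (CohIII.stalkToFunctionField f (genericPoint Y) h).range) (U : Y.Opens) : IsIso (f.app U) := by
  rw [ConcreteCategory.isIso_iff_bijective]
  by_cases hU : Nonempty U
  swap
  · have e : U = ⊥ := by
      ext x
      simpa using fun hx => hU ⟨⟨x, hx⟩⟩
    subst e
    haveI : Subsingleton Γ(Y, ⊥) := CommRingCat.subsingleton_of_isTerminal Y.sheaf.isTerminalOfEmpty
    haveI : Subsingleton Γ(X, f ⁻¹ᵁ ⊥) := CommRingCat.subsingleton_of_isTerminal X.sheaf.isTerminalOfEmpty
    exact ⟨fun a b _ => Subsingleton.elim a b, fun b => ⟨0, Subsingleton.elim _ _⟩⟩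
  refine ⟨app_injective f h U, fun t => ?_⟩
  have hξ := mem_preimage f (mem_generic (U := U))
  have key : ∀ y : U, ∃ (V : Y.Opens) (_ : y.1 ∈ V) (_ : V ≤ U) (hg : genericPoint Y ∈ V) (s : Γ(Y, V)),
      CohIII.stalkToFunctionField f (genericPoint Y) h (Y.presheaf.germ V (genericPoint Y) hg s) =
        X.presheaf.germ (f ⁻¹ᵁ U) (genericPoint X) hξ t := by
    intro y
    obtain ⟨V, hV, hyV, hVU⟩ := exists_isAffineOpen_mem_and_subset (x := y.1) (U := U) y.2
    haveI : Nonempty V := ⟨⟨y.1, hyV⟩⟩
    have hg : genericPoint Y ∈ V := mem_generic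
    obtain ⟨p, hp, hp'⟩ := isIntegral_app f hV (X.presheaf.map ((Opens.map f.base).map (homOfLE hVU)).op t)
    have hz : ((CohIII.stalkToFunctionField f (genericPoint Y) h).comp
        (Y.presheaf.germ V (genericPoint Y) hg).hom).IsIntegralElem
          (X.presheaf.germ (f ⁻¹ᵁ U) (genericPoint X) hξ t) := by
      refine ⟨p, hp, ?_⟩
      have e : (CohIII.stalkToFunctionField f (genericPoint Y) h).comp
          (Y.presheaf.germ V (genericPoint Y) hg).hom =
            (X.presheaf.germ (f ⁻¹ᵁ V) (genericPoint X) (mem_preimage f hg)).hom.comp (f.app V).hom :=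
        RingHom.ext fun a => j_germ f h V hg _ a
      rw [e]
      have e2 : X.presheaf.germ (f ⁻¹ᵁ U) (genericPoint X) hξ t =
          (X.presheaf.germ (f ⁻¹ᵁ V) (genericPoint X) (mem_preimage f hg))
            (X.presheaf.map ((Opens.map f.base).map (homOfLE hVU)).op t) :=
        (TopCat.Presheaf.germ_res_apply X.presheaf _ _ _ _).symm
      rw [e2, ← Polynomial.hom_eval₂, hp', map_zero]
    obtain ⟨p', hpm, hp''⟩ := hz
    obtain ⟨q, hq⟩ := hcl _ ⟨p'.map (Y.presheaf.germ V (genericPoint Y) hg).hom, hpm.map _, by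
      rw [Polynomial.eval₂_map]; exact hp''⟩
    have hq' : ((Y.presheaf.germ V (genericPoint Y) hg).hom.comp (RingHom.id _)).IsIntegralElem q := by
      refine ⟨p', hpm, j_injective f h ?_⟩
      rw [Polynomial.hom_eval₂, RingHom.comp_id, hq, map_zero]
      exact hp''
    obtain ⟨s, hs⟩ := L19.NormalSec.exists_section_of_isIntegral (fun x => (hY x).2) V hg (RingHom.id _) q hq'
    exact ⟨V, hyV, hVU, hg, s, by rw [hs, hq]⟩
  choose V hyV hVU hgV s hs using key
  have hcompat : TopCat.Presheaf.IsCompatible Y.presheaf V s := fun i j => by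
    apply germ_injective_of_isIntegral Y (genericPoint Y) (show genericPoint Y ∈ V i ⊓ V j from ⟨hgV i, hgV j⟩)
    rw [TopCat.Presheaf.germ_res_apply, TopCat.Presheaf.germ_res_apply]
    exact j_injective f h ((hs i).trans (hs j).symm)
  obtain ⟨r, hr, -⟩ := TopCat.Sheaf.existsUnique_gluing' Y.sheaf V U (fun i => homOfLE (hVU i))
    (fun x hx => Opens.mem_iSup.mpr ⟨⟨x, hx⟩, hyV ⟨x, hx⟩⟩) s hcompat
  refine ⟨r, germ_injective_of_isIntegral X (genericPoint X) hξ ?_⟩
  have i0 : U := ⟨genericPoint Y, mem_generic⟩
  rw [← j_germ f h U mem_generic hξ r, ← hs i0, ← hr i0]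
  exact congrArg _ (TopCat.Presheaf.germ_res_apply Y.presheaf (homOfLE (hVU i0)) _ (hgV i0) r).symm

include h in
theorem mem_range_of_isIso_app (hX : Pi1.IsNormalScheme X) (hiso : ∀ U : Y.Opens, IsIso (f.app U))
    (x : X.functionField) (hx : (CohIII.stalkToFunctionField f (genericPoint Y) h).IsIntegralElem x) :
    x ∈ (CohIII.stalkToFunctionField f (genericPoint Y) h).range := by
  let j : Y.functionField →+* X.functionField := CohIII.stalkToFunctionField f (genericPoint Y) h
  obtain ⟨U, hU, hη, -⟩ := exists_isAffineOpen_mem_and_subset (x := genericPoint Y) (U := (⊤ : Y.Opens)) trivial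
  haveI : Nonempty U := ⟨⟨_, hη⟩⟩
  haveI := functionField_isFractionRing_of_isAffineOpen Y U hU
  letI : Algebra Γ(Y, U) X.functionField := (j.comp (algebraMap Γ(Y, U) Y.functionField)).toAlgebra
  letI : Algebra Y.functionField X.functionField := j.toAlgebra
  haveI : IsScalarTower Γ(Y, U) Y.functionField X.functionField := IsScalarTower.of_algebraMap_eq' rfl
  obtain ⟨a, ha⟩ := IsIntegral.exists_multiple_integral_of_isLocalization (nonZeroDivisors Γ(Y, U))
    (Rₘ := Y.functionField) x hx
  have hξ := mem_preimage f hη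
  obtain ⟨t, ht⟩ := L19.NormalSec.exists_section_of_isIntegral (fun x => (hX x).2) (f ⁻¹ᵁ U) hξ
    (f.app U).hom (a • x) (by
      obtain ⟨p, hp, hp'⟩ := ha
      refine ⟨p, hp, Eq.trans ?_ hp'⟩
      congr 1
      exact RingHom.ext fun b => (j_germ f h U hη hξ b).symm)
  obtain ⟨s, rfl⟩ := (ConcreteCategory.bijective_of_isIso (C := CommRingCat) (f := f.app U)).2 t
  rw [← j_germ f h U hη hξ s] at ht
  have ha0 : algebraMap Γ(Y, U) Y.functionField a ≠ 0 :=
    IsLocalization.to_map_ne_zero_of_mem_nonZeroDivisors _ le_rfl a.2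
  refine ⟨Y.presheaf.germ U (genericPoint Y) hη s * (algebraMap Γ(Y, U) Y.functionField a)⁻¹, ?_⟩
  have ha' : j (algebraMap Γ(Y, U) Y.functionField a) ≠ 0 := fun e => ha0 (j.injective (e.trans j.map_zero.symm))
  change j _ = x
  rw [map_mul, map_inv₀]
  change CohIII.stalkToFunctionField f (genericPoint Y) h _ * _ = x
  rw [ht, Submonoid.smul_def, Algebra.smul_def]
  change j (algebraMap Γ(Y, U) Y.functionField a) * x * _ = x
  field_simp

include h in
/-- Birationality from an isomorphism on functions and a finite generic fibre. -/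
theorem bijective_of_isIso_app [UniversallyClosed f] [Y.IsSeparated] (hfib : ∀ x : X, f x = genericPoint Y → x = genericPoint X)
    (hiso : ∀ U : Y.Opens, IsIso (f.app U)) :
    Function.Bijective (CohIII.stalkToFunctionField f (genericPoint Y) h) := by
  refine ⟨j_injective f h, fun x => ?_⟩
  obtain ⟨W, hW, hξW, -⟩ := exists_isAffineOpen_mem_and_subset (x := genericPoint X) (U := (⊤ : X.Opens)) trivial
  have hclosed : IsClosed (f '' (W : Set X)ᶜ) := f.isClosedMap _ W.isOpen.isClosed_compl
  have hη : genericPoint Y ∈ (f '' (W : Set X)ᶜ)ᶜ := fun ⟨z, hz, e⟩ => hz (hfib z e ▸ hξW)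
  obtain ⟨V, hV, hηV, hVsub⟩ := exists_isAffineOpen_mem_and_subset (x := genericPoint Y)
    (U := (⟨_, hclosed.isOpen_compl⟩ : Y.Opens)) hη
  have hle : f ⁻¹ᵁ V ≤ W := fun z hz => by
    by_contra hzW
    exact hVsub hz ⟨z, hzW, rfl⟩
  have hξ := mem_preimage f hηV
  haveI : Nonempty ↥(f ⁻¹ᵁ V) := ⟨⟨_, hξ⟩⟩
  haveI : Nonempty ↥(f ⁻¹ᵁ V).toScheme := ⟨⟨_, hξ⟩⟩
  have hP : IsAffineOpen (f ⁻¹ᵁ V) := by
    haveI : IsAffine W.toScheme := hW
    haveI : IsAffineHom ((W.ι ≫ f) ≫ terminal.from Y) := inferInstance
    haveI : IsAffineHom (W.ι ≫ f) := IsAffineHom.of_comp _ (terminal.from Y)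
    have h1 : IsAffineOpen ((W.ι ≫ f) ⁻¹ᵁ V) := hV.preimage (W.ι ≫ f)
    have h2 := h1.image_of_isOpenImmersion W.ι
    rwa [Scheme.Hom.comp_preimage, Scheme.Hom.image_preimage_eq_opensRange_inf, Scheme.Opens.opensRange_ι,
      inf_eq_right.mpr hle] at h2
  haveI := functionField_isFractionRing_of_isAffineOpen X (f ⁻¹ᵁ V) hP
  obtain ⟨a, b, hb, rfl⟩ := IsFractionRing.div_surjective (A := Γ(X, f ⁻¹ᵁ V)) x
  obtain ⟨a', rfl⟩ := (ConcreteCategory.bijective_of_isIso (C := CommRingCat) (f := f.app V)).2 a
  obtain ⟨b', rfl⟩ := (ConcreteCategory.bijective_of_isIso (C := CommRingCat) (f := f.app V)).2 b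
  refine ⟨(Y.presheaf.germ V (genericPoint Y) hηV a' : Y.functionField) /
    (Y.presheaf.germ V (genericPoint Y) hηV b' : Y.functionField), ?_⟩
  change (show Y.functionField →+* X.functionField from CohIII.stalkToFunctionField f (genericPoint Y) h) _ = _
  rw [map_div₀]
  exact congrArg₂ (· / ·) (j_germ f h V hηV hξ a') (j_germ f h V hηV hξ b')

/-- A point with the same image as the generic point, in a zero-dimensional fibre, is generic. -/
theorem eq_generic_of_dim_eq (k : Type u) [Field k] [X.Over (Spec (CommRingCat.of k))]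
    [Y.Over (Spec (CommRingCat.of k))] [LocallyOfFiniteType (X ↘ Spec (CommRingCat.of k))]
    [LocallyOfFiniteType (Y ↘ Spec (CommRingCat.of k))] [LocallyOfFiniteType f]
    (hf : f ≫ (Y ↘ Spec (CommRingCat.of k)) = X ↘ Spec (CommRingCat.of k))
    (hdim : topologicalKrullDim X = topologicalKrullDim Y) (x : X) (hx : f x = genericPoint Y) :
    x = genericPoint X := by
  obtain ⟨a, b, ha, hb, hab⟩ := L22.FibreDim.exists_dim_closure_add k f hf (genericPoint X)
  rw [map_generic f, genericPoint_closure, (Homeomorph.Set.univ _).isHomeomorph.topologicalKrullDim_eq] at ha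
  rw [genericPoint_closure, (Homeomorph.Set.univ _).isHomeomorph.topologicalKrullDim_eq, hdim, ha] at hab
  have hb0 : b = 0 := by
    have : a = a + b := by exact_mod_cast hab
    omega
  subst hb0
  rw [map_generic f, genericPoint_closure, Set.univ_inter] at hb
  let S : Set X := f ⁻¹' {genericPoint Y}
  let p : IrreducibleCloseds S := ⟨closure {⟨x, hx⟩}, isIrreducible_singleton.closure, isClosed_closure⟩
  let q : IrreducibleCloseds S := ⟨closure {⟨genericPoint X, map_generic f⟩}, isIrreducible_singleton.closure, isClosed_closure⟩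
  have hle : p ≤ q := closure_minimal (Set.singleton_subset_iff.mpr
    (specializes_iff_mem_closure.mp ((Topology.IsInducing.subtypeVal.specializes_iff).mp
      ((genericPoint_spec X).specializes trivial)))) isClosed_closure
  have hpq : q ≤ p := (Order.krullDim_nonpos_iff_forall_isMax.mp hb.le p) hle
  have h1 : (⟨x, hx⟩ : S) ⤳ ⟨genericPoint X, map_generic f⟩ :=
    specializes_iff_mem_closure.mpr (hpq (subset_closure (Set.mem_singleton _)))
  exact ((h1.map continuous_subtype_val).antisymm ((genericPoint_spec X).specializes trivial)).eq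

end Groth.L15.PushFun
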