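import Mathlib.AlgebraicGeometry.Morphisms.Finite
import Mathlib.AlgebraicGeometry.Morphisms.UniversallyInjective
import Mathlib.AlgebraicGeometry.ResidueField
import Mathlib.RingTheory.Finiteness.Finsupp

/-!
Residue degrees of finite morphisms are bounded on affine opens of the target.
-/

set_option autoImplicit false

open AlgebraicGeometry CategoryTheory TopologicalSpace

namespace Groth.L15.ResDegree

universe u

theorem finrank_le_of_span {K L R S : Type*} [Field K] [Field L] [Algebra K L] [CommRing R]
    [CommRing S] [Algebra R S] (i : R →+* K) (j : S →+* L)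
    (hcomm : ∀ r, j (algebraMap R S r) = algebraMap K L (i r))
    (hfrac : ∀ z : L, ∃ a b : S, j b ≠ 0 ∧ z = j a / j b)
    (G : Finset S) (hG : Submodule.span R (G : Set S) = ⊤) :
    FiniteDimensional K L ∧ Module.finrank K L ≤ G.card := by
  classical
  set M := Submodule.span K (↑(G.image j) : Set L) with hM
  have himg : ∀ s : S, j s ∈ M := by
    intro s
    have hs : s ∈ Submodule.span R (G : Set S) := hG ▸ Submodule.mem_top
    induction hs using Submodule.span_induction with
    | mem x hx => exact Submodule.subset_span (Finset.mem_coe.mpr (Finset.mem_image_of_mem j hx))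
    | zero => simp
    | add a b _ _ ha hb => rw [map_add]; exact add_mem ha hb
    | smul r a _ ha =>
      rw [Algebra.smul_def, map_mul, hcomm, ← Algebra.smul_def]
      exact M.smul_mem _ ha
  set A := Algebra.adjoin K (Set.range j) with hA
  have hAM : Subalgebra.toSubmodule A ≤ M := by
    rw [hA, Algebra.adjoin_eq_span, Submodule.span_le]
    intro x hx
    have : x ∈ Set.range j := by
      induction hx using Submonoid.closure_induction with
      | mem y hy => exact hy
      | one => exact ⟨1, map_one j⟩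
      | mul a b _ _ ha hb =>
        obtain ⟨a, rfl⟩ := ha; obtain ⟨b, rfl⟩ := hb
        exact ⟨a * b, map_mul j a b⟩
    obtain ⟨s, rfl⟩ := this
    exact himg s
  haveI : FiniteDimensional K M := FiniteDimensional.span_of_finite K (Finset.finite_toSet _)
  haveI : FiniteDimensional K (Subalgebra.toSubmodule A) := Submodule.finiteDimensional_of_le hAM
  haveI : FiniteDimensional K A := ‹FiniteDimensional K (Subalgebra.toSubmodule A)›
  have hfield : IsField A := isField_of_isIntegral_of_isField' (Field.toIsField K)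
  have htop : M = ⊤ := by
    rw [eq_top_iff]
    rintro z -
    obtain ⟨a, b, hb, rfl⟩ := hfrac z
    obtain ⟨c, hc⟩ := hfield.mul_inv_cancel
      (a := (⟨j b, Algebra.subset_adjoin ⟨b, rfl⟩⟩ : A)) (fun h => hb (congrArg Subtype.val h))
    have hc' : j b * (c : L) = 1 := congrArg Subtype.val hc
    have : j a / j b = j a * (c : L) := by
      rw [div_eq_iff hb, mul_assoc, mul_comm (c : L), hc', mul_one]
    rw [this]
    exact hAM (A.mul_mem (Algebra.subset_adjoin ⟨a, rfl⟩) c.2)
  refine ⟨?_, ?_⟩
  · exact Module.Finite.iff_fg.mp ‹FiniteDimensional K M› |> fun h => ⟨htop ▸ h⟩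
  · rw [← finrank_top K L, ← htop]
    exact (finrank_span_finset_le_card _).trans Finset.card_image_le

theorem exists_bound {X Y : Scheme.{u}} (f : X ⟶ Y) [IsFinite f] (U : Y.affineOpens) :
    ∃ N : ℕ, ∀ x : X, f x ∈ (U : Y.Opens) →
      letI := (f.residueFieldMap x).hom.toAlgebra
      FiniteDimensional (Y.residueField (f x)) (X.residueField x) ∧
        Module.finrank (Y.residueField (f x)) (X.residueField x) ≤ N := by
  have hV : IsAffineOpen (f ⁻¹ᵁ (U : Y.Opens)) := U.2.preimage f
  have hfin : (f.app (U : Y.Opens)).hom.Finite := IsFinite.finite_app f (U : Y.Opens) U.2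
  letI := (f.app (U : Y.Opens)).hom.toAlgebra
  haveI : Module.Finite Γ(Y, U) Γ(X, f ⁻¹ᵁ (U : Y.Opens)) := hfin
  obtain ⟨G, hG⟩ := Module.Finite.fg_top (R := Γ(Y, U)) (M := Γ(X, f ⁻¹ᵁ (U : Y.Opens)))
  refine ⟨G.card, fun x hx => ?_⟩
  letI := (f.residueFieldMap x).hom.toAlgebra
  refine finrank_le_of_span (Y.evaluation U (f x) hx).hom
    (X.evaluation (f ⁻¹ᵁ (U : Y.Opens)) x hx).hom ?_ ?_ G hG
  · intro r
    exact (congr($(Scheme.evaluation_naturality f x hx) r)).symm
  · intro z
    obtain ⟨w, rfl⟩ := X.residue_surjective x z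
    letI := (X.presheaf.germ (f ⁻¹ᵁ (U : Y.Opens)) x hx).hom.toAlgebra
    have := hV.isLocalization_stalk ⟨x, hx⟩
    obtain ⟨⟨a, ⟨b, hb⟩⟩, hw⟩ := IsLocalization.surj
      ((hV.primeIdealOf ⟨x, hx⟩).asIdeal.primeCompl) w
    have hu := IsLocalization.map_units (X.presheaf.stalk x)
      (M := (hV.primeIdealOf ⟨x, hx⟩).asIdeal.primeCompl) ⟨b, hb⟩
    refine ⟨a, b, (hu.map (X.residue x).hom).ne_zero, ?_⟩
    rw [eq_div_iff (show (X.evaluation _ x hx).hom b ≠ 0 from (hu.map (X.residue x).hom).ne_zero)]
    have h := congrArg (X.residue x).hom hw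
    rw [map_mul] at h
    exact h

end Groth.L15.ResDegree
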