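import Groth.Agent.L20.ThickAffine
import Groth.Agent.L14.DefLift.Scheme
import Groth.Agent.L15.HilbertBurch
import Mathlib.RingTheory.Smooth.Basic
import Mathlib.Algebra.Category.Ring.Constructions

/-!
Flat deformations of an affine scheme over an Artinian base are trivialised by a section of the
reduction map.
-/

set_option autoImplicit false

universe u

open CategoryTheory CategoryTheory.Limits AlgebraicGeometry
open scoped TensorProduct

namespace Groth.L15.RigidAffine

/-- A flat deformation of an affine scheme over a local Artinian ring comes from an algebra. -/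
theorem exists_model {A k B : CommRingCat.{u}} [IsLocalRing A] [IsArtinianRing A] (e : A ⟶ k)
    (he : Function.Surjective e.hom) [Nontrivial k] (c : k ⟶ B) {X' : Scheme.{u}} (g : X' ⟶ Spec A) [Flat g]
    (i : Spec B ⟶ X') (hsq : IsPullback i (Spec.map c) g (Spec.map e)) :
    ∃ (R : CommRingCat.{u}) (φ : A ⟶ R) (β : R ⟶ B) (E : X' ≅ Spec R),
      φ.hom.Flat ∧ Function.Surjective β.hom ∧ RingHom.ker β.hom = (RingHom.ker e.hom).map φ.hom ∧
        φ ≫ β = e ≫ c ∧ E.hom ≫ Spec.map φ = g ∧ i ≫ E.hom = Spec.map β := by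
  haveI : IsClosedImmersion (Spec.map e) := IsClosedImmersion.spec_of_surjective _ he
  haveI : Surjective (Spec.map e) := by
    obtain ⟨q⟩ : Nonempty (PrimeSpectrum k) := inferInstance
    exact ⟨fun z => ⟨q, PrimeSpectrum.ext ((IsLocalRing.eq_maximalIdeal (Ideal.IsPrime.isMaximal' (PrimeSpectrum.isPrime _))).trans
      (IsLocalRing.eq_maximalIdeal (Ideal.IsPrime.isMaximal' (PrimeSpectrum.isPrime _))).symm)⟩⟩
  haveI : IsClosedImmersion i :=
    MorphismProperty.of_isPullback (P := @IsClosedImmersion.{u}) hsq.flip inferInstance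
  haveI : Surjective i := MorphismProperty.of_isPullback (P := @Surjective.{u}) hsq.flip inferInstance
  haveI : IsAffine X' := Groth.L20.ThickAffine.isAffine_of_surjective i i.surjective
  let R : CommRingCat.{u} := Γ(X', ⊤)
  let E : X' ≅ Spec R := X'.isoSpec
  let φ : A ⟶ R := Spec.preimage (E.inv ≫ g)
  let β : R ⟶ B := Spec.preimage (i ≫ E.hom)
  have hφ : Spec.map φ = E.inv ≫ g := Spec.map_preimage _
  have hβ : Spec.map β = i ≫ E.hom := Spec.map_preimage _
  have hflat : φ.hom.Flat := by
    haveI : Flat (Spec.map φ) := by rw [hφ]; infer_instance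
    exact HasRingHomProperty.Spec_iff.mp ‹Flat (Spec.map φ)›
  have hw : φ ≫ β = e ≫ c := by
    apply Spec.map_injective
    rw [Spec.map_comp, Spec.map_comp, hφ, hβ, Category.assoc, E.hom_inv_id_assoc]
    exact hsq.w
  have hpb : IsPullback (Spec.map β) (Spec.map c) (Spec.map φ) (Spec.map e) :=
    hsq.of_iso (Iso.refl _) E (Iso.refl _) (Iso.refl _) (by simp [hβ]) (by simp) (by simp [hφ]) (by simp)
  let J : Ideal R := (RingHom.ker e.hom).map φ.hom
  let j : k →+* R ⧸ J := RingHom.liftOfSurjective e.hom he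
    ⟨(Ideal.Quotient.mk J).comp φ.hom, fun a ha => Ideal.Quotient.eq_zero_iff_mem.mpr (Ideal.mem_map_of_mem _ ha)⟩
  have hj : ∀ a, j (e.hom a) = Ideal.Quotient.mk J (φ.hom a) := fun a =>
    RingHom.liftOfRightInverse_comp_apply e.hom _ _ _ a
  have hpo := Groth.L14.DefLift.isPushout_of_surjective e φ (CommRingCat.ofHom j)
    (CommRingCat.ofHom (Ideal.Quotient.mk J)) (CommRingCat.hom_ext (RingHom.ext hj)) he
    Ideal.Quotient.mk_surjective Ideal.mk_ker.le
  have hq := (isPullback_SpecMap_of_isPushout _ _ _ _ hpo).flip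
  let F := hpb.isoIsPullback _ _ hq
  let ε : CommRingCat.of (R ⧸ J) ⟶ B := Spec.preimage F.hom
  have hε : Spec.map ε = F.hom := Spec.map_preimage _
  have heq : β = CommRingCat.ofHom (Ideal.Quotient.mk J) ≫ ε := by
    apply Spec.map_injective
    rw [Spec.map_comp, hε, IsPullback.isoIsPullback_hom_fst]
  haveI : IsIso ε := by
    haveI : IsIso (Scheme.Spec.map ε.op) := by
      show IsIso (Spec.map ε)
      rw [hε]; infer_instance
    haveI : IsIso ε.op := isIso_of_fully_faithful Scheme.Spec ε.op
    exact isIso_of_op ε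
  have hεb : Function.Bijective ε.hom := ConcreteCategory.bijective_of_isIso ε
  refine ⟨R, φ, β, E, hflat, ?_, ?_, hw, by rw [hφ, E.hom_inv_id_assoc], hβ.symm⟩
  · rw [heq]
    exact hεb.2.comp Ideal.Quotient.mk_surjective
  · show RingHom.ker β.hom = J
    rw [heq, CommRingCat.hom_comp, RingHom.ker_comp_of_injective _ hεb.1]
    exact Ideal.mk_ker

/-- A section of the reduction trivialises a flat algebra over an Artinian local ring. -/
theorem bijective_of_section {k A B R : Type u} [Field k] [CommRing A] [Algebra k A] [IsLocalRing A]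
    [IsArtinianRing A] [CommRing B] [Algebra k B] [CommRing R] [Algebra k R] [Algebra A R] [IsScalarTower k A R]
    [Module.Flat A R] (e : A →ₐ[k] k) (β : R →ₐ[k] B)
    (hβ : ∀ a, β (algebraMap A R a) = algebraMap k B (e a))
    (hker : RingHom.ker β.toRingHom = (RingHom.ker e.toRingHom).map (algebraMap A R))
    (s : B →ₐ[k] R) (hs : ∀ b, β (s b) = b) :
    Function.Bijective (Algebra.TensorProduct.lift (Algebra.ofId A R) s (fun _ _ => .all _ _)) := by
  set Ψ := Algebra.TensorProduct.lift (Algebra.ofId A R) s (fun _ _ => .all _ _)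
  have hm : RingHom.ker e.toRingHom = IsLocalRing.maximalIdeal A :=
    IsLocalRing.eq_maximalIdeal (RingHom.ker_isMaximal_of_surjective _ fun c => ⟨algebraMap k A c, e.commutes c⟩)
  let res : (A ⊗[k] B) →ₐ[k] B :=
    Algebra.TensorProduct.lift ((Algebra.ofId k B).comp e) (AlgHom.id k B) (fun _ _ => .all _ _)
  have hres : ∀ z, β (Ψ z) = res z := by
    intro z
    induction z using TensorProduct.induction_on with
    | zero => simp
    | add x y hx hy => simp [hx, hy]
    | tmul a b => simp [Ψ, res, hβ, hs, Algebra.ofId_apply]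
  have hdec : ∀ z, z - (1 : A) ⊗ₜ[k] res z ∈ IsLocalRing.maximalIdeal A • (⊤ : Submodule A (A ⊗[k] B)) := by
    intro z
    induction z using TensorProduct.induction_on with
    | zero => simp
    | add x y hx hy =>
      rw [map_add, TensorProduct.tmul_add, add_sub_add_comm]
      exact add_mem hx hy
    | tmul a b =>
      have h1 : a ⊗ₜ[k] b - (1 : A) ⊗ₜ[k] res (a ⊗ₜ[k] b) =
          (a - algebraMap k A (e a)) • ((1 : A) ⊗ₜ[k] b) := by
        rw [TensorProduct.smul_tmul', smul_eq_mul, mul_one, TensorProduct.sub_tmul]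
        congr 1
        simp only [res, Algebra.TensorProduct.lift_tmul, AlgHom.comp_apply, Algebra.ofId_apply,
          AlgHom.id_apply, ← Algebra.smul_def, TensorProduct.tmul_smul]
        rw [TensorProduct.smul_tmul', Algebra.smul_def, mul_one]
      rw [h1]
      refine Submodule.smul_mem_smul ?_ Submodule.mem_top
      rw [← hm, RingHom.mem_ker]
      simp
  refine ⟨?_, ?_⟩
  · rw [injective_iff_map_eq_zero]
    intro z hz
    have h := Groth.L15.HB.lift_exact Ψ.toLinearMap (⊥ : Submodule A (A ⊗[k] B)) bot_le (fun y hy => ?_) ⊥ z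
      (by rw [show Ψ.toLinearMap z = 0 from hz]; exact zero_mem _)
    · rw [Submodule.bot_smul, bot_sup_eq, Submodule.mem_bot] at h
      exact h
    · refine Submodule.mem_sup_right ?_
      have h0 : res y = 0 := by
        rw [← hres]
        have h1 : Ψ y ∈ RingHom.ker β.toRingHom := by
          rw [hker, hm]
          rw [Ideal.smul_top_eq_map] at hy
          exact hy
        exact h1
      have := hdec y
      rwa [h0, TensorProduct.tmul_zero, sub_zero] at this
  · intro r
    obtain ⟨n, hn⟩ := (isArtinianRing_iff_isNilpotent_maximalIdeal A).mp ‹_›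
    have hstep : ∀ j (r : R), r ∈ LinearMap.range Ψ.toLinearMap ⊔ IsLocalRing.maximalIdeal A ^ j • (⊤ : Submodule A R) := by
      intro j
      induction j with
      | zero => intro r; exact Submodule.mem_sup_right (by rw [pow_zero, Ideal.one_eq_top, Submodule.top_smul]; trivial)
      | succ j ih =>
        have h1 : (⊤ : Submodule A R) ≤ LinearMap.range Ψ.toLinearMap ⊔ IsLocalRing.maximalIdeal A • (⊤ : Submodule A R) := by
          intro r _
          refine Submodule.mem_sup.mpr ⟨s (β r), ⟨(1 : A) ⊗ₜ β r, by simp [Ψ]⟩, r - s (β r), ?_, add_sub_cancel _ _⟩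
          rw [Ideal.smul_top_eq_map, Submodule.restrictScalars_mem, ← hm, ← hker, RingHom.mem_ker]
          show β (r - s (β r)) = 0
          rw [map_sub, hs, sub_self]
        intro r
        have h2 : IsLocalRing.maximalIdeal A ^ j • (⊤ : Submodule A R) ≤
            LinearMap.range Ψ.toLinearMap ⊔ IsLocalRing.maximalIdeal A ^ (j + 1) • (⊤ : Submodule A R) := by
          calc IsLocalRing.maximalIdeal A ^ j • (⊤ : Submodule A R)
              ≤ IsLocalRing.maximalIdeal A ^ j • (LinearMap.range Ψ.toLinearMap ⊔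
                  IsLocalRing.maximalIdeal A • (⊤ : Submodule A R)) := Submodule.smul_mono le_rfl h1
            _ ≤ _ := by
              rw [Submodule.smul_sup, ← Submodule.mul_smul, ← pow_succ]
              exact sup_le_sup_right Submodule.smul_le_right _
        exact sup_le le_sup_left h2 (ih r)
    have := hstep n r
    rw [hn, Ideal.zero_eq_bot, Submodule.bot_smul, sup_bot_eq] at this
    exact this

/-- A section gives an isomorphism with the trivial deformation. -/
theorem exists_iso {k A R : Type u} [Field k] [CommRing A] [Algebra k A] [IsLocalRing A] [IsArtinianRing A]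
    [CommRing R] [Algebra k R] [Algebra A R] [IsScalarTower k A R] [Module.Flat A R]
    {X X' : Scheme.{u}} [IsAffine X] (hX : X ⟶ Spec (CommRingCat.of k)) [Algebra k Γ(X, ⊤)]
    (hc : X.isoSpec.inv ≫ hX = Spec.map (CommRingCat.ofHom (algebraMap k Γ(X, ⊤))))
    (g : X' ⟶ Spec (CommRingCat.of A)) (E : X' ≅ Spec (CommRingCat.of R))
    (hE : E.hom ≫ Spec.map (CommRingCat.ofHom (algebraMap A R)) = g)
    (e : A →ₐ[k] k) (β : R →ₐ[k] Γ(X, ⊤))
    (hβ : ∀ a, β (algebraMap A R a) = algebraMap k Γ(X, ⊤) (e a))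
    (hker : RingHom.ker β.toRingHom = (RingHom.ker e.toRingHom).map (algebraMap A R))
    (s : Γ(X, ⊤) →ₐ[k] R) (hs : ∀ b, β (s b) = b) :
    ∃ φ : X' ≅ Limits.pullback hX (Spec.map (CommRingCat.ofHom (algebraMap k A))),
      φ.hom ≫ Limits.pullback.snd hX (Spec.map (CommRingCat.ofHom (algebraMap k A))) = g ∧
      φ.hom ≫ Limits.pullback.fst hX (Spec.map (CommRingCat.ofHom (algebraMap k A))) =
        E.hom ≫ Spec.map (CommRingCat.ofHom s.toRingHom) ≫ X.isoSpec.inv := by
  let Ψ := RingEquiv.ofBijective _ (bijective_of_section e β hβ hker s hs)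
  let ψ : CommRingCat.of (A ⊗[k] Γ(X, ⊤)) ≅ CommRingCat.of R := Ψ.toCommRingCatIso
  let E' : X' ≅ Spec (CommRingCat.of (A ⊗[k] Γ(X, ⊤))) := E ≪≫ Scheme.Spec.mapIso ψ.op
  have h1 : CommRingCat.ofHom (Algebra.TensorProduct.includeLeftRingHom (R := k) (A := A) (B := Γ(X, ⊤))) ≫ ψ.hom =
      CommRingCat.ofHom (algebraMap A R) := by
    ext a
    show Algebra.TensorProduct.lift (Algebra.ofId A R) s (fun _ _ => .all _ _) (a ⊗ₜ[k] (1 : Γ(X, ⊤))) = _
    simp [Algebra.ofId_apply]
  have h2 : CommRingCat.ofHom ((Algebra.TensorProduct.includeRight : Γ(X, ⊤) →ₐ[k] A ⊗[k] Γ(X, ⊤)).toRingHom) ≫ ψ.hom =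
      CommRingCat.ofHom s.toRingHom := by
    ext b
    show Algebra.TensorProduct.lift (Algebra.ofId A R) s (fun _ _ => .all _ _) ((1 : A) ⊗ₜ[k] b) = _
    simp
  have hP : IsPullback (E.hom ≫ Spec.map (CommRingCat.ofHom s.toRingHom) ≫ X.isoSpec.inv) g hX
      (Spec.map (CommRingCat.ofHom (algebraMap k A))) := by
    refine (isPullback_SpecMap_of_isPushout _ _ _ _
      (CommRingCat.isPushout_tensorProduct k A Γ(X, ⊤))).flip.of_iso E'.symm X.isoSpec.symm (Iso.refl _) (Iso.refl _)
      ?_ ?_ ?_ ?_
    · show _ = (Spec.map ψ.inv ≫ E.inv) ≫ (E.hom ≫ Spec.map (CommRingCat.ofHom s.toRingHom) ≫ X.isoSpec.inv)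
      rw [← h2, Category.assoc, E.inv_hom_id_assoc, ← Spec.map_comp_assoc, Category.assoc, ψ.hom_inv_id,
        Category.comp_id]
      rfl
    · show _ = (Spec.map ψ.inv ≫ E.inv) ≫ g
      rw [← hE, ← h1, Category.assoc, E.inv_hom_id_assoc, ← Spec.map_comp, Category.assoc, ψ.hom_inv_id,
        Category.comp_id]
      exact Category.comp_id _
    · simp [← hc]
    · simp
  exact ⟨hP.isoPullback, hP.isoPullback_hom_snd, hP.isoPullback_hom_fst⟩

end Groth.L15.RigidAffine
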