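import Groth.Prelude.Def_SymTen
import Mathlib.RingTheory.GradedAlgebra.Basic
import Mathlib.RingTheory.Ideal.GoingUp
import Mathlib.Algebra.Polynomial.Lifts
import Mathlib.Algebra.Polynomial.Roots
import Mathlib.RingTheory.Nilpotent.Lemmas

/-!
# The Segre subalgebra of a tensor power of a graded algebra and its symmetric tensors
-/

set_option autoImplicit false
universe u
open scoped TensorProduct

namespace Groth.L15.SegreSym

variable {A B : Type u} [CommRing A] [CommRing B] [Algebra A B]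
  (𝒜 : ℕ → Submodule A B) [GradedAlgebra 𝒜] {d : ℕ}

local notation "T" => ⨂[A] _ : Fin d, B

/-- the Segre product -/
noncomputable def segre (d : ℕ) : Subalgebra A (⨂[A] _ : Fin d, B) :=
  Algebra.adjoin A {t | ∃ (k : ℕ) (b : Fin d → B), (∀ i, b i ∈ 𝒜 k) ∧ t = PiTensorProduct.tprod A b}

theorem tprod_mem_segre {n : ℕ} {b : Fin d → B} (hb : ∀ i, b i ∈ 𝒜 n) :
    PiTensorProduct.tprod A b ∈ segre 𝒜 d :=
  Algebra.subset_adjoin ⟨n, b, hb, rfl⟩

theorem perm_mem_segre (σ : Equiv.Perm (Fin d)) {t : T} (ht : t ∈ segre 𝒜 d) :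
    SymTen.perm A B d σ t ∈ segre 𝒜 d := by
  have h : (segre 𝒜 d).map (SymTen.perm A B d σ) ≤ segre 𝒜 d := by
    rw [segre, AlgHom.map_adjoin, Algebra.adjoin_le_iff]
    rintro _ ⟨_, ⟨k, b, hb, rfl⟩, rfl⟩
    rw [SymTen.perm_tprod]
    exact tprod_mem_segre 𝒜 (n := k) fun i => hb _
  exact h ⟨t, ht, rfl⟩

theorem perm_perm (σ τ : Equiv.Perm (Fin d)) (t : T) :
    SymTen.perm A B d σ (SymTen.perm A B d τ t) = SymTen.perm A B d (σ * τ) t := by
  induction t using PiTensorProduct.induction_on with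
  | smul_tprod r f =>
    simp only [map_smul, SymTen.perm_tprod]
    rfl
  | add x y hx hy => simp only [map_add, hx, hy]

theorem exists_monic_root (y : segre 𝒜 d) :
    ∃ p : Polynomial ((segre 𝒜 d ⊓ SymTen.TS A B d : Subalgebra A T)),
      p.Monic ∧ Polynomial.eval₂ (Subalgebra.inclusion inf_le_left).toRingHom y p = 0 := by
  classical
  rcases subsingleton_or_nontrivial T with hT | hT
  · refine ⟨1, Polynomial.monic_one, ?_⟩
    exact Subtype.ext (Subsingleton.elim _ _)
  let D : Subalgebra A T := segre 𝒜 d ⊓ SymTen.TS A B d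
  let P : Polynomial T := ∏ σ : Equiv.Perm (Fin d),
    (Polynomial.X - Polynomial.C (SymTen.perm A B d σ (y : T)))
  have hP : P.Monic := Polynomial.monic_prod_X_sub_C _ _
  have hcoef : ∀ i, P.coeff i ∈ D := by
    intro i
    refine ⟨?_, ?_⟩
    · have : P ∈ Polynomial.lifts (segre 𝒜 d).val.toRingHom := by
        refine Subsemiring.prod_mem _ fun σ _ => ?_
        refine (Polynomial.lifts_iff_liftsRing _ _).mpr ?_
        refine Subring.sub_mem _ ⟨Polynomial.X, Polynomial.map_X _⟩ ?_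
        exact ⟨Polynomial.C ⟨_, perm_mem_segre 𝒜 σ y.2⟩, Polynomial.map_C _⟩
      obtain ⟨q, hq⟩ := (Polynomial.mem_lifts _).mp this
      rw [← hq, Polynomial.coeff_map]
      exact (q.coeff i).2
    · intro τ
      rw [← SymTen.perm_apply]
      have : P.map (SymTen.perm A B d τ).toRingHom = P := by
        simp only [P, Polynomial.map_prod, Polynomial.map_sub, Polynomial.map_X, Polynomial.map_C,
          AlgHom.toRingHom_eq_coe, RingHom.coe_coe, perm_perm]
        exact Fintype.prod_equiv (Equiv.mulLeft τ) _ _ (fun σ => rfl)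
      conv_rhs => rw [← this, Polynomial.coeff_map]
      rfl
  have hlift : P ∈ Polynomial.lifts D.val.toRingHom := by
    rw [Polynomial.lifts_iff_coeff_lifts]
    exact fun i => ⟨⟨_, hcoef i⟩, rfl⟩
  obtain ⟨q, hq, -, hqm⟩ := Polynomial.lifts_and_degree_eq_and_monic hlift hP
  refine ⟨q, hqm, Subtype.ext ?_⟩
  have h1 : Polynomial.eval (y : T) P = 0 := by
    rw [Polynomial.eval_prod]
    refine Finset.prod_eq_zero (Finset.mem_univ 1) ?_
    have : SymTen.perm A B d 1 (y : T) = y := by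
      rw [SymTen.perm_apply, Equiv.Perm.one_def, PiTensorProduct.reindex_refl]; rfl
    rw [Polynomial.eval_sub, Polynomial.eval_X, Polynomial.eval_C, this, sub_self]
  rw [← hq, Polynomial.eval_map] at h1
  show (segre 𝒜 d).val (Polynomial.eval₂ _ y q) = 0
  rw [← h1]
  exact Polynomial.hom_eval₂ q _ (segre 𝒜 d).val.toRingHom y

/-- to show `t ∈ √(G)` in the symmetric part it suffices to test on algebra maps from the Segre
product to domains -/
theorem pow_mem_span (D : Subalgebra A T) (hD : D = segre 𝒜 d ⊓ SymTen.TS A B d)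
    (G : Set D) (t : D)
    (h : ∀ (R : Type u) [CommRing R] [IsDomain R] [Algebra A R] (χ : segre 𝒜 d →ₐ[A] R),
      χ ⟨t.1, (hD.le t.2).1⟩ ≠ 0 → ∃ z ∈ G, χ ⟨z.1, (hD.le z.2).1⟩ ≠ 0) :
    ∃ m : ℕ, 0 < m ∧ t ^ m ∈ Ideal.span G := by
  subst hD
  let C := segre 𝒜 d
  let D : Subalgebra A T := segre 𝒜 d ⊓ SymTen.TS A B d
  letI algDC : Algebra D C := (Subalgebra.inclusion inf_le_left).toRingHom.toAlgebra
  haveI : Algebra.IsIntegral D C := ⟨fun y => exists_monic_root 𝒜 y⟩
  suffices ht : t ∈ (Ideal.span G).radical by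
    obtain ⟨m, hm⟩ := ht
    exact ⟨m + 1, m.succ_pos, by rw [pow_succ']; exact Ideal.mul_mem_left _ _ hm⟩
  rw [Ideal.radical_eq_sInf, Submodule.mem_sInf]
  rintro (P : Ideal D) ⟨hGP, hP⟩
  haveI := hP
  obtain ⟨Q, -, hQ, hQP⟩ := Ideal.exists_ideal_over_prime_of_isIntegral P (⊥ : Ideal C) (by
    intro z hz
    have hz' : algebraMap D C z = 0 := hz
    have : z = 0 := by
      apply Subtype.ext
      have h' := congrArg Subtype.val hz'
      exact h'
    rw [this]; exact P.zero_mem)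
  haveI := hQ
  by_contra htP
  let χ : C →ₐ[A] C ⧸ Q := Ideal.Quotient.mkₐ A Q
  have htQ : χ ⟨t.1, t.2.1⟩ ≠ 0 := by
    intro h0
    apply htP
    rw [← hQP, Ideal.mem_comap]
    exact Ideal.Quotient.eq_zero_iff_mem.mp h0
  obtain ⟨z, hzG, hz⟩ := h _ χ htQ
  refine hz (Ideal.Quotient.eq_zero_iff_mem.mpr ?_)
  have : z ∈ Q.comap (algebraMap D C) := hQP ▸ hGP (Ideal.subset_span hzG)
  exact this

section Hom

variable {R : Type u} [CommRing R] [Algebra A R] (χ : segre 𝒜 d →ₐ[A] R)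
  (x : Fin d → B) (hx : ∀ i, x i ∈ 𝒜 1)

theorem update_mem (j : Fin d) {n : ℕ} {c : B} (hc : c ∈ 𝒜 n) (i : Fin d) :
    (hx : ∀ i, x i ∈ 𝒜 1) → Function.update (fun i => x i ^ n) j c i ∈ 𝒜 n := by
  intro hx
  rcases eq_or_ne i j with rfl | h
  · rwa [Function.update_self]
  · rw [Function.update_of_ne h]
    have := SetLike.pow_mem_graded n (hx i)
    rwa [smul_eq_mul, mul_one] at this

/-- the `j`-th coordinate of `χ` in degree `n`, scaled by the `n`-th power of `χ (⊗ x)` -/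
noncomputable def coord (j : Fin d) (n : ℕ) : 𝒜 n →ₗ[A] R where
  toFun c := χ ⟨PiTensorProduct.tprod A (Function.update (fun i => x i ^ n) j c.1),
    tprod_mem_segre 𝒜 fun i => update_mem 𝒜 x j c.2 i hx⟩
  map_add' c c' := by
    rw [← map_add]
    congr 1
    refine Subtype.ext ?_
    show PiTensorProduct.tprod A _ = PiTensorProduct.tprod A _ + PiTensorProduct.tprod A _
    rw [Submodule.coe_add, MultilinearMap.map_update_add]
  map_smul' a c := by
    rw [RingHom.id_apply, ← map_smul]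
    congr 1
    refine Subtype.ext ?_
    show PiTensorProduct.tprod A _ = a • PiTensorProduct.tprod A _
    rw [Submodule.coe_smul, MultilinearMap.map_update_smul]

theorem coord_mul (j : Fin d) {n n' : ℕ} (c : 𝒜 n) (c' : 𝒜 n') :
    coord 𝒜 χ x hx j (n + n') ⟨c.1 * c'.1, SetLike.mul_mem_graded c.2 c'.2⟩ =
      coord 𝒜 χ x hx j n c * coord 𝒜 χ x hx j n' c' := by
  show χ _ = χ _ * χ _
  rw [← map_mul]
  congr 1
  refine Subtype.ext ?_
  show PiTensorProduct.tprod A _ = PiTensorProduct.tprod A _ * PiTensorProduct.tprod A _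
  rw [PiTensorProduct.tprod_mul_tprod]
  congr 1
  funext i
  rcases eq_or_ne i j with rfl | h
  · simp
  · simp [Function.update_of_ne h, pow_add]

/-- the base point -/
noncomputable def base : R := χ ⟨PiTensorProduct.tprod A x, tprod_mem_segre 𝒜 hx⟩

theorem coord_self (j : Fin d) : coord 𝒜 χ x hx j 1 ⟨x j, hx j⟩ = base 𝒜 χ x hx := by
  show χ _ = χ _
  congr 1
  refine Subtype.ext ?_
  show PiTensorProduct.tprod A _ = PiTensorProduct.tprod A _
  congr 1
  funext i
  rcases eq_or_ne i j with rfl | h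
  · simp
  · simp [Function.update_of_ne h]

theorem prod_coord {n : ℕ} (b : Fin d → B) (hb : ∀ i, b i ∈ 𝒜 n) :
    ∏ j, coord 𝒜 χ x hx j n ⟨b j, hb j⟩ =
      χ ⟨PiTensorProduct.tprod A b, tprod_mem_segre 𝒜 hb⟩ * base 𝒜 χ x hx ^ (n * (d - 1)) := by
  classical
  rw [base, ← map_pow, ← map_mul]
  show ∏ j, χ _ = _
  rw [← map_prod]
  congr 1
  refine Subtype.ext ?_
  simp only [AddSubmonoidClass.coe_finset_sum, SubmonoidClass.coe_finset_prod, MulMemClass.coe_mul,
    SubmonoidClass.coe_pow]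
  let Φ : (Fin d → B) →* T :=
    { toFun := fun f => PiTensorProduct.tprod A f
      map_one' := rfl
      map_mul' := fun f g => (PiTensorProduct.tprod_mul_tprod f g).symm }
  show ∏ j, Φ _ = Φ b * Φ x ^ (n * (d - 1))
  rw [← map_prod, ← map_pow, ← map_mul]
  congr 1
  funext i
  rw [Finset.prod_apply, ← Finset.mul_prod_erase Finset.univ _ (Finset.mem_univ i),
    Function.update_self, Pi.mul_apply, Pi.pow_apply]
  congr 1
  rw [Finset.prod_congr rfl (g := fun _ => x i ^ n) (fun j hj => by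
      rw [Function.update_of_ne (Finset.ne_of_mem_erase hj).symm]),
    Finset.prod_const, Finset.card_erase_of_mem (Finset.mem_univ i), Finset.card_univ,
    Fintype.card_fin, ← pow_mul]

end Hom

theorem proj_mem {n k : ℕ} {b : B} (hb : b ∈ 𝒜 n) :
    GradedAlgebra.proj 𝒜 k b = if n = k then b else 0 := by
  rw [GradedAlgebra.proj_apply]
  rcases eq_or_ne n k with rfl | h
  · rw [if_pos rfl, DirectSum.decompose_of_mem_same 𝒜 hb]
  · rw [if_neg h, DirectSum.decompose_of_mem_ne 𝒜 hb h]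

theorem degOne_generates (hgen : Algebra.adjoin A (𝒜 1 : Set B) = ⊤) {k : ℕ} {b : B}
    (hb : b ∈ 𝒜 k) :
    b ∈ Submodule.span A {p | ∃ l : Fin k → B, (∀ i, l i ∈ 𝒜 1) ∧ p = ∏ i, l i} := by
  have h1 : b ∈ Submodule.span A (Submonoid.closure (𝒜 1 : Set B) : Set B) := by
    rw [← Algebra.adjoin_eq_span, hgen]; trivial
  have h2 : ∀ z ∈ Submonoid.closure (𝒜 1 : Set B), ∃ (n : ℕ), z ∈ 𝒜 n ∧
      ∃ l : Fin n → B, (∀ i, l i ∈ 𝒜 1) ∧ z = ∏ i, l i := by
    intro z hz
    induction hz using Submonoid.closure_induction_left with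
    | one => exact ⟨0, SetLike.GradedOne.one_mem, Fin.elim0, fun i => i.elim0, by simp⟩
    | mul_left y hy z _ ih =>
      obtain ⟨n, hz, l, hl, rfl⟩ := ih
      refine ⟨n + 1, add_comm 1 n ▸ SetLike.mul_mem_graded hy hz, Fin.cons y l,
        Fin.cases hy hl, ?_⟩
      simp [Fin.prod_univ_succ]
  have h3 : GradedAlgebra.proj 𝒜 k b ∈
      Submodule.span A {p | ∃ l : Fin k → B, (∀ i, l i ∈ 𝒜 1) ∧ p = ∏ i, l i} := by
    refine Submodule.span_induction (p := fun z _ => GradedAlgebra.proj 𝒜 k z ∈ _) ?_ ?_ ?_ ?_ h1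
    · intro z hz
      obtain ⟨n, hzn, l, hl, rfl⟩ := h2 z hz
      rw [proj_mem 𝒜 hzn]
      split_ifs with h
      · subst h
        exact Submodule.subset_span ⟨l, hl, rfl⟩
      · exact zero_mem _
    · simp
    · intro z w _ _ hz hw
      rw [map_add]; exact add_mem hz hw
    · intro a z _ hz
      rw [map_smul]; exact Submodule.smul_mem _ a hz
  rwa [proj_mem 𝒜 hb, if_pos rfl] at h3

/-- if `χ` is non-zero on a degree `k` element, it is non-zero on some `⊗ x` with `x` of degree one -/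
theorem exists_base_ne (hgen : Algebra.adjoin A (𝒜 1 : Set B) = ⊤) {R : Type u} [CommRing R]
    [IsDomain R] [Algebra A R] (χ : segre 𝒜 d →ₐ[A] R) {k : ℕ} (hk : 0 < k) {t : T}
    (htC : t ∈ segre 𝒜 d)
    (htk : t ∈ Submodule.span A {s | ∃ b : Fin d → B, (∀ i, b i ∈ 𝒜 k) ∧ s = PiTensorProduct.tprod A b})
    (hne : χ ⟨t, htC⟩ ≠ 0) :
    ∃ (x : Fin d → B) (hx : ∀ i, x i ∈ 𝒜 1), base 𝒜 χ x hx ≠ 0 := by
  classical
  by_contra hc
  simp only [not_exists, not_not] at hc
  apply hne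
  let L : Submodule A T := (LinearMap.ker χ.toLinearMap).map (segre 𝒜 d).val.toLinearMap
  suffices t ∈ L by
    obtain ⟨t', ht', he⟩ := this
    rw [show (⟨t, htC⟩ : segre 𝒜 d) = t' from Subtype.ext he.symm]
    exact ht'
  refine Submodule.span_le.mpr ?_ htk
  rintro _ ⟨b, hb, rfl⟩
  obtain ⟨k', rfl⟩ : ∃ k', k = k' + 1 := ⟨k - 1, by omega⟩
  choose c hcs hc2 using fun i =>
    (Submodule.mem_span_set.mp (degOne_generates 𝒜 hgen (hb i)))
  have hbi : b = fun i => ∑ p ∈ (c i).support, c i p • p := funext fun i => (hc2 i).symm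
  rw [SetLike.mem_coe, hbi, MultilinearMap.map_sum_finset]
  refine Submodule.sum_mem _ fun r hr => ?_
  rw [MultilinearMap.map_smul_univ]
  refine Submodule.smul_mem _ _ ?_
  have hr' : ∀ i, ∃ l : Fin (k' + 1) → B, (∀ q, l q ∈ 𝒜 1) ∧ r i = ∏ q, l q :=
    fun i => hcs i (Fintype.mem_piFinset.mp hr i)
  choose l hl hl2 using hr'
  let z : Fin (k' + 1) → segre 𝒜 d := fun q =>
    ⟨PiTensorProduct.tprod A fun i => l i q, tprod_mem_segre 𝒜 fun i => hl i q⟩
  refine ⟨∏ q, z q, ?_, ?_⟩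
  · show χ (∏ q, z q) = 0
    rw [map_prod]
    exact Finset.prod_eq_zero (Finset.mem_univ 0) (hc (fun i => l i 0) fun i => hl i 0)
  · show ((∏ q, z q : segre 𝒜 d) : T) = _
    rw [SubmonoidClass.coe_finset_prod]
    let Φ : (Fin d → B) →* T :=
      { toFun := fun f => PiTensorProduct.tprod A f
        map_one' := rfl
        map_mul' := fun f g => (PiTensorProduct.tprod_mul_tprod f g).symm }
    show ∏ q, Φ (fun i => l i q) = Φ r
    rw [← map_prod]
    congr 1
    funext i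
    rw [Finset.prod_apply, hl2]

end Groth.L15.SegreSym
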