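import Groth.Agent.L28.PtFun.Spec
import Groth.Agent.S13109
import Groth.Agent.S7420
import Groth.Agent.S7421
import Groth.Agent.L22.Norm.Reduced
import Groth.Agent.L18.NormalizationField
import Groth.Agent.L01.NagataFiniteType
import Mathlib.AlgebraicGeometry.ValuativeCriterion
import Mathlib.AlgebraicGeometry.PullbackCarrier
import Mathlib.LinearAlgebra.TensorProduct.RightExactness

/-!
Sections equalized on the fibre square of a proper surjection descend to seminormal schemes.
-/

set_option autoImplicit false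
universe u

open CategoryTheory CategoryTheory.Limits AlgebraicGeometry TopologicalSpace W4c1hilbchowinc Opposite

namespace Groth.L15.SemiDescend

section PtFun

variable {X Y Z : Scheme.{u}}

lemma pullback_comp (u : Z ⟶ Y) (v : Y ⟶ X) (f : PtFun X) :
    PtFun.pullback (u ≫ v) f = PtFun.pullback u (PtFun.pullback v f) := by
  funext z
  show (u ≫ v).residueFieldMap z (f ((u ≫ v) z)) = u.residueFieldMap z (v.residueFieldMap (u z) _)
  rw [Scheme.residueFieldMap_comp]
  rfl

lemma pullback_ofSection (u : Z ⟶ Y) (s : Γ(Y, ⊤)) :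
    PtFun.pullback u (PtFun.ofSection Y s) = PtFun.ofSection Z (u.appTop s) :=
  funext fun z => Scheme.Γevaluation_naturality_apply u z s

end PtFun

section Field

open scoped TensorProduct

lemma mem_range_of_tmul_comm {K L : Type u} [Field K] [Field L] [Algebra K L] {v : L}
    (h : v ⊗ₜ[K] (1 : L) = (1 : L) ⊗ₜ[K] v) : v ∈ (algebraMap K L).range := by
  obtain ⟨φ, hφ⟩ := LinearMap.exists_leftInverse_of_injective (Algebra.linearMap K L)
    (LinearMap.ker_eq_bot.mpr (algebraMap K L).injective)
  have h1 : φ 1 = 1 := by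
    have := LinearMap.congr_fun hφ 1
    simpa using this
  have h2 := congrArg (fun z => TensorProduct.lid K L (φ.rTensor L z)) h
  simp [h1] at h2
  exact ⟨φ v, (Algebra.algebraMap_eq_smul_one (φ v)).trans h2⟩

end Field

variable {X Y : Scheme.{u}} (π : Y ⟶ X) (s : Γ(Y, ⊤))
  (hs : (pullback.fst π π).appTop s = (pullback.snd π π).appTop s)

include hs in
/-- The values of `s` descend to the residue fields of the base. -/
theorem value_mem_range (y : Y) :
    ∃ c : X.residueField (π y), π.residueFieldMap y c = Y.Γevaluation y s := by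
  letI := (π.residueFieldMap y).hom.toAlgebra
  let K := X.residueField (π y)
  let L := Y.residueField y
  let i₁ : CommRingCat.of L ⟶ CommRingCat.of (TensorProduct K L L) :=
    CommRingCat.ofHom Algebra.TensorProduct.includeLeftRingHom
  let i₂ : CommRingCat.of L ⟶ CommRingCat.of (TensorProduct K L L) :=
    CommRingCat.ofHom (Algebra.TensorProduct.includeRight (R := K) (A := L) (B := L)).toRingHom
  have hw : π.residueFieldMap y ≫ i₁ = π.residueFieldMap y ≫ i₂ := by
    refine CommRingCat.hom_ext (RingHom.ext fun c => ?_)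
    exact Algebra.TensorProduct.tmul_one_eq_one_tmul (R := K) (A := L) (B := L) c
  let a : Spec (CommRingCat.of (TensorProduct K L L)) ⟶ Y := Spec.map i₁ ≫ Y.fromSpecResidueField y
  let b : Spec (CommRingCat.of (TensorProduct K L L)) ⟶ Y := Spec.map i₂ ≫ Y.fromSpecResidueField y
  have hab : a ≫ π = b ≫ π := by
    simp only [a, b, Category.assoc, ← Scheme.Hom.SpecMap_residueFieldMap_fromSpecResidueField,
      ← Spec.map_comp_assoc, hw]
  let l := pullback.lift a b hab
  have h1 : a.appTop s = b.appTop s := by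
    conv_lhs => rw [show a = l ≫ pullback.fst π π from (pullback.lift_fst _ _ _).symm]
    conv_rhs => rw [show b = l ≫ pullback.snd π π from (pullback.lift_snd _ _ _).symm]
    rw [Scheme.Hom.comp_appTop, Scheme.Hom.comp_appTop]
    exact congrArg l.appTop hs
  have hev : ∀ (P : CommRingCat.{u}) (i : Y.residueField y ⟶ P),
      (Spec.map i ≫ Y.fromSpecResidueField y).appTop s =
        (Scheme.ΓSpecIso P).inv (i (Y.Γevaluation y s)) := by
    intro P i
    rw [Scheme.Hom.comp_appTop]
    have h0 : (Y.fromSpecResidueField y).appTop s =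
        (Scheme.ΓSpecIso (Y.residueField y)).inv (Y.Γevaluation y s) := by
      simp only [Scheme.fromSpecResidueField, Scheme.Hom.comp_appTop, Scheme.fromSpecStalk_appTop]
      exact (congr($(Scheme.ΓSpecIso_inv_naturality (Y.residue y))
        (Y.presheaf.germ ⊤ y trivial s))).symm
    show (Spec.map i).appTop ((Y.fromSpecResidueField y).appTop s) = _
    rw [h0]
    exact (congr($(Scheme.ΓSpecIso_inv_naturality i) (Y.Γevaluation y s))).symm
  rw [hev, hev] at h1
  have h2 := congrArg (Scheme.ΓSpecIso (CommRingCat.of (TensorProduct K L L))).hom h1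
  simp only [Iso.inv_hom_id_apply] at h2
  obtain ⟨c, hc⟩ := mem_range_of_tmul_comm (K := K) (L := L) h2
  exact ⟨c, hc⟩

include hs in
theorem value_eq (y y' : Y) (h : π y = π y') (c : X.residueField (π y)) (c' : X.residueField (π y'))
    (hc : π.residueFieldMap y c = Y.Γevaluation y s)
    (hc' : π.residueFieldMap y' c' = Y.Γevaluation y' s) :
    (X.residueFieldCongr h).hom c = c' := by
  obtain ⟨z, hz₁, hz₂⟩ := Scheme.Pullback.exists_preimage_pullback (f := π) (g := π) y y' h
  subst hz₁ hz₂
  let p := pullback.fst π π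
  let q := pullback.snd π π
  have e : p ≫ π = q ≫ π := pullback.condition
  have h1 : (p ≫ π).residueFieldMap z c = (q ≫ π).residueFieldMap z c' := by
    rw [Scheme.residueFieldMap_comp, Scheme.residueFieldMap_comp]
    show p.residueFieldMap z (π.residueFieldMap _ c) = q.residueFieldMap z (π.residueFieldMap _ c')
    rw [hc, hc']
    exact (Scheme.Γevaluation_naturality_apply p z s).trans
      ((congrArg (fun t => (pullback π π).Γevaluation z t) hs).trans
        (Scheme.Γevaluation_naturality_apply q z s).symm)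
  apply ((q ≫ π).residueFieldMap z).hom.injective
  refine Eq.trans ?_ h1
  exact (congr($(Scheme.Hom.residueFieldMap_congr e z) c)).symm

variable [Surjective π]

include hs in
/-- The pointwise function of values. -/
theorem exists_ptFun :
    ∃ f : PtFun X, PtFun.pullback π f = PtFun.ofSection Y s := by
  choose σ hσ using fun x : X => π.surjective x
  choose c hc using value_mem_range π s hs
  refine ⟨fun x => (X.residueFieldCongr (hσ x)).hom (c (σ x)), funext fun y => ?_⟩
  show π.residueFieldMap y ((X.residueFieldCongr (hσ (π y))).hom (c (σ (π y)))) = _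
  rw [value_eq π s hs _ _ (hσ (π y)) _ _ (hc _) (hc y)]
  exact hc y

variable [IsProper π]

theorem variesAlongDVR_of_pullback {f : PtFun X} (hf : PtFun.pullback π f = PtFun.ofSection Y s) :
    f.VariesAlongDVR := by
  intro R _ _ _ g
  let m := IsLocalRing.maximalIdeal R
  let η : Spec (CommRingCat.of R) := ⟨⊥, Ideal.isPrime_bot⟩
  obtain ⟨y, hy⟩ := (pullback.snd π g).surjective η
  haveI : ValuativeCriterion.Existence (pullback.snd π g) := by
    have : UniversallyClosed (pullback.snd π g) := inferInstance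
    rw [UniversallyClosed.eq_valuativeCriterion] at this
    exact this.1
  -- the field
  let L := (pullback π g).residueField y
  obtain ⟨ρ, hρ⟩ : ∃ ρ : CommRingCat.of R ⟶ L,
      Spec.map ρ = (pullback π g).fromSpecResidueField y ≫ pullback.snd π g := ⟨_, Spec.map_preimage _⟩
  have hker : RingHom.ker ρ.hom = ⊥ := by
    have h1 : (Spec.map ρ) (IsLocalRing.closedPoint L) = η := by
      rw [hρ]
      exact (congrArg (pullback.snd π g) (Scheme.fromSpecResidueField_apply y _)).trans hy
    have h2 := congrArg PrimeSpectrum.asIdeal h1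
    rw [show (⊥ : Ideal R) = η.asIdeal from rfl, ← h2]
    show RingHom.ker ρ.hom = Ideal.comap ρ.hom (IsLocalRing.maximalIdeal L)
    rw [RingHom.ker_eq_comap_bot, IsLocalRing.maximalIdeal_eq_bot]
  obtain ⟨V, hV, hVloc⟩ := IsLocalRing.exists_factor_valuationRing ρ.hom
  let ν : R →+* V := ρ.hom.codRestrict V.toSubring hV
  have hνinj : Function.Injective ν := fun x z h =>
    (RingHom.injective_iff_ker_eq_bot _).mpr hker (congrArg Subtype.val h)
  have w : (pullback π g).fromSpecResidueField y ≫ pullback.snd π g =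
      Spec.map (CommRingCat.ofHom (algebraMap V L)) ≫ Spec.map (CommRingCat.ofHom ν) := by
    rw [← Spec.map_comp, ← hρ]
    rfl
  obtain ⟨l, -, hl⟩ := (‹ValuativeCriterion.Existence (pullback.snd π g)›
    { R := V, K := L, i₁ := (pullback π g).fromSpecResidueField y,
      i₂ := Spec.map (CommRingCat.ofHom ν), commSq := ⟨w⟩ }).exists_lift
  dsimp only at hl
  obtain ⟨l', hl'⟩ : ∃ l' : Spec (CommRingCat.of V) ⟶ pullback π g,
      l' ≫ pullback.snd π g = Spec.map (CommRingCat.ofHom ν) := ⟨l, hl⟩
  -- functions on `Spec V`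
  let F := PtFun.pullback g f
  have hF : PtFun.pullback (Spec.map (CommRingCat.ofHom ν)) F =
      PtFun.ofSection _ ((l' ≫ pullback.fst π g).appTop s) := by
    rw [← pullback_comp, ← hl', Category.assoc, ← pullback.condition, ← Category.assoc,
      pullback_comp, hf, pullback_ofSection]
  let G : ∀ p : PrimeSpectrum R, p.asIdeal.ResidueField := fun p => Groth.L28.PtFun.toIdealRF p (F p)
  let σ : V := (Scheme.ΓSpecIso (CommRingCat.of V)).hom ((l' ≫ pullback.fst π g).appTop s)
  have hG : ∀ (P : PrimeSpectrum V) (p : PrimeSpectrum R) (h : p.asIdeal = P.asIdeal.comap ν),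
      algebraMap V P.asIdeal.ResidueField σ = Ideal.ResidueField.map p.asIdeal P.asIdeal ν h (G p) := by
    intro P p h
    obtain rfl : p = (Spec.map (CommRingCat.ofHom ν)) P := PrimeSpectrum.ext h
    exact ((Groth.L28.PtFun.toIdealRF_evaluation P _).symm.trans
      (congrArg (Groth.L28.PtFun.toIdealRF P) (congrFun hF P).symm)).trans
        (Groth.L28.PtFun.toIdealRF_naturality ν P _)
  let p₀ : PrimeSpectrum R := ⟨⊥, Ideal.isPrime_bot⟩
  let P₀ : PrimeSpectrum V := ⟨⊥, Ideal.isPrime_bot⟩
  have h₀ : p₀.asIdeal = P₀.asIdeal.comap ν := (Ideal.comap_bot_of_injective _ hνinj).symm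
  obtain ⟨a', b', hb', hab⟩ := IsFractionRing.div_surjective (A := R ⧸ p₀.asIdeal) (G p₀)
  obtain ⟨a, rfl⟩ := Ideal.Quotient.mk_surjective a'
  obtain ⟨b, rfl⟩ := Ideal.Quotient.mk_surjective b'
  have hb0 : b ≠ 0 := fun h => nonZeroDivisors.ne_zero hb' (by rw [h, map_zero])
  have htower : ∀ c : R, algebraMap (R ⧸ p₀.asIdeal) p₀.asIdeal.ResidueField
      (Ideal.Quotient.mk p₀.asIdeal c) = algebraMap R p₀.asIdeal.ResidueField c := fun c =>
    (IsScalarTower.algebraMap_apply R (R ⧸ p₀.asIdeal) p₀.asIdeal.ResidueField c).symm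
  rw [htower, htower, div_eq_iff (fun h => hb0 (Ideal.mem_bot.mp
    (Ideal.algebraMap_residueField_eq_zero.mp h)))] at hab
  have hσ : ν a = σ * ν b := by
    have h1 := congrArg (Ideal.ResidueField.map p₀.asIdeal P₀.asIdeal ν h₀) hab
    rw [map_mul, Ideal.ResidueField.map_algebraMap, Ideal.ResidueField.map_algebraMap,
      ← hG P₀ p₀ h₀, ← map_mul, ← sub_eq_zero, ← map_sub,
      Ideal.algebraMap_residueField_eq_zero, Ideal.mem_bot, sub_eq_zero] at h1
    exact h1
  have hdvd : b ∣ a := by
    rcases ValuationRing.dvd_total b a with h | ⟨t, ht⟩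
    · exact h
    · rw [ht, map_mul] at hσ
      have hνa : ν a ≠ 0 := by
        intro h0
        rw [map_eq_zero_iff ν hνinj] at h0
        exact hb0 (by rw [ht, h0, zero_mul])
      have h1 : σ * ν t = 1 := mul_left_cancel₀ hνa (by rw [mul_one]; linear_combination -hσ)
      obtain ⟨w, hw⟩ := isUnit_of_map_unit ν t ⟨⟨ν t, σ, by rw [mul_comm]; exact h1, h1⟩, rfl⟩
      exact ⟨↑w⁻¹, by rw [ht, ← hw, Units.mul_inv_cancel_right]⟩
  obtain ⟨r, rfl⟩ := hdvd
  have hσr : σ = ν r := by
    rw [map_mul, mul_comm] at hσ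
    exact (mul_right_cancel₀ ((map_ne_zero_iff ν hνinj).mpr hb0) hσ).symm
  refine ⟨(Scheme.ΓSpecIso (CommRingCat.of R)).inv r,
    funext fun (Q : PrimeSpectrum R) => Groth.L28.PtFun.toIdealRF_injective Q ?_⟩
  refine (Groth.L28.PtFun.toIdealRF_evaluation Q _).trans ?_
  rw [Iso.inv_hom_id_apply]
  show algebraMap R Q.asIdeal.ResidueField r = G Q
  obtain ⟨P, hP⟩ : ∃ P : PrimeSpectrum V, Q.asIdeal = P.asIdeal.comap ν := by
    by_cases hQ : Q.asIdeal = ⊥
    · exact ⟨P₀, hQ.trans h₀⟩
    · refine ⟨⟨IsLocalRing.maximalIdeal V, inferInstance⟩, ?_⟩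
      rw [IsLocalRing.eq_maximalIdeal (Ideal.IsPrime.isMaximal Q.isPrime hQ)]
      have h4 : IsLocalHom ν ↔ (IsLocalRing.maximalIdeal V).comap ν = IsLocalRing.maximalIdeal R :=
        (IsLocalRing.local_hom_TFAE ν).out 0 4
      exact (h4.mp hVloc).symm
  apply (Ideal.ResidueField.map Q.asIdeal P.asIdeal ν hP).injective
  rw [Ideal.ResidueField.map_algebraMap, ← hσr, hG P Q hP]

omit [IsProper π] [Surjective π]

lemma evaluation_res {V U : X.Opens} (h : V ≤ U) {x : X} (hx : x ∈ V) (a : Γ(X, U)) :
    X.evaluation V x hx (X.presheaf.map (homOfLE h).op a) = X.evaluation U x (h hx) a := by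
  show X.residue x (X.presheaf.germ V x hx (X.presheaf.map (homOfLE h).op a)) = _
  rw [TopCat.Presheaf.germ_res_apply]
  rfl

lemma eq_of_evaluation [IsReduced X] {U : X.Opens} (a b : Γ(X, U))
    (h : ∀ (x : X) (hx : x ∈ U), X.evaluation U x hx a = X.evaluation U x hx b) : a = b := by
  rw [← sub_eq_zero]
  apply (basicOpen_eq_bot_iff _).mp
  rw [Scheme.basicOpen_eq_bot_iff_forall_evaluation_eq_zero]
  intro x
  rw [map_sub, h x.1 x.2, sub_self]

lemma finite_integralClosure {k : Type u} [Field k] (sX : X ⟶ Spec (CommRingCat.of k))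
    [LocallyOfFiniteType sX] [IsReduced X] {U : X.Opens} (hU : IsAffineOpen U) :
    IsNoetherianRing Γ(X, U) ∧
      Module.Finite Γ(X, U) (integralClosure Γ(X, U) (FractionRing Γ(X, U))) := by
  let φ : k →+* Γ(X, U) := (sX.appLE ⊤ U le_top).hom.comp
    (Scheme.ΓSpecIso (CommRingCat.of k)).inv.hom
  have hφ : φ.FiniteType :=
    (LocallyOfFiniteType.finiteType_appLE sX (isAffineOpen_top _) hU le_top).comp
      (RingHom.FiniteType.of_surjective _
        (ConcreteCategory.bijective_of_isIso (Scheme.ΓSpecIso (CommRingCat.of k)).inv).2)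
  letI := φ.toAlgebra
  haveI : Algebra.FiniteType k Γ(X, U) := hφ
  haveI : IsNoetherianRing Γ(X, U) := Algebra.FiniteType.isNoetherianRing k Γ(X, U)
  exact ⟨inferInstance, Groth.L22.Norm.finite_integralClosure Γ(X, U)
    (Groth.L01.Nagata.isNagata_of_finiteType (R := k) (Groth.L18.NormField.isNagata_field k))⟩

/-- A pointwise function varying along discrete valuation rings on a seminormal scheme of finite
type over a field is a section. -/
theorem exists_section {k : Type u} [Field k] (sX : X ⟶ Spec (CommRingCat.of k))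
    [LocallyOfFiniteType sX] (hX : HTop.IsSeminormal X) (f : PtFun X) (hf : f.VariesAlongDVR) :
    ∃ t : Γ(X, ⊤), PtFun.ofSection X t = f := by
  haveI : IsReduced X := (Groth.Agent.S7421.result.{u}).2 X hX
  have hsem := ((Groth.Agent.S7420.result X).1).mp hX
  have hloc : ∀ U : X.affineOpens, ∃ a : Γ(X, U), ∀ (x : X) (hx : x ∈ U.1),
      X.evaluation U x hx a = f x := by
    rintro ⟨U, hU⟩
    obtain ⟨hNoeth, hfin⟩ := finite_integralClosure sX hU
    let F := PtFun.pullback hU.fromSpec f
    have hF : F.VariesAlongCompleteDVR := by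
      intro R _ _ _ _ g
      rw [show PtFun.pullback g F = PtFun.pullback (g ≫ hU.fromSpec) f from
        (pullback_comp _ _ _).symm]
      exact hf R _
    obtain ⟨t, ht, -⟩ := Groth.Agent.S13109.result Γ(X, U) (hsem ⟨U, hU⟩) hfin F hF
    refine ⟨(Scheme.ΓSpecIso Γ(X, U)).hom t, fun x hx => ?_⟩
    obtain ⟨p, rfl⟩ : x ∈ Set.range hU.fromSpec := hU.range_fromSpec.symm ▸ hx
    apply (hU.fromSpec.residueFieldMap p).hom.injective
    refine Eq.trans ?_ (congrFun ht p)
    refine (congr($(Scheme.evaluation_naturality hU.fromSpec p hx)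
      ((Scheme.ΓSpecIso Γ(X, U)).hom t))).trans ?_
    show (Spec Γ(X, U)).evaluation _ p hx
      (hU.fromSpec.app U ((Scheme.ΓSpecIso Γ(X, U)).hom t)) = _
    rw [IsAffineOpen.fromSpec_app_self]
    show (Spec Γ(X, U)).evaluation _ p hx ((Spec Γ(X, U)).presheaf.map _
      ((Scheme.ΓSpecIso Γ(X, U)).inv ((Scheme.ΓSpecIso Γ(X, U)).hom t))) = _
    rw [Iso.hom_inv_id_apply]
    exact evaluation_res (X := Spec Γ(X, U)) (le_of_eq hU.fromSpec_preimage_self) hx t
  choose a ha using hloc
  let F : TopCat.Sheaf CommRingCat.{u} X := X.sheaf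
  have hcompat : TopCat.Presheaf.IsCompatible F.1 (fun U : X.affineOpens => (U : X.Opens)) a := by
    intro U V
    apply eq_of_evaluation
    intro x hx
    exact ((evaluation_res inf_le_left hx (a U)).trans (ha U x _)).trans
      ((evaluation_res inf_le_right hx (a V)).trans (ha V x _)).symm
  obtain ⟨t, ht, -⟩ := F.existsUnique_gluing' (fun U : X.affineOpens => (U : X.Opens)) ⊤
    (fun U => homOfLE le_top) (iSup_affineOpens_eq_top X).ge a hcompat
  refine ⟨t, funext fun x => ?_⟩
  obtain ⟨_, ⟨U, hU, rfl⟩, hxU, -⟩ :=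
    X.isBasis_affineOpens.exists_subset_of_mem_open (Set.mem_univ x) isOpen_univ
  rw [← ha ⟨U, hU⟩ x hxU, ← ht ⟨U, hU⟩]
  exact (evaluation_res le_top hxU t).symm

end Groth.L15.SemiDescend
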