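import Groth.Agent.L15.SemiNorm
import Groth.Agent.S7420
import Groth.Agent.S7421
import Mathlib.AlgebraicGeometry.Morphisms.Finite
import Mathlib.AlgebraicGeometry.ResidueField
import Mathlib.AlgebraicGeometry.Noetherian
import Mathlib.AlgebraicGeometry.Morphisms.UniversallyInjective
import Mathlib.AlgebraicGeometry.Morphisms.ClosedImmersion

/-!
Finite bijective morphisms with trivial residue extensions from reduced schemes to seminormal
Noetherian schemes are isomorphisms.
-/

set_option autoImplicit false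
universe u

open CategoryTheory AlgebraicGeometry TopologicalSpace

namespace Groth.L15.SemiIso

variable {W T : Scheme.{u}} (π : W ⟶ T)

theorem isIso_of_finite_residual [IsFinite π] [IsReduced W] [IsLocallyNoetherian T]
    (hT : HTop.IsSeminormal T) (hbij : Function.Bijective π.base)
    (hres : ∀ w : W, Function.Surjective (π.residueFieldMap w)) : IsIso π := by
  haveI : IsReduced T := (Groth.Agent.S7421.result.{u}).2 T hT
  have hsem := ((Groth.Agent.S7420.result T).1).mp hT
  change MorphismProperty.isomorphisms Scheme π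
  rw [IsZariskiLocalAtTarget.iff_of_iSup_eq_top (P := MorphismProperty.isomorphisms Scheme)
    _ (iSup_affineOpens_eq_top T)]
  rintro ⟨V, hV⟩
  have hV' : IsAffineOpen (π ⁻¹ᵁ V) := hV.preimage π
  haveI : IsAffine V := hV
  haveI : IsAffine (π ⁻¹ᵁ V : W.Opens) := hV'
  show IsIso (π ∣_ V)
  suffices hb : Function.Bijective (π.app V) by
    haveI : IsIso (π.app V) := (ConcreteCategory.isIso_iff_bijective _).mpr hb
    haveI : IsIso (π ∣_ V).appTop := by
      rw [Scheme.Hom.appTop, morphismRestrict_app]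
      have : IsIso (π.app (V.ι ''ᵁ ⊤)) := by
        have e : V.ι ''ᵁ ⊤ = V := by simp
        rw [e]; infer_instance
      exact @IsIso.comp_isIso _ _ _ _ _ _ _ this (W.presheaf.map_isIso _)
    show MorphismProperty.isomorphisms Scheme (π ∣_ V)
    rw [(MorphismProperty.isomorphisms Scheme).arrow_mk_iso_iff (arrowIsoSpecΓOfIsAffine (π ∣_ V))]
    show IsIso (Spec.map (π ∣_ V).appTop)
    infer_instance
  letI := (π.app V).hom.toAlgebra
  haveI : Module.Finite Γ(T, V) Γ(W, π ⁻¹ᵁ V) := IsFinite.finite_app π V hV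
  haveI : IsNoetherianRing Γ(T, V) := IsLocallyNoetherian.component_noetherian ⟨V, hV⟩
  have hinj : Function.Injective (algebraMap Γ(T, V) Γ(W, π ⁻¹ᵁ V)) := by
    rw [injective_iff_map_eq_zero]
    intro a ha
    apply (basicOpen_eq_bot_iff a).mp
    rw [eq_bot_iff]
    intro t ht
    obtain ⟨w, rfl⟩ := hbij.2 t
    have hw : w ∈ π ⁻¹ᵁ T.basicOpen a := ht
    rw [Scheme.Hom.preimage_basicOpen] at hw
    rw [show π.app V a = 0 from ha, Scheme.basicOpen_zero] at hw
    exact hw
  have hcomap : Function.Injective (PrimeSpectrum.comap (algebraMap Γ(T, V) Γ(W, π ⁻¹ᵁ V))) := by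
    intro Q₁ Q₂ h
    apply hV'.fromSpec.isOpenEmbedding.injective
    apply hbij.1
    have hsq : ∀ Q : PrimeSpectrum Γ(W, π ⁻¹ᵁ V), π.base (hV'.fromSpec Q) =
        hV.fromSpec (PrimeSpectrum.comap (algebraMap Γ(T, V) Γ(W, π ⁻¹ᵁ V)) Q) := by
      intro Q
      have e := IsAffineOpen.SpecMap_appLE_fromSpec π hV hV' le_rfl
      rw [← Scheme.Hom.app_eq_appLE] at e
      exact congr($(e.symm).base Q)
    rw [hsq, hsq, h]
  refine ⟨hinj, fun y => ?_⟩
  refine Groth.L15.SemiNorm.mem_range_of_residual (hsem ⟨V, hV⟩) hinj hcomap y fun Q => ?_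
  let x : W := hV'.fromSpec Q
  have hx : x ∈ π ⁻¹ᵁ V := by
    rw [← SetLike.mem_coe, ← hV'.range_fromSpec]
    exact ⟨Q, rfl⟩
  have hzero : ∀ b : Γ(W, π ⁻¹ᵁ V), W.evaluation _ x hx b = 0 ↔ b ∈ Q.asIdeal := by
    intro b
    rw [Scheme.evaluation_eq_zero_iff_notMem_basicOpen,
      show x ∈ W.basicOpen b ↔ Q ∈ hV'.fromSpec ⁻¹ᵁ W.basicOpen b from Iff.rfl,
      hV'.fromSpec_preimage_basicOpen]
    exact not_not
  obtain ⟨z, hz⟩ := hres x (W.evaluation _ x hx y)
  obtain ⟨v, rfl⟩ := T.residue_surjective (π x) z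
  letI := (T.presheaf.germ V (π x) hx).hom.toAlgebra
  have := hV.isLocalization_stalk ⟨π x, hx⟩
  obtain ⟨⟨a, ⟨s, hs⟩⟩, hw⟩ := IsLocalization.surj
    ((hV.primeIdealOf ⟨π x, hx⟩).asIdeal.primeCompl) v
  have hu := IsLocalization.map_units (T.presheaf.stalk (π x))
    (M := (hV.primeIdealOf ⟨π x, hx⟩).asIdeal.primeCompl) ⟨s, hs⟩
  have hnat : ∀ c : Γ(T, V), π.residueFieldMap x (T.evaluation V (π x) hx c) =
      W.evaluation _ x hx (π.app V c) :=
    fun c => congr($(Scheme.evaluation_naturality π x hx) c)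
  refine ⟨a, s, ?_, ?_⟩
  · rw [← hzero]
    show W.evaluation _ x hx (π.app V s) ≠ 0
    rw [← hnat]
    exact (map_ne_zero _).mpr (hu.map (T.residue (π x)).hom).ne_zero
  · rw [← hzero, map_sub, map_mul, sub_eq_zero]
    show W.evaluation _ x hx (π.app V s) * _ = W.evaluation _ x hx (π.app V a)
    rw [← hnat, ← hnat, ← hz, ← map_mul, mul_comm]
    congr 1
    have h := congrArg (T.residue (π x)).hom hw
    rw [map_mul] at h
    exact h

theorem exists_lift_of_surjective {Z X S : Scheme.{u}} (ι : Z ⟶ X) [IsClosedImmersion ι]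
    [Surjective ι] [IsReduced S] (l : S ⟶ X) : ∃ l' : S ⟶ Z, l' ≫ ι = l := by
  haveI : Surjective (Limits.pullback.fst l ι) := MorphismProperty.pullback_fst l ι ‹_›
  haveI := isIso_of_isClosedImmersion_of_surjective (Limits.pullback.fst l ι)
  exact ⟨inv (Limits.pullback.fst l ι) ≫ Limits.pullback.snd l ι, by
    rw [Category.assoc, ← Limits.pullback.condition, IsIso.inv_hom_id_assoc]⟩

theorem residueFieldMap_surjective [UniversallyInjective π] (w : W)
    (l : Spec (T.residueField (π w)) ⟶ W) (hl : l ≫ π = T.fromSpecResidueField (π w)) :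
    Function.Surjective (π.residueFieldMap w) := by
  obtain ⟨⟨w', φ⟩, rfl⟩ := (W.SpecToEquivOfField (T.residueField (π w))).symm.surjective l
  simp only [Scheme.SpecToEquivOfField_symm_apply, Category.assoc] at hl
  obtain rfl : w' = w := by
    apply π.injective
    have h := congr($(hl).base (IsLocalRing.closedPoint (T.residueField (π w))))
    simpa using h
  rw [← Scheme.Hom.SpecMap_residueFieldMap_fromSpecResidueField, ← Category.assoc,
    ← Spec.map_comp] at hl
  have h1 : Spec.map (π.residueFieldMap w' ≫ φ) = 𝟙 _ := by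
    rw [← cancel_mono (T.fromSpecResidueField (π w')), hl, Category.id_comp]
  rw [← Spec.map_id] at h1
  have h2 := Spec.map_injective h1
  intro z
  refine ⟨φ z, φ.hom.injective ?_⟩
  exact congr($(h2) (φ z))

end Groth.L15.SemiIso
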