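import Groth.Prelude.Def_HTop2
import Groth.Prelude.Def_Flat
import Groth.Prelude.Def_SymTen
import Mathlib.RingTheory.IntegralClosure.IntegralRestrict
import Mathlib.FieldTheory.PurelyInseparable.Basic
import Mathlib.AlgebraicGeometry.Morphisms.UniversallyInjective
import Mathlib.Algebra.Polynomial.Expand
import Mathlib.RingTheory.Ideal.GoingUp
import Mathlib.RingTheory.Ideal.MinimalPrime.Noetherian

/-!
Seminormal rings have no proper subintegral extensions inside a reduced ring; binomial multiples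
of powers in purely inseparable extensions.
-/

set_option autoImplicit false

open scoped Classical

namespace Groth.L15.SemiNorm

universe u

lemma isReduced_of_isSeminormal {A : Type u} [CommRing A] (h : HTop.IsSeminormalRing A) :
    IsReduced A := by
  rw [isReduced_iff_pow_one_lt 2 one_lt_two]
  intro x hx
  obtain ⟨a, -, hu⟩ := h 0 0 (by simp)
  have h1 := hu x ⟨hx.symm, by rw [pow_succ, hx, zero_mul]⟩
  have h2 := hu 0 ⟨by simp, by simp⟩
  rw [h1, h2]

variable {C C' : Type u} [CommRing C] [CommRing C'] [IsReduced C'] [Algebra C C']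

lemma mem_range_of_sq_cube (hC : HTop.IsSeminormalRing C)
    (hinj : Function.Injective (algebraMap C C')) {u : C'}
    (h2 : u ^ 2 ∈ (algebraMap C C').range) (h3 : u ^ 3 ∈ (algebraMap C C').range) :
    u ∈ (algebraMap C C').range := by
  obtain ⟨a, ha⟩ := h2
  obtain ⟨b, hb⟩ := h3
  have hab : a ^ 3 = b ^ 2 := hinj (by rw [map_pow, map_pow, ha, hb]; ring)
  obtain ⟨c, ⟨hca, hcb⟩, -⟩ := hC a b hab
  refine ⟨c, ?_⟩
  set v := algebraMap C C' c
  have hv2 : v ^ 2 = u ^ 2 := by rw [← ha, hca, map_pow]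
  have hv3 : v ^ 3 = u ^ 3 := by rw [← hb, hcb, map_pow]
  have e1 : v ^ 2 * u = u ^ 3 := by rw [hv2]; ring
  have e2 : v * u ^ 2 = u ^ 3 := by rw [← hv2, ← hv3]; ring
  have : (v - u) ^ 3 = 0 := by linear_combination hv3 - 3 * e1 + 3 * e2
  exact sub_eq_zero.mp (IsNilpotent.eq_zero ⟨3, this⟩)

/-- A seminormal Noetherian ring contains every element of a reduced integral extension with
injective spectrum whose values at all primes come from the base. -/
theorem mem_range_of_residual [IsNoetherianRing C] [Algebra.IsIntegral C C']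
    (hC : HTop.IsSeminormalRing C) (hinj : Function.Injective (algebraMap C C'))
    (hcomap : Function.Injective (PrimeSpectrum.comap (algebraMap C C'))) (y : C')
    (hy : ∀ Q : PrimeSpectrum C', ∃ c s : C, algebraMap C C' s ∉ Q.asIdeal ∧
      algebraMap C C' s * y - algebraMap C C' c ∈ Q.asIdeal) :
    y ∈ (algebraMap C C').range := by
  set T := Algebra.adjoin C ({y} : Set C') with hT
  have hyT : y ∈ T := Algebra.self_mem_adjoin_singleton C y
  set R := (algebraMap C C').range
  -- conductor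
  let J : Ideal C :=
    { carrier := {c | ∀ t ∈ T, algebraMap C C' c * t ∈ R}
      add_mem' := fun {a b} ha hb t ht => by
        rw [map_add, add_mul]; exact add_mem (ha t ht) (hb t ht)
      zero_mem' := fun t _ => by rw [map_zero, zero_mul]; exact zero_mem _
      smul_mem' := fun a b hb t ht => by
        rw [smul_eq_mul, map_mul, mul_assoc]; exact mul_mem ⟨a, rfl⟩ (hb t ht) }
  let I : Ideal T :=
    { carrier := {v | ∀ t ∈ T, (v : C') * t ∈ R}
      add_mem' := fun {a b} ha hb t ht => by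
        show ((a : C') + b) * t ∈ R; rw [add_mul]; exact add_mem (ha t ht) (hb t ht)
      zero_mem' := fun t _ => by show (0 : C') * t ∈ R; rw [zero_mul]; exact zero_mem _
      smul_mem' := fun a b hb t ht => by
        show ((a : C') * b) * t ∈ R
        rw [mul_comm (a : C'), mul_assoc]; exact hb _ (mul_mem a.2 ht) }
  have hIrad : ∀ v : T, v ^ 2 ∈ I → v ∈ I := by
    intro v hv t ht
    refine mem_range_of_sq_cube hC hinj ?_ ?_
    · have := hv (t ^ 2) (pow_mem ht 2)
      rwa [show ((v ^ 2 : T) : C') * t ^ 2 = ((v : C') * t) ^ 2 by push_cast; ring] at this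
    · have := hv ((v : C') * t ^ 3) (mul_mem v.2 (pow_mem ht 3))
      rwa [show ((v ^ 2 : T) : C') * ((v : C') * t ^ 3) = ((v : C') * t) ^ 3 by push_cast; ring] at this
  have hIrad' : ∀ (n : ℕ) (v : T), v ^ (2 ^ n) ∈ I → v ∈ I := by
    intro n
    induction n with
    | zero => intro v hv; simpa using hv
    | succ n ih =>
      intro v hv
      apply ih
      apply hIrad
      rwa [← pow_mul, ← pow_succ]
  have hJI : J.map (algebraMap C T) ≤ I := by
    rw [Ideal.map_le_iff_le_comap]
    exact fun c hc t ht => hc t ht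
  by_cases hJ : J = ⊤
  · have h1 : (1 : C) ∈ J := hJ ▸ Submodule.mem_top
    simpa using h1 y hyT
  exfalso
  obtain ⟨M, hM, hJM⟩ := Ideal.exists_le_maximal J hJ
  haveI := hM.isPrime
  obtain ⟨P, hP, -⟩ := Ideal.exists_minimalPrimes_le hJM
  haveI := hP.1.1
  obtain ⟨q, -, hqprime, hqP⟩ :=
    Ideal.exists_ideal_over_prime_of_isIntegral P (⊥ : Ideal C') (by
      rw [← RingHom.ker_eq_comap_bot, (RingHom.injective_iff_ker_eq_bot _).mp hinj]; exact bot_le)
  haveI := hqprime
  obtain ⟨c, s, hs, hz⟩ := hy ⟨q, hqprime⟩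
  -- avoid the other minimal primes
  have hfin := J.finite_minimalPrimes_of_isNoetherianRing C
  let S := hfin.toFinset.erase P
  have hex : ∀ P' ∈ S, ∃ a ∈ P', a ∉ P := by
    intro P' hP'
    obtain ⟨hne, hmem⟩ := Finset.mem_erase.mp hP'
    rw [Set.Finite.mem_toFinset] at hmem
    by_contra hcon
    push Not at hcon
    exact hne (le_antisymm hcon (hP.2 hmem.1 hcon))
  choose a ha haP using hex
  set t₀ : C := ∏ P' ∈ S.attach, a P'.1 P'.2 with ht₀
  have ht₀P : t₀ ∉ P := by
    rw [ht₀, Ideal.IsPrime.prod_mem_iff]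
    rintro ⟨P', -, hmem⟩
    exact haP P'.1 P'.2 hmem
  have hz' : algebraMap C C' s * y - algebraMap C C' c ∈ T :=
    sub_mem (mul_mem (T.algebraMap_mem s) hyT) (T.algebraMap_mem c)
  let u : T := algebraMap C T t₀ * ⟨_, hz'⟩
  have hu : u ∈ (J.map (algebraMap C T)).radical := by
    rw [Ideal.radical_eq_sInf, Submodule.mem_sInf]
    rintro QT ⟨hQT, hQTprime⟩
    haveI := hQTprime
    haveI : Algebra.IsIntegral T C' := Algebra.IsIntegral.tower_top C
    obtain ⟨Q, -, hQ, hQc⟩ := Ideal.exists_ideal_over_prime_of_isIntegral QT (⊥ : Ideal C') (by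
      rw [← RingHom.ker_eq_comap_bot,
        (RingHom.injective_iff_ker_eq_bot _).mp (FaithfulSMul.algebraMap_injective T C')]
      exact bot_le)
    haveI := hQ
    have hJQ : J ≤ Q.comap (algebraMap C C') := by
      intro x hx
      have : algebraMap C T x ∈ QT := hQT (Ideal.mem_map_of_mem _ hx)
      rw [← hQc] at this
      exact this
    obtain ⟨P', hP', hP'Q⟩ := Ideal.exists_minimalPrimes_le hJQ
    rw [← hQc]
    show algebraMap T C' u ∈ Q
    have hval : algebraMap T C' u =
        algebraMap C C' t₀ * (algebraMap C C' s * y - algebraMap C C' c) := rfl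
    rw [hval]
    by_cases hPP : P' = P
    · apply Ideal.mul_mem_left
      rw [hPP] at hP'Q
      obtain ⟨Q', hQ'q, hQ'prime, hQ'c⟩ :=
        Ideal.exists_ideal_over_prime_of_isIntegral (Q.comap (algebraMap C C')) q (hqP ▸ hP'Q)
      have : (⟨Q', hQ'prime⟩ : PrimeSpectrum C') = ⟨Q, hQ⟩ :=
        hcomap (PrimeSpectrum.ext hQ'c)
      have hQQ : Q' = Q := congrArg PrimeSpectrum.asIdeal this
      exact hQQ ▸ hQ'q hz
    · apply Ideal.mul_mem_right
      have hmem : P' ∈ S := Finset.mem_erase.mpr ⟨hPP, hfin.mem_toFinset.mpr hP'⟩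
      rw [ht₀, map_prod, Ideal.IsPrime.prod_mem_iff]
      exact ⟨⟨P', hmem⟩, Finset.mem_attach _ _, hP'Q (ha P' hmem)⟩
  obtain ⟨n, hn⟩ := hu
  have huI : u ∈ I := hIrad' n u
    (I.pow_mem_of_pow_mem (hJI hn) (Nat.lt_two_pow_self).le)
  set σ := algebraMap C C' (t₀ * s) with hσ
  have hσT : ∀ t ∈ T, σ * y * t - algebraMap C C' (t₀ * c) * t ∈ R := by
    intro t ht
    have h1 : algebraMap C C' t₀ * (algebraMap C C' s * y - algebraMap C C' c) * t ∈ R := huI t ht
    rw [hσ, map_mul, map_mul]
    convert h1 using 1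
    ring
  have hpow : ∀ k : ℕ, σ ^ k * y ^ k ∈ R := by
    intro k
    induction k with
    | zero => simp [R, one_mem]
    | succ k ih =>
      have h1 := hσT (y ^ k) (pow_mem hyT k)
      have h2 : σ ^ k * (σ * y * y ^ k - algebraMap C C' (t₀ * c) * y ^ k) +
          algebraMap C C' (t₀ * c) * (σ ^ k * y ^ k) ∈ R :=
        add_mem (mul_mem (pow_mem (show σ ∈ R from ⟨_, rfl⟩) k) h1) (mul_mem ⟨_, rfl⟩ ih)
      convert h2 using 1
      ring
  have hall : ∀ x ∈ T, ∃ n, σ ^ n * x ∈ R := by
    intro x hx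
    induction hx using Algebra.adjoin_induction with
    | mem x hx =>
      rw [Set.mem_singleton_iff] at hx
      exact ⟨1, hx ▸ by simpa using hpow 1⟩
    | algebraMap r => exact ⟨0, by simp [R]⟩
    | add a b _ _ ha hb =>
      obtain ⟨m, hm⟩ := ha; obtain ⟨n, hn⟩ := hb
      refine ⟨m + n, ?_⟩
      have : σ ^ n * (σ ^ m * a) + σ ^ m * (σ ^ n * b) ∈ R :=
        add_mem (mul_mem (pow_mem (show σ ∈ R from ⟨_, rfl⟩) n) hm) (mul_mem (pow_mem (show σ ∈ R from ⟨_, rfl⟩) m) hn)
      convert this using 1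
      ring
    | mul a b _ _ ha hb =>
      obtain ⟨m, hm⟩ := ha; obtain ⟨n, hn⟩ := hb
      refine ⟨m + n, ?_⟩
      have := mul_mem hm hn
      convert this using 1
      ring
  obtain ⟨G, hG⟩ := (Algebra.IsIntegral.isIntegral (R := C) y).fg_adjoin_singleton
  have hGT : ∀ x ∈ G, x ∈ T := fun x hx => by
    have : x ∈ Subalgebra.toSubmodule T := hG ▸ Submodule.subset_span hx
    exact this
  choose f hf using fun x : G => hall x.1 (hGT x.1 x.2)
  obtain ⟨N, hN⟩ : ∃ N, ∀ x : G, f x ≤ N := ⟨∑ x, f x, fun x =>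
    Finset.single_le_sum (fun _ _ => Nat.zero_le _) (Finset.mem_univ x)⟩
  have hσJ : (t₀ * s) ^ N ∈ J := by
    intro t ht
    have ht' : t ∈ Submodule.span C (G : Set C') := hG.symm ▸ ht
    rw [map_pow, ← hσ]
    induction ht' using Submodule.span_induction with
    | mem x hx =>
      have h1 : σ ^ (N - f ⟨x, hx⟩) * (σ ^ f ⟨x, hx⟩ * x) ∈ R :=
        mul_mem (pow_mem (show σ ∈ R from ⟨_, rfl⟩) _) (hf ⟨x, hx⟩)
      rwa [← mul_assoc, ← pow_add, Nat.sub_add_cancel (hN _)] at h1
    | zero => rw [mul_zero]; exact zero_mem _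
    | add a b ha hb iha ihb =>
      rw [mul_add]
      exact add_mem (iha (show a ∈ Subalgebra.toSubmodule T from hG ▸ ha))
        (ihb (show b ∈ Subalgebra.toSubmodule T from hG ▸ hb))
    | smul r a ha iha =>
      rw [Algebra.smul_def, ← mul_assoc, mul_comm _ (algebraMap C C' r), mul_assoc]
      exact mul_mem ⟨r, rfl⟩ (iha (show a ∈ Subalgebra.toSubmodule T from hG ▸ ha))
  have := (‹P.IsPrime›).mem_of_pow_mem N (hP.1.2 hσJ)
  rcases (‹P.IsPrime›).mem_or_mem this with h | h
  · exact ht₀P h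
  · apply hs
    have : s ∈ q.comap (algebraMap C C') := hqP.symm ▸ h
    exact this

/-- In a finite purely inseparable extension of degree dividing `d`, the binomial multiples
`choose d j • x ^ j` lie in the base field. -/
theorem choose_mul_pow_mem_range {F E : Type*} [Field F] [Field E] [Algebra F E]
    [IsPurelyInseparable F E] [FiniteDimensional F E] {d : ℕ}
    (hd : Module.finrank F E ∣ d) (x : E) (j : ℕ) :
    (d.choose j : E) * x ^ j ∈ (algebraMap F E).range := by
  set q := ringExpChar F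
  haveI : ExpChar E q := expChar_of_injective_algebraMap (algebraMap F E).injective q
  obtain ⟨n, y, hxy⟩ := IsPurelyInseparable.minpoly_eq_X_pow_sub_C F q x
  have hqn : q ^ n ∣ d := by
    have h := minpoly.degree_dvd (IsIntegral.of_finite F x)
    rw [hxy, Polynomial.natDegree_X_pow_sub_C] at h
    exact h.trans hd
  have hx : x ^ q ^ n = algebraMap F E y := by
    have h := minpoly.aeval F x
    rw [hxy] at h
    simpa [sub_eq_zero] using h
  by_cases hj : q ^ n ∣ j
  · obtain ⟨i, rfl⟩ := hj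
    rw [pow_mul, hx]
    exact mul_mem (natCast_mem _ _) (pow_mem (RingHom.mem_range_self _ y) i)
  · obtain ⟨m, rfl⟩ := hqn
    have h0 : ((q ^ n * m).choose j : E) = 0 := by
      rw [← Polynomial.coeff_one_add_X_pow E, pow_mul, add_pow_expChar_pow, one_pow]
      have : ((1 : Polynomial E) + Polynomial.X ^ q ^ n) ^ m =
          Polynomial.expand E (q ^ n) ((1 + Polynomial.X) ^ m) := by simp
      rw [this, Polynomial.coeff_expand (expChar_pow_pos E q n), if_neg hj]
    rw [h0, zero_mul]
    exact zero_mem _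

end Groth.L15.SemiNorm
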