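import Mathlib.RingTheory.PicardGroup
import Mathlib.LinearAlgebra.Matrix.ToLin
import Mathlib.LinearAlgebra.Matrix.GeneralLinearGroup.Basic

/-!
Automorphisms of matrix algebras and invertible modules with free `n`-th sum.
-/

set_option autoImplicit false

noncomputable section

universe u v

namespace Groth.L15.SkolemNoether

open scoped TensorProduct

variable {R : Type u} [CommRing R]

theorem invertible_of_end {N : Type v} [AddCommGroup N] [Module R N]
    (hend : ∀ T : N →ₗ[R] N, ∃ c : R, ∀ x, T x = c • x)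
    (hgen : ∃ (m : ℕ) (ψ : Fin m → N →ₗ[R] R) (x : Fin m → N), ∑ a, ψ a (x a) = 1) :
    Module.Invertible R N := by
  classical
  obtain ⟨m, ψ₀, x₀, h1⟩ := hgen
  obtain ⟨s, hs⟩ := hend (∑ a, (ψ₀ a).smulRight (x₀ a))
  simp only [LinearMap.sum_apply, LinearMap.smulRight_apply] at hs
  have hc : ∀ (ψ : N →ₗ[R] R) (x z : N), ψ z • x = (s * ψ x) • z := fun ψ x z => by
    obtain ⟨c, hc⟩ := hend (ψ.smulRight x)
    simp only [LinearMap.smulRight_apply] at hc
    have e : c = s * ψ x := by
      calc c = ∑ a, ψ₀ a (c • x₀ a) := by simp [← Finset.mul_sum, h1]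
        _ = ∑ a, ψ₀ a (ψ (x₀ a) • x) := by simp only [hc]
        _ = ψ (∑ a, ψ₀ a x • x₀ a) := by simp [map_sum, mul_comm]
        _ = s * ψ x := by rw [hs, map_smul, smul_eq_mul]
    rw [hc, e]
  have hs1 : s = 1 := by
    have hsq : ∀ (ψ : N →ₗ[R] R) (x : N), (1 - s) * ψ x ^ 2 = 0 := fun ψ x => by
      have h := congrArg ψ (hc ψ x x)
      simp only [map_smul, smul_eq_mul] at h
      linear_combination h
    have h2 : Ideal.span ((fun a => ψ₀ a (x₀ a) ^ 2) '' Set.univ) = ⊤ := by
      have h := Ideal.span_pow_eq_top (Set.range fun a => ψ₀ a (x₀ a)) (by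
        rw [Ideal.eq_top_iff_one, ← h1]
        exact Submodule.sum_mem _ fun a _ => Ideal.subset_span ⟨a, rfl⟩) 2
      rw [← Set.range_comp] at h
      rw [Set.image_univ]
      exact h
    have hle : Ideal.span ((fun a => ψ₀ a (x₀ a) ^ 2) '' Set.univ) ≤ (Ideal.span {1 - s}).annihilator := by
      rw [Ideal.span_le]
      rintro _ ⟨a, -, rfl⟩
      rw [SetLike.mem_coe, Submodule.mem_annihilator_span_singleton, smul_eq_mul, mul_comm, hsq]
    rw [h2] at hle
    have := (Submodule.mem_annihilator_span_singleton _ _).1 (hle (Submodule.mem_top (x := (1 : R))))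
    rw [one_smul, sub_eq_zero] at this
    exact this.symm
  simp only [hs1, one_mul] at hc
  let u : R →ₗ[R] Module.Dual R N ⊗[R] N := LinearMap.toSpanSingleton R _ (∑ a, ψ₀ a ⊗ₜ x₀ a)
  have h12 : contractLeft R N ∘ₗ u = LinearMap.id := LinearMap.ext_ring (by simp [u, h1])
  have h21 : u ∘ₗ contractLeft R N = LinearMap.id := TensorProduct.ext' fun ψ x => by
    simp only [u, LinearMap.comp_apply, contractLeft_apply, LinearMap.toSpanSingleton_apply, LinearMap.id_apply,
      Finset.smul_sum]
    calc ∑ a, ψ x • ψ₀ a ⊗ₜ[R] x₀ a = ∑ a, (ψ₀ a x • ψ) ⊗ₜ[R] x₀ a := by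
          refine Finset.sum_congr rfl fun a _ => ?_
          rw [TensorProduct.smul_tmul' (ψ x)]
          refine congrArg (· ⊗ₜ[R] x₀ a) (LinearMap.ext fun z => ?_)
          have h := congrArg (ψ₀ a) (hc ψ x z)
          simp only [map_smul, smul_eq_mul, LinearMap.smul_apply] at h ⊢
          linear_combination -h
      _ = ψ ⊗ₜ ∑ a, ψ₀ a x • x₀ a := by
          rw [TensorProduct.tmul_sum]
          exact Finset.sum_congr rfl fun a _ => TensorProduct.smul_tmul _ _ _
      _ = ψ ⊗ₜ x := by rw [hs, hs1, one_smul]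
  let E : (Module.Dual R N ⊗[R] N) ≃ₗ[R] R :=
    LinearEquiv.ofBijective (contractLeft R N)
      ⟨Function.LeftInverse.injective (g := u) fun y => LinearMap.congr_fun h21 y,
        Function.RightInverse.surjective (g := u) fun y => LinearMap.congr_fun h12 y⟩
  exact Module.Invertible.right E

theorem inner_of_free {n : ℕ} (hn : 1 ≤ n)
    (hfree : ∀ (N : Type u) [AddCommGroup N] [Module R N] [Module.Invertible R N],
      Nonempty ((Fin n → N) ≃ₗ[R] (Fin n → R)) → Module.Free R N)
    (φ : Matrix (Fin n) (Fin n) R ≃ₐ[R] Matrix (Fin n) (Fin n) R) :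
    ∃ P : GL (Fin n) R, ∀ A : Matrix (Fin n) (Fin n) R, φ A = P.1 * A * (P⁻¹).1 := by
  classical
  rcases subsingleton_or_nontrivial R with hR | hR
  · exact ⟨1, fun A => Subsingleton.elim _ _⟩
  let o : Fin n := ⟨0, hn⟩
  let Φ : Matrix (Fin n) (Fin n) R ≃ₐ[R] ((Fin n → R) →ₗ[R] (Fin n → R)) := φ.trans Matrix.toLinAlgEquiv'
  let f : Fin n → Fin n → ((Fin n → R) →ₗ[R] (Fin n → R)) := fun i j => Φ (Matrix.single i j 1)
  have hmul : ∀ i j l x, f i j (f j l x) = f i l x := fun i j l x => by
    rw [← Module.End.mul_apply, ← map_mul, Matrix.single_mul_single_same, one_mul]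
  have hmul0 : ∀ i j j' l x, j ≠ j' → f i j (f j' l x) = 0 := fun i j j' l x h => by
    rw [← Module.End.mul_apply, ← map_mul]
    simp [h]
  have hone : ∀ x, ∑ i, f i i x = x := fun x => by
    rw [← LinearMap.sum_apply, ← map_sum, Matrix.sum_single_one, map_one, Module.End.one_apply]
  let N := LinearMap.range (f o o)
  have hN : ∀ x : N, f o o x = x := fun ⟨_, y, rfl⟩ => hmul o o o y
  have hmem : ∀ i x, f o i x ∈ N := fun i x => ⟨f o i x, hmul o o i x⟩
  let L : (Fin n → N) →ₗ[R] (Fin n → R) := ∑ i, f i o ∘ₗ N.subtype ∘ₗ LinearMap.proj i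
  have hL : ∀ v, L v = ∑ i, f i o (v i : Fin n → R) := fun v => by simp [L, LinearMap.sum_apply]
  let e : (Fin n → N) ≃ₗ[R] (Fin n → R) :=
    { L with
      invFun := fun x i => ⟨f o i x, hmem i x⟩
      left_inv := fun v => funext fun i => Subtype.ext (by
        show f o i (L v) = v i
        rw [hL, map_sum, Finset.sum_eq_single i (fun b _ hb => hmul0 _ _ _ _ _ (Ne.symm hb)) (by simp), hmul, hN])
      right_inv := fun x => by
        show L (fun i => ⟨f o i x, hmem i x⟩) = x
        rw [hL]
        simp only [hmul, hone] }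
  have hend : ∀ T : N →ₗ[R] N, ∃ c : R, ∀ x, T x = c • x := fun T => by
    let T' := N.subtype ∘ₗ T ∘ₗ (f o o).codRestrict N (hmem o)
    refine ⟨Φ.symm T' o o, fun x => Subtype.ext ?_⟩
    have h : f o o * T' * f o o = (Φ.symm T' o o) • f o o := by
      conv_lhs => rw [← Φ.apply_symm_apply T']
      simp only [f]
      rw [← map_mul, ← map_mul, Matrix.single_mul_mul_single, one_mul, mul_one, ← map_smul, Matrix.smul_single,
        smul_eq_mul, mul_one]
    have h2 := LinearMap.congr_fun h (x : Fin n → R)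
    simp only [Module.End.mul_apply, LinearMap.smul_apply, hN, T', LinearMap.comp_apply, Submodule.coe_subtype] at h2
    rw [show (f o o).codRestrict N (hmem o) (x : Fin n → R) = x from Subtype.ext (hN x)] at h2
    exact h2.trans rfl
  have hgen : ∃ (m : ℕ) (ψ : Fin m → N →ₗ[R] R) (x : Fin m → N), ∑ a, ψ a (x a) = 1 :=
    ⟨n, fun i => LinearMap.proj o ∘ₗ e.toLinearMap ∘ₗ LinearMap.single R (fun _ => N) i,
      fun i => e.symm (Pi.single o 1) i, by
      simp only [LinearMap.comp_apply, LinearMap.coe_single, LinearEquiv.coe_toLinearMap, LinearMap.proj_apply]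
      rw [← Finset.sum_apply, ← map_sum, Finset.univ_sum_single, LinearEquiv.apply_symm_apply, Pi.single_eq_same]⟩
  have : Module.Invertible R N := invertible_of_end hend hgen
  have := hfree N ⟨e⟩
  obtain ⟨g⟩ := (Module.Invertible.free_iff_linearEquiv (R := R) (M := N)).1 this
  let Pm : (Fin n → R) ≃ₗ[R] (Fin n → R) := (LinearEquiv.piCongrRight fun _ => g.symm).trans e
  have hPm : ∀ v, Pm v = ∑ i, v i • f i o (g.symm 1 : Fin n → R) := fun v => by
    show e (fun i => g.symm (v i)) = _
    show L (fun i => g.symm (v i)) = _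
    rw [hL]
    refine Finset.sum_congr rfl fun i _ => ?_
    rw [show g.symm (v i) = v i • g.symm 1 by rw [← map_smul, smul_eq_mul, mul_one], Submodule.coe_smul, map_smul]
  have hkey : ∀ A v, Φ A (Pm v) = Pm (Matrix.toLin' A v) := fun A v => by
    have hA : ∀ i, A * Matrix.single i o 1 = ∑ l, A l i • Matrix.single l o 1 := fun i => by
      ext a b
      rw [Matrix.sum_apply, Matrix.mul_apply,
        Finset.sum_eq_single i (fun c _ hc => by simp [Matrix.single, Ne.symm hc]) (by simp),
        Finset.sum_eq_single a (fun c _ hc => by simp [Matrix.single, hc]) (by simp)]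
      simp [Matrix.single, Matrix.smul_apply]
    rw [hPm, hPm, map_sum]
    simp only [map_smul, f, ← Module.End.mul_apply, ← map_mul, hA, map_sum, LinearMap.sum_apply, LinearMap.smul_apply,
      Finset.smul_sum, smul_smul, Matrix.toLin'_apply, Matrix.mulVec, dotProduct, Finset.sum_smul]
    rw [Finset.sum_comm]
    exact Finset.sum_congr rfl fun i _ => Finset.sum_congr rfl fun j _ => by rw [mul_comm]
  let P : GL (Fin n) R := ⟨LinearMap.toMatrix' Pm.toLinearMap, LinearMap.toMatrix' Pm.symm.toLinearMap,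
    by rw [← LinearMap.toMatrix'_comp, LinearEquiv.comp_symm, LinearMap.toMatrix'_id],
    by rw [← LinearMap.toMatrix'_comp, LinearEquiv.symm_comp, LinearMap.toMatrix'_id]⟩
  refine ⟨P, fun A => ?_⟩
  have h : φ A * P.1 = P.1 * A := Matrix.toLin'.injective (LinearMap.ext fun v => by
    simp only [P, Matrix.toLin'_mul, Matrix.toLin'_toMatrix', LinearMap.comp_apply, LinearEquiv.coe_toLinearMap]
    exact hkey A v)
  rw [← h, mul_assoc, P.mul_inv, mul_one]

theorem free_of_inner {n : ℕ} (hn : 1 ≤ n)
    (hinner : ∀ φ : Matrix (Fin n) (Fin n) R ≃ₐ[R] Matrix (Fin n) (Fin n) R,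
      ∃ P : GL (Fin n) R, ∀ A : Matrix (Fin n) (Fin n) R, φ A = P.1 * A * (P⁻¹).1)
    (N : Type u) [AddCommGroup N] [Module R N] [Module.Invertible R N] (f : (Fin n → N) ≃ₗ[R] (Fin n → R)) :
    Module.Free R N := by
  classical
  let o : Fin n := ⟨0, hn⟩
  let act : Matrix (Fin n) (Fin n) R →ₐ[R] ((Fin n → N) →ₗ[R] (Fin n → N)) := AlgHom.ofLinearMap
    { toFun := fun A => LinearMap.pi fun i => ∑ j, A i j • LinearMap.proj j
      map_add' := fun A B => by ext v i; simp [add_smul, Finset.sum_add_distrib]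
      map_smul' := fun r A => by ext v i; simp [mul_smul, Finset.smul_sum] }
    (LinearMap.ext fun v => funext fun i => by simp [Matrix.one_apply, ite_smul])
    (fun A B => LinearMap.ext fun v => funext fun i => by
      simp only [LinearMap.coe_mk, AddHom.coe_mk, LinearMap.pi_apply, LinearMap.sum_apply, LinearMap.smul_apply,
        LinearMap.proj_apply, Module.End.mul_apply, Matrix.mul_apply, Finset.sum_smul, Finset.smul_sum, smul_smul]
      rw [Finset.sum_comm])
  have hact : ∀ A v i, act A v i = ∑ j, A i j • v j := fun A v i => by simp [act]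
  have hsingle : ∀ A i j x, act A (Pi.single j x) i = A i j • x := fun A i j x => by
    rw [hact, Finset.sum_eq_single j (fun b _ hb => by simp [hb]) (by simp), Pi.single_eq_same]
  have hbij : Function.Bijective act := by
    constructor
    · intro A B h
      ext i j
      refine (Module.Invertible.toModuleEnd_bijective (R := R) (M := N)).1 (LinearMap.ext fun x => ?_)
      simp only [Module.toModuleEnd_apply, DistribSMul.toLinearMap_apply]
      rw [← hsingle, ← hsingle, h]
    · intro T
      choose c hc using fun i j => (Module.Invertible.toModuleEnd_bijective (R := R) (M := N)).2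
        (LinearMap.proj i ∘ₗ T ∘ₗ LinearMap.single R (fun _ => N) j)
      refine ⟨Matrix.of c, LinearMap.pi_ext fun j x => funext fun i => ?_⟩
      have h := LinearMap.congr_fun (hc i j) x
      simp only [Module.toModuleEnd_apply, DistribSMul.toLinearMap_apply, LinearMap.comp_apply, LinearMap.coe_single,
        LinearMap.proj_apply] at h
      rw [hsingle]
      exact h
  let φ : Matrix (Fin n) (Fin n) R ≃ₐ[R] Matrix (Fin n) (Fin n) R :=
    ((AlgEquiv.ofBijective act hbij).trans (LinearEquiv.conjAlgEquiv R f)).trans LinearMap.toMatrixAlgEquiv'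
  obtain ⟨P, hP⟩ := hinner φ
  let g : (Fin n → N) ≃ₗ[R] (Fin n → R) := f.trans (LinearMap.GeneralLinearGroup.toLinearEquiv
    (Matrix.GeneralLinearGroup.toLin P⁻¹))
  have hg : ∀ v, g v = Matrix.toLin' (P⁻¹).1 (f v) := fun v => rfl
  have hgA : ∀ A v, g (act A v) = Matrix.toLin' A (g v) := fun A v => by
    have h : Matrix.toLin' (φ A) (f v) = f (act A v) := by
      have e : Matrix.toLin' (φ A) = LinearEquiv.conjAlgEquiv R f (act A) := by
        show Matrix.toLinAlgEquiv' (LinearMap.toMatrixAlgEquiv' (LinearEquiv.conjAlgEquiv R f (act A))) = _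
        exact Matrix.toLinAlgEquiv'_toMatrixAlgEquiv' _
      rw [e, LinearEquiv.conjAlgEquiv_apply]
      simp
    rw [hg, hg, ← h, hP]
    simp only [Matrix.toLin'_mul, LinearMap.comp_apply]
    rw [← LinearMap.comp_apply (Matrix.toLin' (P⁻¹).1) (Matrix.toLin' P.1), ← Matrix.toLin'_mul, P.inv_mul,
      Matrix.toLin'_one, LinearMap.id_apply]
  let q : N →ₗ[R] R := LinearMap.proj o ∘ₗ g.toLinearMap ∘ₗ LinearMap.single R (fun _ => N) o
  have hE : ∀ (M : Type u) [AddCommGroup M] [Module R M] (v : Fin n → M),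
      (fun i => ∑ j, (Matrix.single o o (1 : R)) i j • v j) = Pi.single o (v o) := fun M _ _ v => funext fun i => by
    rcases eq_or_ne i o with rfl | hi
    · rw [Finset.sum_eq_single o (fun b _ hb => by simp [Matrix.single, Ne.symm hb]) (by simp)]
      simp [Matrix.single]
    · rw [Pi.single_eq_of_ne hi]
      exact Finset.sum_eq_zero fun b _ => by simp [Matrix.single, Ne.symm hi]
  have hEN : ∀ v : Fin n → N, act (Matrix.single o o 1) v = Pi.single o (v o) := fun v =>
    (funext fun i => hact _ v i).trans (hE N v)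
  have hER : ∀ v : Fin n → R, Matrix.toLin' (Matrix.single o o 1) v = Pi.single o (v o) := fun v =>
    (funext fun i => by simp [Matrix.mulVec, dotProduct]).trans (hE R v)
  refine Module.Free.of_equiv (LinearEquiv.ofBijective q ⟨?_, fun r => ?_⟩).symm
  · rw [injective_iff_map_eq_zero]
    intro x hx
    have h : g (Pi.single o x) = 0 := by
      have h1 := hgA (Matrix.single o o 1) (Pi.single o x)
      rw [hEN, hER, Pi.single_eq_same] at h1
      rw [h1, show g (Pi.single o x) o = q x from rfl, hx, Pi.single_zero]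
    simpa using congrFun (g.map_eq_zero_iff.1 h) o
  · refine ⟨g.symm (Pi.single o r) o, ?_⟩
    have h1 := hgA (Matrix.single o o 1) (g.symm (Pi.single o r))
    rw [hEN, hER, g.apply_symm_apply, Pi.single_eq_same] at h1
    show g (Pi.single o (g.symm (Pi.single o r) o)) o = r
    rw [h1, Pi.single_eq_same]

end Groth.L15.SkolemNoether
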