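import Groth.Agent.L14.Bertini.Affine
import Groth.Agent.L01.Regular
import Groth.Agent.L12.GrCI.Graded
import Groth.Agent.S0564
import Mathlib.RingTheory.RegularLocalRing.Polynomial
import Mathlib.RingTheory.Ideal.Quotient.Operations
import Mathlib.RingTheory.Localization.LocalizationLocalization
import Mathlib.RingTheory.Localization.Away.Basic

/-!
Bertini for forms of a given degree on the cone over a smooth projective variety, chart by chart:
`S/(J + (X j - 1))` is the chart, a general form cuts every chart in a regular ring.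
-/

set_option autoImplicit false
set_option linter.style.haveILetI false

universe u

open MvPolynomial Groth.L12.GrCI

namespace Groth.L15.SmoothCI

variable {k : Type u} [Field k] {n : ℕ}

/-- The ideal of the chart `X j = 1`. -/
noncomputable def chart (J : Ideal (MvPolynomial (Fin (n + 1)) k)) (j : Fin (n + 1)) : Ideal (MvPolynomial (Fin (n + 1)) k) := J ⊔ Ideal.span {X j - 1}

/-- All charts of the cone are regular. -/
def RegCharts (J : Ideal (MvPolynomial (Fin (n + 1)) k)) : Prop := ∀ j, IsRegularRing ((MvPolynomial (Fin (n + 1)) k) ⧸ chart J j)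

/-- The form with the given coefficient vector. -/
noncomputable def form {d : ℕ} (c : (Fin d → Fin (n + 1)) → k) : MvPolynomial (Fin (n + 1)) k :=
  ∑ t, C (c t) * ∏ l, X (t l)

theorem form_isHomogeneous {d : ℕ} (c : (Fin d → Fin (n + 1)) → k) : (form c).IsHomogeneous d := by
  refine IsHomogeneous.sum _ _ _ fun t _ => ?_
  have := IsHomogeneous.prod (R := k) Finset.univ (fun l => (X (t l) : (MvPolynomial (Fin (n + 1)) k))) (fun _ => 1)
    fun l _ => isHomogeneous_X k (t l)
  simpa using this.C_mul (c t)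

/-- Scaling the variables kills a homogeneous ideal killed by the evaluation. -/
theorem scale_eq_zero {R' : Type u} [CommRing R'] [Algebra k R'] {J : Ideal (MvPolynomial (Fin (n + 1)) k)}
    (hJ : Homog (fun _ => 1) J) (v : Fin (n + 1) → R') (t : R') (h0 : ∀ z ∈ J, aeval v z = 0)
    {z : (MvPolynomial (Fin (n + 1)) k)} (hz : z ∈ J) : aeval (fun i => v i * t) z = 0 := by
  classical
  have hom : ∀ (g : (MvPolynomial (Fin (n + 1)) k)) (e : ℕ), IsWeightedHomogeneous (fun _ => 1) g e →
      aeval (fun i => v i * t) g = aeval v g * t ^ e := by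
    intro g e hg
    rw [g.as_sum, map_sum, map_sum, Finset.sum_mul]
    refine Finset.sum_congr rfl fun m hm => ?_
    rw [aeval_monomial, aeval_monomial]
    have he : m.sum (fun _ a => a) = e := by
      have h1 := hg (mem_support_iff.mp hm)
      rw [← h1]
      simp [Finsupp.weight_apply]
    rw [← he, mul_assoc]
    congr 1
    simp only [Finsupp.prod, Finsupp.sum, mul_pow, Finset.prod_mul_distrib, Finset.prod_pow_eq_pow_sum]
  rw [← sum_weightedHomogeneousComponent (w := fun _ => 1) z,
    finsum_eq_sum _ (weightedHomogeneousComponent_finsupp z), map_sum]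
  refine Finset.sum_eq_zero fun u _ => ?_
  rw [hom _ u (weightedHomogeneousComponent_isWeightedHomogeneous u z), h0 _ (hJ z hz u), zero_mul]

theorem aeval_mk (I : Ideal (MvPolynomial (Fin (n + 1)) k)) (z : (MvPolynomial (Fin (n + 1)) k)) :
    aeval (fun i => Ideal.Quotient.mkₐ k I (X i)) z = Ideal.Quotient.mkₐ k I z :=
  (comp_aeval_apply X (Ideal.Quotient.mkₐ k I) z).symm.trans (by rw [aeval_X_left_apply])

/-- Laurent polynomials. -/
abbrev Lau (B : Type u) [CommRing B] : Type u := Localization.Away (Polynomial.X : Polynomial B)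

/-- The parameter of the Laurent polynomials. -/
noncomputable def T (B : Type u) [CommRing B] : Lau B :=
  algebraMap (Polynomial B) (Lau B) (Polynomial.X : Polynomial B)

theorem regularRing_lau (B : Type u) [CommRing B] [IsRegularRing B] : IsRegularRing (Lau B) := by
  haveI : IsNoetherianRing (Lau B) :=
    IsLocalization.isNoetherianRing (Submonoid.powers (Polynomial.X : Polynomial B)) _ inferInstance
  refine isRegularRing_iff.2 fun p hp => ?_
  haveI : (p.under (Polynomial B)).IsPrime := Ideal.IsPrime.under _ p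
  haveI : IsLocalization.AtPrime (Localization.AtPrime p) (p.under (Polynomial B)) :=
    IsLocalization.isLocalization_isLocalization_atPrime_isLocalization
      (Submonoid.powers (Polynomial.X : Polynomial B)) (Localization.AtPrime p) p
  haveI := IsRegularRing.isRegularLocalRing_localization (R := Polynomial B) (p.under (Polynomial B))
  exact IsRegularLocalRing.of_ringEquiv (R := Localization.AtPrime (p.under (Polynomial B)))
    (IsLocalization.algEquiv (p.under (Polynomial B)).primeCompl
      (Localization.AtPrime (p.under (Polynomial B))) (Localization.AtPrime p)).toRingEquiv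

/-- A ring hom out of Laurent polynomials. -/
noncomputable def lauHom {B R' : Type u} [CommRing B] [CommRing R'] (g : B →+* R') (t : R') (ht : IsUnit t) :
    Lau B →+* R' :=
  IsLocalization.Away.lift (Polynomial.X : Polynomial B) (g := Polynomial.eval₂RingHom g t)
    (by rw [Polynomial.coe_eval₂RingHom, Polynomial.eval₂_X]; exact ht)

theorem lauHom_base {B R' : Type u} [CommRing B] [CommRing R'] (g : B →+* R') (t : R') (ht : IsUnit t) (b : B) :
    lauHom g t ht (algebraMap B (Lau B) b) = g b := by
  rw [IsScalarTower.algebraMap_apply B (Polynomial B) (Lau B), lauHom,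
    IsLocalization.Away.lift_eq, ← Polynomial.C_eq_algebraMap, Polynomial.coe_eval₂RingHom, Polynomial.eval₂_C]

theorem lauHom_T {B R' : Type u} [CommRing B] [CommRing R'] (g : B →+* R') (t : R') (ht : IsUnit t) :
    lauHom g t ht (T B) = t := by
  rw [lauHom, T, IsLocalization.Away.lift_eq, Polynomial.coe_eval₂RingHom, Polynomial.eval₂_X]

theorem lau_ext {B R' : Type u} [CommRing B] [CommRing R'] {f g : Lau B →+* R'}
    (h1 : ∀ b, f (algebraMap B (Lau B) b) = g (algebraMap B (Lau B) b)) (h2 : f (T B) = g (T B)) : f = g := by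
  refine IsLocalization.ringHom_ext (Submonoid.powers (Polynomial.X : Polynomial B))
    (Polynomial.ringHom_ext (fun a => ?_) h2)
  simp only [RingHom.comp_apply, Polynomial.C_eq_algebraMap,
    ← IsScalarTower.algebraMap_apply B (Polynomial B) (Lau B)]
  exact h1 a

theorem isUnit_T (B : Type u) [CommRing B] : IsUnit (T B) := IsLocalization.Away.algebraMap_isUnit _

section Charts

variable (J : Ideal (MvPolynomial (Fin (n + 1)) k)) (hJ : Homog (fun _ => 1) J) (j : Fin (n + 1))

/-- The class of `X j`. -/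
noncomputable abbrev xj : (MvPolynomial (Fin (n + 1)) k) ⧸ J := Ideal.Quotient.mk J (X j)

/-- The cone away from `X j`. -/
abbrev Aw : Type u := Localization.Away (xj J j)

/-- The chart. -/
abbrev Ch : Type u := (MvPolynomial (Fin (n + 1)) k) ⧸ chart J j

theorem mk_X_self : Ideal.Quotient.mk (chart J j) (X j) = 1 := by
  rw [← map_one (Ideal.Quotient.mk (chart J j)), Ideal.Quotient.eq]
  exact Ideal.mem_sup_right (Ideal.mem_span_singleton_self _)

/-- Setting `X j = 1`. -/
noncomputable def retr : Aw J j →+* Ch J j :=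
  IsLocalization.Away.lift (xj J j)
    (g := Ideal.Quotient.factor (le_sup_left : J ≤ chart J j))
    (by rw [xj, Ideal.Quotient.factor_mk, mk_X_self]; exact isUnit_one)

theorem aw_mk (z : (MvPolynomial (Fin (n + 1)) k)) : aeval (fun i => algebraMap ((MvPolynomial (Fin (n + 1)) k) ⧸ J) (Aw J j) (Ideal.Quotient.mk J (X i))) z =
    algebraMap ((MvPolynomial (Fin (n + 1)) k) ⧸ J) (Aw J j) (Ideal.Quotient.mk J z) := by
  have h := comp_aeval_apply (fun i => Ideal.Quotient.mkₐ k J (X i))
    (IsScalarTower.toAlgHom k ((MvPolynomial (Fin (n + 1)) k) ⧸ J) (Aw J j)) z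
  rw [aeval_mk] at h
  exact h.symm

include hJ in
theorem chart_le_ker : chart J j ≤ RingHom.ker (aeval fun i : Fin (n + 1) =>
    algebraMap ((MvPolynomial (Fin (n + 1)) k) ⧸ J) (Aw J j) (Ideal.Quotient.mk J (X i)) * IsLocalization.Away.invSelf (xj J j)) := by
  refine sup_le (fun z hz => ?_) (Ideal.span_le.mpr ?_)
  · rw [RingHom.mem_ker]
    exact scale_eq_zero hJ _ _ (fun w hw => by rw [aw_mk, Ideal.Quotient.eq_zero_iff_mem.mpr hw, map_zero]) hz
  · rintro _ rfl
    rw [SetLike.mem_coe, RingHom.mem_ker, map_sub, map_one, aeval_X, IsLocalization.Away.mul_invSelf, sub_self]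

/-- The chart inside the cone away from `X j`. -/
noncomputable def emb : Ch J j →+* Aw J j :=
  Ideal.Quotient.lift (chart J j) (aeval fun i : Fin (n + 1) =>
    algebraMap ((MvPolynomial (Fin (n + 1)) k) ⧸ J) (Aw J j) (Ideal.Quotient.mk J (X i)) * IsLocalization.Away.invSelf (xj J j)).toRingHom
    fun z hz => chart_le_ker J hJ j hz

theorem emb_X (i : Fin (n + 1)) : emb J hJ j (Ideal.Quotient.mk _ (X i)) =
    algebraMap ((MvPolynomial (Fin (n + 1)) k) ⧸ J) (Aw J j) (Ideal.Quotient.mk J (X i)) * IsLocalization.Away.invSelf (xj J j) := by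
  rw [emb, Ideal.Quotient.lift_mk]
  exact aeval_X _ i

theorem emb_C (c : k) : emb J hJ j (Ideal.Quotient.mk _ (C c)) =
    algebraMap ((MvPolynomial (Fin (n + 1)) k) ⧸ J) (Aw J j) (Ideal.Quotient.mk J (C c)) := by
  rw [emb, Ideal.Quotient.lift_mk]
  exact (aeval_C _ c).trans (IsScalarTower.algebraMap_apply k ((MvPolynomial (Fin (n + 1)) k) ⧸ J) (Aw J j) c)

theorem retr_algebraMap (z : (MvPolynomial (Fin (n + 1)) k)) :
    retr J j (algebraMap ((MvPolynomial (Fin (n + 1)) k) ⧸ J) (Aw J j) (Ideal.Quotient.mk J z)) = Ideal.Quotient.mk (chart J j) z := by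
  rw [retr, IsLocalization.Away.lift_eq, Ideal.Quotient.factor_mk]

theorem retr_invSelf : retr J j (IsLocalization.Away.invSelf (xj J j)) = 1 := by
  have h := congrArg (retr J j) (IsLocalization.Away.mul_invSelf (S := Aw J j) (xj J j))
  rw [map_mul, map_one, retr_algebraMap, mk_X_self, one_mul] at h
  exact h

theorem retr_comp_emb : (retr J j).comp (emb J hJ j) = RingHom.id _ := by
  refine Ideal.Quotient.ringHom_ext (MvPolynomial.ringHom_ext (fun c => ?_) fun i => ?_)
  · simp only [RingHom.comp_apply, RingHom.id_apply]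
    rw [emb_C, retr_algebraMap]
  · simp only [RingHom.comp_apply, RingHom.id_apply]
    rw [emb_X, map_mul, retr_algebraMap, retr_invSelf, mul_one]

include hJ in
theorem chart_isDomain [J.IsPrime] (hxj : X j ∉ J) : IsDomain (Ch J j) := by
  have hne : xj J j ≠ 0 := fun h => hxj (Ideal.Quotient.eq_zero_iff_mem.mp h)
  haveI : IsDomain (Aw J j) := IsLocalization.isDomain_of_le_nonZeroDivisors (R := MvPolynomial (Fin (n + 1)) k ⧸ J) (S := Aw J j)
    (powers_le_nonZeroDivisors_of_noZeroDivisors hne)
  have hinj : Function.Injective (emb J hJ j) := fun a b h => by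
    have h1 := congrArg (retr J j) h
    rwa [← RingHom.comp_apply, ← RingHom.comp_apply, retr_comp_emb, RingHom.id_apply, RingHom.id_apply] at h1
  exact hinj.isDomain _

theorem mk_eq_zero_of_mem {w : MvPolynomial (Fin (n + 1)) k} (hw : w ∈ J) :
    Ideal.Quotient.mk (chart J j) w = 0 :=
  Ideal.Quotient.eq_zero_iff_mem.mpr ((le_sup_left : J ≤ chart J j) hw)

/-- The cone away from `X j` to Laurent polynomials over the chart, on polynomials. -/
noncomputable def toLau₀ : (MvPolynomial (Fin (n + 1)) k) →+* Lau (Ch J j) :=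
  (aeval fun i : Fin (n + 1) => algebraMap (Ch J j) (Lau (Ch J j)) (Ideal.Quotient.mk (chart J j) (X i)) *
    T (Ch J j)).toRingHom

theorem toLau₀_X (i : Fin (n + 1)) : toLau₀ J j (X i) =
    algebraMap (Ch J j) (Lau (Ch J j)) (Ideal.Quotient.mk (chart J j) (X i)) *
      T (Ch J j) := aeval_X _ i

include hJ in
theorem toLau₀_eq_zero {z : (MvPolynomial (Fin (n + 1)) k)} (hz : z ∈ J) : toLau₀ J j z = 0 :=
  scale_eq_zero hJ _ _ (fun w hw => by
    have h := comp_aeval_apply (fun i => Ideal.Quotient.mkₐ k (chart J j) (X i))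
      (IsScalarTower.toAlgHom k (Ch J j) (Lau (Ch J j))) w
    rw [aeval_mk] at h
    refine h.symm.trans ?_
    rw [Ideal.Quotient.mkₐ_eq_mk, mk_eq_zero_of_mem J j hw, map_zero]) hz

/-- The cone away from `X j` to Laurent polynomials over the chart. -/
noncomputable def toLau : Aw J j →+* Lau (Ch J j) :=
  IsLocalization.Away.lift (xj J j) (g := Ideal.Quotient.lift J (toLau₀ J j) fun _ hz => toLau₀_eq_zero J hJ j hz)
    (by
      rw [xj, Ideal.Quotient.lift_mk, toLau₀_X, mk_X_self, map_one, one_mul]
      exact isUnit_T _)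

/-- Laurent polynomials over the chart to the cone away from `X j`. -/
noncomputable def ofLau : Lau (Ch J j) →+* Aw J j :=
  lauHom (emb J hJ j) (algebraMap (MvPolynomial (Fin (n + 1)) k ⧸ J) (Aw J j) (xj J j))
    (IsLocalization.Away.algebraMap_isUnit _)

theorem toLau_algebraMap (z : (MvPolynomial (Fin (n + 1)) k)) :
    toLau J hJ j (algebraMap ((MvPolynomial (Fin (n + 1)) k) ⧸ J) (Aw J j) (Ideal.Quotient.mk J z)) = toLau₀ J j z := by
  rw [toLau, IsLocalization.Away.lift_eq, Ideal.Quotient.lift_mk]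

theorem ofLau_base (c : Ch J j) : ofLau J hJ j (algebraMap (Ch J j) (Lau (Ch J j)) c) = emb J hJ j c :=
  lauHom_base _ _ _ _

theorem ofLau_T : ofLau J hJ j (T (Ch J j)) =
    algebraMap (MvPolynomial (Fin (n + 1)) k ⧸ J) (Aw J j) (xj J j) := lauHom_T _ _ _

theorem toLau₀_C (c : k) : toLau₀ J j (C c) = algebraMap (Ch J j) (Lau (Ch J j)) (Ideal.Quotient.mk _ (C c)) :=
  (aeval_C _ c).trans (IsScalarTower.algebraMap_apply k (Ch J j) (Lau (Ch J j)) c)

theorem toLau_xj : toLau J hJ j (algebraMap ((MvPolynomial (Fin (n + 1)) k) ⧸ J) (Aw J j) (xj J j)) =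
    T (Ch J j) := by
  refine (toLau_algebraMap J hJ j (X j)).trans ?_
  rw [toLau₀_X, mk_X_self, map_one, one_mul]

theorem toLau_comp_ofLau : (toLau J hJ j).comp (ofLau J hJ j) = RingHom.id _ := by
  have hT := toLau_xj J hJ j
  have hinv : toLau J hJ j (IsLocalization.Away.invSelf (xj J j)) * T (Ch J j) = 1 := by
    rw [← hT, ← map_mul, mul_comm, IsLocalization.Away.mul_invSelf, map_one]
  refine lau_ext (fun b => ?_) ?_
  · revert b
    refine fun b => RingHom.congr_fun
      (f := (((toLau J hJ j).comp (ofLau J hJ j)).comp (algebraMap (Ch J j) (Lau (Ch J j)))))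
      (g := algebraMap (Ch J j) (Lau (Ch J j)))
      (Ideal.Quotient.ringHom_ext (MvPolynomial.ringHom_ext (fun c => ?_) fun i => ?_)) b
    · simp only [RingHom.comp_apply]
      rw [ofLau_base, emb_C, toLau_algebraMap, toLau₀_C]
    · simp only [RingHom.comp_apply]
      rw [ofLau_base, emb_X, map_mul, toLau_algebraMap, toLau₀_X, mul_assoc, mul_comm (T (Ch J j)), hinv,
        mul_one]
  · rw [RingHom.comp_apply, RingHom.id_apply, ofLau_T, hT]

theorem ofLau_comp_toLau : (ofLau J hJ j).comp (toLau J hJ j) = RingHom.id _ := by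
  refine IsLocalization.ringHom_ext (Submonoid.powers (xj J j))
    (Ideal.Quotient.ringHom_ext (MvPolynomial.ringHom_ext (fun c => ?_) fun i => ?_))
  · simp only [RingHom.comp_apply, RingHom.id_apply]
    rw [toLau_algebraMap, toLau₀_C, ofLau_base, emb_C]
  · simp only [RingHom.comp_apply, RingHom.id_apply]
    rw [toLau_algebraMap, toLau₀_X, map_mul, ofLau_base, ofLau_T, emb_X, mul_assoc, mul_comm
      (IsLocalization.Away.invSelf (xj J j)), IsLocalization.Away.mul_invSelf, mul_one]

include hJ in
/-- A regular chart makes the cone regular away from `X j`. -/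
theorem regular_of_chart [IsRegularRing (Ch J j)] (Q : Ideal ((MvPolynomial (Fin (n + 1)) k) ⧸ J)) [Q.IsPrime]
    (hQ : Ideal.Quotient.mk J (X j) ∉ Q) : IsRegularLocalRing (Localization.AtPrime Q) := by
  haveI := regularRing_lau (Ch J j)
  let e : Lau (Ch J j) ≃+* Aw J j :=
    RingEquiv.ofRingHom (ofLau J hJ j) (toLau J hJ j) (ofLau_comp_toLau J hJ j) (toLau_comp_ofLau J hJ j)
  haveI := IsRegularRing.of_ringEquiv e
  have hdisj : Disjoint (Submonoid.powers (xj J j) : Set ((MvPolynomial (Fin (n + 1)) k) ⧸ J)) Q := by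
    rw [Set.disjoint_left]
    rintro _ ⟨m, rfl⟩ hm
    exact hQ (‹Q.IsPrime›.mem_of_pow_mem m hm)
  let P := Q.map (algebraMap ((MvPolynomial (Fin (n + 1)) k) ⧸ J) (Aw J j))
  haveI hP : P.IsPrime := IsLocalization.isPrime_of_isPrime_disjoint _ _ Q ‹_› hdisj
  have hPQ : P.under ((MvPolynomial (Fin (n + 1)) k) ⧸ J) = Q := IsLocalization.under_map_of_isPrime_disjoint _ _ ‹_› hdisj
  haveI : IsLocalization.AtPrime (Localization.AtPrime P) (P.under ((MvPolynomial (Fin (n + 1)) k) ⧸ J)) :=
    IsLocalization.isLocalization_isLocalization_atPrime_isLocalization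
      (Submonoid.powers (xj J j)) (Localization.AtPrime P) P
  have hsub : (P.under ((MvPolynomial (Fin (n + 1)) k) ⧸ J)).primeCompl = Q.primeCompl := by ext; simp [Ideal.primeCompl, hPQ]
  haveI : IsLocalization Q.primeCompl (Localization.AtPrime P) := hsub ▸ ‹IsLocalization.AtPrime _ _›
  haveI := IsRegularRing.isRegularLocalRing_localization P
  exact IsRegularLocalRing.of_ringEquiv (R := Localization.AtPrime P) (IsLocalization.algEquiv Q.primeCompl
    (Localization.AtPrime P) (Localization.AtPrime Q)).toRingEquiv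

end Charts

/-- A regular ring modulo an element outside the square of every maximal ideal containing it. -/
theorem regularRing_quotient {B : Type u} [CommRing B] [IsRegularRing B] (b : B)
    (h : ∀ (q : Ideal B) [q.IsMaximal], b ∈ q →
      algebraMap B (Localization.AtPrime q) b ∉ IsLocalRing.maximalIdeal (Localization.AtPrime q) ^ 2) :
    IsRegularRing (B ⧸ Ideal.span {b}) := by
  refine isRegularRing_iff.2 fun p hp => ?_
  obtain ⟨M, hM, hpM⟩ := Ideal.exists_le_maximal p hp.ne_top
  haveI := hM
  set π := Ideal.Quotient.mk (Ideal.span {b})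
  let q := M.comap π
  haveI hq : q.IsMaximal := Ideal.comap_isMaximal_of_surjective π Ideal.Quotient.mk_surjective
  have hbq : b ∈ q := by
    rw [Ideal.mem_comap, Ideal.Quotient.eq_zero_iff_mem.mpr (Ideal.mem_span_singleton_self b)]
    exact zero_mem M
  let R := Localization.AtPrime q
  have hbm : algebraMap B R b ∈ IsLocalRing.maximalIdeal R :=
    (IsLocalization.AtPrime.to_map_mem_maximal_iff R q b).mpr hbq
  haveI := IsRegularRing.isRegularLocalRing_localization q
  haveI : IsRegularLocalRing (R ⧸ (Ideal.span {b}).map (algebraMap B R)) := by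
    have h0 := (Groth.L01.regular_quotient_of_notMem_sq hbm (h q hbq)).1
    exact IsRegularLocalRing.of_ringEquiv
      (Ideal.quotEquivOfEq (by rw [Ideal.map_span, Set.image_singleton]))
  have hsub : Algebra.algebraMapSubmonoid (B ⧸ Ideal.span {b}) q.primeCompl = M.primeCompl := by
    refine SetLike.ext fun z => ⟨?_, fun hz => ?_⟩
    · rintro ⟨a, ha, rfl⟩
      exact ha
    · obtain ⟨a, rfl⟩ := Ideal.Quotient.mk_surjective z
      exact ⟨a, hz, rfl⟩
  haveI : IsLocalization.AtPrime (R ⧸ (Ideal.span {b}).map (algebraMap B R)) M := by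
    show IsLocalization M.primeCompl _
    rw [← hsub]
    infer_instance
  let L := R ⧸ (Ideal.span {b}).map (algebraMap B R)
  let P := p.map (algebraMap (B ⧸ Ideal.span {b}) L)
  have hdisj : Disjoint (M.primeCompl : Set (B ⧸ Ideal.span {b})) p :=
    Set.disjoint_left.mpr fun x hx hxp => hx (hpM hxp)
  haveI : P.IsPrime := IsLocalization.isPrime_of_isPrime_disjoint M.primeCompl L p hp hdisj
  haveI := Groth.Agent.S0564.result L P
  have hPp : P.under (B ⧸ Ideal.span {b}) = p := IsLocalization.under_map_of_isPrime_disjoint M.primeCompl L hp hdisj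
  haveI : IsLocalization.AtPrime (Localization.AtPrime P) (P.under (B ⧸ Ideal.span {b})) :=
    IsLocalization.isLocalization_isLocalization_atPrime_isLocalization M.primeCompl (Localization.AtPrime P) P
  have hsub' : (P.under (B ⧸ Ideal.span {b})).primeCompl = p.primeCompl := by
    ext; simp [Ideal.primeCompl, hPp]
  haveI : IsLocalization p.primeCompl (Localization.AtPrime P) := hsub' ▸ ‹IsLocalization.AtPrime _ (P.under _)›
  exact IsRegularLocalRing.of_ringEquiv (R := Localization.AtPrime P) (IsLocalization.algEquiv p.primeCompl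
    (Localization.AtPrime P) (Localization.AtPrime p)).toRingEquiv

theorem regCharts_bot : RegCharts (⊥ : Ideal (MvPolynomial (Fin (n + 1)) k)) := fun j => by
  have h0 : IsRegularRing ((MvPolynomial (Fin (n + 1)) k) ⧸ Ideal.span {(X j - 1 : (MvPolynomial (Fin (n + 1)) k))}) := regularRing_quotient _ fun q _ hq h2 => by
    rw [← IsLocalization.AtPrime.map_eq_maximalIdeal q (Localization.AtPrime q), ← Ideal.map_pow,
      IsLocalization.algebraMap_mem_map_algebraMap_iff q.primeCompl] at h2
    obtain ⟨s, hs, hsb⟩ := h2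
    apply hs
    have hder : ∀ u ∈ q ^ 2, pderiv j u ∈ q := fun u hu => by
      rw [pow_two] at hu
      refine Submodule.mul_induction_on hu (fun a ha b hb => ?_) (fun a b ha hb => by rw [map_add]; exact add_mem ha hb)
      rw [pderiv_mul]
      exact add_mem (q.mul_mem_left _ hb) (q.mul_mem_right _ ha)
    have h1 := hder _ hsb
    rw [pderiv_mul, map_sub, pderiv_X_self, pderiv_one, sub_zero, mul_one] at h1
    exact (Ideal.add_mem_iff_right q (q.mul_mem_left _ hq)).mp h1
  haveI := h0
  exact IsRegularRing.of_ringEquiv (Ideal.quotEquivOfEq (bot_sup_eq (Ideal.span {(X j - 1 : (MvPolynomial (Fin (n + 1)) k))})).symm)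

/-- In one chart, a general form cuts out a regular ring. -/
theorem exists_chart_poly [IsAlgClosed k] (J : Ideal (MvPolynomial (Fin (n + 1)) k)) (hJ : Homog (fun _ => 1) J) [J.IsPrime]
    (hreg : RegCharts J) (d : ℕ) (hd : 0 < d) (j : Fin (n + 1)) :
    ∃ P : MvPolynomial (Fin d → Fin (n + 1)) k, P ≠ 0 ∧ ∀ c, eval c P ≠ 0 →
      IsRegularRing ((MvPolynomial (Fin (n + 1)) k) ⧸ chart (J ⊔ Ideal.span {form c}) j) := by
  classical
  haveI := hreg j
  have hiso : ∀ g : (MvPolynomial (Fin (n + 1)) k), IsRegularRing (Ch J j ⧸ Ideal.span {Ideal.Quotient.mk (chart J j) g}) →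
      IsRegularRing ((MvPolynomial (Fin (n + 1)) k) ⧸ chart (J ⊔ Ideal.span {g}) j) := fun g h => by
    haveI := h
    refine IsRegularRing.of_ringEquiv (R := Ch J j ⧸ Ideal.span {Ideal.Quotient.mk (chart J j) g})
      ((Ideal.quotEquivOfEq (?_ :
      Ideal.span {Ideal.Quotient.mk (chart J j) g} = (Ideal.span {g}).map (Ideal.Quotient.mk (chart J j)))).trans
      ((DoubleQuot.quotQuotEquivQuotSup _ _).trans (Ideal.quotEquivOfEq (sup_right_comm _ _ _))))
    rw [Ideal.map_span, Set.image_singleton]
  by_cases hxj : X j ∈ J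
  · refine ⟨1, one_ne_zero, fun c _ => hiso _ (regularRing_quotient _ fun q _ _ => ?_)⟩
    exfalso
    apply Ideal.IsMaximal.ne_top (I := q) ‹_›
    rw [Ideal.eq_top_iff_one, ← mk_X_self J j, mk_eq_zero_of_mem J j hxj]
    exact zero_mem q
  haveI := chart_isDomain J hJ j hxj
  let e0 : Fin d → Fin (n + 1) := fun _ => j
  let gen : {t : Fin d → Fin (n + 1) // t ≠ e0} → Ch J j := fun t => Ideal.Quotient.mk _ (∏ l, X (t.1 l))
  let ψ : MvPolynomial {t : Fin d → Fin (n + 1) // t ≠ e0} k →ₐ[k] Ch J j := aeval gen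
  have hψ : Function.Surjective ψ := by
    rw [← AlgHom.range_eq_top]
    refine eq_top_iff.mpr ?_
    rw [← Algebra.map_top (Ideal.Quotient.mkₐ k (chart J j)) |>.trans
      ((AlgHom.range_eq_top _).mpr (Ideal.Quotient.mkₐ_surjective _ _)), ← MvPolynomial.adjoin_range_X,
      AlgHom.map_adjoin]
    refine Algebra.adjoin_le ?_
    rintro _ ⟨_, ⟨i, rfl⟩, rfl⟩
    change Ideal.Quotient.mk (chart J j) (X i) ∈ ψ.range
    by_cases hij : i = j
    · subst hij
      rw [mk_X_self]
      exact one_mem _
    let t : Fin d → Fin (n + 1) := fun l => if l.1 = 0 then i else j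
    have ht : t ≠ e0 := fun h => hij (by simpa [t, e0] using congrFun h ⟨0, hd⟩)
    refine ⟨X ⟨t, ht⟩, ?_⟩
    change aeval gen (X _) = _
    rw [aeval_X]
    change Ideal.Quotient.mk _ (∏ l, X (t l)) = _
    rw [map_prod, Fintype.prod_eq_single (⟨0, hd⟩ : Fin d)]
    · simp [t]
    · intro l hl
      have : l.1 ≠ 0 := fun h => hl (Fin.ext h)
      simp [t, this, mk_X_self]
  haveI : Algebra.FiniteType k (Ch J j) := Algebra.FiniteType.of_surjective ψ hψ
  obtain ⟨R, hR0, hR⟩ := Groth.L14.Bertini.exists_relation ψ hψ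
  let em : Option {t : Fin d → Fin (n + 1) // t ≠ e0} → (Fin d → Fin (n + 1)) := fun o => o.elim e0 Subtype.val
  have hem : Function.Injective em := by
    rintro (_ | a) (_ | b) hab
    · rfl
    · exact absurd hab.symm b.2
    · exact absurd hab a.2
    · exact congrArg some (Subtype.ext hab)
  refine ⟨rename em R, fun h0 => hR0 (rename_injective em hem (h0.trans (map_zero _).symm)),
    fun c hc => hiso _ (regularRing_quotient _ fun q _ hbq h2 => ?_)⟩
  rw [eval_rename] at hc
  have hlin : ψ (Groth.L14.Bertini.lin (c ∘ em)) = Ideal.Quotient.mk (chart J j) (form c) := by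
    have hC : ∀ a : k, algebraMap k (Ch J j) a = Ideal.Quotient.mk (chart J j) (C a) := fun a => rfl
    simp only [Groth.L14.Bertini.lin, map_add, map_sum, map_mul, ψ, aeval_C, aeval_X, form]
    rw [← Finset.add_sum_erase _ _ (Finset.mem_univ e0)]
    congr 1
    · simp [em, e0, hC, map_prod, mk_X_self]
    · rw [Finset.sum_subtype _ (p := fun t => t ≠ e0) (fun t => by simp)]
      exact Finset.sum_congr rfl fun t _ => by simp [em, gen, hC]
  have hm : algebraMap (Ch J j) (Localization.AtPrime q) (Ideal.Quotient.mk (chart J j) (form c)) ∈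
      IsLocalRing.maximalIdeal (Localization.AtPrime q) :=
    (IsLocalization.AtPrime.to_map_mem_maximal_iff _ q _).mpr hbq
  rw [← hlin] at hm h2
  exact hR (c ∘ em) hc q (Localization.AtPrime q) hm h2

/-- A general form cuts a regular cone in a regular cone. -/
theorem exists_poly [IsAlgClosed k] (J : Ideal (MvPolynomial (Fin (n + 1)) k)) (hJ : Homog (fun _ => 1) J) [J.IsPrime]
    (hreg : RegCharts J) (d : ℕ) (hd : 0 < d) :
    ∃ P : MvPolynomial (Fin d → Fin (n + 1)) k, P ≠ 0 ∧ ∀ c, eval c P ≠ 0 →
      RegCharts (J ⊔ Ideal.span {form c}) := by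
  choose P hP0 hP using exists_chart_poly J hJ hreg d hd
  refine ⟨∏ j, P j, Finset.prod_ne_zero_iff.2 fun j _ => hP0 j, fun c hc j => hP j c ?_⟩
  rw [map_prod, Finset.prod_ne_zero_iff] at hc
  exact hc j (Finset.mem_univ j)

/-- A general form does not vanish on the cone. -/
theorem exists_poly_notMem (J : Ideal (MvPolynomial (Fin (n + 1)) k)) [J.IsPrime] {j : Fin (n + 1)} (hj : X j ∉ J) (d : ℕ) :
    ∃ P : MvPolynomial (Fin d → Fin (n + 1)) k, P ≠ 0 ∧ ∀ c, eval c P ≠ 0 → form c ∉ J := by
  classical
  have hpow : (X j : (MvPolynomial (Fin (n + 1)) k)) ^ d ∉ J.restrictScalars k := fun h => hj (‹J.IsPrime›.mem_of_pow_mem d h)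
  obtain ⟨φ, hφ, hle⟩ := Submodule.exists_le_ker_of_notMem hpow
  refine ⟨∑ t : Fin d → Fin (n + 1), C (φ (∏ l, X (t l))) * X t, fun h0 => hφ ?_, fun c hc hmem => hc ?_⟩
  · have h1 := congrArg (eval (Pi.single (M := fun _ => k) (fun _ : Fin d => j) 1)) h0
    simp only [map_sum, map_mul, eval_C, eval_X, map_zero] at h1
    rw [Fintype.sum_eq_single (fun _ : Fin d => j) (fun t ht => by rw [Pi.single_eq_of_ne ht, mul_zero]),
      Pi.single_eq_same, mul_one, Finset.prod_const, Finset.card_univ, Fintype.card_fin] at h1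
    exact h1
  · have h1 : φ (form c) = 0 := LinearMap.mem_ker.mp (hle hmem)
    rw [form, map_sum] at h1
    simp only [map_sum, map_mul, eval_C, eval_X]
    rw [← h1]
    refine Finset.sum_congr rfl fun t _ => ?_
    rw [C_mul', map_smul, smul_eq_mul, mul_comm]

end Groth.L15.SmoothCI
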