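import Mathlib.RingTheory.Smooth.Local
import Mathlib.RingTheory.Smooth.Locus
import Mathlib.RingTheory.Etale.Kaehler
import Mathlib.RingTheory.LocalRing.Module
import Mathlib.RingTheory.LocalRing.ResidueField.Ideal
import Mathlib.RingTheory.Spectrum.Prime.FreeLocus

/-! # Jacobian criterion for a quotient of a smooth algebra at a prime -/

set_option autoImplicit false
open scoped TensorProduct
open KaehlerDifferential IsLocalRing

universe u

namespace Groth.L15.SmoothCrit

variable {A B R : Type u} [CommRing A] [CommRing B] [CommRing R] [Algebra A B] [Algebra B R] [Algebra A R]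
  [IsScalarTower A B R]

/-- the differential of `g`, read in the fibre of `Ω[B⁄A]` at `q` -/
noncomputable def dFib (q : Ideal B) [q.IsPrime] (g : B) : q.ResidueField ⊗[B] Ω[B⁄A] :=
  1 ⊗ₜ D A B g

theorem smoothAt_iff [Algebra.Smooth A B] (hsurj : Function.Surjective (algebraMap B R))
    (hfg : (RingHom.ker (algebraMap B R)).FG) (p : Ideal R) [p.IsPrime]
    (q : Ideal B) [q.IsPrime] (hq : q = p.comap (algebraMap B R)) :
    Algebra.IsSmoothAt A p ↔ ∃ s : Finset B, (s : Set B) ⊆ (RingHom.ker (algebraMap B R) : Set B) ∧
      (RingHom.ker (algebraMap B R)).map (algebraMap B (Localization.AtPrime q)) =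
        Ideal.span (algebraMap B (Localization.AtPrime q) '' (s : Set B)) ∧
      LinearIndependent q.ResidueField (fun g : ↥s => dFib (A := A) q (g : B)) := by
  classical
  set I := RingHom.ker (algebraMap B R) with hI
  let Bq := Localization.AtPrime q
  let J : Ideal Bq := I.map (algebraMap B Bq)
  have hIq : I ≤ q := fun x hx => by
    rw [hq, Ideal.mem_comap, RingHom.mem_ker.1 hx]; exact p.zero_mem
  have hJm : J ≤ maximalIdeal Bq := Ideal.map_le_iff_le_comap.2 fun x hx =>
    (IsLocalization.AtPrime.to_map_mem_maximal_iff Bq q x).2 (hIq hx)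
  let S := Bq ⧸ J
  haveI : Nontrivial S := Ideal.Quotient.nontrivial_iff.2 fun h => (maximalIdeal.isMaximal Bq).ne_top (eq_top_iff.2 (h ▸ hJm))
  haveI : IsLocalRing S := IsLocalRing.of_surjective' (Ideal.Quotient.mk J) Ideal.Quotient.mk_surjective
  -- `S` is the localization of `R` at `p`
  let eR : (B ⧸ I) ≃+* R := RingHom.quotientKerEquivOfSurjective hsurj
  let φ : R →+* S := (Ideal.Quotient.lift I ((Ideal.Quotient.mk J).comp (algebraMap B Bq))
    (fun x hx => Ideal.Quotient.eq_zero_iff_mem.2 (Ideal.mem_map_of_mem _ hx))).comp eR.symm.toRingHom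
  have hφ : ∀ b : B, φ (algebraMap B R b) = Ideal.Quotient.mk J (algebraMap B Bq b) := fun b => by
    have : eR.symm (algebraMap B R b) = Ideal.Quotient.mk I b := eR.injective (by rw [eR.apply_symm_apply]; rfl)
    simp [φ, this]
  letI : Algebra R S := φ.toAlgebra
  haveI : IsLocalization (q.primeCompl.map (algebraMap B R)) S :=
    IsLocalization.of_surjective q.primeCompl Bq (algebraMap B R) hsurj (Ideal.Quotient.mk J)
      Ideal.Quotient.mk_surjective (RingHom.ext fun b => (hφ b).symm) (by rw [Ideal.mk_ker])
  haveI : IsLocalization.AtPrime S p := by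
    have hM : q.primeCompl.map (algebraMap B R) = p.primeCompl := by
      ext x
      constructor
      · rintro ⟨y, hy, rfl⟩
        exact fun h => hy (by rw [hq]; exact h)
      · intro hx
        obtain ⟨y, rfl⟩ := hsurj x
        exact ⟨y, fun h => hx (by rw [SetLike.mem_coe, hq] at h; exact h), rfl⟩
    show IsLocalization p.primeCompl S
    rw [← hM]; infer_instance
  haveI : IsScalarTower A R S := IsScalarTower.of_algebraMap_eq fun a => by
    rw [IsScalarTower.algebraMap_apply A B R]
    exact (hφ _).symm
  let eS : Localization.AtPrime p ≃ₐ[R] S := IsLocalization.algEquiv p.primeCompl _ _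
  have h1 : Algebra.IsSmoothAt A p ↔ Algebra.FormallySmooth A S :=
    Algebra.FormallySmooth.iff_of_equiv (eS.restrictScalars A)
  -- Jacobian criterion over the local ring `Bq`
  let K := q.ResidueField
  let ρ : S →+* K := Ideal.Quotient.lift J (residue Bq) fun x hx => (residue_eq_zero_iff x).2 (hJm hx)
  letI : Algebra S K := ρ.toAlgebra
  haveI : IsScalarTower Bq S K := ⟨fun a b c => by
    obtain ⟨b, rfl⟩ := Ideal.Quotient.mk_surjective b
    show ρ (Ideal.Quotient.mk J (a * b)) * c = a • (ρ (Ideal.Quotient.mk J b) * c)
    rw [Algebra.smul_def, ← mul_assoc]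
    congr 1⟩
  haveI : Algebra.FormallySmooth A Bq :=
    haveI : Algebra.FormallySmooth B Bq := Algebra.FormallySmooth.of_isLocalization q.primeCompl
    Algebra.FormallySmooth.comp A B Bq
  haveI : Algebra.EssFiniteType A Bq :=
    haveI : Algebra.EssFiniteType B Bq := Algebra.EssFiniteType.of_isLocalization _ q.primeCompl
    Algebra.EssFiniteType.comp A B Bq
  haveI : Module.Free Bq Ω[Bq⁄A] := Module.free_of_flat_of_isLocalRing
  have hkerJ : RingHom.ker (algebraMap Bq S) = J := Ideal.mk_ker
  have h2 : Algebra.FormallySmooth A S ↔ Function.Injective (cotangentComplexBaseChange A S Bq K) := by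
    refine Algebra.FormallySmooth.iff_injective_cotangentComplexBaseChange Bq K Ideal.Quotient.mk_surjective
      (by rw [hkerJ]; exact hfg.map _) fun x hx => ?_
    obtain ⟨x, rfl⟩ := Ideal.Quotient.mk_surjective x
    exact (residue_eq_zero_iff x).2 fun hu => hx (hu.map _)
  rw [h1, h2]
  set c := cotangentComplexBaseChange A S Bq K
  -- identify the target
  have hbc : IsBaseChange K (((TensorProduct.mk Bq K Ω[Bq⁄A] 1).restrictScalars B) ∘ₗ KaehlerDifferential.map A A B Bq) :=
    ((isLocalizedModule_iff_isBaseChange q.primeCompl Bq _).1 inferInstance).comp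
      (TensorProduct.isBaseChange Bq Ω[Bq⁄A] K)
  let τ := hbc.equiv
  let w : I → ↥(RingHom.ker (algebraMap Bq S)) := fun g =>
    ⟨algebraMap B Bq g, hkerJ.symm ▸ Ideal.mem_map_of_mem _ g.2⟩
  let v : I → K ⊗[Bq] ↥(RingHom.ker (algebraMap Bq S)) := fun g => 1 ⊗ₜ w g
  have hcv : ∀ g : I, c (v g) = τ (dFib q (g : B)) := fun g => by
    simp only [c, v, w, cotangentComplexBaseChange_tmul, one_smul, τ, dFib, IsBaseChange.equiv_tmul]
    rw [LinearMap.comp_apply, KaehlerDifferential.map_D]
    rfl
  have hspan : ∀ T : Set I, Ideal.span (algebraMap B Bq '' (Subtype.val '' T)) = J →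
      Submodule.span Bq (w '' T) = ⊤ := fun T hT => by
    apply Submodule.map_injective_of_injective
      (f := (RingHom.ker (algebraMap Bq S)).subtype) Subtype.val_injective
    rw [Submodule.map_span, Submodule.map_subtype_top]
    refine Eq.trans ?_ (hT.trans hkerJ.symm)
    simp only [Set.image_image, w]
    rfl
  have hvspan : ∀ T : Set I, Submodule.span Bq (w '' T) = ⊤ → Submodule.span K (v '' T) = ⊤ := fun T hT => by
    refine Submodule.eq_top_iff'.2 fun z => ?_
    induction z using TensorProduct.induction_on with
    | zero => exact zero_mem _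
    | add a b ha hb => exact add_mem ha hb
    | tmul a m =>
      have hm : (1 : K) ⊗ₜ[Bq] m ∈ Submodule.span K (v '' T) := by
        have hm' : m ∈ Submodule.span Bq (w '' T) := hT ▸ Submodule.mem_top
        induction hm' using Submodule.span_induction with
        | mem m hm => obtain ⟨g, hg, rfl⟩ := hm; exact Submodule.subset_span ⟨g, hg, rfl⟩
        | zero => rw [TensorProduct.tmul_zero]; exact zero_mem _
        | add a b _ _ ha hb => rw [TensorProduct.tmul_add]; exact add_mem ha hb
        | smul r m _ hm => rw [TensorProduct.tmul_smul]; exact Submodule.smul_of_tower_mem _ r hm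
      have : a ⊗ₜ[Bq] m = a • ((1 : K) ⊗ₜ[Bq] m) := by rw [TensorProduct.smul_tmul', smul_eq_mul, mul_one]
      exact this ▸ Submodule.smul_mem _ a hm
  constructor
  · intro hc
    have htop : Submodule.span K (Set.range v) = ⊤ := by
      rw [← Set.image_univ]
      exact hvspan _ (hspan _ (by simp [J, Set.image_univ, Ideal.map]))
    obtain ⟨t, ht, htspan, hli⟩ := exists_linearIndependent K (Set.range v)
    rw [htop] at htspan
    haveI : Module.Finite Bq ↥(RingHom.ker (algebraMap Bq S)) := Module.Finite.of_fg (by rw [hkerJ]; exact hfg.map _)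
    haveI : Fintype t := (hli.set_finite_of_isNoetherian).fintype
    choose g hg using fun z : t => ht z.2
    refine ⟨Finset.univ.image (fun z => ((g z : I) : B)), ?_, ?_, ?_⟩
    · intro x hx
      simp only [Finset.coe_image, Finset.coe_univ, Set.image_univ, Set.mem_range] at hx
      obtain ⟨z, rfl⟩ := hx
      exact (g z).2
    · let bs : Module.Basis t K (K ⊗[Bq] ↥(RingHom.ker (algebraMap Bq S))) :=
        Module.Basis.mk hli (by rw [Subtype.range_coe, htspan])
      have hgen := IsLocalRing.span_eq_top_of_tmul_eq_basis (fun z : t => w (g z)) bs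
        (fun z => by rw [Module.Basis.mk_apply]; exact hg z)
      have := congr_arg (Submodule.map (RingHom.ker (algebraMap Bq S)).subtype) hgen
      rw [Submodule.map_span, Submodule.map_subtype_top] at this
      refine hkerJ.symm.trans (this.symm.trans ?_)
      simp only [Finset.coe_image, Finset.coe_univ, Set.image_univ, ← Set.range_comp]
      rfl
    · have hli' : LinearIndependent K (fun z : t => dFib (A := A) q (g z : B)) := by
        refine LinearIndependent.of_comp τ.toLinearMap ?_
        have : (τ.toLinearMap ∘ fun z : t => dFib (A := A) q (g z : B)) = c ∘ fun z : t => (z : _) := by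
          funext z
          show τ (dFib q (g z : B)) = c (z : _)
          rw [← hcv, hg z]
        rw [this]
        exact hli.map' c (LinearMap.ker_eq_bot.2 hc)
      have hinj : Function.Injective (fun z => ((g z : I) : B)) := fun a b hab => by
        dsimp at hab
        exact Subtype.ext (by rw [← hg a, ← hg b, Subtype.ext hab])
      refine (linearIndependent_equiv' ((Equiv.ofBijective (fun z : t => (⟨(g z : B), Finset.mem_image_of_mem _ (Finset.mem_univ z)⟩ : ↥(Finset.univ.image fun z => ((g z : I) : B))))
        ⟨fun a b hab => hinj (by have h := congr_arg Subtype.val hab; exact h), fun ⟨x, hx⟩ => by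
          obtain ⟨z, -, rfl⟩ := Finset.mem_image.1 hx; exact ⟨z, rfl⟩⟩)) ?_).1 hli'
      rfl
  · rintro ⟨s, hs, hgen, hli⟩
    let i : ↥s → I := fun g => ⟨g, hs g.2⟩
    have htop : Submodule.span K (Set.range (v ∘ i)) = ⊤ := by
      rw [Set.range_comp]
      refine hvspan _ (hspan _ ?_)
      rw [show Subtype.val '' Set.range i = (s : Set B) by ext x; simp [i]; exact fun h => hs h]
      exact hgen.symm
    have hliv : LinearIndependent K (c ∘ (v ∘ i)) := by
      rw [show (c ∘ (v ∘ i)) = τ.toLinearMap ∘ fun g : ↥s => dFib (A := A) q (g : B) from funext fun g => hcv (i g)]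
      exact hli.map' τ.toLinearMap (LinearMap.ker_eq_bot.2 τ.injective)
    intro a b hab
    rw [← sub_eq_zero]
    have hab' : c (a - b) = 0 := by rw [map_sub, hab, sub_self]
    obtain ⟨r, hr⟩ := (Submodule.mem_span_range_iff_exists_fun K).1
      (show a - b ∈ Submodule.span K (Set.range (v ∘ i)) from htop ▸ Submodule.mem_top)
    rw [← hr, map_sum] at hab'
    simp only [map_smul] at hab'
    have hr0 := Fintype.linearIndependent_iff.1 hliv r hab'
    rw [← hr]
    exact Finset.sum_eq_zero fun j _ => by rw [hr0 j, zero_smul]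

end Groth.L15.SmoothCrit
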