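import Mathlib.RingTheory.PicardGroup
import Mathlib.RingTheory.DedekindDomain.Factorization

/-!
Steinitz isomorphism for ideals of a Dedekind domain.
-/

set_option autoImplicit false

noncomputable section

universe u v

namespace Groth.L15.Steinitz

open scoped TensorProduct

variable {R : Type u} [CommRing R] [IsDedekindDomain R]

theorem exists_coprime (I J : Ideal R) (hI : I ≠ ⊥) (hJ : J ≠ ⊥) :
    ∃ (L : Ideal R) (a x : R), a ≠ 0 ∧ x ≠ 0 ∧ I ⊔ L = ⊤ ∧ Ideal.span {a} * J = Ideal.span {x} * L := by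
  obtain ⟨x, hxJ, hx⟩ := Submodule.exists_mem_ne_zero_of_ne_bot hJ
  obtain ⟨K, hK⟩ := Ideal.dvd_iff_le.2 (J.span_singleton_le_iff_mem.2 hxJ)
  have hx0 : Ideal.span {x} ≠ (⊥ : Ideal R) := by simpa using hx
  have hK0 : K ≠ ⊥ := by
    rintro rfl
    exact hx0 (hK.trans (mul_zero J))
  have hIK : I * K ≠ 0 := mul_ne_zero hI hK0
  obtain ⟨b, hb⟩ := IsDedekindDomain.exists_sup_span_eq (Ideal.mul_le_right : I * K ≤ K) hIK
  by_cases hb0 : b = 0
  · subst hb0
    rw [Ideal.span_singleton_zero, sup_bot_eq] at hb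
    have : I = ⊤ := by
      rw [← Ideal.one_eq_top]
      exact mul_right_cancel₀ hK0 (hb.trans (one_mul K).symm)
    exact ⟨J, 1, 1, one_ne_zero, one_ne_zero, by rw [this, top_sup_eq], rfl⟩
  obtain ⟨L, hL⟩ := Ideal.dvd_iff_le.2 (hb ▸ le_sup_right : Ideal.span {b} ≤ K)
  refine ⟨L, b, x, hb0, hx, ?_, by rw [hL, hK]; ring⟩
  rw [← Ideal.one_eq_top]
  refine mul_left_cancel₀ hK0 ?_
  rw [mul_one, Ideal.mul_sup, mul_comm K I, ← hL, hb]

theorem nonempty_equiv_of_span_mul_eq (J L : Ideal R) {a x : R} (ha : a ≠ 0) (hx : x ≠ 0)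
    (h : Ideal.span {a} * J = Ideal.span {x} * L) : Nonempty (J ≃ₗ[R] L) := by
  have hinj : ∀ {c : R}, c ≠ 0 → Function.Injective (LinearMap.mulLeft R c) :=
    fun hc => mul_right_injective₀ hc
  have e : ∀ (c : R) (M : Ideal R), Submodule.map (LinearMap.mulLeft R c) M = Ideal.span {c} * M := fun c M => by
    ext y
    simp [Submodule.mem_map, Ideal.mem_span_singleton_mul]
  exact ⟨((Submodule.equivMapOfInjective _ (hinj ha) J).trans
    (LinearEquiv.ofEq _ _ (by rw [e, e, h]))).trans (Submodule.equivMapOfInjective _ (hinj hx) L).symm⟩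

theorem nonempty_prod_equiv (I J : Ideal R) (hI : I ≠ ⊥) (hJ : J ≠ ⊥) :
    Nonempty ((I × J) ≃ₗ[R] (R × (I * J : Ideal R))) := by
  obtain ⟨L, a, x, ha, hx, hsup, heq⟩ := exists_coprime I J hI hJ
  obtain ⟨e₁⟩ := nonempty_equiv_of_span_mul_eq J L ha hx heq
  obtain ⟨e₂⟩ := nonempty_equiv_of_span_mul_eq (I * J) (I * L) ha hx (by rw [mul_left_comm, heq, mul_left_comm])
  obtain ⟨i₀, hi₀, l₀, hl₀, h1⟩ := Submodule.mem_sup.1 (show (1 : R) ∈ I ⊔ L by rw [hsup]; trivial)
  have hw : ∀ (p : I × L), (p.1 : R) - ((p.1 : R) + p.2) * i₀ ∈ I * L := fun p => by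
    rw [show (p.1 : R) - ((p.1 : R) + p.2) * i₀ = (p.1 : R) * l₀ - i₀ * p.2 by linear_combination -(p.1 : R) * h1]
    exact sub_mem (Ideal.mul_mem_mul p.1.2 hl₀) (Ideal.mul_mem_mul hi₀ p.2.2)
  let e : (I × L) ≃ₗ[R] (R × (I * L : Ideal R)) :=
    { toFun := fun p => ((p.1 : R) + p.2, ⟨_, hw p⟩)
      invFun := fun q => (⟨q.1 * i₀ + q.2, add_mem (I.mul_mem_left _ hi₀) (Ideal.mul_le_inf q.2.2).1⟩,
        ⟨q.1 * l₀ - q.2, sub_mem (L.mul_mem_left _ hl₀) (Ideal.mul_le_inf q.2.2).2⟩)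
      map_add' := fun p q => Prod.ext (by simp; ring) (Subtype.ext (by simp; ring))
      map_smul' := fun r p => Prod.ext (by simp; ring) (Subtype.ext (by simp; ring))
      left_inv := fun p => by
        refine Prod.ext (Subtype.ext ?_) (Subtype.ext ?_)
        · show ((p.1 : R) + p.2) * i₀ + ((p.1 : R) - ((p.1 : R) + p.2) * i₀) = p.1
          ring
        · show ((p.1 : R) + p.2) * l₀ - ((p.1 : R) - ((p.1 : R) + p.2) * i₀) = p.2
          linear_combination ((p.1 : R) + p.2) * h1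
      right_inv := fun q => by
        refine Prod.ext ?_ (Subtype.ext ?_)
        · show q.1 * i₀ + q.2 + (q.1 * l₀ - q.2) = q.1
          linear_combination q.1 * h1
        · show q.1 * i₀ + q.2 - (q.1 * i₀ + q.2 + (q.1 * l₀ - q.2)) * i₀ = q.2
          linear_combination (-q.1 * i₀) * h1 }
  exact ⟨((LinearEquiv.refl R I).prodCongr e₁).trans (e.trans ((LinearEquiv.refl R R).prodCongr e₂.symm))⟩

theorem nonempty_pi_equiv (I : Ideal R) (hI : I ≠ ⊥) :
    ∀ m : ℕ, Nonempty ((Fin (m + 1) → I) ≃ₗ[R] ((Fin m → R) × (I ^ (m + 1) : Ideal R)))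
  | 0 => ⟨((LinearEquiv.funUnique (Fin 1) R I).trans (LinearEquiv.ofEq I (I ^ (0 + 1)) (pow_one I).symm)).trans
      (LinearEquiv.uniqueProd (R := R) (M₂ := Fin 0 → R)).symm⟩
  | m + 1 => by
    obtain ⟨e⟩ := nonempty_pi_equiv I hI m
    obtain ⟨s⟩ := nonempty_prod_equiv I (I ^ (m + 1)) hI (pow_ne_zero _ hI)
    let a : (I × ((Fin m → R) × (I ^ (m + 1) : Ideal R))) ≃ₗ[R] ((Fin m → R) × (I × (I ^ (m + 1) : Ideal R))) :=
      { toFun := fun p => (p.2.1, p.1, p.2.2)
        invFun := fun q => (q.2.1, q.1, q.2.2)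
        map_add' := fun _ _ => rfl
        map_smul' := fun _ _ => rfl
        left_inv := fun _ => rfl
        right_inv := fun _ => rfl }
    let b : ((Fin m → R) × (R × (I * I ^ (m + 1) : Ideal R))) ≃ₗ[R] ((R × (Fin m → R)) × (I * I ^ (m + 1) : Ideal R)) :=
      { toFun := fun p => ((p.2.1, p.1), p.2.2)
        invFun := fun q => (q.1.2, q.1.1, q.2)
        map_add' := fun _ _ => rfl
        map_smul' := fun _ _ => rfl
        left_inv := fun _ => rfl
        right_inv := fun _ => rfl }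
    exact ⟨((Fin.consLinearEquiv R fun _ : Fin (m + 2) => I).symm.trans
      ((LinearEquiv.refl R I).prodCongr e)).trans (a.trans (((LinearEquiv.refl R _).prodCongr s).trans (b.trans
        ((Fin.consLinearEquiv R fun _ : Fin (m + 1) => R).prodCongr (LinearEquiv.ofEq _ _ (pow_succ' I (m + 1)).symm)))))⟩

theorem nonempty_pow_equiv (I : Ideal R) [Module.Invertible R I] :
    ∀ m : ℕ, ∃ _ : Module.Invertible R (I ^ (m + 1) : Ideal R),
      CommRing.Pic.mk R (I ^ (m + 1) : Ideal R) = CommRing.Pic.mk R I ^ (m + 1)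
  | 0 => by
    have e : (I ^ (0 + 1) : Ideal R) ≃ₗ[R] I := LinearEquiv.ofEq _ _ (pow_one I)
    have : Module.Invertible R (I ^ (0 + 1) : Ideal R) := Module.Invertible.congr e.symm
    exact ⟨this, by rw [pow_one (CommRing.Pic.mk R I)]; exact CommRing.Pic.mk_eq_mk_iff.2 ⟨e⟩⟩
  | m + 1 => by
    obtain ⟨hinv, hmk⟩ := nonempty_pow_equiv I m
    set J := I ^ (m + 1) with hJ
    let f : I ⊗[R] J →ₗ[R] R :=
      TensorProduct.lift ((LinearMap.mul R R).compl₁₂ I.subtype J.subtype)
    have hinj : Function.Injective f := by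
      have e : f = J.subtype ∘ₗ (TensorProduct.lid R J).toLinearMap ∘ₗ LinearMap.rTensor J I.subtype :=
        TensorProduct.ext' fun y z => by simp [f]
      rw [e]
      exact Subtype.val_injective.comp ((TensorProduct.lid R J).injective.comp
        (Module.Flat.rTensor_preserves_injective_linearMap (M := J) I.subtype Subtype.val_injective))
    have hrange : LinearMap.range f = (I * J : Ideal R) := by
      apply le_antisymm
      · rintro _ ⟨t, rfl⟩
        induction t using TensorProduct.induction_on with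
        | zero => rw [map_zero]; exact zero_mem _
        | tmul y z => simpa [f] using Ideal.mul_mem_mul y.2 z.2
        | add y z hy hz => rw [map_add]; exact add_mem hy hz
      · exact Ideal.mul_le.2 fun y hy z hz => ⟨(⟨y, hy⟩ : I) ⊗ₜ (⟨z, hz⟩ : J), by simp [f]⟩
    have e : (I ⊗[R] J) ≃ₗ[R] (I ^ (m + 1 + 1) : Ideal R) :=
      (LinearEquiv.ofInjective f hinj).trans (LinearEquiv.ofEq _ _ (hrange.trans (pow_succ' I (m + 1)).symm))
    have : Module.Invertible R (I ^ (m + 1 + 1) : Ideal R) := Module.Invertible.congr e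
    refine ⟨this, ?_⟩
    rw [← CommRing.Pic.mk_eq_mk_iff.2 ⟨e⟩, CommRing.Pic.mk_tensor, hmk, ← pow_succ']

theorem nonempty_pi_linearEquiv (N : Type v) [AddCommGroup N] [Module R N] [Module.Invertible R N]
    (n : ℕ) (h : CommRing.Pic.mk R N ^ n = 1) : Nonempty ((Fin n → N) ≃ₗ[R] (Fin n → R)) := by
  cases n with
  | zero => exact ⟨LinearEquiv.ofSubsingleton (Fin 0 → N) (Fin 0 → R)⟩
  | succ m =>
    obtain ⟨I, ⟨e⟩⟩ := Module.Invertible.exists_linearEquiv_ideal R N
    have hI : I ≠ ⊥ := by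
      rintro rfl
      have : Subsingleton N := e.toEquiv.subsingleton
      have := (Module.Invertible.linearEquiv R N).symm.injective
      exact one_ne_zero (this (Subsingleton.elim ((Module.Invertible.linearEquiv R N).symm (1 : R))
        ((Module.Invertible.linearEquiv R N).symm 0)))
    have : Module.Invertible R I := Module.Invertible.congr e
    rw [CommRing.Pic.mk_eq_mk_iff.2 ⟨e⟩] at h
    obtain ⟨_, hmk⟩ := nonempty_pow_equiv I m
    obtain ⟨g⟩ := CommRing.Pic.mk_eq_one_iff.1 (hmk.trans h)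
    obtain ⟨p⟩ := nonempty_pi_equiv I hI m
    exact ⟨((LinearEquiv.piCongrRight fun _ => e).trans p).trans (((LinearEquiv.refl R _).prodCongr g).trans
      ((LinearEquiv.prodComm R _ _).trans (Fin.consLinearEquiv R fun _ : Fin (m + 1) => R)))⟩

end Groth.L15.Steinitz
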