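import Mathlib.RingTheory.PowerSeries.WeierstrassPreparation
import Mathlib.RingTheory.PowerSeries.Substitution
import Mathlib.LinearAlgebra.FiniteDimensional.Basic
import Mathlib.Tactic.Ring
import Mathlib.Tactic.LinearCombination

/-!
Power series over a complete local ring as a module over themselves along a substitution `X ↦ g`.
-/

set_option autoImplicit false

noncomputable section

universe u

open PowerSeries

namespace Groth.L15.SubstFree

variable {O : Type u} [CommRing O] {g : O⟦X⟧}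

theorem subst_expand (hc : HasSubst g) (c : O⟦X⟧) (K : ℕ) :
    subst g c = g ^ K * subst g (PowerSeries.mk fun i => coeff (i + K) c) +
      ∑ k ∈ Finset.range K, C (coeff k c) * g ^ k := by
  conv_lhs => rw [eq_X_pow_mul_shift_add_trunc K c]
  rw [subst_add hc, subst_mul hc, subst_pow hc, subst_X hc, subst_coe hc, Polynomial.aeval_def,
    eval₂_trunc_eq_sum_range]
  rfl

theorem X_pow_dvd_pow (hg : constantCoeff g = 0) (K : ℕ) : (X : O⟦X⟧) ^ K ∣ g ^ K :=
  pow_dvd_pow_of_dvd (X_dvd_iff.2 hg) K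

theorem eq_of_dvd {a b : O⟦X⟧} (h : ∀ K, (X : O⟦X⟧) ^ K ∣ a - b) : a = b := by
  ext n
  rw [← sub_eq_zero, ← map_sub]
  exact X_pow_dvd_iff.1 (h (n + 1)) n n.lt_succ_self

theorem sum_subst_eq (hc : HasSubst g) {d : ℕ} (c : Fin d → O⟦X⟧) (b : Fin d → O⟦X⟧) (K : ℕ) :
    ∑ i, subst g (c i) * b i =
      g ^ K * (∑ i, subst g (PowerSeries.mk fun j => coeff (j + K) (c i)) * b i) +
        ∑ k ∈ Finset.range K, g ^ k * ∑ i, C (coeff k (c i)) * b i := by
  simp only [Finset.mul_sum]
  rw [Finset.sum_comm, ← Finset.sum_add_distrib]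
  refine Finset.sum_congr rfl fun i _ => ?_
  conv_lhs => rw [subst_expand hc (c i) K, add_mul, Finset.sum_mul]
  congr 1
  · ring
  · exact Finset.sum_congr rfl fun k _ => by ring

variable [IsLocalRing O] [IsAdicComplete (IsLocalRing.maximalIdeal O) O]

theorem coe_eq_sum {d : ℕ} {r : Polynomial O} (h : r.degree < d) :
    (r : O⟦X⟧) = ∑ i : Fin d, C (r.coeff i) * X ^ (i : ℕ) := by
  have e : r = ∑ i : Fin d, Polynomial.monomial (i : ℕ) (r.coeff i) :=
    ((Polynomial.sum_fin (fun i a => Polynomial.monomial i a) (by simp) h).trans (Polynomial.sum_monomial_eq r)).symm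
  conv_lhs => rw [e, ← Polynomial.coeToPowerSeries.ringHom_apply, map_sum]
  refine Finset.sum_congr rfl fun i _ => ?_
  rw [Polynomial.coeToPowerSeries.ringHom_apply, Polynomial.coe_monomial, monomial_eq_C_mul_X_pow]

theorem step (hc : HasSubst g) (hg : g.map (IsLocalRing.residue O) ≠ 0)
    {d : ℕ} (hd : (g.map (IsLocalRing.residue O)).order.toNat = d) (c : Fin d → O⟦X⟧)
    (hcs : ∑ i, subst g (c i) * X ^ (i : ℕ) = 0) :
    (∑ i, subst g (PowerSeries.mk fun j => coeff (j + 1) (c i)) * X ^ (i : ℕ)) = 0 ∧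
      ∀ i, coeff 0 (c i) = 0 := by
  set r : Polynomial O := ∑ i : Fin d, Polynomial.C (coeff 0 (c i)) * Polynomial.X ^ (i : ℕ) with hr
  have hdeg : r.degree < d := Polynomial.degree_sum_fin_lt _
  have hco : ∀ i : Fin d, r.coeff i = coeff 0 (c i) := fun i => by
    rw [hr, Polynomial.finsetSum_coeff, Finset.sum_eq_single i]
    · simp
    · intro j _ hj
      rw [Polynomial.coeff_C_mul, Polynomial.coeff_X_pow, if_neg (fun hc => hj (Fin.ext hc.symm)), mul_zero]
    · simp
  have hdiv : IsWeierstrassDivision 0 g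
      (∑ i, subst g (PowerSeries.mk fun j => coeff (j + 1) (c i)) * X ^ (i : ℕ)) r := by
    refine ⟨hdeg.trans_le (le_of_eq (by rw [← hd]; rfl)), ?_⟩
    rw [coe_eq_sum hdeg, ← hcs, sum_subst_eq hc c _ 1, pow_one]
    congr 1
    simp [hco]
  obtain ⟨h1, h2⟩ := hdiv.eq_zero hg
  exact ⟨h1, fun i => by rw [← hco, h2, Polynomial.coeff_zero]⟩

theorem free_of_map_ne_zero (hg0 : constantCoeff g = 0) (hg : g.map (IsLocalRing.residue O) ≠ 0) :
    ∃ (n : ℕ) (b : Fin n → O⟦X⟧), ∀ h : O⟦X⟧, ∃! c : Fin n → O⟦X⟧, h = ∑ i, subst g (c i) * b i := by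
  have hc : HasSubst g := HasSubst.of_constantCoeff_zero' hg0
  set d := (g.map (IsLocalRing.residue O)).order.toNat with hd
  refine ⟨d, fun i => X ^ (i : ℕ), fun h => ?_⟩
  -- uniqueness
  have huniq : ∀ c : Fin d → O⟦X⟧, ∑ i, subst g (c i) * X ^ (i : ℕ) = 0 → ∀ i, c i = 0 := by
    have key : ∀ (k : ℕ) (c : Fin d → O⟦X⟧), ∑ i, subst g (c i) * X ^ (i : ℕ) = 0 → ∀ i, coeff k (c i) = 0 := by
      intro k
      induction k with
      | zero => exact fun c hcs => (step hc hg hd.symm c hcs).2
      | succ k ih =>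
        intro c hcs i
        simpa using ih _ (step hc hg hd.symm c hcs).1 i
    exact fun c hcs i => PowerSeries.ext fun k => by rw [key k c hcs i, map_zero]
  let seq : ℕ → O⟦X⟧ := fun k => (fun q => q /ʷ g)^[k] h
  let rem : ℕ → Polynomial O := fun k => (seq k) %ʷ g
  have hseq : ∀ K, h = (∑ k ∈ Finset.range K, g ^ k * (rem k : O⟦X⟧)) + g ^ K * seq K := by
    intro K
    induction K with
    | zero => simp [seq]
    | succ K ih =>
      conv_lhs => rw [ih, eq_mul_weierstrassDiv_add_weierstrassMod (seq K) hg]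
      rw [Finset.sum_range_succ, show seq (K + 1) = seq K /ʷ g from Function.iterate_succ_apply' _ _ _]
      ring
  have hexist : h = ∑ i : Fin d, subst g (PowerSeries.mk fun k => (rem k).coeff (i : ℕ)) * X ^ (i : ℕ) := by
    refine eq_of_dvd fun K => ?_
    rw [sum_subst_eq hc _ _ K]
    conv in h - _ => arg 1; rw [hseq K]
    have e : ∀ k, (∑ i : Fin d, C (coeff k (PowerSeries.mk fun k => (rem k).coeff (i : ℕ))) * X ^ (i : ℕ)) = (rem k : O⟦X⟧) :=
      fun k => by simp only [coeff_mk]; exact (coe_eq_sum (degree_weierstrassMod_lt _ _)).symm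
    simp only [e]
    rw [show ∀ a b c : O⟦X⟧, a + g ^ K * b - (g ^ K * c + a) = g ^ K * (b - c) from fun a b c => by ring]
    exact dvd_mul_of_dvd_left (X_pow_dvd_pow hg0 K) _
  refine ⟨fun i => PowerSeries.mk fun k => (rem k).coeff i, hexist, fun c hcs => ?_⟩
  · funext i
    rw [← sub_eq_zero]
    refine huniq (fun i => c i - PowerSeries.mk fun k => (rem k).coeff (i : ℕ)) ?_ i
    simp only [← coe_substAlgHom hc, map_sub, sub_mul, Finset.sum_sub_distrib]
    rw [sub_eq_zero]
    simp only [coe_substAlgHom hc]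
    exact hcs.symm.trans (hexist)

theorem map_ne_zero_of_free (hg0 : constantCoeff g = 0) {n : ℕ} {b : Fin n → O⟦X⟧}
    (hb : ∀ h : O⟦X⟧, ∃ c : Fin n → O⟦X⟧, h = ∑ i, subst g (c i) * b i) :
    g.map (IsLocalRing.residue O) ≠ 0 := by
  intro hz
  have hc : HasSubst g := HasSubst.of_constantCoeff_zero' hg0
  let k := IsLocalRing.ResidueField O
  let L : (Fin n → k) →ₗ[k] (Fin (n + 1) → k) :=
    { toFun := fun v j => ∑ i, v i * coeff (j : ℕ) ((b i).map (IsLocalRing.residue O))
      map_add' := fun v w => funext fun j => by simp [add_mul, Finset.sum_add_distrib]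
      map_smul' := fun a v => funext fun j => by simp [mul_assoc]; exact (Finset.mul_sum _ _ _).symm }
  have hL : Function.Surjective L := by
    intro w
    choose w' hw' using fun j => IsLocalRing.residue_surjective (w j)
    obtain ⟨c, hcs⟩ := hb (PowerSeries.mk fun m => if hm : m < n + 1 then w' ⟨m, hm⟩ else 0)
    refine ⟨fun i => IsLocalRing.residue O (coeff 0 (c i)), funext fun j => ?_⟩
    rw [← hw' j]
    have h1 := congrArg (fun q => coeff (j : ℕ) (q.map (IsLocalRing.residue O))) hcs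
    simp only [sum_subst_eq hc c b 1, pow_one, Finset.sum_range_one, pow_zero, one_mul, map_add, map_mul,
      hz, zero_mul, map_zero, zero_add, map_sum, coeff_map, coeff_mk, dif_pos j.isLt, Fin.eta,
      map_C, coeff_C_mul] at h1
    simp only [L, LinearMap.coe_mk, AddHom.coe_mk, coeff_map]
    rw [h1]
  have := LinearMap.finrank_le_finrank_of_surjective hL
  simp at this

end Groth.L15.SubstFree
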