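import Mathlib.RingTheory.Smooth.Fiber
import Mathlib.RingTheory.FinitePresentation
import Mathlib.RingTheory.TensorProduct.Quotient
import Mathlib.RingTheory.Kaehler.Basic
import Mathlib.Algebra.TrivSqZeroExt.Basic
import Mathlib.RingTheory.LocalRing.ResidueField.Ideal
import Mathlib.LinearAlgebra.TensorProduct.RightExactness
import Mathlib.Algebra.Polynomial.AlgebraMap

/-! Flat deformations of smooth algebras over truncated polynomial rings in characteristic zero. -/

set_option autoImplicit false
set_option linter.style.haveILetI false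

universe u

open Polynomial TensorProduct

noncomputable section

namespace Groth.L15.TruncDeform

variable {k : Type u} [Field k] {n : ℕ} {D : Type u} [CommRing D] [Algebra k D] {τ : D}
  (e : (k[X] ⧸ Ideal.span {(X : k[X]) ^ (n + 1)}) ≃ₐ[k] D)
  (he : e (Ideal.Quotient.mk (Ideal.span {(X : k[X]) ^ (n + 1)}) X) = τ)

include e he

theorem aeval_eq (P : k[X]) : e (Ideal.Quotient.mk (Ideal.span {(X : k[X]) ^ (n + 1)}) P) = aeval τ P := by
  have h : e.toAlgHom.comp (Ideal.Quotient.mkₐ k (Ideal.span {(X : k[X]) ^ (n + 1)})) = aeval τ :=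
    Polynomial.algHom_ext (by rw [aeval_X]; exact he)
  exact DFunLike.congr_fun h P

theorem exists_aeval (d : D) : ∃ P : k[X], aeval τ P = d := by
  obtain ⟨z, rfl⟩ := e.surjective d
  obtain ⟨P, rfl⟩ := Ideal.Quotient.mk_surjective z
  exact ⟨P, (aeval_eq e he P).symm⟩

theorem tau_pow : τ ^ (n + 1) = 0 := by
  rw [← he, ← map_pow, ← map_pow, Ideal.Quotient.eq_zero_iff_mem.2 (Ideal.mem_span_singleton_self _), map_zero]

theorem nontrivial_D : Nontrivial D := by
  haveI : Nontrivial (k[X] ⧸ Ideal.span {(X : k[X]) ^ (n + 1)}) := by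
    refine Ideal.Quotient.nontrivial_iff.2 fun h => ?_
    rw [Ideal.span_singleton_eq_top, isUnit_pow_iff (Nat.succ_ne_zero n)] at h
    exact Polynomial.not_isUnit_X h
  exact e.symm.toEquiv.nontrivial

theorem noetherian_D : IsNoetherianRing D :=
  isNoetherianRing_of_surjective k[X] D (aeval τ).toRingHom (exists_aeval e he)

theorem eq_span_of_isPrime (I : Ideal D) [I.IsPrime] :
    I = Ideal.span {τ} ∧ I.IsMaximal ∧ Function.Surjective (algebraMap k (D ⧸ I)) := by
  have hτ : τ ∈ I := Ideal.IsPrime.mem_of_pow_mem ‹_› (n + 1) (by rw [tau_pow e he]; exact zero_mem _)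
  have hdec : ∀ d : D, ∃ (c : k) (d' : D), d = algebraMap k D c + τ * d' := by
    intro d
    obtain ⟨P, rfl⟩ := exists_aeval e he d
    refine ⟨P.coeff 0, aeval τ P.divX, ?_⟩
    conv_lhs => rw [← Polynomial.X_mul_divX_add P, map_add, map_mul, aeval_X, aeval_C]
    rw [add_comm]
  have hs : Function.Surjective (algebraMap k (D ⧸ I)) := by
    intro z
    obtain ⟨d, rfl⟩ := Ideal.Quotient.mk_surjective z
    obtain ⟨c, d', rfl⟩ := hdec d
    refine ⟨c, ?_⟩
    rw [map_add, map_mul, Ideal.Quotient.eq_zero_iff_mem.2 hτ, zero_mul, add_zero]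
    rfl
  refine ⟨le_antisymm (fun d hd => ?_) ((Ideal.span_singleton_le_iff_mem _).2 hτ), ?_, hs⟩
  · obtain ⟨c, d', rfl⟩ := hdec d
    have hc : algebraMap k D c ∈ I := by
      have := sub_mem hd (Ideal.mul_mem_right d' I hτ)
      rwa [add_sub_cancel_right] at this
    rw [show c = 0 by
      by_contra h
      exact ‹I.IsPrime›.ne_top (Ideal.eq_top_of_isUnit_mem _ hc ((Ne.isUnit h).map _)), map_zero, zero_add]
    exact Ideal.mem_span_singleton.2 (dvd_mul_right _ _)
  · haveI : Nontrivial (D ⧸ I) := Ideal.Quotient.nontrivial_iff.2 ‹I.IsPrime›.ne_top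
    exact Ideal.Quotient.maximal_of_isField I
      ((RingEquiv.ofBijective (algebraMap k (D ⧸ I)) ⟨(algebraMap k (D ⧸ I)).injective, hs⟩).symm.toMulEquiv.isField (Field.toIsField k))

variable {B : Type u} [CommRing B] [Algebra k B] [Algebra D B] [IsScalarTower k D B]
  [Algebra.FiniteType k B] [Module.Flat D B] {t : B} (ht : t = algebraMap D B τ)
  (hsm : Algebra.Smooth k (B ⧸ Ideal.span {t}))

include ht hsm

theorem smooth : Algebra.Smooth D B := by
  haveI := noetherian_D e he
  haveI : Algebra.FiniteType D B := Algebra.FiniteType.of_restrictScalars_finiteType k D B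
  haveI : Algebra.FinitePresentation D B := Algebra.FinitePresentation.of_finiteType.1 inferInstance
  refine Algebra.Smooth.of_formallySmooth_fiber fun I _ => ?_
  obtain ⟨hI, hImax, hs⟩ := eq_span_of_isPrime e he I
  haveI := hImax
  have hb := I.bijective_algebraMap_quotient_residueField
  have hk : Function.Surjective (algebraMap k I.ResidueField) := by
    rw [IsScalarTower.algebraMap_eq k (D ⧸ I) I.ResidueField]
    exact hb.2.comp hs
  haveI : Algebra.FormallyUnramified k I.ResidueField :=
    Algebra.FormallyUnramified.of_surjective (Algebra.ofId k I.ResidueField) hk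
  let e₁ : (I.Fiber B) ≃ₐ[D] (D ⧸ I) ⊗[D] B :=
    Algebra.TensorProduct.congr (AlgEquiv.ofBijective (IsScalarTower.toAlgHom D (D ⧸ I) I.ResidueField) hb).symm AlgEquiv.refl
  let e₂ : (D ⧸ I) ⊗[D] B ≃ₐ[D] B ⧸ I.map (algebraMap D B) :=
    ((Algebra.TensorProduct.quotIdealMapEquivQuotTensor B I).restrictScalars D).symm
  have hmap : I.map (algebraMap D B) = Ideal.span {t} := by
    rw [hI, Ideal.map_span, Set.image_singleton, ht]
  let e₃ := (((e₁.trans e₂).restrictScalars k).trans (Ideal.quotientEquivAlgOfEq k hmap))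
  haveI := hsm
  haveI : Algebra.FormallySmooth k (I.Fiber B) := Algebra.FormallySmooth.of_equiv e₃.symm
  exact Algebra.FormallySmooth.of_restrictScalars k I.ResidueField (I.Fiber B)

variable (n) in
theorem exists_functional :
    ∃ L : (B ⧸ Ideal.span {t ^ n}) ⊗[B] Ω[B⁄k] →ₗ[B ⧸ Ideal.span {t ^ n}] (B ⧸ Ideal.span {t ^ n}),
      L ((1 : B ⧸ Ideal.span {t ^ n}) ⊗ₜ[B] KaehlerDifferential.D k B t) = 1 := by
  haveI := smooth e he ht hsm
  set S := B ⧸ Ideal.span {t ^ n}
  let mk : B →+* S := Ideal.Quotient.mk _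
  have htn : mk t ^ n = 0 := by
    rw [← map_pow]
    exact Ideal.Quotient.eq_zero_iff_mem.2 (Ideal.mem_span_singleton_self _)
  let g : k[X] →ₐ[k] TrivSqZeroExt S S := aeval (TrivSqZeroExt.inl (mk t) + TrivSqZeroExt.inr 1)
  have hg : ∀ a ∈ Ideal.span {(X : k[X]) ^ (n + 1)}, g a = 0 := by
    intro a ha
    obtain ⟨q, rfl⟩ := Ideal.mem_span_singleton.1 ha
    rw [map_mul, map_pow, aeval_X]
    refine mul_eq_zero_of_left (TrivSqZeroExt.ext ?_ ?_) _
    · simp only [TrivSqZeroExt.fst_pow, TrivSqZeroExt.fst_add, TrivSqZeroExt.fst_inl, TrivSqZeroExt.fst_inr,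
        add_zero, TrivSqZeroExt.fst_zero]
      rw [pow_succ, htn, zero_mul]
    · simp only [TrivSqZeroExt.snd_pow, TrivSqZeroExt.fst_add, TrivSqZeroExt.fst_inl, TrivSqZeroExt.fst_inr,
        TrivSqZeroExt.snd_add, TrivSqZeroExt.snd_inl, TrivSqZeroExt.snd_inr, zero_add, add_zero,
        TrivSqZeroExt.snd_zero, Nat.add_sub_cancel, Nat.pred_succ]
      rw [htn, zero_smul, smul_zero]
  let ψ : D →ₐ[k] TrivSqZeroExt S S := (Ideal.Quotient.liftₐ _ g hg).comp e.symm.toAlgHom
  have hψ : ∀ P : k[X], ψ (aeval τ P) = g P := fun P => by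
    rw [← aeval_eq e he]
    change Ideal.Quotient.liftₐ _ g hg (e.symm (e _)) = g P
    rw [AlgEquiv.symm_apply_apply]
    rfl
  letI : Algebra D (TrivSqZeroExt S S) := ψ.toRingHom.toAlgebra
  let π : TrivSqZeroExt S S →ₐ[D] S :=
    { toRingHom := (TrivSqZeroExt.fstHom k S S).toRingHom
      commutes' := fun d => by
        obtain ⟨P, rfl⟩ := exists_aeval e he d
        change (TrivSqZeroExt.fstHom k S S) (ψ (aeval τ P)) = algebraMap D S (aeval τ P)
        rw [hψ, ← aeval_algHom_apply, ← IsScalarTower.toAlgHom_apply k D S, ← aeval_algHom_apply]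
        congr 2
        simp only [TrivSqZeroExt.fstHom_apply, TrivSqZeroExt.fst_add, TrivSqZeroExt.fst_inl, TrivSqZeroExt.fst_inr,
          add_zero, IsScalarTower.toAlgHom_apply, ht]
        rfl }
  have hπ : Function.Surjective π := fun s => ⟨TrivSqZeroExt.inl s, TrivSqZeroExt.fst_inl S s⟩
  have hnil : IsNilpotent (RingHom.ker (π : TrivSqZeroExt S S →+* S)) := by
    refine ⟨2, ?_⟩
    rw [Submodule.pow_succ, Submodule.pow_one, Submodule.zero_eq_bot, eq_bot_iff]
    refine Ideal.mul_le.2 fun x hx y hy => ?_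
    have hx' : x.fst = 0 := hx
    have hy' : y.fst = 0 := hy
    exact TrivSqZeroExt.ext (by simp [hx', hy']) (by simp [hx', hy'])
  let Φ := Algebra.FormallySmooth.liftOfSurjective (Ideal.Quotient.mkₐ D (Ideal.span {t ^ n})) π hπ hnil
  have hfst : ∀ b, (Φ b).fst = mk b := fun b => Algebra.FormallySmooth.liftOfSurjective_apply _ π hπ hnil b
  have hk : ∀ c : k, (Φ (algebraMap k B c)).snd = 0 := fun c => by
    rw [IsScalarTower.algebraMap_apply k D B, AlgHom.commutes]
    change (ψ (algebraMap k D c)).snd = 0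
    rw [ψ.commutes]
    simp [TrivSqZeroExt.algebraMap_eq_inl']
  let δ : Derivation k B S := Derivation.mk'
    { toFun := fun b => (Φ b).snd
      map_add' := fun a b => by rw [map_add, TrivSqZeroExt.snd_add]
      map_smul' := fun c b => by
        rw [Algebra.smul_def, map_mul, TrivSqZeroExt.snd_mul, hk, hfst, RingHom.id_apply]
        simp only [smul_zero, add_zero]
        rw [show mk (algebraMap k B c) = algebraMap k S c from rfl, algebraMap_smul] }
    (fun a b => by
      change (Φ (a * b)).snd = a • (Φ b).snd + b • (Φ a).snd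
      rw [map_mul, TrivSqZeroExt.snd_mul, hfst, hfst, op_smul_eq_smul]
      rfl)
  refine ⟨δ.liftKaehlerDifferential.liftBaseChange S, ?_⟩
  rw [LinearMap.liftBaseChange_tmul, Derivation.liftKaehlerDifferential_comp_D, one_smul]
  change (Φ t).snd = 1
  rw [show Φ t = ψ τ from (congrArg Φ ht).trans (Φ.commutes τ), show τ = aeval τ (X : k[X]) from (aeval_X τ).symm, hψ, aeval_X]
  simp

omit hsm [Algebra.FiniteType k B] [Module.Flat D B] in
theorem ker_map :
    LinearMap.ker (KaehlerDifferential.map k D B B) = Submodule.span B {KaehlerDifferential.D k B t} := by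
  rw [(KaehlerDifferential.exact_mapBaseChange_map k D B).linearMap_ker_eq]
  refine le_antisymm ?_ ((Submodule.span_singleton_le_iff_mem _ _).2 ⟨1 ⊗ₜ KaehlerDifferential.D k D τ, ?_⟩)
  · rintro _ ⟨z, rfl⟩
    induction z using TensorProduct.induction_on with
    | zero => simp
    | add a b ha hb => rw [map_add]; exact add_mem ha hb
    | tmul b w =>
      rw [KaehlerDifferential.mapBaseChange_tmul]
      refine Submodule.smul_mem _ b ?_
      have hw : w ∈ Submodule.span D (Set.range (KaehlerDifferential.D k D)) := by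
        rw [KaehlerDifferential.span_range_derivation]; trivial
      induction hw using Submodule.span_induction with
      | mem x hx =>
        obtain ⟨d, rfl⟩ := hx
        obtain ⟨P, rfl⟩ := exists_aeval e he d
        rw [KaehlerDifferential.map_D, ← IsScalarTower.toAlgHom_apply k D B, ← aeval_algHom_apply,
          IsScalarTower.toAlgHom_apply, ← ht, Derivation.map_aeval]
        exact Submodule.smul_mem _ _ (Submodule.mem_span_singleton_self _)
      | zero => simp
      | add a b _ _ ha hb => rw [map_add]; exact add_mem ha hb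
      | smul d a _ ha => rw [map_smul, ← algebraMap_smul B d]; exact Submodule.smul_mem _ _ ha
  · rw [KaehlerDifferential.mapBaseChange_tmul, KaehlerDifferential.map_D, one_smul, ← ht]

omit hsm [Algebra.FiniteType k B] [Module.Flat D B] in
theorem exact_baseChange (S : Type u) [CommRing S] [Algebra B S] :
    Function.Exact (LinearMap.toSpanSingleton S (S ⊗[B] Ω[B⁄k]) ((1 : S) ⊗ₜ[B] KaehlerDifferential.D k B t))
      (LinearMap.baseChange S (KaehlerDifferential.map k D B B)) ∧
    Function.Surjective (LinearMap.baseChange S (KaehlerDifferential.map k D B B)) := by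
  have hex : Function.Exact (LinearMap.toSpanSingleton B Ω[B⁄k] (KaehlerDifferential.D k B t))
      (KaehlerDifferential.map k D B B) := by
    rw [LinearMap.exact_iff, ker_map e he ht, LinearMap.range_toSpanSingleton]
  have hsj : Function.Surjective (KaehlerDifferential.map k D B B) := KaehlerDifferential.map_surjective k D B
  refine ⟨?_, ?_⟩
  · intro z
    refine (lTensor_exact S hex hsj z).trans ?_
    constructor
    · rintro ⟨y, rfl⟩
      refine ⟨TensorProduct.rid B S y, ?_⟩
      induction y using TensorProduct.induction_on with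
      | zero => simp
      | add a b ha hb => simp only [map_add, ha, hb]
      | tmul s b => simp [TensorProduct.smul_tmul', TensorProduct.tmul_smul, smul_comm b s]
    · rintro ⟨s, rfl⟩
      exact ⟨s ⊗ₜ 1, by simp [TensorProduct.smul_tmul']⟩
  · exact LinearMap.lTensor_surjective S hsj

end Groth.L15.TruncDeform
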