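import Mathlib.RepresentationTheory.FDRep
import Mathlib.RepresentationTheory.Irreducible
import Mathlib.RepresentationTheory.Semisimple
import Mathlib.RepresentationTheory.Invariants
import Mathlib.LinearAlgebra.Trace
import Mathlib.LinearAlgebra.Eigenspace.Triangularizable
import Mathlib.RingTheory.IntegralDomain
import Mathlib.GroupTheory.Index
import Mathlib.FieldTheory.IsAlgClosed.Basic

/-!
Weight-one representations of central extensions of finite groups with nondegenerate commutator pairing.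
-/

set_option autoImplicit false

noncomputable section

universe u v w

namespace Groth.L15.WeightOne

open scoped commutatorElement

variable {k : Type u} [Field k] {Γ : Type v} [Group Γ]

/-- The central units act by scalars. -/
def WOne {V : Type w} [AddCommGroup V] [Module k V] (ι : kˣ →* Γ) (ρ : Representation k Γ V) : Prop :=
  ∀ (z : kˣ) (v : V), ρ (ι z) v = (z : k) • v

theorem natCast_ne_zero_of_coprime {N : ℕ} (hN : N ≠ 0) (h : N.Coprime (ringExpChar k)) : (N : k) ≠ 0 := by
  intro h0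
  have hd : ringChar k ∣ N := (ringChar.spec k N).1 h0
  rcases CharP.char_is_prime_or_zero k (ringChar k) with hp | hp
  · rw [show ringExpChar k = ringChar k from max_eq_left hp.one_le, Nat.coprime_comm,
      Nat.Prime.coprime_iff_not_dvd hp] at h
    exact h hd
  · exact hN (by simpa [hp] using hd)

theorem card_hom_le (H : Type v) [Group H] [Finite H] :
    Finite (H →* kˣ) ∧ Nat.card (H →* kˣ) ≤ Nat.card H := by
  classical
  have : Fintype H := Fintype.ofFinite H
  have li : LinearIndependent k (fun f : H →* kˣ => (fun h => (f h : k) : H → k)) := by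
    refine ((linearIndependent_monoidHom H k).comp (fun f : H →* kˣ => (Units.coeHom k).comp f) ?_)
    intro f g h
    ext x
    exact DFunLike.congr_fun h x
  have hfin : Finite (H →* kˣ) := li.finite
  refine ⟨hfin, ?_⟩
  have := Fintype.ofFinite (H →* kˣ)
  simpa [Nat.card_eq_fintype_card, Module.finrank_pi] using li.fintype_card_le_finrank

section

variable {ι : kˣ →* Γ} (hι : Function.Injective ι) (hcent : ι.range = Subgroup.center Γ)
  (hcomm : commutator Γ ≤ ι.range)

include hcent in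
theorem iota_comm (z : kˣ) (x : Γ) : ι z * x = x * ι z :=
  (Subgroup.mem_center_iff.1 (hcent ▸ MonoidHom.mem_range.2 ⟨z, rfl⟩ : ι z ∈ Subgroup.center Γ) x).symm

include hcomm in
theorem exists_pair (γ δ : Γ) : ∃ z, γ * δ = ι z * δ * γ := by
  have h : ⁅γ, δ⁆ ∈ ι.range := hcomm (by
    rw [commutator_def]; exact Subgroup.commutator_mem_commutator (Subgroup.mem_top γ) (Subgroup.mem_top δ))
  obtain ⟨z, hz⟩ := MonoidHom.mem_range.1 h
  exact ⟨z, by rw [hz, commutatorElement_def]; group⟩

include hι hcent in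
theorem pair_mul {γ a b : Γ} {za zb z : kˣ} (ha : γ * a = ι za * a * γ) (hb : γ * b = ι zb * b * γ)
    (h : γ * (a * b) = ι z * (a * b) * γ) : z = za * zb := by
  refine hι (mul_right_cancel (b := a * b * γ) ?_)
  rw [← mul_assoc (ι z), ← h, ← mul_assoc γ, ha, mul_assoc (ι za * a), hb, map_mul]
  simp only [mul_assoc]
  rw [← mul_assoc a (ι zb), ← iota_comm hcent zb a, mul_assoc]

include hι hcent in
theorem pair_mul' {δ a b : Γ} {za zb z : kˣ} (ha : a * δ = ι za * δ * a) (hb : b * δ = ι zb * δ * b)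
    (h : a * b * δ = ι z * δ * (a * b)) : z = za * zb := by
  refine hι (mul_right_cancel (b := δ * (a * b)) ?_)
  rw [← mul_assoc (ι z), ← h, mul_assoc a, hb, map_mul]
  simp only [← mul_assoc]
  rw [← iota_comm hcent zb a, mul_assoc (ι zb), ha]
  simp only [← mul_assoc]
  rw [iota_comm hcent zb (ι za)]

variable [Finite (Γ ⧸ Subgroup.center Γ)]

/-- Sum over a transversal of the centre of the conjugates of a linear map. -/
def av {V : Type*} [AddCommGroup V] [Module k V] {W : Type*} [AddCommGroup W] [Module k W]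
    (ρ : Representation k Γ V) (σ : Representation k Γ W) (T : V →ₗ[k] W) : V →ₗ[k] W :=
  letI := Fintype.ofFinite (Γ ⧸ Subgroup.center Γ)
  ∑ y : Γ ⧸ Subgroup.center Γ, σ y.out ∘ₗ T ∘ₗ ρ y.out⁻¹

variable {V : Type*} [AddCommGroup V] [Module k V] {ρ : Representation k Γ V}
  {W : Type*} [AddCommGroup W] [Module k W] {σ : Representation k Γ W}

theorem inv_apply (γ : Γ) (v : V) : ρ γ⁻¹ (ρ γ v) = v := by
  rw [← Module.End.mul_apply, ← map_mul, inv_mul_cancel, map_one, Module.End.one_apply]

theorem apply_inv (γ : Γ) (v : V) : ρ γ (ρ γ⁻¹ v) = v := by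
  rw [← Module.End.mul_apply, ← map_mul, mul_inv_cancel, map_one, Module.End.one_apply]

theorem apply_mul (γ δ : Γ) (v : V) : ρ (γ * δ) v = ρ γ (ρ δ v) := by
  rw [map_mul, Module.End.mul_apply]

include hcent in
theorem av_comm (hρ : WOne ι ρ) (hσ : WOne ι σ) (T : V →ₗ[k] W) (γ : Γ) (v : V) :
    σ γ (av ρ σ T v) = av ρ σ T (ρ γ v) := by
  classical
  let _ := Fintype.ofFinite (Γ ⧸ Subgroup.center Γ)
  simp only [av, LinearMap.sum_apply, map_sum, LinearMap.comp_apply]
  refine Fintype.sum_equiv (Equiv.mulLeft (γ : Γ ⧸ Subgroup.center Γ)) _ _ fun y => ?_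
  set y' := Equiv.mulLeft (γ : Γ ⧸ Subgroup.center Γ) y with hy'
  have hmem : y'.out⁻¹ * (γ * y.out) ∈ ι.range := by
    rw [hcent]
    refine QuotientGroup.eq.1 ?_
    rw [QuotientGroup.out_eq', QuotientGroup.mk_mul, QuotientGroup.out_eq', hy', Equiv.coe_mulLeft]
  obtain ⟨z, hz⟩ := MonoidHom.mem_range.1 hmem
  have e1 : γ * y.out = ι z * y'.out := by rw [iota_comm hcent, hz, mul_inv_cancel_left]
  have e2 : y.out⁻¹ = ι z⁻¹ * y'.out⁻¹ * γ := by
    rw [show y.out = γ⁻¹ * (ι z * y'.out) by rw [← e1, inv_mul_cancel_left], iota_comm hcent, map_inv]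
    group
  rw [← apply_mul, e1, e2, apply_mul, apply_mul, apply_mul, hσ, hρ, map_smul, map_smul, smul_smul, Units.mul_inv,
    one_smul]

include hcent hcomm in
theorem av_self_eq_zero (hρ : WOne ι ρ) [Nontrivial V] (δ : Γ) (hδ : δ ∉ Subgroup.center Γ) :
    av ρ ρ (ρ δ) = 0 := by
  classical
  let _ := Fintype.ofFinite (Γ ⧸ Subgroup.center Γ)
  choose c hc using fun y : Γ ⧸ Subgroup.center Γ => exists_pair hcomm y.out δ
  set S : k := ∑ y, (c y : k)
  have hS : av ρ ρ (ρ δ) = S • ρ δ := by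
    refine LinearMap.ext fun v => ?_
    simp only [av, S, LinearMap.sum_apply, LinearMap.comp_apply, LinearMap.smul_apply, Finset.sum_smul]
    refine Finset.sum_congr rfl fun y _ => ?_
    rw [← apply_mul, hc, apply_mul, apply_mul, hρ, apply_inv]
  obtain ⟨γ, hγ⟩ : ∃ γ, γ * δ ≠ δ * γ := by
    simpa only [Subgroup.mem_center_iff, not_forall] using hδ
  obtain ⟨e, he⟩ := exists_pair hcomm γ δ
  obtain ⟨v, hv⟩ := exists_ne (0 : V)
  have h := av_comm hcent hρ hρ (ρ δ) γ v
  rw [hS, LinearMap.smul_apply, LinearMap.smul_apply, map_smul, ← apply_mul, he, apply_mul, apply_mul, hρ] at h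
  rw [hS]
  by_contra hne
  have hS0 : S ≠ 0 := fun h0 => hne (by rw [h0, zero_smul])
  have hw : ρ δ (ρ γ v) ≠ 0 := fun h0 => hv (by
    rw [← inv_apply (ρ := ρ) γ v, ← inv_apply (ρ := ρ) δ (ρ γ v), h0, map_zero, map_zero])
  have h1 : ((e : k) - 1) • ρ δ (ρ γ v) = 0 := by
    rw [sub_smul, one_smul, smul_right_injective V hS0 h, sub_self]
  refine hγ ?_
  have : e = 1 := Units.ext (sub_eq_zero.1 ((smul_eq_zero.1 h1).resolve_right hw))
  rw [he, this, map_one, one_mul]

variable (hK : (Nat.card (Γ ⧸ Subgroup.center Γ) : k) ≠ 0)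

theorem av_one : av ρ ρ (ρ 1) = (Nat.card (Γ ⧸ Subgroup.center Γ) : k) • LinearMap.id := by
  refine LinearMap.ext fun v => ?_
  let _ := Fintype.ofFinite (Γ ⧸ Subgroup.center Γ)
  simp [av, LinearMap.sum_apply, Nat.cast_smul_eq_nsmul, apply_inv]

include hcent hcomm hK in
theorem linearIndependent_lifts (hρ : WOne ι ρ) [Nontrivial V] (t : Γ ⧸ Subgroup.center Γ → Γ)
    (ht : Function.Injective fun y => (t y : Γ ⧸ Subgroup.center Γ)) :
    LinearIndependent k (fun y => ρ (t y)) := by
  classical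
  let _ := Fintype.ofFinite (Γ ⧸ Subgroup.center Γ)
  rw [Fintype.linearIndependent_iff]
  intro a ha x₀
  have hav : ∑ y, a y • av ρ ρ (ρ (t y * (t x₀)⁻¹)) = 0 := by
    have h0 : ∑ y, a y • ρ (t y * (t x₀)⁻¹) = 0 := by
      refine LinearMap.ext fun v => ?_
      simpa [LinearMap.sum_apply] using LinearMap.congr_fun ha (ρ (t x₀)⁻¹ v)
    refine LinearMap.ext fun v => ?_
    have h1 : ∀ z : Γ ⧸ Subgroup.center Γ,
        ρ z.out ((∑ y, a y • ρ (t y * (t x₀)⁻¹)) (ρ z.out⁻¹ v)) = 0 := fun z => by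
      rw [h0, LinearMap.zero_apply, map_zero]
    simp only [LinearMap.sum_apply, LinearMap.smul_apply, map_sum, map_smul] at h1
    simp only [av, LinearMap.sum_apply, LinearMap.smul_apply, LinearMap.comp_apply, Finset.smul_sum]
    rw [Finset.sum_comm, Finset.sum_congr rfl fun z _ => h1 z, Finset.sum_const_zero, LinearMap.zero_apply]
  rw [Finset.sum_eq_single x₀ (fun y _ hy => by
    rw [av_self_eq_zero hcent hcomm hρ _ fun hm => hy (ht (mul_inv_eq_one.1 (by
      rw [← QuotientGroup.mk_inv, ← QuotientGroup.mk_mul]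
      exact (QuotientGroup.eq_one_iff _).2 hm))), smul_zero]) (by simp), mul_inv_cancel, av_one,
    smul_smul] at hav
  obtain ⟨v, hv⟩ := exists_ne (0 : V)
  have := LinearMap.congr_fun hav v
  simp only [LinearMap.smul_apply, LinearMap.id_apply, LinearMap.zero_apply, smul_eq_zero, mul_eq_zero] at this
  exact (this.resolve_right hv).resolve_right hK

include hcent hcomm hK in
theorem card_le_finrank_sq (hρ : WOne ι ρ) [Nontrivial V] [FiniteDimensional k V] :
    Nat.card (Γ ⧸ Subgroup.center Γ) ≤ Module.finrank k V ^ 2 := by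
  let _ := Fintype.ofFinite (Γ ⧸ Subgroup.center Γ)
  have h := (linearIndependent_lifts hcent hcomm hK hρ (fun y : Γ ⧸ Subgroup.center Γ => y.out) fun a b hab => by
    simpa using hab).fintype_card_le_finrank
  rwa [Module.finrank_linearMap, ← sq, ← Nat.card_eq_fintype_card] at h

theorem nontrivial_of_irreducible [Representation.IsIrreducible ρ] : Nontrivial V := by
  by_contra h
  rw [not_nontrivial_iff_subsingleton] at h
  exact (bot_ne_top : (⊥ : Subrepresentation ρ) ≠ ⊤) (Subrepresentation.toSubmodule_injective (Subsingleton.elim _ _))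

theorem exists_eq_smul_of_commute [IsAlgClosed k] [FiniteDimensional k V] [Representation.IsIrreducible ρ]
    (T : V →ₗ[k] V) (hT : ∀ γ v, ρ γ (T v) = T (ρ γ v)) : ∃ c : k, ∀ v, T v = c • v := by
  have := nontrivial_of_irreducible (ρ := ρ)
  obtain ⟨c, hc⟩ := Module.End.exists_eigenvalue T
  refine ⟨c, fun v => ?_⟩
  let U : Subrepresentation ρ := ⟨Module.End.eigenspace T c, fun γ x hx => by
    rw [Module.End.mem_eigenspace_iff] at hx ⊢
    rw [← hT, hx, map_smul]⟩
  rcases eq_bot_or_eq_top U with h | h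
  · exact absurd (congrArg Subrepresentation.toSubmodule h) hc
  · have : v ∈ U.toSubmodule := by rw [h]; exact Submodule.mem_top
    exact Module.End.mem_eigenspace_iff.1 this

include hcent hcomm hK in
theorem finrank_sq [IsAlgClosed k] [FiniteDimensional k V] [Representation.IsIrreducible ρ] (hρ : WOne ι ρ) :
    Module.finrank k V ^ 2 = Nat.card (Γ ⧸ Subgroup.center Γ) := by
  classical
  let _ := Fintype.ofFinite (Γ ⧸ Subgroup.center Γ)
  have := nontrivial_of_irreducible (ρ := ρ)
  refine le_antisymm ?_ (card_le_finrank_sq hcent hcomm hK hρ)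
  set N : k := (Nat.card (Γ ⧸ Subgroup.center Γ) : k) with hNdef
  have hav : ∀ (φ : V →ₗ[k] k) (v : V), ∃ c : k, (∀ x, av ρ ρ (φ.smulRight v) x = c • x) ∧
      c * (Module.finrank k V : k) = N * φ v := fun φ v => by
    obtain ⟨c, hc⟩ := exists_eq_smul_of_commute _ (av_comm hcent hρ hρ (φ.smulRight v))
    refine ⟨c, hc, ?_⟩
    have e : av ρ ρ (φ.smulRight v) = c • LinearMap.id := LinearMap.ext hc
    have h := congrArg (LinearMap.trace k V) e
    rw [map_smul, LinearMap.trace_id, smul_eq_mul, av, map_sum] at h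
    rw [← h]
    refine (Finset.sum_congr rfl fun y _ => ?_).trans (by rw [Finset.sum_const, nsmul_eq_mul, hNdef,
      Finset.card_univ, Nat.card_eq_fintype_card])
    rw [← LinearMap.comp_assoc, LinearMap.trace_comp_comm', ← LinearMap.comp_assoc, ← Module.End.mul_eq_comp (ρ _),
      ← map_mul, inv_mul_cancel, map_one, Module.End.one_eq_id, LinearMap.id_comp, LinearMap.trace_smulRight]
  have hd : (Module.finrank k V : k) ≠ 0 := fun h0 => by
    obtain ⟨v, hv⟩ := exists_ne (0 : V)
    obtain ⟨φ, hφ⟩ := Module.Projective.exists_dual_eq_one k hv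
    obtain ⟨c, -, hc⟩ := hav φ v
    rw [h0, mul_zero, hφ, mul_one] at hc
    exact hK hc.symm
  let Φ : (V →ₗ[k] V) →ₗ[k] (Γ ⧸ Subgroup.center Γ → k) :=
    LinearMap.pi fun y : Γ ⧸ Subgroup.center Γ => LinearMap.trace k V ∘ₗ LinearMap.lcomp k V (ρ y.out)
  have hinj : Function.Injective Φ := by
    rw [injective_iff_map_eq_zero]
    intro T hT
    refine LinearMap.ext fun w => (Module.forall_dual_apply_eq_zero_iff k _).1 fun φ => ?_
    let R : V →ₗ[k] V := ∑ y : Γ ⧸ Subgroup.center Γ, φ (ρ y.out⁻¹ w) • (T ∘ₗ ρ y.out)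
    have hR0 : LinearMap.trace k V R = 0 := by
      simp only [R, map_sum, map_smul]
      refine Finset.sum_eq_zero fun y _ => ?_
      rw [show LinearMap.trace k V (T ∘ₗ ρ y.out) = Φ T y from rfl, hT, Pi.zero_apply, smul_zero]
    have hR : R = (N / (Module.finrank k V : k)) • φ.smulRight (T w) := by
      refine LinearMap.ext fun v => ?_
      obtain ⟨c, hc, hcd⟩ := hav φ v
      have h := congrArg T (hc w)
      simp only [av, LinearMap.sum_apply, LinearMap.comp_apply, LinearMap.smulRight_apply, map_sum, map_smul] at h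
      simp only [R, LinearMap.sum_apply, LinearMap.smul_apply, LinearMap.comp_apply, LinearMap.smulRight_apply]
      rw [h, smul_smul]
      congr 1
      field_simp
      linear_combination hcd
    rw [hR, map_smul, LinearMap.trace_smulRight, smul_eq_mul, mul_eq_zero] at hR0
    exact hR0.resolve_left (div_ne_zero hK hd)
  have h := LinearMap.finrank_le_finrank_of_injective hinj
  rwa [Module.finrank_linearMap, ← sq, Module.finrank_pi, ← Nat.card_eq_fintype_card] at h

/-- Functions of weight one. -/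
def funW (ι : kˣ →* Γ) : Submodule k (Γ → k) where
  carrier := {f | ∀ z γ, f (ι z * γ) = (z : k) * f γ}
  zero_mem' := by simp
  add_mem' := fun hf hg z γ => by rw [Pi.add_apply, Pi.add_apply, hf, hg, mul_add]
  smul_mem' := fun r f hf z γ => by rw [Pi.smul_apply, Pi.smul_apply, hf, smul_eq_mul, smul_eq_mul]; ring

/-- Right translation on functions of weight one. -/
def funRep (ι : kˣ →* Γ) : Representation k Γ (funW ι) where
  toFun γ :=
    { toFun := fun f => ⟨fun x => (f : Γ → k) (x * γ), fun z x => by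
        show (f : Γ → k) (ι z * x * γ) = _
        rw [mul_assoc]; exact f.2 z _⟩
      map_add' := fun f g => rfl
      map_smul' := fun r f => rfl }
  map_one' := by ext f x; simp
  map_mul' γ δ := by
    refine LinearMap.ext fun f => Subtype.ext (funext fun x => ?_)
    show (f : Γ → k) (x * (γ * δ)) = (f : Γ → k) (x * γ * δ)
    rw [mul_assoc]

include hcent in
theorem finiteDimensional_funW : FiniteDimensional k (funW ι) := by
  let res : funW ι →ₗ[k] (Γ ⧸ Subgroup.center Γ → k) :=
    LinearMap.pi fun y => (LinearMap.proj y.out).comp (funW ι).subtype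
  refine FiniteDimensional.of_injective res ?_
  rw [injective_iff_map_eq_zero]
  intro f hf
  refine Subtype.ext (funext fun γ => ?_)
  have hmem : ((γ : Γ ⧸ Subgroup.center Γ)).out⁻¹ * γ ∈ ι.range := by
    rw [hcent]; exact QuotientGroup.eq.1 (QuotientGroup.out_eq' _)
  obtain ⟨z, hz⟩ := MonoidHom.mem_range.1 hmem
  have e : γ = ι z * ((γ : Γ ⧸ Subgroup.center Γ)).out := by rw [iota_comm hcent, hz, mul_inv_cancel_left]
  rw [e, f.2, show (f : Γ → k) ((γ : Γ ⧸ Subgroup.center Γ)).out = 0 from congrFun hf _, mul_zero]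
  rfl

include hι hcent in
theorem exists_irreducible : ∃ U : Subrepresentation (funRep ι),
    FiniteDimensional k U.toSubmodule ∧ Representation.IsIrreducible (V := U.toSubmodule) U.toRepresentation ∧
      (∀ (z : kˣ) (v : U.toSubmodule), U.toRepresentation (ι z) v = (z : k) • v) := by
  classical
  have := finiteDimensional_funW hcent
  have hne : (⊤ : Subrepresentation (funRep ι)).toSubmodule ≠ ⊥ := fun h => by
    let f : Γ → k := fun γ => if h : γ ∈ ι.range then (h.choose : k) else 0
    have hf : f ∈ funW ι := fun z γ => by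
      by_cases hγ : γ ∈ ι.range
      · obtain ⟨w, rfl⟩ := MonoidHom.mem_range.1 hγ
        have h2 : ι z * ι w ∈ ι.range := ⟨z * w, map_mul _ _ _⟩
        simp only [f, dif_pos h2, dif_pos hγ]
        rw [hι (h2.choose_spec.trans (map_mul ι z w).symm), hι hγ.choose_spec, Units.val_mul]
      · have h2 : ι z * γ ∉ ι.range := fun h => hγ (by
          simpa using ι.range.mul_mem (ι.range.inv_mem ⟨z, rfl⟩) h)
        simp only [f]
        rw [dif_neg h2, dif_neg hγ, mul_zero]
    have hf1 : f 1 = 1 := by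
      have h1 : (1 : Γ) ∈ ι.range := one_mem _
      simp only [f, dif_pos h1, hι (h1.choose_spec.trans (map_one ι).symm), Units.val_one]
    have : (⟨f, hf⟩ : funW ι) ∈ (⊥ : Submodule k (funW ι)) := h ▸ Submodule.mem_top
    rw [Submodule.mem_bot] at this
    exact one_ne_zero (hf1.symm.trans (congrFun (congrArg Subtype.val this) 1))
  have hex : ∃ d, ∃ U : Subrepresentation (funRep ι), U.toSubmodule ≠ ⊥ ∧ Module.finrank k U.toSubmodule = d :=
    ⟨_, ⊤, hne, rfl⟩
  obtain ⟨U, hU, hUd⟩ := Nat.find_spec hex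
  refine ⟨U, inferInstance, ?_, fun z v => Subtype.ext (Subtype.ext (funext fun x => ?_))⟩
  · have : Nontrivial (Subrepresentation U.toRepresentation) := ⟨⊥, ⊤, fun h => hU (by
      have h2 := congrArg Subrepresentation.toSubmodule h
      refine eq_bot_iff.2 fun x hx => ?_
      have : (⟨x, hx⟩ : U.toSubmodule) ∈ (⊥ : Submodule k U.toSubmodule) := by
        have h3 : (⊥ : Submodule k U.toSubmodule) = ⊤ := h2
        rw [h3]; exact Submodule.mem_top
      simpa using this)⟩
    refine ⟨fun S => ?_⟩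
    by_cases hS : S.toSubmodule = ⊥
    · exact Or.inl (Subrepresentation.toSubmodule_injective hS)
    refine Or.inr (Subrepresentation.toSubmodule_injective ?_)
    let S' : Subrepresentation (funRep ι) := ⟨S.toSubmodule.map U.toSubmodule.subtype, fun γ x hx => by
      obtain ⟨y, hy, rfl⟩ := hx
      exact ⟨_, S.apply_mem_toSubmodule γ hy, rfl⟩⟩
    have hd : Module.finrank k S.toSubmodule = Module.finrank k S'.toSubmodule :=
      (Submodule.equivMapOfInjective _ (Submodule.injective_subtype _) _).finrank_eq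
    have hS' : S'.toSubmodule ≠ ⊥ := fun h => hS (by
      change S.toSubmodule.map U.toSubmodule.subtype = ⊥ at h
      exact le_bot_iff.1 fun x hx => (Submodule.mem_bot k).2 (Subtype.ext ((Submodule.mem_bot k).1 (h ▸ Submodule.mem_map_of_mem (f := U.toSubmodule.subtype) hx))))
    show S.toSubmodule = ⊤
    refine @Submodule.eq_top_of_finrank_eq k U.toSubmodule _ U.toSubmodule.addCommGroup U.toSubmodule.module _ S.toSubmodule (le_antisymm (Submodule.finrank_le _) ?_)
    rw [hd, hUd]
    exact Nat.find_min' hex ⟨S', hS', rfl⟩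
  · show ((v : funW ι) : Γ → k) (x * ι z) = (z : k) * ((v : funW ι) : Γ → k) x
    rw [← iota_comm hcent]
    exact (v : funW ι).2 z x

include hcent hcomm hK in
theorem nonempty_equiv [Representation.IsIrreducible ρ] [Representation.IsIrreducible σ]
    (hρ : WOne ι ρ) (hσ : WOne ι σ) : Nonempty (Representation.Equiv ρ σ) := by
  classical
  let _ := Fintype.ofFinite (Γ ⧸ Subgroup.center Γ)
  have := nontrivial_of_irreducible (ρ := ρ)
  have := nontrivial_of_irreducible (ρ := σ)
  obtain ⟨T, hT⟩ : ∃ T : V →ₗ[k] W, av ρ σ T ≠ 0 := by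
    by_contra hall
    simp only [not_exists, not_not] at hall
    obtain ⟨w, hw⟩ := exists_ne (0 : W)
    have li := Fintype.linearIndependent_iff.1 (linearIndependent_lifts hcent hcomm hK hρ (fun y : Γ ⧸ Subgroup.center Γ => y.out⁻¹)
      fun a b hab => by simpa using hab)
    have key : ∀ ψ : W →ₗ[k] k, ∀ y : Γ ⧸ Subgroup.center Γ, ψ (σ y.out w) = 0 := fun ψ => by
      refine li _ (LinearMap.ext fun v => (Module.forall_dual_apply_eq_zero_iff k _).1 fun φ => ?_)
      have h := congrArg ψ (LinearMap.congr_fun (hall (φ.smulRight w)) v)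
      simp only [av, LinearMap.sum_apply, LinearMap.comp_apply, LinearMap.smulRight_apply, map_sum, map_smul,
        smul_eq_mul, LinearMap.zero_apply, map_zero] at h
      simp only [LinearMap.sum_apply, LinearMap.smul_apply, map_sum, map_smul, smul_eq_mul]
      rw [← h]
      exact Finset.sum_congr rfl fun y _ => mul_comm _ _
    refine hw ?_
    have h0 := (Module.forall_dual_apply_eq_zero_iff k _).1 fun ψ => key ψ 1
    rw [← inv_apply (ρ := σ) ((1 : Γ ⧸ Subgroup.center Γ)).out w, h0, map_zero]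
  let f : Representation.IntertwiningMap ρ σ :=
    ⟨av ρ σ T, fun γ => LinearMap.ext fun v => (av_comm hcent hρ hσ T γ v).symm⟩
  rcases Representation.IsIrreducible.bijective_or_eq_zero f with h | h
  · exact ⟨f.ofBijective h⟩
  · exact absurd (congrArg Representation.IntertwiningMap.toLinearMap h) hT

include hcent hK in
theorem isSemisimple [FiniteDimensional k W] (hσ : WOne ι σ) : Representation.IsSemisimpleRepresentation σ := by
  classical
  let _ := Fintype.ofFinite (Γ ⧸ Subgroup.center Γ)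
  refine ⟨fun U => ?_⟩
  obtain ⟨p, hp⟩ := LinearMap.exists_leftInverse_of_injective U.toSubmodule.subtype (Submodule.ker_subtype _)
  let P : W →ₗ[k] W := (Nat.card (Γ ⧸ Subgroup.center Γ) : k)⁻¹ • av σ σ (U.toSubmodule.subtype ∘ₗ p)
  have hPmem : ∀ x, P x ∈ U.toSubmodule := fun x => by
    simp only [P, av, LinearMap.smul_apply, LinearMap.sum_apply, LinearMap.comp_apply]
    exact Submodule.smul_mem _ _ (Submodule.sum_mem _ fun y _ => U.apply_mem_toSubmodule _ (Submodule.coe_mem _))
  have hPid : ∀ x ∈ U.toSubmodule, P x = x := fun x hx => by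
    simp only [P, av, LinearMap.smul_apply, LinearMap.sum_apply, LinearMap.comp_apply]
    rw [Finset.sum_congr rfl fun y _ => show σ y.out (U.toSubmodule.subtype (p (σ y.out⁻¹ x))) = x by
      have h := LinearMap.congr_fun hp ⟨σ y.out⁻¹ x, U.apply_mem_toSubmodule _ hx⟩
      simp only [LinearMap.comp_apply, Submodule.coe_subtype, LinearMap.id_apply] at h
      rw [Submodule.coe_subtype, h, apply_inv]]
    rw [Finset.sum_const, ← Nat.cast_smul_eq_nsmul k, Finset.card_univ, ← Nat.card_eq_fintype_card, smul_smul,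
      inv_mul_cancel₀ hK, one_smul]
  let U' : Subrepresentation σ := ⟨LinearMap.ker P, fun γ x hx => by
    rw [LinearMap.mem_ker] at hx ⊢
    simp only [P, LinearMap.smul_apply] at hx ⊢
    rw [← av_comm hcent hσ hσ, ← map_smul, hx, map_zero]⟩
  refine ⟨U', IsCompl.of_eq (Subrepresentation.toSubmodule_injective ?_) (Subrepresentation.toSubmodule_injective ?_)⟩
  · show U.toSubmodule ⊓ LinearMap.ker P = ⊥
    refine eq_bot_iff.2 fun x hx => ?_
    rw [Submodule.mem_bot, ← hPid x hx.1]
    exact LinearMap.mem_ker.1 hx.2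
  · show U.toSubmodule ⊔ LinearMap.ker P = ⊤
    refine eq_top_iff.2 fun x _ => Submodule.mem_sup.2 ⟨P x, hPmem x, x - P x, ?_, add_sub_cancel _ _⟩
    rw [LinearMap.mem_ker, map_sub, hPid _ (hPmem x), sub_self]

include hι hcent hcomm in
theorem exists_character (H : Subgroup Γ) :
    ∃ χ : Γ →* (H →* kˣ), ∀ (γ : Γ) (h : H), γ * (h : Γ) = ι (χ γ h) * h * γ := by
  choose e he using fun γ δ => exists_pair hcomm γ δ
  refine ⟨MonoidHom.mk' (fun γ => MonoidHom.mk' (fun h : H => e γ h) fun a b => ?_) fun a b => ?_, fun γ h => ?_⟩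
  · exact pair_mul hι hcent (he γ a) (he γ b) (by simpa using he γ (a * b : H))
  · ext h
    exact congrArg Units.val (pair_mul' hι hcent (he a h) (he b h) (he (a * b) h))
  · simpa using he γ h

include hι hcent hcomm in
theorem mem_sup_of_commute [IsAlgClosed k] (H : Subgroup Γ) (hH : H ⊓ ι.range = ⊥)
    (hmax : ∀ H' : Subgroup Γ, H' ⊓ ι.range = ⊥ → H ≤ H' → H' = H) (γ : Γ)
    (hγ : ∀ h ∈ H, γ * h = h * γ) : γ ∈ Subgroup.center Γ ⊔ H := by
  classical
  set D := Subgroup.center Γ ⊔ H with hD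
  have hexm : ∃ m, 0 < m ∧ γ ^ m ∈ D :=
    ⟨(Subgroup.center Γ).index, Nat.pos_of_ne_zero (Subgroup.index_ne_zero_of_finite (H := Subgroup.center Γ)),
      (le_sup_left : Subgroup.center Γ ≤ D) (Subgroup.pow_index_mem (Subgroup.center Γ) γ)⟩
  obtain ⟨hm0, hm⟩ := Nat.find_spec hexm
  set m := Nat.find hexm
  rw [hD, ← SetLike.mem_coe, Subgroup.normal_mul] at hm
  obtain ⟨c, hc, h, hh, hch⟩ := hm
  obtain ⟨z, rfl⟩ : c ∈ ι.range := hcent ▸ hc
  obtain ⟨w, hw⟩ := IsAlgClosed.exists_pow_nat_eq ((z⁻¹ : kˣ) : k) hm0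
  have hwne : w ≠ 0 := fun h0 => (z⁻¹).ne_zero (by rw [← hw, h0, zero_pow hm0.ne'])
  set γ' := ι (Units.mk0 w hwne) * γ with hγ'
  have hγ'm : γ' ^ m = h := by
    rw [hγ', (show Commute (ι (Units.mk0 w hwne)) γ from iota_comm hcent _ _).mul_pow, ← hch, ← map_pow,
      show Units.mk0 w hwne ^ m = z⁻¹ from Units.ext (by simpa using hw), map_inv]
    exact inv_mul_cancel_left _ _
  have hc' : ∀ a ∈ H, Commute γ' a := fun a ha =>
    (show Commute (ι (Units.mk0 w hwne)) a from iota_comm hcent _ _).mul_left (hγ a ha)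
  let H' : Subgroup Γ :=
    { carrier := {x | ∃ a ∈ H, ∃ j : ℤ, x = a * γ' ^ j}
      one_mem' := ⟨1, one_mem H, 0, by simp⟩
      mul_mem' := by
        rintro _ _ ⟨a, ha, i, rfl⟩ ⟨b, hb, j, rfl⟩
        exact ⟨a * b, mul_mem ha hb, i + j, by
          rw [zpow_add, mul_assoc, ← mul_assoc (γ' ^ i), ((hc' b hb).zpow_left i).eq]; simp [mul_assoc]⟩
      inv_mem' := by
        rintro _ ⟨a, ha, i, rfl⟩
        exact ⟨a⁻¹, inv_mem ha, -i, by rw [mul_inv_rev, zpow_neg, ((hc' a ha).zpow_left i).inv_inv.eq]⟩ }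
  have hD' : ∀ x ∈ ι.range, x ∈ D := fun x hx => le_sup_left (a := Subgroup.center Γ) (hcent ▸ hx)
  have hγD : ∀ j : ℤ, γ' ^ j ∈ D → (m : ℤ) ∣ j := by
    intro j hj
    have hγm : γ ^ m ∈ D := (Nat.find_spec hexm).2
    have h1 : γ ^ j ∈ D := by
      have : γ = ι (Units.mk0 w hwne)⁻¹ * γ' := by rw [hγ', map_inv, inv_mul_cancel_left]
      rw [this, (show Commute (ι (Units.mk0 w hwne)⁻¹) γ' from iota_comm hcent _ _).mul_zpow, ← map_zpow]
      exact mul_mem (hD' _ ⟨_, rfl⟩) hj
    refine Int.dvd_of_emod_eq_zero (by_contra fun hne => ?_)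
    have hnn := Int.emod_nonneg j (show (m : ℤ) ≠ 0 by omega)
    have hlt := Int.emod_lt_of_pos j (show (0 : ℤ) < m by omega)
    have h2 : γ ^ (j % (m : ℤ)).toNat ∈ D := by
      rw [← zpow_natCast, Int.toNat_of_nonneg hnn, Int.emod_def, zpow_sub, zpow_mul, zpow_natCast]
      exact mul_mem h1 (inv_mem (zpow_mem hγm _))
    exact Nat.find_min hexm (show (j % (m : ℤ)).toNat < m by omega) ⟨by omega, h2⟩
  have hH' : H' ⊓ ι.range = ⊥ := by
    refine eq_bot_iff.2 fun x hx => ?_
    obtain ⟨⟨a, ha, j, rfl⟩, hr⟩ := Subgroup.mem_inf.1 hx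
    obtain ⟨q, rfl⟩ := hγD j (by
      simpa using mul_mem (inv_mem (le_sup_right (a := Subgroup.center Γ) ha)) (hD' _ hr))
    rw [← hH]
    refine Subgroup.mem_inf.2 ⟨?_, hr⟩
    rw [zpow_mul, zpow_natCast, hγ'm]
    exact mul_mem ha (zpow_mem hh _)
  have hmem : γ' ∈ H := hmax H' hH' (fun a ha => ⟨a, ha, 0, by simp⟩) ▸ (⟨1, one_mem H, 1, by simp⟩ : γ' ∈ H')
  have : γ = ι (Units.mk0 w hwne)⁻¹ * γ' := by rw [hγ', map_inv, inv_mul_cancel_left]
  rw [this]
  exact mul_mem (hD' _ ⟨_, rfl⟩) (le_sup_right (a := Subgroup.center Γ) hmem)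

include hι hcent hcomm hK in
theorem finrank_eq_invariants_mul [IsAlgClosed k] [FiniteDimensional k V] [FiniteDimensional k W]
    [Representation.IsIrreducible ρ] (hρ : WOne ι ρ) (hσ : WOne ι σ)
    (H : Subgroup Γ) (hH : H ⊓ ι.range = ⊥)
    (hmax : ∀ H' : Subgroup Γ, H' ⊓ ι.range = ⊥ → H ≤ H' → H' = H) :
    Module.finrank k W = Module.finrank k (Representation.invariants (σ.comp H.subtype)) * Module.finrank k V := by
  classical
  have hHinj : Function.Injective fun h : H => ((h : Γ) : Γ ⧸ Subgroup.center Γ) := fun a b hab => by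
    have h1 : (a : Γ)⁻¹ * b ∈ H ⊓ ι.range := Subgroup.mem_inf.2
      ⟨mul_mem (inv_mem a.2) b.2, hcent ▸ QuotientGroup.eq.1 hab⟩
    rw [hH, Subgroup.mem_bot, inv_mul_eq_one] at h1
    exact Subtype.ext h1
  have : Finite H := Finite.of_injective _ hHinj
  have habel : ∀ a b : H, (a : Γ) * b = b * a := fun a b => by
    obtain ⟨z, hz⟩ := exists_pair hcomm (a : Γ) b
    have h1 : ι z ∈ H ⊓ ι.range := Subgroup.mem_inf.2 ⟨by
      rw [show ι z = (a : Γ) * b * (a : Γ)⁻¹ * (b : Γ)⁻¹ by rw [hz]; group]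
      exact mul_mem (mul_mem (mul_mem a.2 b.2) (inv_mem a.2)) (inv_mem b.2), z, rfl⟩
    rw [hH, Subgroup.mem_bot] at h1
    rw [hz, h1, one_mul]
  obtain ⟨χ, hχ⟩ := exists_character hι hcent hcomm H
  have hker : χ.ker = Subgroup.center Γ ⊔ H := by
    refine le_antisymm (fun γ hγ => mem_sup_of_commute hι hcent hcomm H hH hmax γ fun h hh => ?_) ?_
    · have := hχ γ ⟨h, hh⟩
      rwa [MonoidHom.mem_ker.1 hγ, MonoidHom.one_apply, map_one, one_mul] at this
    · refine sup_le (fun γ hγ => ?_) fun γ hγ => ?_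
      all_goals
        refine MonoidHom.mem_ker.2 (MonoidHom.ext fun h => hι (mul_right_cancel (b := (h : Γ) * γ) ?_))
        rw [← mul_assoc, ← hχ, MonoidHom.one_apply, map_one, one_mul]
      · exact (Subgroup.mem_center_iff.1 hγ h).symm
      · exact habel ⟨γ, hγ⟩ h
  let χQ : Γ ⧸ χ.ker →* (H →* kˣ) := QuotientGroup.kerLift χ
  have hχinj : Function.Injective χQ := QuotientGroup.kerLift_injective χ
  obtain ⟨hfin, hle⟩ := card_hom_le (k := k) H
  have : Finite (Γ ⧸ χ.ker) := Finite.of_injective χQ hχinj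
  have hQH : Nat.card (Γ ⧸ χ.ker) ≤ Nat.card H := (Nat.card_le_card_of_injective χQ hχinj).trans hle
  let ψ : H → (Γ ⧸ χ.ker →* kˣ) := fun h => (MonoidHom.eval h).comp χQ
  have hψ : Function.Injective ψ := fun a b hab => hHinj (QuotientGroup.eq.2 (Subgroup.mem_center_iff.2 fun γ => by
    have e : χ γ a = χ γ b := DFunLike.congr_fun hab (γ : Γ ⧸ χ.ker)
    have h2 := hχ γ (a⁻¹ * b)
    rw [map_mul, map_inv, e, inv_mul_cancel, map_one, one_mul] at h2
    simpa using h2))
  obtain ⟨hfin2, hle2⟩ := card_hom_le (k := k) (Γ ⧸ χ.ker)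
  have hHQ : Nat.card H = Nat.card (Γ ⧸ χ.ker) :=
    le_antisymm ((Nat.card_le_card_of_injective ψ hψ).trans hle2) hQH
  have hcard : Nat.card (Γ ⧸ Subgroup.center Γ) = Nat.card H * Nat.card (Γ ⧸ χ.ker) := by
    show (Subgroup.center Γ).index = _ * χ.ker.index
    rw [hker, ← Subgroup.relIndex_mul_index (le_sup_left : Subgroup.center Γ ≤ Subgroup.center Γ ⊔ H),
      Subgroup.relIndex_sup_left, Subgroup.relIndex,
      Subgroup.subgroupOf_eq_bot.2 (disjoint_iff.2 (by rw [inf_comm, ← hcent]; exact hH)), Subgroup.index_bot]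
  have hd : Module.finrank k V = Nat.card H := by
    have := finrank_sq hcent hcomm hK hρ
    rw [hcard, ← hHQ, ← sq] at this
    exact Nat.pow_left_injective two_ne_zero this
  have hHk : (Nat.card H : k) ≠ 0 := fun h0 => hK (by rw [hcard, Nat.cast_mul, h0, zero_mul])
  let _ := Fintype.ofFinite H
  let _ := Fintype.ofFinite (Γ ⧸ χ.ker)
  have hsumH : ∀ q : Γ ⧸ χ.ker, ∑ h : H, (χQ q h : k) = if q = 1 then (Nat.card H : k) else 0 := fun q => by
    split_ifs with hq
    · simp [hq, Nat.card_eq_fintype_card]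
    · refine sum_hom_units_eq_zero ((Units.coeHom k).comp (χQ q)) fun h => hq (hχinj ?_)
      rw [map_one]; ext x; exact DFunLike.congr_fun h x
  have hsumQ : ∀ h : H, ∑ q : Γ ⧸ χ.ker, (χQ q h : k) = if h = 1 then (Nat.card H : k) else 0 := fun h => by
    split_ifs with hh
    · simp [hh]
      rw [← Nat.card_eq_fintype_card, ← Nat.card_eq_fintype_card, hHQ]
    · refine sum_hom_units_eq_zero ((Units.coeHom k).comp (ψ h)) fun h' => hh (hψ ?_)
      refine MonoidHom.ext fun q => Units.ext ?_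
      simpa [ψ] using DFunLike.congr_fun h' q
  set inv := Representation.invariants (σ.comp H.subtype)
  have hinv : ∀ {v : W}, v ∈ inv → ∀ h : H, σ (h : Γ) v = v := fun hv h => hv h
  let E : Γ ⧸ χ.ker → (W →ₗ[k] W) := fun q => ∑ h : H, (χQ q h : k) • σ (h : Γ)
  have hswap : ∀ (γ : Γ) (h : H) (v : W), σ (h : Γ) (σ γ v) = ((χ γ h : k))⁻¹ • σ γ (σ (h : Γ) v) := fun γ h v => by
    rw [← apply_mul (ρ := σ) γ, hχ, apply_mul, apply_mul, hσ, inv_smul_smul₀ (χ γ h).ne_zero]
  have hE : ∀ (q q' : Γ ⧸ χ.ker) (v : W), v ∈ inv →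
      E q (σ q'.out v) = (if q = q' then (Nat.card H : k) else 0) • σ q'.out v := fun q q' v hv => by
    have : ∀ h : H, (χQ q h : k) • σ (h : Γ) (σ q'.out v) = (χQ (q * q'⁻¹) h : k) • σ q'.out v := fun h => by
      rw [hswap, hinv hv, smul_smul, map_mul, map_inv, MonoidHom.mul_apply, MonoidHom.inv_apply, Units.val_mul,
        Units.val_inv_eq_inv_val, show χQ q' = χ q'.out by
          conv_lhs => rw [← QuotientGroup.out_eq' q']
          rfl]
    simp only [E, LinearMap.sum_apply, LinearMap.smul_apply, this, ← Finset.sum_smul, hsumH, mul_inv_eq_one]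
  have hEmem : ∀ (q : Γ ⧸ χ.ker) (x : W), σ q.out⁻¹ (E q x) ∈ inv := fun q x h₀ => by
    show σ (h₀ : Γ) (σ q.out⁻¹ (E q x)) = σ q.out⁻¹ (E q x)
    have hq : χ q.out = χQ q := by
      conv_rhs => rw [← QuotientGroup.out_eq' q]
      rfl
    rw [hswap, map_inv, MonoidHom.inv_apply, Units.val_inv_eq_inv_val, inv_inv, hq, ← map_smul]
    congr 1
    simp only [E, LinearMap.sum_apply, LinearMap.smul_apply, map_sum, map_smul, Finset.smul_sum]
    refine Fintype.sum_equiv (Equiv.mulLeft h₀) _ _ fun h => ?_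
    simp [Equiv.coe_mulLeft, smul_smul, apply_mul]
  let Ψ : (Γ ⧸ χ.ker → inv) →ₗ[k] W := ∑ q, σ q.out ∘ₗ inv.subtype ∘ₗ LinearMap.proj q
  have hΨ : Function.Bijective Ψ := by
    constructor
    · rw [injective_iff_map_eq_zero]
      intro v hv
      funext q
      have h := congrArg (E q) hv
      simp only [Ψ, LinearMap.sum_apply, LinearMap.comp_apply, map_sum, LinearMap.proj_apply, Submodule.coe_subtype,
        fun q' => hE q q' _ (v q').2, ite_smul, zero_smul, Finset.sum_ite_eq, Finset.mem_univ, if_true, map_zero,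
        smul_eq_zero, hHk, false_or] at h
      refine Subtype.ext ?_
      rw [← inv_apply (ρ := σ) q.out (v q : W), h, map_zero]
      rfl
    · intro x
      refine ⟨fun q => (Nat.card H : k)⁻¹ • ⟨_, hEmem q x⟩, ?_⟩
      simp only [Ψ, LinearMap.sum_apply, LinearMap.comp_apply, LinearMap.proj_apply, Submodule.coe_subtype,
        Submodule.coe_smul, map_smul, apply_inv, ← Finset.smul_sum]
      have hsum : ∑ q, E q x = (Nat.card H : k) • x := by
        simp only [E, LinearMap.sum_apply, LinearMap.smul_apply]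
        rw [Finset.sum_comm]
        simp only [← Finset.sum_smul, hsumQ, ite_smul, zero_smul, Finset.sum_ite_eq', Finset.mem_univ, if_true]
        simp
      rw [hsum, inv_smul_smul₀ hHk]
  rw [← (LinearEquiv.ofBijective Ψ hΨ).finrank_eq, Module.finrank_pi_fintype, Finset.sum_const, Finset.card_univ,
    smul_eq_mul, ← Nat.card_eq_fintype_card, ← hHQ, hd, mul_comm]

end

end Groth.L15.WeightOne
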