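import Mathlib.Algebra.Polynomial.Roots
import Mathlib.Algebra.Polynomial.Derivative
import Mathlib.Algebra.Polynomial.Div
import Mathlib.Algebra.Polynomial.Eval.SMul
import Mathlib.Algebra.Polynomial.Taylor
import Mathlib.Algebra.CharZero.Infinite
import Mathlib.RingTheory.Polynomial.Basic
import Mathlib.RingTheory.Coprime.Lemmas
import Mathlib.LinearAlgebra.FiniteDimensional.Lemmas
import Mathlib.LinearAlgebra.Dimension.DivisionRing
import Mathlib.Tactic.Ring
import Mathlib.Tactic.LinearCombination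
import Mathlib.Tactic.FieldSimp

/-!
Exact differentials on the projective line with prescribed poles: osculation at further points.
-/

set_option autoImplicit false

noncomputable section

open Polynomial Finset

namespace Groth.L15.Wronskian

variable {k : Type*} [Field k] {m : ℕ} (r : Fin m → k) (a : Fin m → ℕ)

/-- Product of the linear factors. -/
def Sp (s : Finset (Fin m)) : k[X] := ∏ j ∈ s, (X - C (r j))

/-- Product with the multiplicities. -/
def Ap (s : Finset (Fin m)) : k[X] := ∏ j ∈ s, (X - C (r j)) ^ a j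

/-- The numerator of the logarithmic derivative. -/
def Tp (s : Finset (Fin m)) : k[X] := ∑ i ∈ s, C (a i : k) * Sp r (s.erase i)

theorem Sp_mul_Ap (s : Finset (Fin m)) :
    Sp r s * Ap r a s = ∏ j ∈ s, (X - C (r j)) ^ (a j + 1) := by
  rw [Sp, Ap, ← prod_mul_distrib]
  exact prod_congr rfl fun j _ => by rw [pow_succ, mul_comm]

theorem Ap_monic (s : Finset (Fin m)) : (Ap r a s).Monic :=
  monic_prod_of_monic _ _ fun j _ => (monic_X_sub_C _).pow _

theorem Ap_natDegree (s : Finset (Fin m)) : (Ap r a s).natDegree = ∑ j ∈ s, a j := by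
  rw [Ap, natDegree_prod _ _ fun j _ => pow_ne_zero _ (X_sub_C_ne_zero _)]
  exact sum_congr rfl fun j _ => by rw [natDegree_pow, natDegree_X_sub_C, mul_one]

theorem deriv_Ap (s : Finset (Fin m)) : derivative (Ap r a s) * Sp r s = Ap r a s * Tp r a s := by
  rw [Ap, derivative_prod_finset, sum_mul, Tp, mul_sum]
  refine sum_congr rfl fun i hi => ?_
  rw [derivative_X_sub_C_pow, Sp, ← mul_prod_erase _ _ hi]
  conv_rhs => rw [← mul_prod_erase _ _ hi]
  rcases Nat.eq_zero_or_pos (a i) with h | h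
  · simp [h]
  · obtain ⟨n, hn⟩ : ∃ n, a i = n + 1 := ⟨a i - 1, by omega⟩
    rw [hn, Nat.add_sub_cancel, pow_succ]
    simp only [Sp]
    push_cast
    ring

/-- The derivative of `G / A` times `∏ (X - r) ^ (a + 1)`. -/
def Φ : k[X] →ₗ[k] k[X] where
  toFun G := Sp r univ * derivative G - Tp r a univ * G
  map_add' G H := by rw [map_add]; ring
  map_smul' c G := by
    simp only [smul_eq_C_mul, derivative_mul, derivative_C, zero_mul, zero_add, RingHom.id_apply]
    ring

theorem Φ_apply (G : k[X]) : Φ r a G = Sp r univ * derivative G - Tp r a univ * G := rfl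

theorem Φ_mul_Ap (H : k[X]) :
    Φ r a (Ap r a univ * H) = (∏ j, (X - C (r j)) ^ (a j + 1)) * derivative H := by
  rw [Φ_apply, derivative_mul, ← Sp_mul_Ap]
  linear_combination H * deriv_Ap r a univ

theorem Φ_Ap : Φ r a (Ap r a univ) = 0 := by
  have := Φ_mul_Ap r a 1
  rwa [mul_one, derivative_one, mul_zero] at this

theorem Φ_part (i : Fin m) (h : k[X]) :
    Φ r a (Ap r a (univ.erase i) * h) = (∏ j ∈ univ.erase i, (X - C (r j)) ^ (a j + 1)) *
      ((X - C (r i)) * derivative h - C (a i : k) * h) := by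
  have hS : Sp r univ = (X - C (r i)) * Sp r (univ.erase i) :=
    (mul_prod_erase univ (fun j => X - C (r j)) (mem_univ i)).symm
  have hT : Tp r a univ = C (a i : k) * Sp r (univ.erase i) + (X - C (r i)) * Tp r a (univ.erase i) := by
    rw [Tp, ← add_sum_erase _ _ (mem_univ i), Tp, mul_sum]
    congr 1
    refine sum_congr rfl fun j hj => ?_
    have hij : i ∈ (univ : Finset (Fin m)).erase j := mem_erase.2 ⟨(ne_of_mem_erase hj).symm, mem_univ _⟩
    simp only [Sp]
    rw [← mul_prod_erase _ _ hij, erase_right_comm]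
    ring
  rw [Φ_apply, derivative_mul, hS, hT, ← Sp_mul_Ap]
  linear_combination (X - C (r i)) * h * deriv_Ap r a (univ.erase i)

variable {r a}

theorem eval_Sp_ne {q : k} (hq : ∀ j, q ≠ r j) : (Sp r univ).eval q ≠ 0 := by
  simp [Sp, eval_prod, prod_ne_zero_iff, sub_ne_zero, hq]

theorem eval_Ap_ne {q : k} (hq : ∀ j, q ≠ r j) : (Ap r a univ).eval q ≠ 0 := by
  simp [Ap, eval_prod, prod_ne_zero_iff, sub_ne_zero, hq]

variable [CharZero k]

theorem exists_normalized {q : k} (hq : ∀ j, q ≠ r j) {s : ℕ} {G : k[X]}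
    (h : (X - C q) ^ s ∣ Φ r a G) : ∃ c : k, (X - C q) ^ (s + 1) ∣ G - c • Ap r a univ := by
  refine ⟨G.eval q / (Ap r a univ).eval q, ?_⟩
  set G₁ := G - (G.eval q / (Ap r a univ).eval q) • Ap r a univ with hG₁
  have hΦ : Φ r a G₁ = Φ r a G := by rw [hG₁, map_sub, map_smul, Φ_Ap, smul_zero, sub_zero]
  suffices H : ∀ n ≤ s + 1, (X - C q) ^ n ∣ G₁ from H _ le_rfl
  intro n
  induction n with
  | zero => simp
  | succ n ih =>
    intro hn
    rcases Nat.eq_zero_or_pos n with rfl | hn0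
    · rw [pow_one, dvd_iff_isRoot, IsRoot.def, hG₁, eval_sub, eval_smul, smul_eq_mul,
        div_mul_cancel₀ _ (eval_Ap_ne hq), sub_self]
    obtain ⟨j, rfl⟩ : ∃ j, n = j + 1 := ⟨n - 1, by omega⟩
    obtain ⟨H, hH⟩ := ih (by omega)
    have hdiv : (X - C q) ^ (j + 1) ∣ Φ r a G₁ := hΦ ▸ (pow_dvd_pow _ (by omega)).trans h
    have e : Φ r a G₁ = (X - C q) ^ j * ((C ((j + 1 : ℕ) : k)) * Sp r univ * H +
        (X - C q) * (Sp r univ * derivative H - Tp r a univ * H)) := by
      rw [Φ_apply, hH, derivative_mul, derivative_X_sub_C_pow, Nat.add_sub_cancel, pow_succ]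
      ring
    rw [e, pow_succ, mul_dvd_mul_iff_left (pow_ne_zero _ (X_sub_C_ne_zero q)), dvd_iff_isRoot] at hdiv
    simp only [IsRoot.def, eval_add, eval_mul, eval_C, eval_sub, eval_X, sub_self, zero_mul, add_zero,
      mul_eq_zero, eval_Sp_ne hq, or_false, Nat.cast_eq_zero, Nat.succ_ne_zero, false_or] at hdiv
    rw [hH, pow_succ _ (j + 1)]
    exact mul_dvd_mul_left _ (dvd_iff_isRoot.2 hdiv)

variable (r a) in
/-- The space of numerators. -/
abbrev Im (N : ℕ) : Submodule k k[X] := (degreeLT k (N + 1)).map (Φ r a)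

theorem mem_degreeLT_iff {n : ℕ} {G : k[X]} : G ∈ degreeLT k (n + 1) ↔ G.natDegree ≤ n := by
  rw [mem_degreeLT]
  constructor
  · intro h
    rcases eq_or_ne G 0 with h0 | h0
    · simp [h0]
    · rw [degree_eq_natDegree h0, Nat.cast_lt] at h; omega
  · intro h
    exact lt_of_le_of_lt (degree_le_natDegree.trans (Nat.cast_le.2 h)) (by exact_mod_cast n.lt_succ_self)

theorem finrank_le_one_of_le_span {W : Submodule k k[X]} {v : k[X]} (h : W ≤ k ∙ v) :
    Module.finrank k W ≤ 1 :=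
  (Submodule.finrank_mono h).trans (by
    rcases eq_or_ne v 0 with h0 | h0
    · rw [h0, Submodule.span_zero_singleton, finrank_bot]; exact Nat.zero_le _
    · rw [finrank_span_singleton h0])

theorem exists_rep {N : ℕ} (hsum : ∑ j, a j ≤ N) {q : k} (hq : ∀ j, q ≠ r j) {s : ℕ} {P : k[X]}
    (hP : P ∈ Im r a N) (hd : (X - C q) ^ s ∣ P) :
    ∃ G, G ∈ degreeLT k (N + 1) ∧ (X - C q) ^ (s + 1) ∣ G ∧ Φ r a G = P := by
  obtain ⟨G, hG, rfl⟩ := hP
  obtain ⟨c, hc⟩ := exists_normalized hq hd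
  refine ⟨_, Submodule.sub_mem _ hG (Submodule.smul_mem _ c ?_), hc, by
    rw [map_sub, map_smul, Φ_Ap, smul_zero, sub_zero]⟩
  rw [mem_degreeLT_iff, Ap_natDegree]
  exact hsum

theorem eq_zero_of_dvd {N : ℕ} (hsum : ∑ j, a j ≤ N) {q : k} (hq : ∀ j, q ≠ r j) {P : k[X]}
    (hP : P ∈ Im r a N) (hd : (X - C q) ^ N ∣ P) : P = 0 := by
  obtain ⟨G, hG, hdG, rfl⟩ := exists_rep hsum hq hP hd
  have hG0 : G = 0 := by
    by_contra h0
    have := natDegree_le_of_dvd hdG h0
    rw [natDegree_pow, natDegree_X_sub_C, mul_one] at this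
    have := mem_degreeLT_iff.1 hG
    omega
  rw [hG0, map_zero]

theorem exists_line {N : ℕ} (hN : 1 ≤ N) (hsum : ∑ j, a j ≤ N) {q : k} (hq : ∀ j, q ≠ r j) {P : k[X]}
    (hP : P ∈ Im r a N) (hd : (X - C q) ^ (N - 1) ∣ P) : ∃ c : k, P = c • Φ r a ((X - C q) ^ N) := by
  obtain ⟨G, hG, ⟨H, hH⟩, rfl⟩ := exists_rep hsum hq hP hd
  rw [Nat.sub_add_cancel hN] at hH
  refine ⟨H.coeff 0, ?_⟩
  rw [← map_smul, hH, smul_eq_C_mul, mul_comm]
  rcases eq_or_ne H 0 with h0 | h0
  · simp [h0]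
  have := mem_degreeLT_iff.1 hG
  rw [hH, natDegree_mul (pow_ne_zero _ (X_sub_C_ne_zero q)) h0, natDegree_pow, natDegree_X_sub_C, mul_one] at this
  conv_lhs => rw [eq_C_of_natDegree_eq_zero (show H.natDegree = 0 by omega)]

theorem mem_plane {N : ℕ} (hN : 2 ≤ N) (hsum : ∑ j, a j ≤ N) {q : k} (hq : ∀ j, q ≠ r j) {P : k[X]}
    (hP : P ∈ Im r a N) (hd : (X - C q) ^ (N - 2) ∣ P) :
    P ∈ Submodule.span k {Φ r a ((X - C q) ^ N), Φ r a ((X - C q) ^ (N - 1))} := by
  obtain ⟨G, hG, ⟨H, hH⟩, rfl⟩ := exists_rep hsum hq hP hd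
  rw [show N - 2 + 1 = N - 1 by omega] at hH
  rcases eq_or_ne H 0 with h0 | h0
  · rw [hH, h0, mul_zero, map_zero]; exact Submodule.zero_mem _
  have := mem_degreeLT_iff.1 hG
  rw [hH, natDegree_mul (pow_ne_zero _ (X_sub_C_ne_zero q)) h0, natDegree_pow, natDegree_X_sub_C, mul_one] at this
  have hH1 := eq_X_add_C_of_natDegree_le_one (show H.natDegree ≤ 1 by omega)
  have e : G = (H.coeff 1) • (X - C q) ^ N + (H.coeff 0 + q * H.coeff 1) • (X - C q) ^ (N - 1) := by
    have hp : (X - C q) ^ N = (X - C q) ^ (N - 1) * (X - C q) := by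
      rw [← pow_succ, Nat.sub_add_cancel (by omega)]
    rw [hH, hH1, hp, smul_eq_C_mul, smul_eq_C_mul]
    simp only [map_add, map_mul, coeff_add, coeff_C_mul_X, coeff_C, if_true, if_false, one_ne_zero,
      zero_add, add_zero, map_zero, zero_ne_one]
    ring
  rw [e, map_add, map_smul, map_smul]
  exact Submodule.add_mem _ (Submodule.smul_mem _ _ (Submodule.subset_span (by simp)))
    (Submodule.smul_mem _ _ (Submodule.subset_span (by simp)))

theorem finrank_le_one {N : ℕ} (hN : 2 ≤ N) (hsum : ∑ j, a j ≤ N) {q : k} (hq : ∀ j, q ≠ r j)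
    (W : Submodule k k[X]) (hW : W ≤ Im r a N)
    (hne : ¬(Φ r a ((X - C q) ^ N) ∈ W ∧ Φ r a ((X - C q) ^ (N - 1)) ∈ W)) :
    Module.finrank k ↥(W ⊓ (Ideal.span {(X - C q) ^ (N - 2)}).restrictScalars k) ≤ 1 := by
  classical
  set W2 : Submodule k k[X] :=
    Submodule.span k (({Φ r a ((X - C q) ^ N), Φ r a ((X - C q) ^ (N - 1))} : Finset k[X]) : Set k[X])
  haveI : FiniteDimensional k W2 := FiniteDimensional.span_finset k _
  have hle : W ⊓ (Ideal.span {(X - C q) ^ (N - 2)}).restrictScalars k ≤ W2 := fun P hP => by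
    have := mem_plane hN hsum hq (hW hP.1) (Ideal.mem_span_singleton.1 hP.2)
    simpa [W2] using this
  have hlt := Submodule.finrank_lt_finrank_of_lt (lt_of_le_of_ne hle fun hc => hne ?_)
  · have h2 : Module.finrank k W2 ≤ 2 := (finrank_span_finset_le_card _).trans Finset.card_le_two
    omega
  · constructor <;>
    · have hmem : W2 ≤ W := hc ▸ inf_le_left
      exact hmem (Submodule.subset_span (by simp))

theorem ker_eq {N : ℕ} (hsum : ∑ j, a j ≤ N) {G : k[X]} (hG : G ∈ degreeLT k (N + 1))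
    (h : Φ r a G = 0) : ∃ c : k, G = c • Ap r a univ := by
  classical
  obtain ⟨q, hq⟩ := Infinite.exists_notMem_finset (univ.image r)
  obtain ⟨c, hc⟩ := exists_normalized (q := q) (fun j hj => hq (mem_image.2 ⟨j, mem_univ _, hj.symm⟩))
    (s := N) (h ▸ dvd_zero _)
  refine ⟨c, sub_eq_zero.1 (by_contra fun h0 => ?_)⟩
  have h1 := natDegree_le_of_dvd hc h0
  have h2 := mem_degreeLT_iff.1 (Submodule.sub_mem _ hG (Submodule.smul_mem _ c
    (mem_degreeLT_iff.2 ((Ap_natDegree r a univ).le.trans hsum))))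
  rw [natDegree_pow, natDegree_X_sub_C, mul_one] at h1
  omega

theorem finrank_Im {N : ℕ} (hsum : ∑ j, a j ≤ N) : Module.finrank k (Im r a N) = N := by
  classical
  let f : degreeLT k (N + 1) →ₗ[k] k[X] := (Φ r a).domRestrict _
  have hA : Ap r a univ ∈ degreeLT k (N + 1) := mem_degreeLT_iff.2 ((Ap_natDegree r a univ).le.trans hsum)
  haveI : FiniteDimensional k (degreeLT k (N + 1)) :=
    (degreeLTEquiv k (N + 1)).symm.finiteDimensional
  have h := f.finrank_range_add_finrank_ker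
  rw [(degreeLTEquiv k (N + 1)).finrank_eq, Module.finrank_fin_fun, LinearMap.range_domRestrict] at h
  have hker : LinearMap.ker f = k ∙ (⟨_, hA⟩ : degreeLT k (N + 1)) := by
    refine le_antisymm (fun G hG => ?_) ?_
    · obtain ⟨c, hc⟩ := ker_eq hsum G.2 hG
      exact Submodule.mem_span_singleton.2 ⟨c, Subtype.ext hc.symm⟩
    · rw [Submodule.span_singleton_le_iff_mem]
      exact Φ_Ap r a
  rw [hker, finrank_span_singleton (fun hc => (Ap_monic r a univ).ne_zero (congrArg Subtype.val hc))] at h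
  show Module.finrank k ↥(Submodule.map (Φ r a) (degreeLT k (N + 1))) = N
  omega

theorem finiteDimensional_Im (N : ℕ) : FiniteDimensional k (Im r a N) := by
  haveI : FiniteDimensional k (degreeLT k (N + 1)) :=
    (degreeLTEquiv k (N + 1)).symm.finiteDimensional
  show FiniteDimensional k ↥(Submodule.map (Φ r a) (degreeLT k (N + 1)))
  exact inferInstance

theorem exists_part_preimage (i : Fin m) {q : k[X]} (hq : q ∈ degreeLT k (a i)) :
    ∃ h ∈ degreeLT k (a i), (X - C (r i)) * derivative h - C (a i : k) * h = q := by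
  classical
  rcases Nat.eq_zero_or_pos (a i) with h0 | h0
  · rw [h0, mem_degreeLT, Nat.cast_zero] at hq
    rcases eq_or_ne q 0 with hz | hz
    · exact ⟨0, Submodule.zero_mem _, by simp [hz]⟩
    · rw [degree_eq_natDegree hz] at hq; exact absurd hq (by exact_mod_cast Nat.not_lt_zero _)
  obtain ⟨n, hn⟩ : ∃ n, a i = n + 1 := ⟨a i - 1, by omega⟩
  rw [hn] at hq ⊢
  -- solve by monomials in `X - r`
  set t := taylor (r i) q
  refine ⟨∑ l ∈ range (n + 1), C (t.coeff l / ((l : k) - (n + 1 : ℕ))) * (X - C (r i)) ^ l,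
    Submodule.sum_mem _ fun l hl => mem_degreeLT_iff.2 ?_, ?_⟩
  · refine (natDegree_C_mul_le _ _).trans ?_
    rw [natDegree_pow, natDegree_X_sub_C, mul_one]
    have := mem_range.1 hl
    omega
  have hterm : ∀ (c : k) (l : ℕ), (X - C (r i)) * derivative (C c * (X - C (r i)) ^ l) -
      C ((n + 1 : ℕ) : k) * (C c * (X - C (r i)) ^ l) = C (c * ((l : k) - (n + 1 : ℕ))) * (X - C (r i)) ^ l := by
    intro c l
    rcases l with _ | l
    · simp; ring
    · rw [derivative_mul, derivative_C, derivative_X_sub_C_pow, Nat.add_sub_cancel, pow_succ]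
      simp only [map_mul, map_sub, map_natCast, map_add, Nat.cast_add, Nat.cast_one, map_one]
      ring
  have hne : ∀ l ∈ range (n + 1), ((l : k) - (n + 1 : ℕ)) ≠ 0 := fun l hl => by
    rw [sub_ne_zero]
    exact_mod_cast (mem_range.1 hl).ne
  rw [derivative_sum, mul_sum, mul_sum, ← sum_sub_distrib,
    sum_congr rfl fun l hl => (hterm _ l).trans (by rw [div_mul_cancel₀ _ (hne l hl)])]
  have hdeg : t.natDegree < n + 1 := by
    rw [natDegree_taylor]
    exact Nat.lt_succ_of_le (mem_degreeLT_iff.1 hq)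
  conv_rhs => rw [← sum_taylor_eq q (r i), Polynomial.sum_over_range' _ (fun _ => by simp) (n + 1) hdeg]

theorem part_le_Im {N : ℕ} (hsum : ∑ j, a j ≤ N) (i : Fin m) :
    (degreeLT k (a i)).map (LinearMap.mulLeft k (∏ j ∈ univ.erase i, (X - C (r j)) ^ (a j + 1))) ≤ Im r a N := by
  rintro _ ⟨q, hq, rfl⟩
  obtain ⟨h, hh, rfl⟩ := exists_part_preimage (r := r) i hq
  refine ⟨Ap r a (univ.erase i) * h, ?_, Φ_part r a i h⟩
  rw [SetLike.mem_coe, mem_degreeLT_iff]
  rcases eq_or_ne h 0 with h0 | h0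
  · simp [h0]
  rw [natDegree_mul (Ap_monic r a _).ne_zero h0, Ap_natDegree]
  have h1 : h.natDegree < a i := by
    rw [mem_degreeLT, degree_eq_natDegree h0] at hh; exact_mod_cast hh
  have := add_sum_erase univ a (mem_univ i)
  omega

theorem poly_part_le_Im {N b : ℕ} (hsum : (∑ j, a j) + b ≤ N) :
    (degreeLT k b).map (LinearMap.mulLeft k (∏ j, (X - C (r j)) ^ (a j + 1))) ≤ Im r a N := by
  classical
  rintro _ ⟨q, hq, rfl⟩
  rcases eq_or_ne q 0 with rfl | hq0
  · rw [map_zero]; exact Submodule.zero_mem _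
  have hqd : q.natDegree < b := by
    rw [SetLike.mem_coe, mem_degreeLT, degree_eq_natDegree hq0] at hq; exact_mod_cast hq
  -- a primitive
  let H : k[X] := ∑ l ∈ range b, C (q.coeff l / ((l : k) + 1)) * X ^ (l + 1)
  have hH : derivative H = q := by
    conv_rhs => rw [q.as_sum_range' b hqd]
    rw [derivative_sum]
    refine sum_congr rfl fun l _ => ?_
    rw [derivative_mul, derivative_C, derivative_X_pow, Nat.add_sub_cancel, ← C_mul_X_pow_eq_monomial,
      zero_mul, zero_add, ← mul_assoc, ← map_mul, Nat.cast_add, Nat.cast_one,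
      div_mul_cancel₀ _ (Nat.cast_add_one_ne_zero l)]
  refine ⟨Ap r a univ * H, ?_, by rw [Φ_mul_Ap, hH]; rfl⟩
  rw [SetLike.mem_coe, mem_degreeLT_iff]
  refine natDegree_mul_le.trans ?_
  rw [Ap_natDegree]
  have : H.natDegree ≤ b := natDegree_sum_le_of_forall_le _ _ fun l hl =>
    (natDegree_C_mul_le _ _).trans (by rw [natDegree_X_pow]; exact mem_range.1 hl)
  omega

theorem split (hr : Function.Injective r) (s : Finset (Fin m)) :
    ∀ G : k[X], G.degree < ((∑ j ∈ s, a j : ℕ) : WithBot ℕ) →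
      G ∈ ⨆ i ∈ s, (degreeLT k (a i)).map (LinearMap.mulLeft k (Ap r a (s.erase i))) := by
  classical
  induction s using Finset.induction_on with
  | empty =>
    intro G hG
    have : G = 0 := by
      by_contra h0
      rw [degree_eq_natDegree h0, sum_empty] at hG
      exact absurd hG (by exact_mod_cast Nat.not_lt_zero _)
    rw [this]; exact Submodule.zero_mem _
  | insert i s hi ih =>
    intro G hG
    set L := (X - C (r i)) ^ a i with hL
    have hcop : IsCoprime L (Ap r a s) := IsCoprime.prod_right fun j hj =>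
      ((isCoprime_X_sub_C_of_isUnit_sub (sub_ne_zero.2 fun h => hi (by rw [hr h]; exact hj)).isUnit).pow)
    obtain ⟨u, v, huv⟩ := hcop
    have hLm : L.Monic := (monic_X_sub_C _).pow _
    have hLd : L.natDegree = a i := by rw [hL, natDegree_pow, natDegree_X_sub_C, mul_one]
    set w := (G * v) %ₘ L with hw
    have hwd : w.degree < (a i : WithBot ℕ) := by
      rw [← hLd, ← degree_eq_natDegree hLm.ne_zero]
      exact degree_modByMonic_lt _ hLm
    obtain ⟨Q, hQ⟩ : L ∣ G - Ap r a s * w :=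
      ⟨G * u + Ap r a s * ((G * v) /ₘ L), by
        linear_combination -G * huv - Ap r a s * (modByMonic_add_div (G * v) L)⟩
    have hQd : Q.degree < ((∑ j ∈ s, a j : ℕ) : WithBot ℕ) := by
      rcases eq_or_ne Q 0 with h0 | h0
      · rw [h0, degree_zero]; exact WithBot.bot_lt_coe _
      have hlt : (G - Ap r a s * w).degree < ((∑ j ∈ insert i s, a j : ℕ) : WithBot ℕ) := by
        refine (degree_sub_le _ _).trans_lt (max_lt hG ?_)
        rcases eq_or_ne w 0 with hw0 | hw0
        · rw [hw0, mul_zero, degree_zero]; exact WithBot.bot_lt_coe _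
        rw [degree_eq_natDegree (mul_ne_zero (Ap_monic r a s).ne_zero hw0),
          natDegree_mul (Ap_monic r a s).ne_zero hw0, Ap_natDegree, sum_insert hi]
        rw [degree_eq_natDegree hw0] at hwd
        have := Nat.cast_lt.1 hwd
        exact Nat.cast_lt.2 (by omega)
      rw [hQ, degree_eq_natDegree (mul_ne_zero hLm.ne_zero h0), natDegree_mul hLm.ne_zero h0, hLd,
        sum_insert hi] at hlt
      rw [degree_eq_natDegree h0]
      have := Nat.cast_lt.1 hlt
      exact Nat.cast_lt.2 (by omega)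
    have hsub := ih Q hQd
    have hG' : G = Ap r a s * w + LinearMap.mulLeft k L Q := by
      rw [LinearMap.mulLeft_apply, ← hQ]; ring
    rw [hG']
    refine Submodule.add_mem _ (Submodule.mem_iSup_of_mem i (Submodule.mem_iSup_of_mem (mem_insert_self i s)
      ⟨w, mem_degreeLT.2 hwd, by rw [erase_insert hi]; rfl⟩)) ?_
    have hmap : (⨆ j ∈ s, (degreeLT k (a j)).map (LinearMap.mulLeft k (Ap r a (s.erase j)))).map
        (LinearMap.mulLeft k L) ≤
        ⨆ j ∈ insert i s, (degreeLT k (a j)).map (LinearMap.mulLeft k (Ap r a ((insert i s).erase j))) := by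
      simp only [Submodule.map_iSup]
      refine iSup₂_le fun j hj => le_trans ?_
        (le_iSup₂ (f := fun j _ => (degreeLT k (a j)).map (LinearMap.mulLeft k (Ap r a ((insert i s).erase j))))
          j (mem_insert_of_mem hj))
      rintro _ ⟨_, ⟨x, hx, rfl⟩, rfl⟩
      refine ⟨x, hx, ?_⟩
      have hne : i ≠ j := fun h => hi (h ▸ hj)
      simp only [LinearMap.mulLeft_apply, erase_insert_of_ne hne, Ap,
        prod_insert (fun h => hi (mem_of_mem_erase h)), hL]
      ring
    exact hmap ⟨Q, hsub, rfl⟩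

theorem Φ_mem (hr : Function.Injective r) {e : ℕ} {G : k[X]} (hG : G.natDegree ≤ (∑ j, a j) + e) :
    Φ r a G ∈ (degreeLT k e).map (LinearMap.mulLeft k (∏ j, (X - C (r j)) ^ (a j + 1))) ⊔
      ⨆ i, (degreeLT k (a i)).map (LinearMap.mulLeft k (∏ j ∈ univ.erase i, (X - C (r j)) ^ (a j + 1))) := by
  classical
  have hA := Ap_monic r a univ
  rw [← modByMonic_add_div G (Ap r a univ), map_add, add_comm]
  refine Submodule.add_mem_sup ⟨derivative (G /ₘ Ap r a univ), ?_, (Φ_mul_Ap r a _).symm⟩ ?_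
  · rcases Nat.eq_zero_or_pos (G /ₘ Ap r a univ).natDegree with h0 | h0
    · rw [eq_C_of_natDegree_eq_zero h0, derivative_C]; exact Submodule.zero_mem _
    · rw [SetLike.mem_coe, mem_degreeLT]
      refine degree_le_natDegree.trans_lt (Nat.cast_lt.2 ?_)
      have h1 := natDegree_derivative_le (G /ₘ Ap r a univ)
      have h2 := natDegree_divByMonic G hA
      rw [Ap_natDegree] at h2
      omega
  · have hlt : (G %ₘ Ap r a univ).degree < ((∑ j, a j : ℕ) : WithBot ℕ) := by
      rw [← Ap_natDegree r a univ, ← degree_eq_natDegree hA.ne_zero]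
      exact degree_modByMonic_lt _ hA
    have hle : (⨆ i ∈ (univ : Finset (Fin m)), (degreeLT k (a i)).map (LinearMap.mulLeft k (Ap r a (univ.erase i)))) ≤
        (⨆ i, (degreeLT k (a i)).map
          (LinearMap.mulLeft k (∏ j ∈ univ.erase i, (X - C (r j)) ^ (a j + 1)))).comap (Φ r a) := by
      refine iSup₂_le fun i _ => ?_
      rintro _ ⟨h, hh, rfl⟩
      refine Submodule.mem_iSup_of_mem i ?_
      refine ⟨(X - C (r i)) * derivative h - C (a i : k) * h, ?_, (Φ_part r a i h).symm⟩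
      rcases eq_or_ne h 0 with h0 | h0
      · simp [h0]
      have h1 : h.natDegree < a i := by
        rw [SetLike.mem_coe, mem_degreeLT, degree_eq_natDegree h0] at hh; exact_mod_cast hh
      rw [SetLike.mem_coe, mem_degreeLT]
      refine degree_le_natDegree.trans_lt (Nat.cast_lt.2 (lt_of_le_of_lt ((natDegree_sub_le _ _).trans (max_le ?_ ?_)) h1))
      · rcases Nat.eq_zero_or_pos h.natDegree with hd | hd
        · rw [eq_C_of_natDegree_eq_zero hd, derivative_C, mul_zero, natDegree_zero]; exact Nat.zero_le _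
        · refine natDegree_mul_le.trans ?_
          rw [natDegree_X_sub_C]
          have := natDegree_derivative_le h
          omega
      · exact natDegree_C_mul_le _ _
    exact hle (split hr univ _ hlt)

theorem all_of_two {N : ℕ} (hN : 2 ≤ N) {W : Submodule k k[X]} (hlow : degreeLT k (N - 1) ≤ W)
    {f g : k[X]} (hf : f.natDegree ≤ N) (hg : g.natDegree ≤ N) (hfW : f ∈ W) (hgW : g ∈ W)
    (hdet : f.coeff N * g.coeff (N - 1) - f.coeff (N - 1) * g.coeff N ≠ 0) : degreeLT k (N + 1) ≤ W := by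
  intro h hh
  rw [mem_degreeLT_iff] at hh
  set D := f.coeff N * g.coeff (N - 1) - f.coeff (N - 1) * g.coeff N
  set u := h.coeff N * g.coeff (N - 1) - h.coeff (N - 1) * g.coeff N
  set v := f.coeff N * h.coeff (N - 1) - f.coeff (N - 1) * h.coeff N
  have hrest : D • h - u • f - v • g ∈ degreeLT k (N - 1) := by
    rw [mem_degreeLT, degree_lt_iff_coeff_zero]
    intro l hl
    simp only [coeff_sub, coeff_smul, smul_eq_mul]
    rcases (show l = N ∨ l = N - 1 ∨ N < l by omega) with rfl | rfl | hlt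
    · simp only [D, u, v]; ring
    · simp only [D, u, v]; ring
    · rw [coeff_eq_zero_of_natDegree_lt (hh.trans_lt hlt), coeff_eq_zero_of_natDegree_lt (hf.trans_lt hlt),
        coeff_eq_zero_of_natDegree_lt (hg.trans_lt hlt)]
      ring
  have h1 : D • h ∈ W := by
    have := Submodule.add_mem _ (Submodule.add_mem _ (hlow hrest) (Submodule.smul_mem _ v hgW))
      (Submodule.smul_mem _ u hfW)
    rwa [sub_add_cancel, sub_add_cancel] at this
  exact (Submodule.smul_mem_iff _ hdet).1 h1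

theorem coeff_pow_top (q : k) (n : ℕ) : ((X - C q) ^ n).coeff n = 1 := by
  have h := ((monic_X_sub_C q).pow n).coeff_natDegree
  rwa [natDegree_pow, natDegree_X_sub_C, mul_one] at h

theorem coeff_pow_next (q : k) {n : ℕ} (hn : 1 ≤ n) : ((X - C q) ^ n).coeff (n - 1) = -((n : k) * q) := by
  rw [sub_eq_add_neg, ← map_neg, coeff_X_add_C_pow, show n - (n - 1) = 1 by omega, pow_one,
    Nat.choose_symm_of_eq_add (show n = (n - 1) + 1 by omega), Nat.choose_one_right]
  ring

theorem natDegree_pow_le' (q : k) (n : ℕ) : ((X - C q) ^ n).natDegree = n := by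
  rw [natDegree_pow, natDegree_X_sub_C, mul_one]

/-- The first statement: a hyperplane containing the low part. -/
theorem hyperplane (hr : Function.Injective r) {b N : ℕ} (hb : 1 ≤ b) (hN : N = (∑ j, a j) + b)
    {V₁ : Submodule k k[X]} (hV₁ : V₁ ≤ Im r a N) (hfin : Module.finrank k ↥V₁ + 1 = N)
    (hU : (degreeLT k (b - 2)).map (LinearMap.mulLeft k (∏ j, (X - C (r j)) ^ (a j + 1))) ⊔
      (⨆ i, (degreeLT k (a i)).map
        (LinearMap.mulLeft k (∏ j ∈ univ.erase i, (X - C (r j)) ^ (a j + 1)))) ≤ V₁) :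
    (∀ q : k, (∀ j, q ≠ r j) →
      (V₁ ⊓ (Ideal.span {(X - C q) ^ N}).restrictScalars k) = ⊥ ∧
      Module.finrank k ↥(V₁ ⊓ (Ideal.span {(X - C q) ^ (N - 2)}).restrictScalars k) ≤ 1) ∧
    (∀ q q' : k, (∀ j, q ≠ r j) → (∀ j, q' ≠ r j) →
      (V₁ ⊓ (Ideal.span {(X - C q) ^ (N - 1)}).restrictScalars k) ≠ ⊥ →
      (V₁ ⊓ (Ideal.span {(X - C q') ^ (N - 1)}).restrictScalars k) ≠ ⊥ → q = q') := by
  have hsum : ∑ j, a j ≤ N := by omega
  haveI := finiteDimensional_Im (r := r) (a := a) N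
  haveI : FiniteDimensional k V₁ := Submodule.finiteDimensional_of_le hV₁
  have hbot : ∀ q : k, (∀ j, q ≠ r j) → (V₁ ⊓ (Ideal.span {(X - C q) ^ N}).restrictScalars k) = ⊥ :=
    fun q hq => eq_bot_iff.2 fun P hP => (Submodule.mem_bot k).2
      (eq_zero_of_dvd hsum hq (hV₁ hP.1) (Ideal.mem_span_singleton.1 hP.2))
  rcases (show N = 1 ∨ 2 ≤ N by omega) with h1 | h2
  · have hV : V₁ = ⊥ := Submodule.finrank_eq_zero.1 (by omega)
    refine ⟨fun q hq => ⟨hbot q hq, ?_⟩, fun q q' _ _ h _ => h (by rw [hV, bot_inf_eq]) |>.elim⟩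
    rw [hV, bot_inf_eq, finrank_bot]; exact Nat.zero_le _
  set W := V₁.comap (Φ r a)
  have hlow : degreeLT k (N - 1) ≤ W := by
    intro G hG
    refine hU (Φ_mem hr ?_)
    rcases eq_or_ne G 0 with h0 | h0
    · simp [h0]
    rw [mem_degreeLT, degree_eq_natDegree h0, Nat.cast_lt] at hG
    omega
  have hproper : ¬ degreeLT k (N + 1) ≤ W := by
    intro hc
    have h := Submodule.finrank_mono (Submodule.map_le_iff_le_comap.2 hc : Im r a N ≤ V₁)
    rw [finrank_Im hsum] at h
    omega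
  refine ⟨fun q hq => ⟨hbot q hq, finrank_le_one h2 hsum hq V₁ hV₁ fun ⟨ha, hb'⟩ => hproper ?_⟩,
    fun q q' hq hq' hne hne' => ?_⟩
  · refine all_of_two h2 hlow (natDegree_pow_le' q N).le ((natDegree_pow_le' q _).le.trans (Nat.sub_le _ _)) ha hb' ?_
    rw [coeff_pow_top, coeff_pow_top, coeff_pow_next q (by omega),
      coeff_eq_zero_of_natDegree_lt (show ((X - C q) ^ (N - 1)).natDegree < N by rw [natDegree_pow_le']; omega)]
    simp
  · by_contra hqq
    have key : ∀ q : k, (∀ j, q ≠ r j) → (V₁ ⊓ (Ideal.span {(X - C q) ^ (N - 1)}).restrictScalars k) ≠ ⊥ →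
        (X - C q) ^ N ∈ W := by
      intro q hq hne
      obtain ⟨P, hP, hP0⟩ := Submodule.exists_mem_ne_zero_of_ne_bot hne
      obtain ⟨c, rfl⟩ := exists_line (by omega) hsum hq (hV₁ hP.1) (Ideal.mem_span_singleton.1 hP.2)
      show Φ r a ((X - C q) ^ N) ∈ V₁
      exact (Submodule.smul_mem_iff _ (fun hc : c = 0 => hP0 (by rw [hc, zero_smul]))).1 hP.1
    refine hproper (all_of_two h2 hlow (natDegree_pow_le' q N).le (natDegree_pow_le' q' N).le
      (key q hq hne) (key q' hq' hne') ?_)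
    rw [coeff_pow_top, coeff_pow_top, coeff_pow_next q (by omega), coeff_pow_next q' (by omega)]
    intro hc
    have : (N : k) * (q - q') = 0 := by linear_combination hc
    rcases mul_eq_zero.1 this with h | h
    · exact absurd h (Nat.cast_ne_zero.2 (by omega))
    · exact hqq (sub_eq_zero.1 h)

theorem eval_Φ_pow (p q : k) {n : ℕ} (hn : 1 ≤ n) :
    (Φ r a ((X - C q) ^ n)).eval p =
      (p - q) ^ (n - 1) * ((n : k) * (Sp r univ).eval p - (p - q) * (Tp r a univ).eval p) := by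
  obtain ⟨j, rfl⟩ : ∃ j, n = j + 1 := ⟨n - 1, by omega⟩
  rw [Φ_apply, derivative_X_sub_C_pow, Nat.add_sub_cancel, pow_succ]
  simp only [eval_sub, eval_mul, eval_C, eval_pow, eval_X]
  ring

/-- The second statement: the sections vanishing at a point. -/
theorem vanishing (hr : Function.Injective r) {b N : ℕ} (hb : 1 ≤ b) (hN : N = (∑ j, a j) + b)
    {p : k} (hp : ∀ j, p ≠ r j) {V₁ : Submodule k k[X]}
    (hV₁ : V₁ = Im r a N ⊓ (Ideal.span {X - C p}).restrictScalars k) :
    Module.finrank k ↥V₁ + 1 = N ∧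
    (V₁ ⊓ (Ideal.span {(X - C p) ^ N}).restrictScalars k) = ⊥ ∧
    (∀ q : k, (∀ j, q ≠ r j) → q ≠ p →
      (V₁ ⊓ (Ideal.span {(X - C q) ^ N}).restrictScalars k) = ⊥ ∧
      Module.finrank k ↥(V₁ ⊓ (Ideal.span {(X - C q) ^ (N - 2)}).restrictScalars k) ≤ 1) ∧
    (∀ q q' : k, (∀ j, q ≠ r j) → q ≠ p → (∀ j, q' ≠ r j) → q' ≠ p →
      (V₁ ⊓ (Ideal.span {(X - C q) ^ (N - 1)}).restrictScalars k) ≠ ⊥ →
      (V₁ ⊓ (Ideal.span {(X - C q') ^ (N - 1)}).restrictScalars k) ≠ ⊥ → q = q') := by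
  classical
  have hsum : ∑ j, a j ≤ N := by omega
  haveI := finiteDimensional_Im (r := r) (a := a) N
  have hle : V₁ ≤ Im r a N := hV₁ ▸ inf_le_left
  have hmem : ∀ G, G ∈ degreeLT k (N + 1) → (Φ r a G ∈ V₁ ↔ (Φ r a G).eval p = 0) := by
    intro G hG
    rw [hV₁, Submodule.mem_inf, Submodule.restrictScalars_mem, Ideal.mem_span_singleton, dvd_iff_isRoot]
    exact and_iff_right ⟨G, hG, rfl⟩
  let lev : k[X] →ₗ[k] k := (Polynomial.aeval p).toLinearMap
  have hlev : ∀ P : k[X], lev P = P.eval p := fun P => by simp [lev, coe_aeval_eq_eval]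
  let ev : Im r a N →ₗ[k] k := lev.domRestrict _
  have hsurj : LinearMap.range ev = ⊤ := by
    refine LinearMap.range_eq_top.2 fun x => ?_
    have hG : (X - C p) ^ 1 ∈ degreeLT k (N + 1) := mem_degreeLT_iff.2 (by rw [natDegree_pow_le']; omega)
    refine ⟨(x / (Sp r univ).eval p) • ⟨_, ⟨_, hG, rfl⟩⟩, ?_⟩
    show lev ((x / (Sp r univ).eval p) • Φ r a ((X - C p) ^ 1)) = x
    rw [map_smul, hlev, eval_Φ_pow p p le_rfl]
    simp [div_mul_cancel₀ _ (eval_Sp_ne hp)]
  have hfin : Module.finrank k ↥V₁ + 1 = N := by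
    have h := ev.finrank_range_add_finrank_ker
    rw [hsurj, finrank_top, Module.finrank_self, finrank_Im hsum] at h
    have e : (LinearMap.ker ev).map (Im r a N).subtype = V₁ := by
      ext P
      rw [hV₁, Submodule.mem_inf, Submodule.restrictScalars_mem, Ideal.mem_span_singleton, dvd_iff_isRoot]
      constructor
      · rintro ⟨x, hx, rfl⟩; exact ⟨x.2, (hlev x).symm.trans (LinearMap.mem_ker.1 hx)⟩
      · rintro ⟨h1, h2⟩; exact ⟨⟨P, h1⟩, LinearMap.mem_ker.2 ((hlev P).trans h2), rfl⟩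
    rw [← e, (Submodule.equivMapOfInjective _ (Submodule.injective_subtype _) _).symm.finrank_eq]
    omega
  haveI : FiniteDimensional k V₁ := Submodule.finiteDimensional_of_le hle
  have hbot : ∀ q : k, (∀ j, q ≠ r j) → (V₁ ⊓ (Ideal.span {(X - C q) ^ N}).restrictScalars k) = ⊥ :=
    fun q hq => eq_bot_iff.2 fun P hP => (Submodule.mem_bot k).2
      (eq_zero_of_dvd hsum hq (hle hP.1) (Ideal.mem_span_singleton.1 hP.2))
  refine ⟨hfin, hbot p hp, ?_⟩
  rcases (show N = 1 ∨ 2 ≤ N by omega) with h1 | h2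
  · have hV : V₁ = ⊥ := Submodule.finrank_eq_zero.1 (by omega)
    refine ⟨fun q hq _ => ⟨hbot q hq, ?_⟩, fun q q' _ _ _ _ h _ => h (by rw [hV, bot_inf_eq]) |>.elim⟩
    rw [hV, bot_inf_eq, finrank_bot]; exact Nat.zero_le _
  have hS := eval_Sp_ne hp
  have hval : ∀ (q : k) (n : ℕ), 1 ≤ n → n ≤ N → q ≠ p → Φ r a ((X - C q) ^ n) ∈ V₁ →
      (n : k) * (Sp r univ).eval p = (p - q) * (Tp r a univ).eval p := by
    intro q n hn hnN hqp h
    have := (hmem _ (mem_degreeLT_iff.2 (by rw [natDegree_pow_le']; exact hnN))).1 h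
    rw [eval_Φ_pow p q hn] at this
    exact sub_eq_zero.1 ((mul_eq_zero.1 this).resolve_left (pow_ne_zero _ (sub_ne_zero.2 (Ne.symm hqp))))
  refine ⟨fun q hq hqp => ⟨hbot q hq, finrank_le_one h2 hsum hq V₁ hle fun ⟨h3, h4⟩ => hS ?_⟩,
    fun q q' hq hqp hq' hqp' hne hne' => ?_⟩
  · have e1 := hval q N (by omega) le_rfl hqp h3
    have e2 := hval q (N - 1) (by omega) (Nat.sub_le _ _) hqp h4
    rw [Nat.cast_sub (by omega : 1 ≤ N)] at e2
    push_cast at e2
    linear_combination e1 - e2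
  · have key : ∀ q : k, (∀ j, q ≠ r j) → q ≠ p →
        (V₁ ⊓ (Ideal.span {(X - C q) ^ (N - 1)}).restrictScalars k) ≠ ⊥ →
        (N : k) * (Sp r univ).eval p = (p - q) * (Tp r a univ).eval p := by
      intro q hq hqp hne
      obtain ⟨P, hP, hP0⟩ := Submodule.exists_mem_ne_zero_of_ne_bot hne
      obtain ⟨c, rfl⟩ := exists_line (by omega) hsum hq (hle hP.1) (Ideal.mem_span_singleton.1 hP.2)
      exact hval q N (by omega) le_rfl hqp
        ((Submodule.smul_mem_iff _ (fun hc : c = 0 => hP0 (by rw [hc, zero_smul]))).1 hP.1)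
    have e1 := key q hq hqp hne
    have e2 := key q' hq' hqp' hne'
    have hT : (Tp r a univ).eval p ≠ 0 := fun h0 => by
      rw [h0, mul_zero, mul_eq_zero, Nat.cast_eq_zero] at e1
      rcases e1 with h | h
      · omega
      · exact hS h
    have : (p - q) * (Tp r a univ).eval p = (p - q') * (Tp r a univ).eval p := e1.symm.trans e2
    linear_combination -(mul_right_cancel₀ hT this)

/-- The third statement: two prescribed vanishing orders of total `N + 1`. -/
theorem pair {N : ℕ} (hsum : ∑ j, a j ≤ N) {p q : k} (hp : ∀ j, p ≠ r j) (hq : ∀ j, q ≠ r j)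
    {i j : ℕ} (hi : 1 ≤ i) (hj : 1 ≤ j) (hij : i + j = N + 1)
    {V : Submodule k k[X]} (hV : V ≤ Im r a N) :
    Module.finrank k ↥(V ⊓ (Ideal.span {(X - C p) ^ (i - 1) * (X - C q) ^ (j - 1)}).restrictScalars k) ≤ 1 := by
  classical
  set W := V ⊓ (Ideal.span {(X - C p) ^ (i - 1) * (X - C q) ^ (j - 1)}).restrictScalars k with hWdef
  have hdvd : ∀ P ∈ W, (X - C p) ^ (i - 1) ∣ P ∧ (X - C q) ^ (j - 1) ∣ P := fun P hP =>
    ⟨(dvd_mul_right _ _).trans (Ideal.mem_span_singleton.1 hP.2),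
      (dvd_mul_left _ _).trans (Ideal.mem_span_singleton.1 hP.2)⟩
  rcases eq_or_ne p q with rfl | hpq
  · refine finrank_le_one_of_le_span (v := Φ r a ((X - C p) ^ N)) fun P hP => ?_
    have h := Ideal.mem_span_singleton.1 hP.2
    rw [← pow_add, show i - 1 + (j - 1) = N - 1 by omega] at h
    obtain ⟨c, hc⟩ := exists_line (by omega) hsum hp (hV hP.1) h
    exact Submodule.mem_span_singleton.2 ⟨c, hc.symm⟩
  have hrep : ∀ P ∈ W, ∃ (G : k[X]) (c : k), G ∈ degreeLT k (N + 1) ∧ (X - C p) ^ i ∣ G ∧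
      (X - C q) ^ j ∣ G - c • Ap r a univ ∧ Φ r a G = P := by
    intro P hP
    obtain ⟨G, hG, hdG, hΦ⟩ := exists_rep hsum hp (hV hP.1) (hdvd P hP).1
    rw [Nat.sub_add_cancel hi] at hdG
    obtain ⟨c, hc⟩ := exists_normalized hq (G := G) (s := j - 1) (hΦ ▸ (hdvd P hP).2)
    rw [Nat.sub_add_cancel hj] at hc
    exact ⟨G, c, hG, hdG, hc, hΦ⟩
  have hzero : ∀ G : k[X], G ∈ degreeLT k (N + 1) → (X - C p) ^ i ∣ G → (X - C q) ^ j ∣ G → G = 0 := by
    intro G hG h1 h2
    by_contra h0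
    have hcop : IsCoprime ((X - C p) ^ i) ((X - C q) ^ j) :=
      (isCoprime_X_sub_C_of_isUnit_sub (sub_ne_zero.2 hpq).isUnit).pow
    have := natDegree_le_of_dvd (hcop.mul_dvd h1 h2) h0
    rw [natDegree_mul (pow_ne_zero _ (X_sub_C_ne_zero p)) (pow_ne_zero _ (X_sub_C_ne_zero q)),
      natDegree_pow_le', natDegree_pow_le'] at this
    have := mem_degreeLT_iff.1 hG
    omega
  by_cases hW : W = ⊥
  · rw [hW, finrank_bot]; exact Nat.zero_le _
  obtain ⟨P₀, hP₀, hne⟩ := Submodule.exists_mem_ne_zero_of_ne_bot hW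
  obtain ⟨G₀, c₀, hG₀, hp₀, hq₀, rfl⟩ := hrep P₀ hP₀
  have hc₀ : c₀ ≠ 0 := by
    intro h
    rw [h, zero_smul, sub_zero] at hq₀
    exact hne (by rw [hzero G₀ hG₀ hp₀ hq₀, map_zero])
  refine finrank_le_one_of_le_span (v := Φ r a G₀) fun P hP => ?_
  obtain ⟨G, c, hG, hpG, hqG, rfl⟩ := hrep P hP
  refine Submodule.mem_span_singleton.2 ⟨c / c₀, ?_⟩
  rw [← map_smul]
  refine (congrArg (Φ r a) (sub_eq_zero.1 (hzero _ (Submodule.sub_mem _ hG (Submodule.smul_mem _ _ hG₀)) ?_ ?_))).symm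
  · exact dvd_sub hpG (by rw [smul_eq_C_mul]; exact hp₀.mul_left _)
  · have h1 : (X - C q) ^ j ∣ (c / c₀) • (G₀ - c₀ • Ap r a univ) := by
      rw [smul_eq_C_mul]; exact hq₀.mul_left _
    convert dvd_sub hqG h1 using 1
    rw [smul_sub, smul_smul, div_mul_cancel₀ _ hc₀]
    abel

end Groth.L15.Wronskian
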